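import Cfsg.Agent.H17.KnDef2

/-! Complementary pairs of elementary abelian subgroups of order 16 in the extraspecial group. -/

set_option autoImplicit false
set_option maxRecDepth 100000

namespace Cfsg.Agent.H68.KnTrf

open Equiv Cfsg.Agent.H11.A16 Cfsg.Agent.H17.Kn

def dt (a b : P) : ZMod 2 := if (150 : ℕ).testBit (a.1 &&& b.1) then 1 else 0

def q (a b : P) (c : ZMod 2) : N2 := ⟨x a, fun p => c + dt b p⟩

def tf (u φ p : P) : P := if dt φ u = 0 ∧ dt φ p = 1 then p ^^^ u else p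

def kk (u φ : P) : N2 :=
  sec2 (Function.Involutive.toPerm (tf u φ) fun p => by revert u φ p; decide +kernel)

theorem q_mul (a b a' b' : P) (c c' : ZMod 2) :
    q a b c * q a' b' c' = q (a ^^^ a') (b ^^^ b') (c + c' + dt b a') := by
  have h1 : ∀ a a' p : P, p ^^^ a' ^^^ a = p ^^^ (a ^^^ a') := by decide +kernel
  have h2 : ∀ b p a : P, dt b (p ^^^ a) = dt b p + dt b a := by decide +kernel
  have h3 : ∀ b b' p : P, dt (b ^^^ b') p = dt b p + dt b' p := by decide +kernel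
  refine N2.ext (Equiv.ext fun p => h1 a a' p) (funext fun p => ?_)
  change c' + dt b' p + (c + dt b (p ^^^ a')) = c + c' + dt b a' + dt (b ^^^ b') p
  rw [h2, h3]; ring

theorem q_conj (u φ a b : P) (c : ZMod 2) :
    kk u φ * q a b c * (kk u φ)⁻¹ = q (tf u φ a) (tf φ u b) c := by
  have h1 : ∀ u φ a p : P, tf u φ (tf u φ p ^^^ a) = p ^^^ tf u φ a := by decide +kernel
  have h2 : ∀ u φ b p : P, dt b (tf u φ p) = dt (tf φ u b) p := by decide +kernel
  refine N2.ext (Equiv.ext fun p => h1 u φ a p) (funext fun p => ?_)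
  change 0 + (c + dt b (tf u φ p) + 0) = c + dt (tf φ u b) p
  rw [h2]; ring

theorem q_inj {a b a' b' : P} {c c' : ZMod 2} (h : q a b c = q a' b' c') :
    a = a' ∧ b = b' ∧ c = c' := by
  have h1 : ∀ a a' : P, 0 ^^^ a = 0 ^^^ a' → a = a' := by decide +kernel
  have h2 : ∀ (b b' : P) (c c' : ZMod 2), (∀ p, c + dt b p = c' + dt b' p) → b = b' ∧ c = c' := by
    decide +kernel
  exact ⟨h1 _ _ (congrArg (fun u => u.σ 0) h), h2 _ _ _ _ fun p => congrArg (fun u => u.f p) h⟩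

theorem q_QQ : ∀ a b c, q a b c ∈ QQ := by decide +kernel
theorem q_AA : ∀ a c, q a 0 c ∈ AA := by decide +kernel
theorem q_AP : ∀ b c, q 0 b c ∈ AP := by decide +kernel
theorem kk_QK : ∀ u φ, kk u φ ∈ QK := by decide +kernel
theorem q_one : q 0 0 0 = 1 := by decide +kernel

theorem nfQ {u : N2} (hu : u ∈ QQ) : ∃ a b c, u = q a b c := by
  obtain ⟨h1, -, h2⟩ := hu
  have k : ∀ c r s t : ZMod 2, ∃ b, ∀ p : P,
      ![c, r, s, r + s + c, t, r + t + c, s + t + c, r + s + t] p = c + dt b p := by decide +kernel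
  obtain ⟨b, hb⟩ := k (u.f 0) (u.f 1) (u.f 2) (u.f 4)
  refine ⟨u.σ 0, b, u.f 0, N2.ext (Equiv.ext h1) (funext fun p => Eq.trans ?_ (hb p))⟩
  fin_cases p
  exacts [rfl, rfl, rfl, h2 1 2 0, rfl, h2 1 4 0, h2 2 4 0, h2 1 2 4]

theorem nfA {u : N2} (hu : u ∈ AA) : ∃ a c, u = q a 0 c := by
  have k : ∀ (c : ZMod 2) (p : P), c = c + dt 0 p := by decide +kernel
  exact ⟨u.σ 0, u.f 0, N2.ext (Equiv.ext hu.1) (funext fun p => (hu.2 p).trans (k _ p))⟩

theorem nfP {u : N2} (hu : u ∈ AP) : ∃ b c, u = q 0 b c := by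
  have h : u.σ = 1 := hu.2
  obtain ⟨a, b, c, rfl⟩ := nfQ (u := u) ⟨show u.σ ∈ TR from h ▸ one_mem _, hu.1⟩
  have h1 : ∀ a : P, 0 ^^^ a = 0 → a = 0 := by decide +kernel
  exact ⟨b, c, by rw [h1 a (congrArg (· 0) h)]⟩

/-! ### The thirty maximal singular subspaces -/

abbrev V := P × P

def ad (v w : V) : V := (v.1 ^^^ w.1, v.2 ^^^ w.2)

def cd (v : V) : ℕ := v.1.1 + 8 * v.2.1

def gd (v : V) : Prop := v ≠ (0, 0) ∧ dt v.2 v.1 = 0

instance (v : V) : Decidable (gd v) := inferInstanceAs (Decidable (_ ∧ _))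

def mk (a b c : V) : ℕ := 2 ^ cd (0, 0) ||| 2 ^ cd a ||| 2 ^ cd b ||| 2 ^ cd (ad a b) ||| 2 ^ cd c |||
  2 ^ cd (ad a c) ||| 2 ^ cd (ad b c) ||| 2 ^ cd (ad (ad a b) c)

def L : List ℕ := [255, 21845, 3342387, 286331153, 2283947025, 2566914201, 64424509455, 5519032976645, 175964810137605, 181419418583205, 844437815230467, 18616931284156545, 36452111159918721, 54043247071199235, 54887620458578115, 72340172838076673, 90107211415568385, 577028104732673025, 612630321188311041, 648518385147052041, 2306441152397643777, 2341872925073736705, 2377936887137501217, 2918895508489507905, 4612108241630019585, 4629704832432734465, 4702039485951525185, 5188291906266857505, 6917529055826804745, 7566047373982433385]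

theorem lemA : ∀ a1 b1, gd (a1, b1) → ∀ a2 b2, gd (a2, b2) → gd (ad (a1, b1) (a2, b2)) →
    ∀ a3 b3, gd (a3, b3) → gd (ad (a1, b1) (a3, b3)) → gd (ad (a2, b2) (a3, b3)) →
    gd (ad (ad (a1, b1) (a2, b2)) (a3, b3)) → mk (a1, b1) (a2, b2) (a3, b3) ∈ L := by
  decide +kernel

theorem lemB : ∀ X ∈ L, ∀ Y ∈ L,
    (∀ a b, X.testBit (cd (a, b)) → Y.testBit (cd (a, b)) → a = 0 ∧ b = 0) →
    (∀ a b, Y.testBit (cd (a, b)) → a = 0) ∨ (∀ a b, Y.testBit (cd (a, b)) → b = 0) ∨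
    ∃ u φ, (∀ a b, X.testBit (cd (a, b)) → X.testBit (cd (tf u φ a, tf φ u b))) ∧
      ∃ a b, Y.testBit (cd (a, b)) ∧ ¬ Y.testBit (cd (tf u φ a, tf φ u b)) := by
  decide +kernel

theorem span (f : P → V) (h : ∀ a b, f (a ^^^ b) = ad (f a) (f b)) (h0 : f 0 = (0, 0))
    (hg : ∀ a, a ≠ 0 → gd (f a)) : ∃ X ∈ L, ∀ v, X.testBit (cd v) ↔ ∃ a, f a = v := by
  have e3 : f 3 = ad (f 1) (f 2) := h 1 2
  have e5 : f 5 = ad (f 1) (f 4) := h 1 4
  have e6 : f 6 = ad (f 2) (f 4) := h 2 4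
  have e7 : f 7 = ad (ad (f 1) (f 2)) (f 4) := e3 ▸ h 3 4
  refine ⟨mk (f 1) (f 2) (f 4), lemA _ _ (hg 1 (by decide)) _ _ (hg 2 (by decide))
    (e3 ▸ hg 3 (by decide)) _ _ (hg 4 (by decide)) (e5 ▸ hg 5 (by decide)) (e6 ▸ hg 6 (by decide))
    (e7 ▸ hg 7 (by decide)), fun v => ?_⟩
  have ci : ∀ v w : V, cd v = cd w ↔ v = w := by decide +kernel
  rw [mk, ← e7, ← e6, ← e5, ← e3, ← h0]
  simp only [Nat.testBit_or, Nat.testBit_two_pow, Bool.or_eq_true, decide_eq_true_eq, ci]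
  constructor
  · rintro (((((((e | e) | e) | e) | e) | e) | e) | e) <;> exact ⟨_, e⟩
  · rintro ⟨a, rfl⟩
    fin_cases a <;> simp

theorem trf : TrfStmt := by
  intro α hα
  choose A B C h using fun a b c => nfQ (hα.mem _ (q_QQ a b c))
  have xs : ∀ a : P, a ^^^ a = 0 := by decide +kernel
  have x0 : ∀ a : P, a ^^^ 0 = a := by decide +kernel
  have d0 : ∀ a : P, dt a 0 = 0 := by decide +kernel
  have cc : ∀ c : ZMod 2, c + c = 0 := by decide +kernel
  have mul : ∀ a b c a' b' c', α (q (a ^^^ a') (b ^^^ b') (c + c' + dt b a')) =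
      α (q a b c) * α (q a' b' c') := fun a b c a' b' c' => by
    rw [← q_mul, hα.mul _ (q_QQ ..) _ (q_QQ ..)]
  have sq : ∀ a b, α (q 0 0 (dt b a)) = q 0 0 (dt (B a b 0) (A a b 0)) := fun a b => by
    have := mul a b 0 a b 0
    rwa [h a b 0, q_mul, xs, xs, xs, xs, cc, cc, zero_add, zero_add] at this
  have one : α (q 0 0 0) = q 0 0 0 := by
    have := hα.mul 1 (one_mem _) 1 (one_mem _)
    rw [mul_one, left_eq_mul] at this
    rw [q_one, this]
  have zz : ∀ c, α (q 0 0 c) = q 0 0 c := by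
    have k : ∀ c : ZMod 2, c = 0 ∨ c = 1 := by decide
    intro c
    rcases k c with rfl | rfl
    · exact one
    · have := sq 1 1
      rw [show dt 1 1 = 1 by decide] at this
      rcases k (dt (B 1 1 0) (A 1 1 0)) with e | e <;> rw [e] at this
      · exact absurd (q_inj (hα.inj _ (q_QQ ..) _ (q_QQ ..) (this.trans one.symm))).2.2 (by decide)
      · exact this
  have al : ∀ a b c, α (q a b c) = q (A a b 0) (B a b 0) (C a b 0 + c) := fun a b c => by
    have := mul a b 0 0 0 c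
    rwa [x0, x0, d0, zero_add, add_zero, h a b 0, zz, q_mul, x0, x0, d0, add_zero] at this
  let l : P → P → V := fun a b => (A a b 0, B a b 0)
  have add : ∀ a b a' b', l (a ^^^ a') (b ^^^ b') = ad (l a b) (l a' b') := fun a b a' b' => by
    have := mul a b 0 a' b' 0
    rw [al, al, al a', q_mul] at this
    exact Prod.ext (q_inj this).1 (q_inj this).2.1
  have inj : ∀ a b a' b', l a b = l a' b' → a = a' ∧ b = b' := fun a b a' b' e => by
    have e1 : A a b 0 = A a' b' 0 := congrArg Prod.fst e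
    have e2 : B a b 0 = B a' b' 0 := congrArg Prod.snd e
    have := q_inj (hα.inj _ (q_QQ a b (C a' b' 0)) _ (q_QQ a' b' (C a b 0))
      (by rw [al, al, e1, e2, add_comm]))
    exact ⟨this.1, this.2.1⟩
  have l0 : l 0 0 = (0, 0) := by
    have := q_inj ((h 0 0 0).symm.trans one)
    exact Prod.ext this.1 this.2.1
  have good : ∀ a b, ¬ (a = 0 ∧ b = 0) → dt b a = 0 → gd (l a b) := fun a b h1 h2 =>
    ⟨fun e => h1 (inj _ _ _ _ (e.trans l0.symm)), by
      have := sq a b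
      rw [h2, one] at this
      exact (q_inj this).2.2.symm⟩
  obtain ⟨X, hX, mX⟩ := span (fun a => l a 0) (fun a b => add a 0 b 0) l0
    fun a ha => good a 0 (fun e => ha e.1) (by revert a; decide +kernel)
  obtain ⟨Y, hY, mY⟩ := span (fun b => l 0 b) (fun a b => add 0 a 0 b) l0
    fun b hb => good 0 b (fun e => hb e.2) (d0 b)
  rcases lemB X hX Y hY (fun a b h1 h2 => by
    obtain ⟨a', e1⟩ := (mX _).1 h1
    obtain ⟨b', e2⟩ := (mY _).1 h2
    have := inj _ _ _ _ (e1.trans e2.symm)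
    rw [this.1, l0] at e1
    exact ⟨(congrArg Prod.fst e1).symm, (congrArg Prod.snd e1).symm⟩) with k | k | ⟨u, φ, k1, a, b, k2, k3⟩
  · refine Or.inl fun u hu => ?_
    obtain ⟨b, c, rfl⟩ := nfP hu
    rw [al, k _ _ ((mY _).2 ⟨b, rfl⟩)]; exact q_AP _ _
  · refine Or.inr (Or.inl fun u hu => ?_)
    obtain ⟨b, c, rfl⟩ := nfP hu
    rw [al, k _ _ ((mY _).2 ⟨b, rfl⟩)]; exact q_AA _ _
  · refine Or.inr (Or.inr ⟨kk u φ, kk_QK u φ, fun a ha => ?_, ?_⟩)
    · obtain ⟨a, c, rfl⟩ := nfA ha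
      obtain ⟨a', e⟩ := (mX _).1 (k1 _ _ ((mX _).2 ⟨a, rfl⟩))
      refine ⟨q a' 0 (C a' 0 0 + (C a 0 0 + c)), q_AA _ _, ?_⟩
      rw [al, al, q_conj, ← add_assoc, cc, zero_add, show A a' 0 0 = _ from congrArg Prod.fst e,
        show B a' 0 0 = _ from congrArg Prod.snd e]
    · obtain ⟨b0, e⟩ := (mY _).1 k2
      refine ⟨q 0 b0 0, q_AP _ _, fun b' hb' e' => k3 ?_⟩
      obtain ⟨b', c, rfl⟩ := nfP hb'
      rw [al, al, q_conj, show A 0 b0 0 = a from congrArg Prod.fst e,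
        show B 0 b0 0 = b from congrArg Prod.snd e] at e'
      exact (mY _).2 ⟨b', Prod.ext (q_inj e').1.symm (q_inj e').2.1.symm⟩

end Cfsg.Agent.H68.KnTrf
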