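import Cfsg.Agent.H68.HRD
import Cfsg.Agent.H68.HRF

set_option autoImplicit false
set_option maxRecDepth 1000000
set_option linter.all false
set_option Elab.async false

namespace Cfsg.Agent.H68.HN

open Cfsg.Agent.H68.DCE

theorem X5_en : En (cl [8, 151721479, 269029385]) 60 X5 := En.of_card (M := 58) X5_srt X5_mem card_Y0.le

noncomputable def y5_invJT : BT :=
 (BT.leaf (nat_lit 0x8208208208218e08008208208208208809d08208208228204208b08224284208208280208208208208310209c))

noncomputable def y5_invJ : ℕ → ℕ := look y5_invJT (nat_lit 7) (nat_lit 127) (nat_lit 6) (nat_lit 63)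

theorem y5_inv_chk : AllOn (Fm.at (.imp (.eq [0, 0] []) (.or (.eq [0] []) (.eq [255, 0] [118098183, 255]))) X5 (fun i => X5 (Nat.mod (y5_invJ i) 60))) 0 60 := allOn_of_allR (m := 60) (by decide +kernel) rfl

theorem y5_inv {a : K} (ha : a ∈ cl [8, 151721479, 269029385]) : ∃ b ∈ cl [8, 151721479, 269029385], (a * a = 1) → ((a = 1) ∨ (b * a = eT * b)) := by
  obtain ⟨i, -, h⟩ := X5_en.pass (by decide +kernel) y5_inv_chk ha
  exact ⟨_, X5_mem _ (Nat.mod_lt _ (by decide)), h⟩

theorem y_cT_chk : AllOn (Fm.at (.imp (.eq [0, 118098183] [118098183, 0]) (.or (.eq [0] []) (.or (.eq [0] [118098183]) (.or (.eq [0] [184747777]) (.eq [0] [118098183, 184747777]))))) X5 (fun _ => 0)) 0 60 := allOn_of_allR (m := 60) (by decide +kernel) rfl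

theorem y_cT {a : K} (ha : a ∈ cl [8, 151721479, 269029385]) : (a * eT = eT * a) → ((a = 1) ∨ ((a = eT) ∨ ((a = eT2) ∨ (a = eT * eT2)))) := by
  obtain ⟨i, -, h⟩ := X5_en.pass (by decide +kernel) y_cT_chk ha
  exact (val_zero ▸ h :)

theorem y_ord_chk : AllOn (Fm.at (.or (.eq [0, 0] []) (.or (.eq [0, 0, 0] []) (.eq [0, 0, 0, 0, 0] []))) X5 (fun _ => 0)) 0 60 := allOn_of_allR (m := 60) (by decide +kernel) rfl

theorem y_ord {a : K} (ha : a ∈ cl [8, 151721479, 269029385]) : (a * a = 1) ∨ ((a * (a * a) = 1) ∨ (a * (a * (a * (a * a))) = 1)) := by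
  obtain ⟨i, -, h⟩ := X5_en.pass (by decide +kernel) y_ord_chk ha
  exact (val_zero ▸ h :)

def w33 : List (List ℕ) := [[0, 255, 0, 255, 0], [0, 255, 0, 255, 0, 118098183]]

def w55 : List (List ℕ) := [[0, 255, 0], [0, 255, 0, 118098183], [0, 255, 255, 0], [255, 0, 0, 255], [0, 255, 0, 255, 0], [0, 255, 255, 255, 0], [0, 118098183, 255, 118098183, 0], [255, 0, 0, 0, 255]]

theorem y_33 {a b : K} (ha : a ∈ cl [8, 151721479, 269029385]) (hb : b ∈ cl [8, 151721479, 269029385]) : (b * (b * b) = 1) → ((a * (a * a) = 1) → ((eT * (b * (eT * b)) = 1) → ((eT * (a * (eT * a)) = 1) → ((a = 1) ∨ ((b = 1) ∨ ((b = a) ∨ ((b = a * a) ∨ ((Fm.inL [184747777] w33).Sem a b)))))))) :=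
  X5_en.pass2 (f := (.imp (.eq [255, 255, 255] []) (.imp (.eq [0, 0, 0] []) (.imp (.eq [118098183, 255, 118098183, 255] []) (.imp (.eq [118098183, 0, 118098183, 0] []) (.or (.eq [0] []) (.or (.eq [255] []) (.or (.eq [255] [0]) (.or (.eq [255] [0, 0]) (Fm.inL [184747777] w33)))))))))) (by decide +kernel) (allOn_of_allR (m := 60) (by decide +kernel) rfl) ha hb

theorem y_55 {a b : K} (ha : a ∈ cl [8, 151721479, 269029385]) (hb : b ∈ cl [8, 151721479, 269029385]) : (b * (b * (b * (b * b))) = 1) → ((a * (a * (a * (a * a))) = 1) → ((eT * (b * (eT * b)) = 1) → ((eT * (a * (eT * a)) = 1) → ((a = 1) ∨ ((b = 1) ∨ ((b = a) ∨ ((b = a * a) ∨ ((b = a * (a * a)) ∨ ((b = a * (a * (a * a))) ∨ ((Fm.inL [184747777] w55).Sem a b)))))))))) :=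
  X5_en.pass2 (f := (.imp (.eq [255, 255, 255, 255, 255] []) (.imp (.eq [0, 0, 0, 0, 0] []) (.imp (.eq [118098183, 255, 118098183, 255] []) (.imp (.eq [118098183, 0, 118098183, 0] []) (.or (.eq [0] []) (.or (.eq [255] []) (.or (.eq [255] [0]) (.or (.eq [255] [0, 0]) (.or (.eq [255] [0, 0, 0]) (.or (.eq [255] [0, 0, 0, 0]) (Fm.inL [184747777] w55)))))))))))) (by decide +kernel) (allOn_of_allR (m := 60) (by decide +kernel) rfl) ha hb

theorem y_5 {a b : K} (ha : a ∈ cl [8, 151721479, 269029385]) (hb : b ∈ cl [8, 151721479, 269029385]) : ((b = eT2) ∨ (b = eT * eT2)) → ((a * (a * (a * (a * a))) = 1) → ((eT * (a * (eT * a)) = 1) → ((a = 1) ∨ ((b * (a * (b * (a * (b * a)))) = 1) ∨ (b * (a * (a * (b * (a * (a * (b * (a * a))))))) = 1))))) :=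
  X5_en.pass2 (f := (.imp (.or (.eq [255] [184747777]) (.eq [255] [118098183, 184747777])) (.imp (.eq [0, 0, 0, 0, 0] []) (.imp (.eq [118098183, 0, 118098183, 0] []) (.or (.eq [0] []) (.or (.eq [255, 0, 255, 0, 255, 0] []) (.eq [255, 0, 0, 255, 0, 0, 255, 0, 0] []))))))) (by decide +kernel) (allOn_of_allR (m := 60) (by decide +kernel) rfl) ha hb

theorem y_w {a b : K} (ha : a ∈ cl [8, 151721479, 269029385]) (hb : b ∈ cl [8, 151721479, 269029385]) : ((b = eT2) ∨ (b = eT * eT2)) → ((a * (a * (a * (a * a))) = 1) → ((eT * (a * (eT * a)) = 1) → ((b * (a * (b * (a * (b * a)))) = 1) → ((a * (a * (b * (a * (a * (a * (a * eT)))))) = b * (a * (a * (b * (a * (a * (a * a))))))) ∧ (a * (a * (b * (a * (a * (a * (a * b)))))) = eT * (b * (a * (a * (b * (a * (a * (a * a)))))))))))) :=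
  X5_en.pass2 (f := (.imp (.or (.eq [255] [184747777]) (.eq [255] [118098183, 184747777])) (.imp (.eq [0, 0, 0, 0, 0] []) (.imp (.eq [118098183, 0, 118098183, 0] []) (.imp (.eq [255, 0, 255, 0, 255, 0] []) (.and (.eq [0, 0, 255, 0, 0, 0, 0, 118098183] [255, 0, 0, 255, 0, 0, 0, 0]) (.eq [0, 0, 255, 0, 0, 0, 0, 255] [118098183, 255, 0, 0, 255, 0, 0, 0, 0]))))))) (by decide +kernel) (allOn_of_allR (m := 60) (by decide +kernel) rfl) ha hb

noncomputable def eG0 : K := S.val 3

noncomputable def eG1 : K := S.val 2039583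

noncomputable def eG2 : K := S.val 951633

noncomputable def eG3 : K := S.val 657929

noncomputable def eG4 : K := S.val 231944

noncomputable def eG5 : K := S.val 791315

noncomputable def eG6 : K := S.val 6106772

noncomputable def eG7 : K := S.val 596263205

noncomputable def eG8 : K := S.val 37393968

noncomputable def eG9 : K := S.val 6

noncomputable def eG10 : K := S.val 559827318

def gS : List ℕ := [2039583, 951633, 657929, 231944, 791315, 6106772, 596263205, 37393968, 6, 559827318]

theorem pcS : Pc (3 :: gS) ∧ Nat.card (cl (3 :: gS)) = 2 ^ 11 :=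
  pc_of_pcB (ws := [[[], [2039583], [951633, 6106772, 596263205, 37393968, 6, 559827318], [657929], [231944, 37393968, 6], [791315], [6106772, 559827318], [596263205, 559827318], [37393968], [6], [559827318]],
    [[], [951633, 231944, 791315, 596263205, 37393968, 559827318], [657929, 791315, 559827318], [231944, 37393968, 6], [791315], [6106772, 6, 559827318], [596263205, 37393968, 559827318], [37393968], [6], [559827318]],
    [[596263205, 37393968, 6, 559827318], [657929, 6106772], [231944, 596263205, 6], [791315, 596263205, 37393968, 559827318], [6106772, 559827318], [596263205, 559827318], [37393968, 559827318], [6], [559827318]],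
    [[], [231944, 596263205, 6], [791315], [6106772, 559827318], [596263205, 559827318], [37393968, 559827318], [6], [559827318]],
    [[37393968, 6], [791315, 37393968, 559827318], [6106772], [596263205], [37393968], [6], [559827318]],
    [[], [6106772], [596263205, 559827318], [37393968], [6], [559827318]],
    [[559827318], [596263205], [37393968], [6]],
    [[559827318], [37393968], [6]],
    [[], [6], [559827318]],
    [[], [559827318]],
    [[]]]) (by decide +kernel)

noncomputable def WST : BT :=
 (BT.node (nat_lit 32) (BT.node (nat_lit 16) (BT.node (nat_lit 8) (BT.node (nat_lit 4) (BT.node (nat_lit 2) (BT.node (nat_lit 1) (BT.leaf (nat_lit 0x5d07275a0023668428005d33970a0036349f0e0044882d08001f4a7a1d0001932e16000b8a171700000000000000000000000000000000000000000000000000000000000000000000000000000000000000000000000000000000000000000000000000000000000000000000000000000000000000000063642b13001e4b322b00044d8a1d005d1744140047615170000000000000486273350000000000))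
 (BT.leaf (nat_lit 0xb0f182c0056a0983500480b7e41002023813e000084056a0028831a5d001b812463004a73853e00836d7617007e322d10008d261b22304a96090100046f533a001712580a002d0e3d0c0069411407)))
 (BT.node (nat_lit 3) (BT.leaf (nat_lit 0))
 (BT.leaf (nat_lit 0))))
 (BT.node (nat_lit 6) (BT.node (nat_lit 5) (BT.leaf (nat_lit 0x2e3b610600264e6b0b005c878a0400637d7056000000000000000000000000000000000000000000501d893f004d23995c008472810c0067071708000000000000000000000000000000000000000000861c78070070092c5700804b530d00009c943d00000000000000000000000000000000000000000069356018002220671990543f29010020853b2a))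
 (BT.leaf (nat_lit 0x9236300600054d950400731d8911004e44872700000000000000000000000000000000000000000000000000000000000000000000000000000000007f2127310096977239000d0e992d001c2d22080048500c06009c7b88010066890d0f0065858d4f00000000000000000000000000000000000000000000000000000000000000000000000000000000003366970200006a9b720064393e0c00794d3304)))
 (BT.node (nat_lit 7) (BT.leaf (nat_lit 0))
 (BT.leaf (nat_lit 0)))))
 (BT.node (nat_lit 12) (BT.node (nat_lit 10) (BT.node (nat_lit 9) (BT.leaf (nat_lit 0))
 (BT.leaf (nat_lit 0)))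
 (BT.node (nat_lit 11) (BT.leaf (nat_lit 0))
 (BT.leaf (nat_lit 0))))
 (BT.node (nat_lit 14) (BT.node (nat_lit 13) (BT.leaf (nat_lit 0))
 (BT.leaf (nat_lit 0)))
 (BT.node (nat_lit 15) (BT.leaf (nat_lit 0))
 (BT.leaf (nat_lit 0))))))
 (BT.node (nat_lit 24) (BT.node (nat_lit 20) (BT.node (nat_lit 18) (BT.node (nat_lit 17) (BT.leaf (nat_lit 0x6b2c4b2c000f401e1800965e0b0500905a962d000a913c64531d7c0a030033547b2f005118563f))
 (BT.leaf (nat_lit 0x53123c05009460500a0022810d0a007862833e00312c2c030051502b2600456099180085805411)))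
 (BT.node (nat_lit 19) (BT.leaf (nat_lit 0x950131400005c661b00447b884e00444c6f540000786553001a807b11005265904d009b260c04))
 (BT.leaf (nat_lit 0x1858437500667c12150018962c1000708c3f06007c698e04003b3f7a4f003da01c19003617424500000000000000000000000000000000000000000000000000000000000000000000000000000000))))
 (BT.node (nat_lit 22) (BT.node (nat_lit 21) (BT.leaf (nat_lit 0))
 (BT.leaf (nat_lit 0)))
 (BT.node (nat_lit 23) (BT.leaf (nat_lit 0))
 (BT.leaf (nat_lit 0)))))
 (BT.node (nat_lit 28) (BT.node (nat_lit 26) (BT.node (nat_lit 25) (BT.leaf (nat_lit 0))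
 (BT.leaf (nat_lit 0)))
 (BT.node (nat_lit 27) (BT.leaf (nat_lit 0))
 (BT.leaf (nat_lit 0))))
 (BT.node (nat_lit 30) (BT.node (nat_lit 29) (BT.leaf (nat_lit 0))
 (BT.leaf (nat_lit 0)))
 (BT.node (nat_lit 31) (BT.leaf (nat_lit 0))
 (BT.leaf (nat_lit 0)))))))
 (BT.node (nat_lit 48) (BT.node (nat_lit 40) (BT.node (nat_lit 36) (BT.node (nat_lit 34) (BT.node (nat_lit 33) (BT.leaf (nat_lit 0x9b78293a002c1d523324190f0901004c365b3b0031391c80003899492c0096359178009b6c720c004d18531200462d4948009a02723500351c642700193c2e3d0003664928002693800c006e6f6d080028379c51003b1353090001208c26002f565b150000775058000888814b0036602f010081244d700030853f0f00346d721e001d826260000b75562b001f1b43010024706725000c6526090084471b45))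
 (BT.leaf (nat_lit 0x40598d09004d9f570c008e07047b00456ea0140039766703003f76661e001c2f1e49007783034c0000000000000000000000000000000000000000000000000000000000000000000000000000000000732a4b02002b0b4f0e00752f50130020556308008797386b0099424b04003c6c2b280009749d3e)))
 (BT.node (nat_lit 35) (BT.leaf (nat_lit 0x56339428009010221a006825210b0015738836004d5f3639004b505405003d82540c35283e04010080323e1f00222e480f001088400300a018353600232e2709009f9e2d2e0029606b06005e0d721700653d8b02004b5d500900a0820311009c888535008a735822009b4f2512006d709d30009e7e932e001f1b7b08008d215b300094089f080035427669000b450d07002b0a5f0c006d2522110077560f46))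
 (BT.leaf (nat_lit 0))))
 (BT.node (nat_lit 38) (BT.node (nat_lit 37) (BT.leaf (nat_lit 0x54831b250099147a2600554b8d03004736426d002e868426006825651300898c479800582b7c190000000000000000000000000000000000000000002486202e00502f24260052234004001d379a2c00000000000000000000000000000000000000000000000000000000000000000000000000000000004950704d008e908d03005311100e001f6d513d))
 (BT.leaf (nat_lit 0x66892e1800297e4d21003c0574030028232624000000000000000000000000000000000000000000780984240044287718002c2f8957007a5a3c060000000000000000000000000000000000000000000000000000000000000000000000000000000000026f5d56006e203c05005b11890400170f1d32000000000000000000000000000000000000000000740a4c1900813c313000452877450053647126)))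
 (BT.node (nat_lit 39) (BT.leaf (nat_lit 0))
 (BT.leaf (nat_lit 0)))))
 (BT.node (nat_lit 44) (BT.node (nat_lit 42) (BT.node (nat_lit 41) (BT.leaf (nat_lit 0))
 (BT.leaf (nat_lit 0)))
 (BT.node (nat_lit 43) (BT.leaf (nat_lit 0))
 (BT.leaf (nat_lit 0))))
 (BT.node (nat_lit 46) (BT.node (nat_lit 45) (BT.leaf (nat_lit 0x34612e1d0028280517006779850500951f722a004c87930f0095623e1200776e864f003c361350001373696100697022230093429f0d6a73391f010067687328001a35271c0029293f2a004c716d2f00786b2882006702361f0014629632003b6d991c005b1b1f1100370316700012814128002a423433007f745b0c009f95532c002c105a21006f013227008049052b007228340a00113d621e0029467a39))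
 (BT.leaf (nat_lit 0)))
 (BT.node (nat_lit 47) (BT.leaf (nat_lit 0x2e239c1c00102c442e0061657c05009b8e4b0c0032109b1e00660954320074734323006e698c08009f3a112200801d12480088933b100094375401002597020300465c8303001f194c1300992e3b18000189300d000d958a4200402894330001384d7500480b893f00311029080000240f9b007a96056800813e0b0d0014214123004274292e0007331c5300739b3f040084308724001407714b003b69051f))
 (BT.leaf (nat_lit 0))))))
 (BT.node (nat_lit 56) (BT.node (nat_lit 52) (BT.node (nat_lit 50) (BT.node (nat_lit 49) (BT.leaf (nat_lit 0xb4c685b000922916b008a079a15002a269e3e004971810d007023860500418a1d0f6058204a01))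
 (BT.leaf (nat_lit 0xe09080600614c8118003f9f0d02002e0362100059409d5200009d363d006c1b2a7800999e4115)))
 (BT.node (nat_lit 51) (BT.leaf (nat_lit 0x8e3c4609007a6a2a1300080a8d0700447c832e00032a93230042402e060015283a0900581c9218000000000000000000000000000000000000000000000000000000000000000000000000000000000000000000000000000000000000000000000000000000000000000000000000000000000000000000000000000000000000000000000000000000000000000000000000000000000000000000000000))
 (BT.leaf (nat_lit 0x1534841b00861d510800834818080069893e050030516d9d00547a542f008a349713007c8d8c180000000000000000000000000000000000000000000000000000000000000000000000000000000000000000000000000000000000000000000000000000000000000000000000000000000000000000))))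
 (BT.node (nat_lit 54) (BT.node (nat_lit 53) (BT.leaf (nat_lit 0))
 (BT.leaf (nat_lit 0)))
 (BT.node (nat_lit 55) (BT.leaf (nat_lit 0))
 (BT.leaf (nat_lit 0)))))
 (BT.node (nat_lit 60) (BT.node (nat_lit 58) (BT.node (nat_lit 57) (BT.leaf (nat_lit 0))
 (BT.leaf (nat_lit 0)))
 (BT.node (nat_lit 59) (BT.leaf (nat_lit 0))
 (BT.leaf (nat_lit 0))))
 (BT.node (nat_lit 62) (BT.node (nat_lit 61) (BT.leaf (nat_lit 0))
 (BT.leaf (nat_lit 0)))
 (BT.node (nat_lit 63) (BT.leaf (nat_lit 0))
 (BT.leaf (nat_lit 0))))))))

noncomputable def WS : ℕ → ℕ := look WST (nat_lit 5) (nat_lit 31) (nat_lit 40) (nat_lit 0xffffffffff)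

theorem s_inv {a : K} (ha : a ∈ cl (3 :: gS)) : ∃ b : K, (a * a = 1) → ((a = 1) ∨ ((a = eU) ∨ ((b * a = eT * b) ∨ ((b * a = eU * (eT * b)) ∨ ((b * a = eZ * b) ∨ (b * a = eZ * (eT * b))))))) := by
  obtain ⟨j, h⟩ := pcS.1.pass (acc := []) rfl (f := (.imp (.eq [0, 0] []) (.or (.eq [0] []) (.or (.eq [0] [6]) (.or (.eq [255, 0] [118098183, 255]) (.or (.eq [255, 0] [6, 118098183, 255]) (.or (.eq [255, 0] [3, 255]) (.eq [255, 0] [3, 118098183, 255])))))))) (by decide +kernel) (W := WS) (i := 0) (by decide +kernel) ha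
  exact ⟨_, (mul_one a ▸ h :)⟩

def wX : List (List ℕ) := [[], [6, 151914247], [1594971399], [2605936409], [2086091534], [2404925194], [175475994], [194450442], [202576646], [730747922], [2101678649], [254833275], [396199457], [1048783364], [877108241], [2667879973], [369432065], [1167348486], [1681030925], [723198561], [309873169], [2307400705], [1769110103], [1822127632], [2442281219], [151719435], [423441673], [1550260229], [2097439817], [1798541075], [2491751993], [2219969906]]

theorem s_x {a : K} (ha : a ∈ cl (3 :: gS)) : ∃ b : K, (a * a = 1) → ((a * eX0 = eX0 * a) → ((a = eU) ∨ ((b * a = eT * b) ∨ ((b * a = eZ * b) ∨ ((Fm.inL [0] wX).Sem a b))))) := by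
  obtain ⟨j, h⟩ := pcS.1.pass (acc := []) rfl (f := (.imp (.eq [0, 0] []) (.imp (.eq [0, 74670637] [74670637, 0]) (.or (.eq [0] [6]) (.or (.eq [255, 0] [118098183, 255]) (.or (.eq [255, 0] [3, 255]) (Fm.inL [0] wX))))))) (by decide +kernel) (W := WS) (i := 0) (by decide +kernel) ha
  exact ⟨_, (mul_one a ▸ h :)⟩

theorem wX_cnt : ∀ e ∈ wX.drop 2, (wX.filter fun e' => Fm.chk e e' (.and (.eq [0, 255] [255, 0]) (Fm.inL [0, 255] wX))).length ≤ 8 := by
  decide +kernel

theorem s_out {a : K} (ha : a ∈ cl gS) : ¬ (a * eG0 * (a * eG0) = eU) := by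
  obtain ⟨j, h⟩ := pcS.1.2.2.2.pass (acc := [3]) (by decide +kernel) (f := (.not (.eq [0, 0] [6]))) (by decide +kernel) (W := fun _ => 0) (i := 0) (by decide +kernel) ha
  rwa [ek_single] at h

def sqS : List (ℕ × ℕ × ℕ) := [(2039583, 1570215758, 1900911438), (951633, 1903204381, 2383708172), (657929, 67730782, 660705043), (231944, 1889012288, 442664015), (791315, 2265213535, 1654491511), (6106772, 263271687937, 1955409703), (596263205, 1931228967, 859211558), (37393968, 1143173671, 1616999454), (6, 1380202012, 991180329), (559827318, 630947381, 1763211572)]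

theorem sqS_chk : ∀ c ∈ gS, ∃ q ∈ sqS, eqK [c] [q.2.1, q.2.1, q.2.2, q.2.2] = true := by
  decide +kernel

noncomputable def eQ1 : K := S.val 355896348

noncomputable def eQ2 : K := S.val 1814766895

theorem f_g0z : eG0 * eZ = eQ1 * (eQ1 * (eQ2 * eQ2)) :=
  Fm.of_chk (.eq [3, 3] [355896348, 355896348, 1814766895, 1814766895]) (by decide +kernel)

theorem gS_t7 : ∀ c ∈ 3 :: gS, eqK [c, 151914247] [151914247, c] = true := by
  decide +kernel

noncomputable def eL20 : K := S.val 21

noncomputable def eL21 : K := S.val 22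

theorem f_t7eL20 : eL20 * eT7 = eT7 * eL20 :=
  Fm.of_chk (.eq [21, 151914247] [151914247, 21]) (by decide +kernel)

theorem f_x0eL20 : eL20 * eX0 = eX0 * (eX0 * (eX0 * (eU * eL20))) :=
  Fm.of_chk (.eq [21, 74670637] [74670637, 74670637, 74670637, 6, 21]) (by decide +kernel)

theorem f_t7eL21 : eL21 * eT7 = eT7 * eL21 :=
  Fm.of_chk (.eq [22, 151914247] [151914247, 22]) (by decide +kernel)

theorem f_x0eL21 : eL21 * eX0 = eX0 * (eX0 * (eX0 * eL21)) :=
  Fm.of_chk (.eq [22, 74670637] [74670637, 74670637, 74670637, 22]) (by decide +kernel)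

noncomputable def X28T : BT :=
 (BT.leaf (nat_lit 0x5308f040033627742003b5f700200105c8b9f0050477497005c759c4100228793370089284103005b9a165900308f040100261621270091737a1f008f501e4000a075981f0026409f0f0068800561002715940100896c6d2f0093632c4900160516030096026b0d004d9c0c29005e7b8482000901090300000001030091924101008003041100245f4931))

noncomputable def X28 : ℕ → ℕ := look X28T (nat_lit 5) (nat_lit 31) (nat_lit 40) (nat_lit 0xffffffffff)

theorem X28_srt : AllOn (srt X28) 0 27 := allOn_of_allR (m := 27) (by decide +kernel) rfl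

def W28 : List (List ℕ) := [[151721479, 8, 268896784],
  [8, 151721479, 268896784, 189239565],
  [269029385, 269029385, 268896784, 189239565],
  [8, 189239565],
  [8, 642745424, 268896784, 189239565],
  [151721479, 151721479, 268896784, 189239565],
  [151721479, 269029385, 268896784, 189239565],
  [8, 8, 268896784],
  [151721479, 642745424, 268896784, 189239565],
  [268896784],
  [642745424, 8, 268896784],
  [8, 268896784],
  [269029385, 8, 268896784],
  [],
  [269029385, 8, 189239565],
  [8, 8, 268896784, 189239565],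
  [642745424, 268896784, 189239565],
  [151721479, 8, 189239565],
  [8, 268896784, 189239565],
  [189239565],
  [269029385, 642745424, 268896784, 189239565],
  [151721479, 268896784, 189239565],
  [642745424, 8, 189239565],
  [268896784, 189239565],
  [8, 269029385, 268896784, 189239565],
  [269029385, 268896784, 189239565],
  [642745424, 642745424, 268896784, 189239565],
  [8, 8, 189239565]]

theorem X28_w : AllOn (fun i => eqK (nthL W28 i ++ [641769231]) (X28 i :: nthL W28 i)) 0 28 := allOn_of_allR (m := 28) (by decide +kernel) rfl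

theorem W28_mem : ∀ w ∈ W28, ∀ c ∈ w, c ∈ [8, 151721479, 269029385, 642745424, 268896784, 189239565] := by decide +kernel

theorem mem_cl_of {c : ℕ} {gs : List ℕ} (w : List ℕ)
    (h : (eqK [c] w && decide (∀ d ∈ w, d ∈ gs)) = true) : S.val c ∈ cl gs := by
  rw [Bool.and_eq_true] at h
  rw [← ek_single, ek_eq h.1]
  exact ek_mem_cl (of_decide_eq_true h.2)

theorem m5_eT : eT ∈ cl [8, 151721479, 269029385] :=
  mem_cl_of [8, 151721479, 151721479, 8] (by decide +kernel)

theorem m5_eT2 : eT2 ∈ cl [8, 151721479, 269029385] :=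
  mem_cl_of [8, 151721479] (by decide +kernel)

theorem m6_eT : eT ∈ cl [8, 151721479, 269029385, 642745424] :=
  mem_cl_of [8, 151721479, 151721479, 8] (by decide +kernel)

theorem m6_eT2 : eT2 ∈ cl [8, 151721479, 269029385, 642745424] :=
  mem_cl_of [8, 151721479] (by decide +kernel)

theorem m6_eW1 : eW1 ∈ cl [8, 151721479, 269029385, 642745424] :=
  mem_cl_of [8, 8] (by decide +kernel)

theorem m6_eK1 : eK1 ∈ cl [8, 151721479, 269029385, 642745424] :=
  mem_cl_of [269029385, 642745424, 642745424, 269029385] (by decide +kernel)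

theorem m6_eW2 : eW2 ∈ cl [8, 151721479, 269029385, 642745424] :=
  mem_cl_of [269029385, 642745424, 8, 151721479] (by decide +kernel)

theorem m7_eR1 : eR1 ∈ cl [8, 151721479, 269029385, 642745424, 268896784] :=
  mem_cl_of [269029385, 642745424, 268896784, 269029385, 642745424] (by decide +kernel)

theorem m8_eR : eR ∈ cl [8, 151721479, 269029385, 642745424, 268896784, 189239565] :=
  mem_cl_of [642745424, 268896784, 189239565, 642745424, 268896784] (by decide +kernel)

theorem m8_eS0 : eS0 ∈ cl [8, 151721479, 269029385, 642745424, 268896784, 189239565] :=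
  mem_cl_of [8, 151721479, 151721479, 8, 269029385, 268896784, 642745424, 189239565, 269029385, 268896784] (by decide +kernel)

theorem m8_eC0 : eC0 ∈ cl [8, 151721479, 269029385, 642745424, 268896784, 189239565] :=
  mem_cl_of [268896784, 189239565, 189239565, 268896784] (by decide +kernel)

theorem mg_eB0 : eB0 ∈ cl [118098183, 184747777, 2056, 319623426, 118033174, 694897205] :=
  mem_cl_of [2056, 2056] (by decide +kernel)

theorem mg_eB1 : eB1 ∈ cl [118098183, 184747777, 2056, 319623426, 118033174, 694897205] :=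
  mem_cl_of [2056, 184747777] (by decide +kernel)

theorem mg_eB2 : eB2 ∈ cl [118098183, 184747777, 2056, 319623426, 118033174, 694897205] :=
  mem_cl_of [184747777, 319623426, 694897205, 2056, 319623426, 694897205] (by decide +kernel)

theorem mg_eB3 : eB3 ∈ cl [118098183, 184747777, 2056, 319623426, 118033174, 694897205] :=
  mem_cl_of [184747777, 694897205, 2056, 694897205] (by decide +kernel)

theorem mg_eB4 : eB4 ∈ cl [118098183, 184747777, 2056, 319623426, 118033174, 694897205] :=
  mem_cl_of [694897205, 118033174, 694897205, 694897205] (by decide +kernel)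

noncomputable def eD0 : K := S.val 2672296741

noncomputable def eD1 : K := S.val 694897205

noncomputable def eD2 : K := S.val 218958345

noncomputable def eD3 : K := S.val 1716935977

noncomputable def eD4 : K := S.val 2257661957

noncomputable def eI0 : K := S.val 252643601

noncomputable def eI1 : K := S.val 1930664456

noncomputable def eI2 : K := S.val 2342294279

theorem f_nb0 : eN * eB0 = eD0 * eN :=
  Fm.of_chk (.eq [1317039904, 8] [2672296741, 1317039904]) (by decide +kernel)

theorem f_nb1 : eN * eB1 = eD1 * eN :=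
  Fm.of_chk (.eq [1317039904, 151721479] [694897205, 1317039904]) (by decide +kernel)

theorem f_nb2 : eN * eB2 = eD2 * eN :=
  Fm.of_chk (.eq [1317039904, 269029385] [218958345, 1317039904]) (by decide +kernel)

theorem f_nb3 : eN * eB3 = eD3 * eN :=
  Fm.of_chk (.eq [1317039904, 642745424] [1716935977, 1317039904]) (by decide +kernel)

theorem f_nb4 : eN * eB4 = eD4 * eN :=
  Fm.of_chk (.eq [1317039904, 268896784] [2257661957, 1317039904]) (by decide +kernel)

theorem f_bn0 : eB0 * eN = eN * eI0 :=
  Fm.of_chk (.eq [8, 1317039904] [1317039904, 252643601]) (by decide +kernel)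

theorem m8_eI0 : eI0 ∈ cl [8, 151721479, 269029385, 642745424, 268896784, 189239565] :=
  mem_cl_of [8, 269029385, 151721479, 642745424] (by decide +kernel)

theorem f_bn1 : eB1 * eN = eN * eI1 :=
  Fm.of_chk (.eq [151721479, 1317039904] [1317039904, 1930664456]) (by decide +kernel)

theorem m8_eI1 : eI1 ∈ cl [8, 151721479, 269029385, 642745424, 268896784, 189239565] :=
  mem_cl_of [151721479, 642745424, 269029385, 8] (by decide +kernel)

theorem f_bn2 : eB2 * eN = eN * eI2 :=
  Fm.of_chk (.eq [269029385, 1317039904] [1317039904, 2342294279]) (by decide +kernel)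

theorem m8_eI2 : eI2 ∈ cl [8, 151721479, 269029385, 642745424, 268896784, 189239565] :=
  mem_cl_of [8, 151721479, 642745424, 8, 151721479, 269029385] (by decide +kernel)

theorem md_eB0 : eB0 ∈ cl [2672296741, 694897205, 218958345, 1716935977, 2257661957] :=
  mem_cl_of [2672296741, 218958345, 694897205, 1716935977] (by decide +kernel)

theorem md_eB1 : eB1 ∈ cl [2672296741, 694897205, 218958345, 1716935977, 2257661957] :=
  mem_cl_of [694897205, 1716935977, 218958345, 2672296741] (by decide +kernel)

theorem md_eB2 : eB2 ∈ cl [2672296741, 694897205, 218958345, 1716935977, 2257661957] :=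
  mem_cl_of [2672296741, 694897205, 1716935977, 2672296741, 694897205, 218958345] (by decide +kernel)

theorem md_eB3 : eB3 ∈ cl [2672296741, 694897205, 218958345, 1716935977, 2257661957] :=
  mem_cl_of [694897205, 2672296741, 1716935977, 218958345, 218958345, 694897205] (by decide +kernel)

theorem mU_eY : eY ∈ cl [8, 151721479, 269029385, 642745424, 268896784, 2672296741, 694897205, 218958345, 1716935977, 2257661957] :=
  mem_cl_of [268896784, 2257661957, 268896784, 268896784, 2257661957, 2257661957, 268896784, 269029385] (by decide +kernel)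

theorem mU_eY3 : eY3 ∈ cl [8, 151721479, 269029385, 642745424, 268896784, 2672296741, 694897205, 218958345, 1716935977, 2257661957] :=
  mem_cl_of [8, 2257661957, 268896784, 1716935977, 2257661957, 268896784, 2257661957, 2257661957] (by decide +kernel)

theorem fix0 : ∀ c ∈ [8, 151721479, 269029385, 642745424, 268896784, 2672296741, 694897205, 218958345, 1716935977, 2257661957, 1317039904], S.val c • (0 : Fin 1408) = 0 := fun c hc =>
  have h := (by decide +kernel : ∀ c ∈ [8, 151721479, 269029385, 642745424, 268896784, 2672296741, 694897205, 218958345, 1716935977, 2257661957, 1317039904], D.can c = true ∧ Nat.beq (pt c 0) 0 = true) c hc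
  val_smul (ok_of h.1) h.2

theorem fix0x : (eXi * (eC0 * (eK * (eU * eZ)))) • (0 : Fin 1408) = 0 := by
  have := ek_pt (cs := [5, 1599305989, 641769231, 6, 3]) (a := 0) (b := 0) (by decide +kernel)
  rwa [ek_cons, ek_cons, ek_cons, ek_cons, ek_single] at this

theorem f_uu : eU * eU = 1 :=
  Fm.of_chk (.eq [6, 6] []) (by decide +kernel)

theorem f_zz : eZ * eZ = 1 :=
  Fm.of_chk (.eq [3, 3] []) (by decide +kernel)

theorem f_tt : eT * eT = 1 :=
  Fm.of_chk (.eq [118098183, 118098183] []) (by decide +kernel)

theorem f_t2t2 : eT2 * eT2 = 1 :=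
  Fm.of_chk (.eq [184747777, 184747777] []) (by decide +kernel)

theorem f_kk : eK * eK = 1 :=
  Fm.of_chk (.eq [641769231, 641769231] []) (by decide +kernel)

theorem f_k2k2 : eK2 * eK2 = 1 :=
  Fm.of_chk (.eq [1346860183, 1346860183] []) (by decide +kernel)

theorem f_rrr : eR * (eR * eR) = 1 :=
  Fm.of_chk (.eq [2522225159, 2522225159, 2522225159] []) (by decide +kernel)

theorem f_r1 : ¬ (eR = 1) :=
  Fm.of_chk (.not (.eq [2522225159] [])) (by decide +kernel)

theorem f_u1 : ¬ (eU = 1) :=
  Fm.of_chk (.not (.eq [6] [])) (by decide +kernel)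

theorem f_t1 : ¬ (eT = 1) :=
  Fm.of_chk (.not (.eq [118098183] [])) (by decide +kernel)

theorem f_t21 : ¬ (eT2 = 1) :=
  Fm.of_chk (.not (.eq [184747777] [])) (by decide +kernel)

theorem f_zu : ¬ (eZ = eU) :=
  Fm.of_chk (.not (.eq [3] [6])) (by decide +kernel)

theorem f_tu : ¬ (eT = eU) :=
  Fm.of_chk (.not (.eq [118098183] [6])) (by decide +kernel)

theorem f_zt : eZ * eT = eT * eZ :=
  Fm.of_chk (.eq [3, 118098183] [118098183, 3]) (by decide +kernel)

theorem f_zt2 : eZ * eT2 = eT2 * eZ :=
  Fm.of_chk (.eq [3, 184747777] [184747777, 3]) (by decide +kernel)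

theorem f_tt2 : eT * eT2 = eT2 * eT :=
  Fm.of_chk (.eq [118098183, 184747777] [184747777, 118098183]) (by decide +kernel)

theorem f_zr : eZ * eR = eR * eZ :=
  Fm.of_chk (.eq [3, 2522225159] [2522225159, 3]) (by decide +kernel)

theorem f_tr : eT * eR = eR * eT :=
  Fm.of_chk (.eq [118098183, 2522225159] [2522225159, 118098183]) (by decide +kernel)

theorem f_t2r : eT2 * eR = eR * eT2 :=
  Fm.of_chk (.eq [184747777, 2522225159] [2522225159, 184747777]) (by decide +kernel)

theorem f_kz : eK * eZ = eZ * (eU * eK) :=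
  Fm.of_chk (.eq [641769231, 3] [3, 6, 641769231]) (by decide +kernel)

theorem f_kr : eK * eR = eR * (eR * eK) :=
  Fm.of_chk (.eq [641769231, 2522225159] [2522225159, 2522225159, 641769231]) (by decide +kernel)

theorem f_kt : eK * eT = eT * eK :=
  Fm.of_chk (.eq [641769231, 118098183] [118098183, 641769231]) (by decide +kernel)

theorem f_k2r : eK2 * eR = eR * eK2 :=
  Fm.of_chk (.eq [1346860183, 2522225159] [2522225159, 1346860183]) (by decide +kernel)

theorem f_k2z : eK2 * eZ = eZ * (eU * eK2) :=
  Fm.of_chk (.eq [1346860183, 3] [3, 6, 1346860183]) (by decide +kernel)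

theorem f_k2t : eK2 * eT = eT * eK2 :=
  Fm.of_chk (.eq [1346860183, 118098183] [118098183, 1346860183]) (by decide +kernel)

theorem f_k2t2 : eK2 * eT2 = eT * (eT2 * eK2) :=
  Fm.of_chk (.eq [1346860183, 184747777] [118098183, 184747777, 1346860183]) (by decide +kernel)

theorem f_w1r : eW1 * eR = eR * eW1 :=
  Fm.of_chk (.eq [2056, 2522225159] [2522225159, 2056]) (by decide +kernel)

theorem f_w1z : eW1 * eZ = eZ * eW1 :=
  Fm.of_chk (.eq [2056, 3] [3, 2056]) (by decide +kernel)

theorem f_w1t : eW1 * eT = eT2 * eW1 :=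
  Fm.of_chk (.eq [2056, 118098183] [184747777, 2056]) (by decide +kernel)

theorem f_w1t2 : eW1 * eT2 = eT * (eT2 * eW1) :=
  Fm.of_chk (.eq [2056, 184747777] [118098183, 184747777, 2056]) (by decide +kernel)

theorem f_w13 : eW1 * (eW1 * eW1) = 1 :=
  Fm.of_chk (.eq [2056, 2056, 2056] []) (by decide +kernel)

theorem f_w2t : eW2 * eT = eT * (eK1 * eW2) :=
  Fm.of_chk (.eq [694897205, 118098183] [118098183, 319623426, 694897205]) (by decide +kernel)

theorem f_w2k : eW2 * (eT * eK1) = eK1 * eW2 :=
  Fm.of_chk (.eq [694897205, 118098183, 319623426] [319623426, 694897205]) (by decide +kernel)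

theorem f_w23 : eW2 * (eW2 * eW2) = 1 :=
  Fm.of_chk (.eq [694897205, 694897205, 694897205] []) (by decide +kernel)

theorem f_k1k1 : eK1 * eK1 = 1 :=
  Fm.of_chk (.eq [319623426, 319623426] []) (by decide +kernel)

theorem f_k1t : eK1 * eT = eT * eK1 :=
  Fm.of_chk (.eq [319623426, 118098183] [118098183, 319623426]) (by decide +kernel)

theorem f_k1t2 : eK1 * eT2 = eT2 * (eT * eK1) :=
  Fm.of_chk (.eq [319623426, 184747777] [184747777, 118098183, 319623426]) (by decide +kernel)

theorem f_k1r : eK1 * eR1 = eR1 * (eR1 * eK1) :=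
  Fm.of_chk (.eq [319623426, 118033174] [118033174, 118033174, 319623426]) (by decide +kernel)

theorem f_r13 : eR1 * (eR1 * eR1) = 1 :=
  Fm.of_chk (.eq [118033174, 118033174, 118033174] []) (by decide +kernel)

theorem f_r11 : ¬ (eR1 = 1) :=
  Fm.of_chk (.not (.eq [118033174] [])) (by decide +kernel)

theorem f_r1t : eR1 * eT = eT * eR1 :=
  Fm.of_chk (.eq [118033174, 118098183] [118098183, 118033174]) (by decide +kernel)

theorem f_r1t2 : eR1 * eT2 = eT2 * eR1 :=
  Fm.of_chk (.eq [118033174, 184747777] [184747777, 118033174]) (by decide +kernel)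

theorem f_r1z : eR1 * eZ = eZ * eR1 :=
  Fm.of_chk (.eq [118033174, 3] [3, 118033174]) (by decide +kernel)

theorem f_zk2 : eZ * (eK * (eZ * eK)) = eU :=
  Fm.of_chk (.eq [3, 641769231, 3, 641769231] [6]) (by decide +kernel)

theorem f_nz : eN * eZ = eK * (eU * eN) :=
  Fm.of_chk (.eq [1317039904, 3] [641769231, 6, 1317039904]) (by decide +kernel)

theorem f_nk : eN * eK = eZ * (eU * eN) :=
  Fm.of_chk (.eq [1317039904, 641769231] [3, 6, 1317039904]) (by decide +kernel)

theorem f_kn : eK * eN = eN * (eZ * eU) :=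
  Fm.of_chk (.eq [641769231, 1317039904] [1317039904, 3, 6]) (by decide +kernel)

theorem f_c0c0 : eC0 * eC0 = 1 :=
  Fm.of_chk (.eq [1599305989, 1599305989] []) (by decide +kernel)

theorem f_c0z : eC0 * eZ = eZ * eC0 :=
  Fm.of_chk (.eq [1599305989, 3] [3, 1599305989]) (by decide +kernel)

theorem f_c0k : eC0 * eK = eK * eC0 :=
  Fm.of_chk (.eq [1599305989, 641769231] [641769231, 1599305989]) (by decide +kernel)

theorem f_m0y : eM0 * eY = eMY * eM0 :=
  Fm.of_chk (.eq [344338982, 2] [2140508999, 344338982]) (by decide +kernel)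

theorem f_m0y3 : eM0 * eY3 = eMY3 * eM0 :=
  Fm.of_chk (.eq [344338982, 4] [136207894, 344338982]) (by decide +kernel)

theorem f_m0b : eM0 * eB0 = eR * eM0 :=
  Fm.of_chk (.eq [344338982, 8] [2522225159, 344338982]) (by decide +kernel)

theorem f_x0x0 : eX0 * eX0 = eU * eT7 :=
  Fm.of_chk (.eq [74670637, 74670637] [6, 151914247]) (by decide +kernel)

theorem f_x0f : eX0 * eF5 = eF5 * eX0 :=
  Fm.of_chk (.eq [74670637, 2587824130] [2587824130, 74670637]) (by decide +kernel)

theorem f_x0t : eX0 * eT7 = eT7 * eX0 :=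
  Fm.of_chk (.eq [74670637, 151914247] [151914247, 74670637]) (by decide +kernel)

theorem f_f55 : eF5 * (eF5 * (eF5 * (eF5 * eF5))) = 1 :=
  Fm.of_chk (.eq [2587824130, 2587824130, 2587824130, 2587824130, 2587824130] []) (by decide +kernel)

theorem f_f51 : ¬ (eF5 = 1) :=
  Fm.of_chk (.not (.eq [2587824130] [])) (by decide +kernel)

theorem f_f5t : eF5 * eT7 = eT7 * eF5 :=
  Fm.of_chk (.eq [2587824130, 151914247] [151914247, 2587824130]) (by decide +kernel)

theorem f_mk2 : eMk2 * eK2 = eZ * eMk2 :=
  Fm.of_chk (.eq [694169393, 1346860183] [3, 694169393]) (by decide +kernel)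

theorem f_ms1 : eMs1 * (eU * eS0) = eT * eMs1 :=
  Fm.of_chk (.eq [993211168, 6, 1527797765] [118098183, 993211168]) (by decide +kernel)

theorem f_ms2 : eMs2 * (eZ * eS0) = eZ * eMs2 :=
  Fm.of_chk (.eq [2019852571, 3, 1527797765] [3, 2019852571]) (by decide +kernel)

theorem f_mt : eMt * eT = eT7 * eMt :=
  Fm.of_chk (.eq [2106860346, 118098183] [151914247, 2106860346]) (by decide +kernel)

theorem f_c1 : (eC1 * eR = eR * eC1) ∧ (eC1 * eT = eP1 * eC1) :=
  Fm.of_chk (.and (.eq [118491405, 2522225159] [2522225159, 118491405]) (.eq [118491405, 118098183] [764424460, 118491405])) (by decide +kernel)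

theorem f_c2 : (eC2 * eR = eR * eC2) ∧ (eC2 * eT = eP2 * eC2) :=
  Fm.of_chk (.and (.eq [1115145, 2522225159] [2522225159, 1115145]) (.eq [1115145, 118098183] [2618249562, 1115145])) (by decide +kernel)

theorem f_c3 : (eC3 * eR = eR * eC3) ∧ (eC3 * eT = eP3 * eC3) :=
  Fm.of_chk (.and (.eq [8, 2522225159] [2522225159, 8]) (.eq [8, 118098183] [118164233, 8])) (by decide +kernel)

theorem f_gold : eT * (eP1 * (eT * (eP1 * (eP2 * (eP3 * (eP2 * eP3)))))) = eT2 :=
  Fm.of_chk (.eq [118098183, 764424460, 118098183, 764424460, 2618249562, 118164233, 2618249562, 118164233] [184747777]) (by decide +kernel)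

theorem f_kb4 : eK * eB4 = eB5 * eK :=
  Fm.of_chk (.eq [641769231, 268896784] [189239565, 641769231]) (by decide +kernel)

theorem f_kb5 : eK * eB5 = eB4 * eK :=
  Fm.of_chk (.eq [641769231, 189239565] [268896784, 641769231]) (by decide +kernel)

theorem z_b : ∀ c ∈ [8, 151721479, 269029385, 642745424, 268896784, 189239565], eqK [3, c] [c, 3] = true ∧ eqK [c, c, c] [] = true := by decide +kernel

theorem k_b : ∀ c ∈ [8, 151721479, 269029385, 642745424], eqK [641769231, c] [c, 641769231] = true := by decide +kernel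

theorem r_b : ∀ c ∈ [8, 151721479, 269029385], eqK [2522225159, c] [c, 2522225159] = true := by decide +kernel

theorem wE_mul : ∀ i j : Fin 16, eqK (nthL wE i ++ nthL wE j) (nthL wE (i ^^^ j : Fin 16)) = true := by
  decide +kernel

theorem wE_ne : ∀ i : Fin 16, i ≠ 0 → canL (nthL wE i) = true ∧ eqT (nthL wE i) [] = false := by
  decide +kernel

end Cfsg.Agent.H68.HN
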