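import Mathlib
import Cfsg.Agent.H43.Cent

set_option autoImplicit false
set_option maxRecDepth 200000
set_option linter.style.longLine false

namespace Cfsg.Agent.H68.HN

open Cfsg.Agent.H43

theorem v_hn : NOk 120 := by decide

theorem v_hk : 120 ≤ 2 ^ 7 := by decide

noncomputable def v_p0 : Net := (Net.cons (nat_lit 1) (nat_lit 0x550054441541111004410111104544) (Net.cons (nat_lit 2) (nat_lit 0x120013200333110221102121233310) (Net.cons (nat_lit 4) (nat_lit 0x70803040c030005080e0208060b00) (Net.cons (nat_lit 8) (nat_lit 0xec00040011005e000f00c80058) (Net.cons (nat_lit 16) (nat_lit 0x92000013890000e9c00000dc00) (Net.cons (nat_lit 32) (nat_lit 0xa90c8000000000c2000000) (Net.cons (nat_lit 64) (nat_lit 0x6559abe3881400) (Net.cons (nat_lit 32) (nat_lit 0x67a23300000000e1b1db58) (Net.cons (nat_lit 16) (nat_lit 0x560000ab8f0000880600006898) (Net.cons (nat_lit 8) (nat_lit 0x33003f006f009c00a4005b002c)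 (Net.cons (nat_lit 4) (nat_lit 0x407000101030300090b0d0e000e) (Net.cons (nat_lit 2) (nat_lit 0x301223111323013312023132203102) (Net.cons (nat_lit 1) (nat_lit 0x55141155005551000445504110510) Net.nil)))))))))))))

theorem v_p0_ok : Net.ok 120 v_p0 = true := by decide +kernel

noncomputable def v_p1 : Net := (Net.cons (nat_lit 1) (nat_lit 0x104044111555055044415500401400) (Net.cons (nat_lit 2) (nat_lit 0x32230320012000131232000120100) (Net.cons (nat_lit 4) (nat_lit 0x60e0104000c0d0202020007000000) (Net.cons (nat_lit 8) (nat_lit 0x40005200ca008500e600800000) (Net.cons (nat_lit 16) (nat_lit 0x170000051c0000de9100009800) (Net.cons (nat_lit 32) (nat_lit 0x409e000000005a000000) (Net.cons (nat_lit 64) (nat_lit 0x2ce9e5f000800) (Net.cons (nat_lit 32) (nat_lit 0x7e34fd00000000dadd3000) (Net.cons (nat_lit 16) (nat_lit 0xf50000057a00008fa300005a80) (Net.cons (nat_lit 8) (nat_lit 0x100c700ca00d100320010009c)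 (Net.cons (nat_lit 4) (nat_lit 0x60a0500040c090606060407060002) (Net.cons (nat_lit 2) (nat_lit 0x132230320012020131232000120100) (Net.cons (nat_lit 1) (nat_lit 0x104044111555055044415500401400) Net.nil)))))))))))))

theorem v_p1_ok : Net.ok 120 v_p1 = true := by decide +kernel

noncomputable def v_b : Net := (Net.cons (nat_lit 1) (nat_lit 0x451145005405501511010445545410) (Net.cons (nat_lit 2) (nat_lit 0x320201213031113323231011111210) (Net.cons (nat_lit 4) (nat_lit 0x3080a0d0e03060d05090000010200) (Net.cons (nat_lit 8) (nat_lit 0x9d000700340017000200830070) (Net.cons (nat_lit 16) (nat_lit 0x1000029940000697600005100) (Net.cons (nat_lit 32) (nat_lit 0xc090340000000017000000) (Net.cons (nat_lit 64) (nat_lit 0x36ed8377fd3bbf) (Net.cons (nat_lit 32) (nat_lit 0xe5269b00000000ba3e4955) (Net.cons (nat_lit 16) (nat_lit 0xda0000a971000061a400006a57) (Net.cons (nat_lit 8) (nat_lit 0xa20074008300b60058003c0003)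 (Net.cons (nat_lit 4) (nat_lit 0x4070a050e0c0a0d09090703090e03) (Net.cons (nat_lit 2) (nat_lit 0x310102123032223313132022222120) (Net.cons (nat_lit 1) (nat_lit 0x104410550150054044545110010145) Net.nil)))))))))))))

theorem v_b_ok : Net.ok 120 v_b = true := by decide +kernel

noncomputable def v_u : Net := (Net.cons (nat_lit 1) (nat_lit 0x454400100404041001000000010000) (Net.cons (nat_lit 2) (nat_lit 0x1000101010102002030000010000) (Net.cons (nat_lit 4) (nat_lit 0x104010c0801050808000000040000) (Net.cons (nat_lit 8) (nat_lit 0xcc009400010006000100400000) (Net.cons (nat_lit 16) (nat_lit 0x40000000410000000000000000) (Net.cons (nat_lit 32) (nat_lit 0x9000000000010000000) (Net.cons (nat_lit 64) (nat_lit 0x50090410410000) (Net.cons (nat_lit 32) (nat_lit 0xc009a1000000001cc00000) (Net.cons (nat_lit 16) (nat_lit 0x48000080450000020100004000) (Net.cons (nat_lit 8) (nat_lit 0xcc009400010006000100400000)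 (Net.cons (nat_lit 4) (nat_lit 0x504010c0801050808000000040000) (Net.cons (nat_lit 2) (nat_lit 0x1000101010102002030000010000) (Net.cons (nat_lit 1) (nat_lit 0x554400100414041001000000010000) Net.nil)))))))))))))

theorem v_u_ok : Net.ok 120 v_u = true := by decide +kernel

noncomputable def v_e : Net := (Net.cons (nat_lit 1) (nat_lit 0x4400040404141011000000110400) (Net.cons (nat_lit 2) (nat_lit 0x103010211102322031002000210000) (Net.cons (nat_lit 4) (nat_lit 0x10f0d060000030802000800080400) (Net.cons (nat_lit 8) (nat_lit 0xf006500200056000800040000) (Net.cons (nat_lit 16) (nat_lit 0xe200000008000004000) (Net.cons (nat_lit 32) (nat_lit 0x5062210000000000000000) (Net.cons (nat_lit 64) (nat_lit 0x50232512004100) (Net.cons (nat_lit 32) (nat_lit 0x516f2b000000000a800300) (Net.cons (nat_lit 16) (nat_lit 0x84a80000468800004608) (Net.cons (nat_lit 8) (nat_lit 0x1700ed00a80056000800040040) (Net.cons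 (nat_lit 4) (nat_lit 0x10f0d060808030802000800080400) (Net.cons (nat_lit 2) (nat_lit 0x103010211102322031002000210000) (Net.cons (nat_lit 1) (nat_lit 0x104400040414141011000000110400) Net.nil)))))))))))))

theorem v_e_ok : Net.ok 120 v_e = true := by decide +kernel

noncomputable def v_x : Net := (Net.cons (nat_lit 1) (nat_lit 0x4000040404051001001000101000) (Net.cons (nat_lit 2) (nat_lit 0x31002022121000100200020) (Net.cons (nat_lit 4) (nat_lit 0x10b0a0500000e0802000201080000) (Net.cons (nat_lit 8) (nat_lit 0xc9003800a00002001c00900000) (Net.cons (nat_lit 16) (nat_lit 0x10000022400000860000000000) (Net.cons (nat_lit 32) (nat_lit 0x4021000000000052000000) (Net.cons (nat_lit 64) (nat_lit 0x40a15173008000) (Net.cons (nat_lit 32) (nat_lit 0x40230a000000007a203602) (Net.cons (nat_lit 16) (nat_lit 0x1000000ec00000a60c00002098) (Net.cons (nat_lit 8) (nat_lit 0xc9003800a00002001c00900000) (Net.cons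 (nat_lit 4) (nat_lit 0x90b0a0508080e0802000201080000) (Net.cons (nat_lit 2) (nat_lit 0x31002022121000100200020) (Net.cons (nat_lit 1) (nat_lit 0x4000040404051001001000101000) Net.nil)))))))))))))

theorem v_x_ok : Net.ok 120 v_x = true := by decide +kernel

noncomputable def v_s : Net := (Net.cons (nat_lit 1) (nat_lit 0x144440045440111041045044105000) (Net.cons (nat_lit 2) (nat_lit 0x200000203210013020100220022000) (Net.cons (nat_lit 4) (nat_lit 0x10d080a0d0c0604020a0808010000) (Net.cons (nat_lit 8) (nat_lit 0xe900bd004400a8008200890080) (Net.cons (nat_lit 16) (nat_lit 0x8200004f820000802800000400) (Net.cons (nat_lit 32) (nat_lit 0x12030400000000cc000000) (Net.cons (nat_lit 64) (nat_lit 0x130ba5cc4118a0) (Net.cons (nat_lit 32) (nat_lit 0x96074600000000fcbcb410) (Net.cons (nat_lit 16) (nat_lit 0x8a00007f9a0000b43c00007510) (Net.cons (nat_lit 8) (nat_lit 0xe900ad005000bc0096009f0090) (Net.cons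 (nat_lit 4) (nat_lit 0x10d0c0a0d0c0604020a0808090004) (Net.cons (nat_lit 2) (nat_lit 0x200000203210013020100220022002) (Net.cons (nat_lit 1) (nat_lit 0x544450045441111041045044105000) Net.nil)))))))))))))

theorem v_s_ok : Net.ok 120 v_s = true := by decide +kernel

noncomputable def vG : List Net := [v_p0, v_p1, v_b]

theorem vG_ok : okE 120 vG = true := (okE_cons.2 ⟨v_p0_ok, (okE_cons.2 ⟨v_p1_ok, (okE_cons.2 ⟨v_b_ok, (okE_nil 120)⟩)⟩)⟩)

noncomputable def v_V1 : List Net := [v_b]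

theorem v_V1_ok : okE 120 v_V1 = true := (okE_cons.2 ⟨v_b_ok, (okE_nil 120)⟩)

noncomputable def v_g3 : Net := (Net.cons (nat_lit 1) (nat_lit 0x545011101105111541511544051000) (Net.cons (nat_lit 2) (nat_lit 0x210011012103110212023122112330) (Net.cons (nat_lit 4) (nat_lit 0xe0a0c0b0c020903020b0501080100) (Net.cons (nat_lit 8) (nat_lit 0x1000aa0021004000d300f7004a) (Net.cons (nat_lit 16) (nat_lit 0x98000063200000486e00000b00) (Net.cons (nat_lit 32) (nat_lit 0x223508000000000b000000) (Net.cons (nat_lit 64) (nat_lit 0xd15636cbf62908) (Net.cons (nat_lit 32) (nat_lit 0x9e494000000000ef777aca) (Net.cons (nat_lit 16) (nat_lit 0x5c0000396500000d740000b67c) (Net.cons (nat_lit 8) (nat_lit 0x3800c3001f008100fb00400098) (Net.cons (nat_lit 4) (nat_lit 0xc0207040005050305020009060e06) (Net.cons (nat_lit 2) (nat_lit 0x31232311122321230202333031132) (Net.cons (nat_lit 1) (nat_lit 0x415101415100101545040045104554)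 Net.nil)))))))))))))

theorem v_g3_ok : Net.ok 120 v_g3 = true := by decide +kernel

noncomputable def v_g4 : Net := (Net.cons (nat_lit 1) (nat_lit 0x51044004415145405515154455100) (Net.cons (nat_lit 2) (nat_lit 0x31233101000031122033001122200) (Net.cons (nat_lit 4) (nat_lit 0x1080109000400070c060f0a000800) (Net.cons (nat_lit 8) (nat_lit 0x7700a300ee00ca000d008f000e) (Net.cons (nat_lit 16) (nat_lit 0x900000290c0000892300003100) (Net.cons (nat_lit 32) (nat_lit 0xc66c10000000046000000) (Net.cons (nat_lit 64) (nat_lit 0xafe135f5788e4) (Net.cons (nat_lit 32) (nat_lit 0xb71fcd00000000d89db330) (Net.cons (nat_lit 16) (nat_lit 0x2a0000bfbc00000dc100009b80) (Net.cons (nat_lit 8) (nat_lit 0x2500fa00690002009b000c00b6) (Net.cons (nat_lit 4) (nat_lit 0xb0c010c0e05000f020c0a0a0c080e) (Net.cons (nat_lit 2) (nat_lit 0x12003002133320033220312333020) (Net.cons (nat_lit 1) (nat_lit 0x504511111004144440040540400554)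 Net.nil)))))))))))))

theorem v_g4_ok : Net.ok 120 v_g4 = true := by decide +kernel

noncomputable def v_V5 : List Net := [v_g3, v_g4]

theorem v_V5_ok : okE 120 v_V5 = true := (okE_cons.2 ⟨v_g3_ok, (okE_cons.2 ⟨v_g4_ok, (okE_nil 120)⟩)⟩)

noncomputable def v_g7 : Net := (Net.cons (nat_lit 1) (nat_lit 0x454100545505454501541154514000) (Net.cons (nat_lit 2) (nat_lit 0x100321032301002011032032030210) (Net.cons (nat_lit 4) (nat_lit 0x1050d020804040e02030603050900) (Net.cons (nat_lit 8) (nat_lit 0xc700e000b200ed0049009a0085) (Net.cons (nat_lit 16) (nat_lit 0x5c000068d50000040100000800) (Net.cons (nat_lit 32) (nat_lit 0xa412200000000062000000) (Net.cons (nat_lit 64) (nat_lit 0xa8f530ee140e4f) (Net.cons (nat_lit 32) (nat_lit 0x63fa2c00000000cf7ba48e) (Net.cons (nat_lit 16) (nat_lit 0xd10000ee870000957b0000c4cd) (Net.cons (nat_lit 8) (nat_lit 0xcf003700c6000f005900be00bb) (Net.cons (nat_lit 4) (nat_lit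 0x50e070602040d0c020d010002090c) (Net.cons (nat_lit 2) (nat_lit 0x301230121110020031112231310212) (Net.cons (nat_lit 1) (nat_lit 0x141544140115041514115414544044) Net.nil)))))))))))))

theorem v_g7_ok : Net.ok 120 v_g7 = true := by decide +kernel

noncomputable def v_V8 : List Net := [v_g7]

theorem v_V8_ok : okE 120 v_V8 = true := (okE_cons.2 ⟨v_g7_ok, (okE_nil 120)⟩)

noncomputable def v_g10 : Net := (Net.cons (nat_lit 1) (nat_lit 0x11044140505550514511515101110) (Net.cons (nat_lit 2) (nat_lit 0x222021300000113313302320203100) (Net.cons (nat_lit 4) (nat_lit 0x90a04000f02060d070406020e0000) (Net.cons (nat_lit 8) (nat_lit 0x6b00520023000c00ff004400e0) (Net.cons (nat_lit 16) (nat_lit 0xb5000095ba00001a6400008500) (Net.cons (nat_lit 32) (nat_lit 0x98932c0000000010000000) (Net.cons (nat_lit 64) (nat_lit 0x9ca6df5a471120) (Net.cons (nat_lit 32) (nat_lit 0xd634830000000034e89842) (Net.cons (nat_lit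 16) (nat_lit 0x690000516a0000802500004f70) (Net.cons (nat_lit 8) (nat_lit 0x4d00ff00b7002800d8005e005a) (Net.cons (nat_lit 4) (nat_lit 0xa00040f0e0b010c0509060c020b04) (Net.cons (nat_lit 2) (nat_lit 0x120033330222110333332222022022) (Net.cons (nat_lit 1) (nat_lit 0x500014454141100501154410041440) Net.nil)))))))))))))

theorem v_g10_ok : Net.ok 120 v_g10 = true := by decide +kernel

noncomputable def v_g11 : Net := (Net.cons (nat_lit 1) (nat_lit 0x401014150414450015455501500400) (Net.cons (nat_lit 2) (nat_lit 0x2000321220033002023112022000) (Net.cons (nat_lit 4) (nat_lit 0x70801000a0c0c0e00010a00030000) (Net.cons (nat_lit 8) (nat_lit 0xe0001e00ac005a009600790000) (Net.cons (nat_lit 16) (nat_lit 0x230000020800000c0900000c00) (Net.cons (nat_lit 32) (nat_lit 0x42120c000000004c000000) (Net.cons (nat_lit 64) (nat_lit 0x62420feca89040) (Net.cons (nat_lit 32) (nat_lit 0x673eac000000005e7d0cd8) (Net.cons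 (nat_lit 16) (nat_lit 0x630000924000000c510000cd5a) (Net.cons (nat_lit 8) (nat_lit 0xe0001e00ac005a009600790024) (Net.cons (nat_lit 4) (nat_lit 0xf0809000a0c0d0e00010a00030000) (Net.cons (nat_lit 2) (nat_lit 0x2000321220033002023312022000) (Net.cons (nat_lit 1) (nat_lit 0x401014150415450015455501500400) Net.nil)))))))))))))

theorem v_g11_ok : Net.ok 120 v_g11 = true := by decide +kernel

noncomputable def v_g12 : Net := (Net.cons (nat_lit 1) (nat_lit 0x541510510141145511101004511104) (Net.cons (nat_lit 2) (nat_lit 0x102002213003332132131320200200) (Net.cons (nat_lit 4) (nat_lit 0x20b040a0b080904010a0c07000600) (Net.cons (nat_lit 8) (nat_lit 0x68000d004e007900d000470009) (Net.cons (nat_lit 16) (nat_lit 0x4900008d5d0000ec1400001400) (Net.cons (nat_lit 32) (nat_lit 0xa0441d0000000036000000) (Net.cons (nat_lit 64) (nat_lit 0xb2ea1bff110644) (Net.cons (nat_lit 32) (nat_lit 0x705f0200000000ab0542e9)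 (Net.cons (nat_lit 16) (nat_lit 0x1300005f4a000092030000ec9f) (Net.cons (nat_lit 8) (nat_lit 0x6400610073004d001d00db00d5) (Net.cons (nat_lit 4) (nat_lit 0x90a060b0f000804060a0c0b060600) (Net.cons (nat_lit 2) (nat_lit 0x213112200011333123130220301200) (Net.cons (nat_lit 1) (nat_lit 0x110110455514044501111414511104) Net.nil)))))))))))))

theorem v_g12_ok : Net.ok 120 v_g12 = true := by decide +kernel

noncomputable def v_g13 : Net := (Net.cons (nat_lit 1) (nat_lit 0x514004540444454154441505540400) (Net.cons (nat_lit 2) (nat_lit 0x212132221300332020122031201220) (Net.cons (nat_lit 4) (nat_lit 0x80000050d01010906060306090800) (Net.cons (nat_lit 8) (nat_lit 0x7b00a00070004b004000030000) (Net.cons (nat_lit 16) (nat_lit 0x4700008c1d000044d000008000) (Net.cons (nat_lit 32) (nat_lit 0x8020160000000005000000) (Net.cons (nat_lit 64) (nat_lit 0x4ff09e0dc8d400) (Net.cons (nat_lit 32) (nat_lit 0xa2e8350000000087d08280)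 (Net.cons (nat_lit 16) (nat_lit 0xdd0000cc5f00000c3a0000c1e6) (Net.cons (nat_lit 8) (nat_lit 0x3b00c200b1000b000000430048) (Net.cons (nat_lit 4) (nat_lit 0xe0000070f01010906060307090800) (Net.cons (nat_lit 2) (nat_lit 0x212132221300332020122031201220) (Net.cons (nat_lit 1) (nat_lit 0x514404540444455154441505540400) Net.nil)))))))))))))

theorem v_g13_ok : Net.ok 120 v_g13 = true := by decide +kernel

noncomputable def v_V14 : List Net := [v_g10, v_g11, v_g12, v_g13]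

theorem v_V14_ok : okE 120 v_V14 = true := (okE_cons.2 ⟨v_g10_ok, (okE_cons.2 ⟨v_g11_ok, (okE_cons.2 ⟨v_g12_ok, (okE_cons.2 ⟨v_g13_ok, (okE_nil 120)⟩)⟩)⟩)⟩)

noncomputable def v_g16 : Net := (Net.cons (nat_lit 1) (nat_lit 0x415441140415041151040050514444) (Net.cons (nat_lit 2) (nat_lit 0x133000031100223321230232000120) (Net.cons (nat_lit 4) (nat_lit 0x30903090f0606070f0b0c07020900) (Net.cons (nat_lit 8) (nat_lit 0x180011007200e800d300a8003a) (Net.cons (nat_lit 16) (nat_lit 0x330000e79800002c5200005100) (Net.cons (nat_lit 32) (nat_lit 0x91620e00000000d0000000) (Net.cons (nat_lit 64) (nat_lit 0x50ab90daa5558e) (Net.cons (nat_lit 32) (nat_lit 0x5dd72c00000000cb7b9f84) (Net.cons (nat_lit 16) (nat_lit 0x380000c38b0000477a0000a708) (Net.cons (nat_lit 8) (nat_lit 0x9e00ca005800ec0099003100ea) (Net.cons (nat_lit 4) (nat_lit 0xf050f0901060d070d0c070a0f0e08) (Net.cons (nat_lit 2) (nat_lit 0x210221002113102121102230012230)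 (Net.cons (nat_lit 1) (nat_lit 0x115015555005050540404015054554) Net.nil)))))))))))))

theorem v_g16_ok : Net.ok 120 v_g16 = true := by decide +kernel

noncomputable def v_V17 : List Net := [v_g10, v_g16]

theorem v_V17_ok : okE 120 v_V17 = true := (okE_cons.2 ⟨v_g10_ok, (okE_cons.2 ⟨v_g16_ok, (okE_nil 120)⟩)⟩)

noncomputable def v_g19 : Net := (Net.cons (nat_lit 1) (nat_lit 0x14440000044411001000100010400) (Net.cons (nat_lit 2) (nat_lit 0x30003110222002020120010000) (Net.cons (nat_lit 4) (nat_lit 0x105090007000a0808000400000400) (Net.cons (nat_lit 8) (nat_lit 0x4009200810000000000240000) (Net.cons (nat_lit 16) (nat_lit 0x40000000040000044000004000) (Net.cons (nat_lit 32) (nat_lit 0x48030000000000000000) (Net.cons (nat_lit 64) (nat_lit 0x100d078000c004) (Net.cons (nat_lit 32) (nat_lit 0x40490a0000000008c40000) (Net.cons (nat_lit 16) (nat_lit 0x40000012040000044000004420) (Net.cons (nat_lit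 8) (nat_lit 0x5009200800000000100240040) (Net.cons (nat_lit 4) (nat_lit 0x105090007000a0808000400000400) (Net.cons (nat_lit 2) (nat_lit 0x30003310222002020120010000) (Net.cons (nat_lit 1) (nat_lit 0x14440000044411001000100010400) Net.nil)))))))))))))

theorem v_g19_ok : Net.ok 120 v_g19 = true := by decide +kernel

noncomputable def v_g20 : Net := (Net.cons (nat_lit 1) (nat_lit 0x41004144445510450101404040540) (Net.cons (nat_lit 2) (nat_lit 0x111022310030023100011111320020) (Net.cons (nat_lit 4) (nat_lit 0xd070d04000c030808070e040e0900) (Net.cons (nat_lit 8) (nat_lit 0x6e008e00fc0060008c00580002) (Net.cons (nat_lit 16) (nat_lit 0x8c0000d9140000df530000a900) (Net.cons (nat_lit 32) (nat_lit 0x1001d0000000006e000000) (Net.cons (nat_lit 64) (nat_lit 0x868058ffbc05a8) (Net.cons (nat_lit 32) (nat_lit 0x7669d6000000005177c424) (Net.cons (nat_lit 16) (nat_lit 0xf00006fbc0000333b00004fe8) (Net.cons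 (nat_lit 8) (nat_lit 0xcc000d000d008000d600b800f2) (Net.cons (nat_lit 4) (nat_lit 0x7050f06020d0009000504060c0902) (Net.cons (nat_lit 2) (nat_lit 0x111022310030021100031111322020) (Net.cons (nat_lit 1) (nat_lit 0x1404544444500451045444441540) Net.nil)))))))))))))

theorem v_g20_ok : Net.ok 120 v_g20 = true := by decide +kernel

noncomputable def v_g21 : Net := (Net.cons (nat_lit 1) (nat_lit 0x40440000000150101001000011400) (Net.cons (nat_lit 2) (nat_lit 0x21212030000122222010200030000) (Net.cons (nat_lit 4) (nat_lit 0x4000f00000f00020002010a0400) (Net.cons (nat_lit 8) (nat_lit 0x600a200a00001001200140002) (Net.cons (nat_lit 16) (nat_lit 0x20c000000e2200004200) (Net.cons (nat_lit 32) (nat_lit 0x4060810000000040000000) (Net.cons (nat_lit 64) (nat_lit 0x4026856100c000) (Net.cons (nat_lit 32) (nat_lit 0x40609100000000622c3802) (Net.cons (nat_lit 16) (nat_lit 0x2000000c200002f2200006690) (Net.cons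 (nat_lit 8) (nat_lit 0xe00a200a00001001200140042) (Net.cons (nat_lit 4) (nat_lit 0x4000f00000f00020002010a0400) (Net.cons (nat_lit 2) (nat_lit 0x21212030200122222010200030000) (Net.cons (nat_lit 1) (nat_lit 0x140440000010150101001000011400) Net.nil)))))))))))))

theorem v_g21_ok : Net.ok 120 v_g21 = true := by decide +kernel

noncomputable def v_g22 : Net := (Net.cons (nat_lit 1) (nat_lit 0x411551405545050400540144041140) (Net.cons (nat_lit 2) (nat_lit 0x213331023330003002220102133210) (Net.cons (nat_lit 4) (nat_lit 0x409040d0b05060a050a0808000400) (Net.cons (nat_lit 8) (nat_lit 0xb0001400350006002300140050) (Net.cons (nat_lit 16) (nat_lit 0x1e0000a669000018ea00000a00) (Net.cons (nat_lit 32) (nat_lit 0x184d580000000082000000) (Net.cons (nat_lit 64) (nat_lit 0x918669f24f6b30) (Net.cons (nat_lit 32) (nat_lit 0xe8c63e0000000013d72d6c) (Net.cons (nat_lit 16) (nat_lit 0x530000213000009e9000004f98)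 (Net.cons (nat_lit 8) (nat_lit 0xf4003a00b3009a0030000700d2) (Net.cons (nat_lit 4) (nat_lit 0xc080d0c0c0c060204020b0009030a) (Net.cons (nat_lit 2) (nat_lit 0x220220320321111133021101120232) (Net.cons (nat_lit 1) (nat_lit 0x404545100455115455515540455510) Net.nil)))))))))))))

theorem v_g22_ok : Net.ok 120 v_g22 = true := by decide +kernel

noncomputable def v_g23 : Net := (Net.cons (nat_lit 1) (nat_lit 0x141055510051111150555505041044) (Net.cons (nat_lit 2) (nat_lit 0x33321303211013210212333000200) (Net.cons (nat_lit 4) (nat_lit 0x60e010006090f000a0f0402050200) (Net.cons (nat_lit 8) (nat_lit 0xf40042008c003c007200050004) (Net.cons (nat_lit 16) (nat_lit 0xdc000069e700005c850000d300) (Net.cons (nat_lit 32) (nat_lit 0x691334000000008a000000) (Net.cons (nat_lit 64) (nat_lit 0x7c04b4fe013782) (Net.cons (nat_lit 32) (nat_lit 0x6fde6900000000ca9fb03a) (Net.cons (nat_lit 16) (nat_lit 0xf90000f1b7000016d700008b4c)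 (Net.cons (nat_lit 8) (nat_lit 0x69003800d90062008900940030) (Net.cons (nat_lit 4) (nat_lit 0x307090c0a0d03080e0e0107040608) (Net.cons (nat_lit 2) (nat_lit 0x133331211313013230012133122202) (Net.cons (nat_lit 1) (nat_lit 0x141055510051111151555505041044) Net.nil)))))))))))))

theorem v_g23_ok : Net.ok 120 v_g23 = true := by decide +kernel

noncomputable def v_V24 : List Net := [v_g19, v_g20, v_g21, v_g22, v_g23]

theorem v_V24_ok : okE 120 v_V24 = true := (okE_cons.2 ⟨v_g19_ok, (okE_cons.2 ⟨v_g20_ok, (okE_cons.2 ⟨v_g21_ok, (okE_cons.2 ⟨v_g22_ok, (okE_cons.2 ⟨v_g23_ok, (okE_nil 120)⟩)⟩)⟩)⟩)⟩)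

noncomputable def v_g26 : Net := (Net.cons (nat_lit 1) (nat_lit 0x45050105454555104450445414440) (Net.cons (nat_lit 2) (nat_lit 0x312213123232110002020333233120) (Net.cons (nat_lit 4) (nat_lit 0x7080605070c070d03090201010000) (Net.cons (nat_lit 8) (nat_lit 0x8c0002007f0034004200140003) (Net.cons (nat_lit 16) (nat_lit 0x2800003ed40000381200002e00) (Net.cons (nat_lit 32) (nat_lit 0xf1040000000045000000) (Net.cons (nat_lit 64) (nat_lit 0x2df7847f080452) (Net.cons (nat_lit 32) (nat_lit 0xf6db2a0000000055701803) (Net.cons (nat_lit 16) (nat_lit 0xc00006ff100004b160000ee36) (Net.cons (nat_lit 8) (nat_lit 0x8c00b0007f0096007800050031) (Net.cons (nat_lit 4) (nat_lit 0x50a0507050e050f010b000303020a) (Net.cons (nat_lit 2) (nat_lit 0x313213123232110002020333233120) (Net.cons (nat_lit 1) (nat_lit 0x45050105454555104450455415440) Net.nil)))))))))))))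

theorem v_g26_ok : Net.ok 120 v_g26 = true := by decide +kernel

noncomputable def v_V27 : List Net := [v_g22, v_g21, v_g26]

theorem v_V27_ok : okE 120 v_V27 = true := (okE_cons.2 ⟨v_g22_ok, (okE_cons.2 ⟨v_g21_ok, (okE_cons.2 ⟨v_g26_ok, (okE_nil 120)⟩)⟩)⟩)

noncomputable def v_g29 : Net := (Net.cons (nat_lit 1) (nat_lit 0x4000440000040011000000110400) (Net.cons (nat_lit 2) (nat_lit 0x1020022000000001001220220000) (Net.cons (nat_lit 4) (nat_lit 0x50603080204040002000000000400) (Net.cons (nat_lit 8) (nat_lit 0x2008400040020001000200000) (Net.cons (nat_lit 16) (nat_lit 0x17000002c60000040600000000) (Net.cons (nat_lit 32) (nat_lit 0x4001800000000000000000) (Net.cons (nat_lit 64) (nat_lit 0x44159200040000) (Net.cons (nat_lit 32) (nat_lit 0x4303840000000020020000) (Net.cons (nat_lit 16) (nat_lit 0x17000008c400000002000000a8) (Net.cons (nat_lit 8) (nat_lit 0x24008600060024001400200040) (Net.cons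 (nat_lit 4) (nat_lit 0x50603080204040002000000080408) (Net.cons (nat_lit 2) (nat_lit 0x1020022200000001001220220000) (Net.cons (nat_lit 1) (nat_lit 0x4000440000040011000000110400) Net.nil)))))))))))))

theorem v_g29_ok : Net.ok 120 v_g29 = true := by decide +kernel

noncomputable def v_g30 : Net := (Net.cons (nat_lit 1) (nat_lit 0x401400000404451001000100110000) (Net.cons (nat_lit 2) (nat_lit 0x201000021012022000010300230000) (Net.cons (nat_lit 4) (nat_lit 0x30400080c050c0800000000040000) (Net.cons (nat_lit 8) (nat_lit 0x40002200810005009000400000) (Net.cons (nat_lit 16) (nat_lit 0x50000004450000800600000000) (Net.cons (nat_lit 32) (nat_lit 0x2080000000080000000) (Net.cons (nat_lit 64) (nat_lit 0x400218a0418004) (Net.cons (nat_lit 32) (nat_lit 0x420628000000008c460000) (Net.cons (nat_lit 16) (nat_lit 0x50000044c50000810600004088) (Net.cons (nat_lit 8) (nat_lit 0x42002200810005009000400000)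 (Net.cons (nat_lit 4) (nat_lit 0x30400080c050c08000000000c0008) (Net.cons (nat_lit 2) (nat_lit 0x201000021012022000010300230000) (Net.cons (nat_lit 1) (nat_lit 0x401400000404451001000100110000) Net.nil)))))))))))))

theorem v_g30_ok : Net.ok 120 v_g30 = true := by decide +kernel

noncomputable def v_g31 : Net := (Net.cons (nat_lit 1) (nat_lit 0x4040000004051011000000010000) (Net.cons (nat_lit 2) (nat_lit 0x220001212002132131000220030000) (Net.cons (nat_lit 4) (nat_lit 0x9000c0701000b08020000010c0000) (Net.cons (nat_lit 8) (nat_lit 0xc500c400840042003c00700000) (Net.cons (nat_lit 16) (nat_lit 0x2000000850200000000) (Net.cons (nat_lit 32) (nat_lit 0x4002310000000000000000) (Net.cons (nat_lit 64) (nat_lit 0xd0837183008000) (Net.cons (nat_lit 32) (nat_lit 0x500621000000000a022600) (Net.cons (nat_lit 16) (nat_lit 0x14000000140000c71e000042b0) (Net.cons (nat_lit 8) (nat_lit 0xc500c400840042003c00700000)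 (Net.cons (nat_lit 4) (nat_lit 0xb000c0701000b08020000010c0000) (Net.cons (nat_lit 2) (nat_lit 0x220001212002132131000220030000) (Net.cons (nat_lit 1) (nat_lit 0x4040000014051011000000010000) Net.nil)))))))))))))

theorem v_g31_ok : Net.ok 120 v_g31 = true := by decide +kernel

noncomputable def v_g32 : Net := (Net.cons (nat_lit 1) (nat_lit 0x404450004404150011000000010000) (Net.cons (nat_lit 2) (nat_lit 0x3011212000320132001220020000) (Net.cons (nat_lit 4) (nat_lit 0x106000f00080b00020000010c0000) (Net.cons (nat_lit 8) (nat_lit 0x4f00e000800042003000340000) (Net.cons (nat_lit 16) (nat_lit 0x500000005000000f4200004000) (Net.cons (nat_lit 32) (nat_lit 0x4000600000000020000000) (Net.cons (nat_lit 64) (nat_lit 0x1974a340c000) (Net.cons (nat_lit 32) (nat_lit 0x90406200000000200e2600) (Net.cons (nat_lit 16) (nat_lit 0x5000000c5800004f42000040b0) (Net.cons (nat_lit 8) (nat_lit 0xf00e800c80042003000740000)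 (Net.cons (nat_lit 4) (nat_lit 0x106000f00080b00020000010c0000) (Net.cons (nat_lit 2) (nat_lit 0x3011212000320132001220020000) (Net.cons (nat_lit 1) (nat_lit 0x504450004404150011000000010000) Net.nil)))))))))))))

theorem v_g32_ok : Net.ok 120 v_g32 = true := by decide +kernel

noncomputable def v_V33 : List Net := [v_g29, v_g30, v_g31, v_g32]

theorem v_V33_ok : okE 120 v_V33 = true := (okE_cons.2 ⟨v_g29_ok, (okE_cons.2 ⟨v_g30_ok, (okE_cons.2 ⟨v_g31_ok, (okE_cons.2 ⟨v_g32_ok, (okE_nil 120)⟩)⟩)⟩)⟩)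

noncomputable def v_V35 : List Net := [v_g30]

theorem v_V35_ok : okE 120 v_V35 = true := (okE_cons.2 ⟨v_g30_ok, (okE_nil 120)⟩)

noncomputable def v_g37 : Net := (Net.cons (nat_lit 1) (nat_lit 0x440400000504040111000100010400) (Net.cons (nat_lit 2) (nat_lit 0x102313001030232030310020000) (Net.cons (nat_lit 4) (nat_lit 0x10000030e00010402020501080400) (Net.cons (nat_lit 8) (nat_lit 0x8008000020043003000140000) (Net.cons (nat_lit 16) (nat_lit 0x10000002140000084200000100) (Net.cons (nat_lit 32) (nat_lit 0x1007000000000004000000) (Net.cons (nat_lit 64) (nat_lit 0x10161246000104) (Net.cons (nat_lit 32) (nat_lit 0x10072000000000064e2a00) (Net.cons (nat_lit 16) (nat_lit 0x180000811600004b6200000390) (Net.cons (nat_lit 8) (nat_lit 0x8008000020043003000140040) (Net.cons (nat_lit 4) (nat_lit 0x50000030e00010402020501080400) (Net.cons (nat_lit 2) (nat_lit 0x102313101030232030310020000) (Net.cons (nat_lit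 1) (nat_lit 0x440400000514040111000100010400) Net.nil)))))))))))))

theorem v_g37_ok : Net.ok 120 v_g37 = true := by decide +kernel

noncomputable def v_g38 : Net := (Net.cons (nat_lit 1) (nat_lit 0x50004545011004100110000) (Net.cons (nat_lit 2) (nat_lit 0x1031002030131000322210000) (Net.cons (nat_lit 4) (nat_lit 0x1000f04000b02020000010c0000) (Net.cons (nat_lit 8) (nat_lit 0xc9005200800062002400760000) (Net.cons (nat_lit 16) (nat_lit 0x400000225400000b0000000000) (Net.cons (nat_lit 32) (nat_lit 0x1000680000000092000000) (Net.cons (nat_lit 64) (nat_lit 0x1009e99b000004) (Net.cons (nat_lit 32) (nat_lit 0x50a06800000000b6022600) (Net.cons (nat_lit 16) (nat_lit 0x400000225600004f0400004438) (Net.cons (nat_lit 8) (nat_lit 0xcb005200800062002400760000) (Net.cons (nat_lit 4) (nat_lit 0x1000f04000b02020000010c0000) (Net.cons (nat_lit 2) (nat_lit 0x1031002030131000322210000) (Net.cons (nat_lit 1)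 (nat_lit 0x100000050004545011004100110000) Net.nil)))))))))))))

theorem v_g38_ok : Net.ok 120 v_g38 = true := by decide +kernel

noncomputable def v_V39 : List Net := [v_u, v_g37, v_g38]

theorem v_V39_ok : okE 120 v_V39 = true := (okE_cons.2 ⟨v_u_ok, (okE_cons.2 ⟨v_g37_ok, (okE_cons.2 ⟨v_g38_ok, (okE_nil 120)⟩)⟩)⟩)

noncomputable def v_V41 : List Net := [v_g37]

theorem v_V41_ok : okE 120 v_V41 = true := (okE_cons.2 ⟨v_g37_ok, (okE_nil 120)⟩)

noncomputable def v_V43 : List Net := [v_g29, v_u]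

theorem v_V43_ok : okE 120 v_V43 = true := (okE_cons.2 ⟨v_g29_ok, (okE_cons.2 ⟨v_u_ok, (okE_nil 120)⟩)⟩)

noncomputable def v_V45 : List Net := [v_g29]

theorem v_V45_ok : okE 120 v_V45 = true := (okE_cons.2 ⟨v_g29_ok, (okE_nil 120)⟩)

noncomputable def v_V47 : List Net := [v_u, v_u]

theorem v_V47_ok : okE 120 v_V47 = true := (okE_cons.2 ⟨v_u_ok, (okE_cons.2 ⟨v_u_ok, (okE_nil 120)⟩)⟩)

noncomputable def v_V49 : List Net := [v_u]

theorem v_V49_ok : okE 120 v_V49 = true := (okE_cons.2 ⟨v_u_ok, (okE_nil 120)⟩)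

noncomputable def vo_E8 : List Net := []

theorem vo_E8_ok : okE 120 vo_E8 = true := (okE_nil 120)

noncomputable def vo_G7 : List Net := [v_u]

theorem vo_G7_ok : okE 120 vo_G7 = true := (okE_cons.2 ⟨v_u_ok, (okE_nil 120)⟩)

noncomputable def vo_E7 : List Net := [v_u]

theorem vo_E7_ok : okE 120 vo_E7 = true := (okE_cons.2 ⟨v_u_ok, (okE_nil 120)⟩)

noncomputable def vo_G6 : List Net := [v_g29, v_u]

theorem vo_G6_ok : okE 120 vo_G6 = true := (okE_cons.2 ⟨v_g29_ok, (okE_cons.2 ⟨v_u_ok, (okE_nil 120)⟩)⟩)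

noncomputable def vo_E6 : List Net := [v_g29, v_u]

theorem vo_E6_ok : okE 120 vo_E6 = true := (okE_cons.2 ⟨v_g29_ok, (okE_cons.2 ⟨v_u_ok, (okE_nil 120)⟩)⟩)

noncomputable def vo_G5 : List Net := [v_g37, v_g29, v_u]

theorem vo_G5_ok : okE 120 vo_G5 = true := (okE_cons.2 ⟨v_g37_ok, (okE_cons.2 ⟨v_g29_ok, (okE_cons.2 ⟨v_u_ok, (okE_nil 120)⟩)⟩)⟩)

noncomputable def vo_E5 : List Net := [v_g37, v_g38, v_g29, v_u]

theorem vo_E5_ok : okE 120 vo_E5 = true := (okE_cons.2 ⟨v_g37_ok, (okE_cons.2 ⟨v_g38_ok, (okE_cons.2 ⟨v_g29_ok, (okE_cons.2 ⟨v_u_ok, (okE_nil 120)⟩)⟩)⟩)⟩)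

noncomputable def vo_G4 : List Net := [v_g30, v_g37, v_g38, v_g29, v_u]

theorem vo_G4_ok : okE 120 vo_G4 = true := (okE_cons.2 ⟨v_g30_ok, (okE_cons.2 ⟨v_g37_ok, (okE_cons.2 ⟨v_g38_ok, (okE_cons.2 ⟨v_g29_ok, (okE_cons.2 ⟨v_u_ok, (okE_nil 120)⟩)⟩)⟩)⟩)⟩)

noncomputable def vo_E4 : List Net := [v_g30, v_g31, v_g32, v_g37, v_g38, v_g29, v_u]

theorem vo_E4_ok : okE 120 vo_E4 = true := (okE_cons.2 ⟨v_g30_ok, (okE_cons.2 ⟨v_g31_ok, (okE_cons.2 ⟨v_g32_ok, (okE_cons.2 ⟨v_g37_ok, (okE_cons.2 ⟨v_g38_ok, (okE_cons.2 ⟨v_g29_ok, (okE_cons.2 ⟨v_u_ok, (okE_nil 120)⟩)⟩)⟩)⟩)⟩)⟩)⟩)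

noncomputable def vo_G3 : List Net := [v_g22, v_g21, v_g26, v_g30, v_g31, v_g32, v_g37, v_g38, v_g29, v_u]

theorem vo_G3_ok : okE 120 vo_G3 = true := (okE_cons.2 ⟨v_g22_ok, (okE_cons.2 ⟨v_g21_ok, (okE_cons.2 ⟨v_g26_ok, (okE_cons.2 ⟨v_g30_ok, (okE_cons.2 ⟨v_g31_ok, (okE_cons.2 ⟨v_g32_ok, (okE_cons.2 ⟨v_g37_ok, (okE_cons.2 ⟨v_g38_ok, (okE_cons.2 ⟨v_g29_ok, (okE_cons.2 ⟨v_u_ok, (okE_nil 120)⟩)⟩)⟩)⟩)⟩)⟩)⟩)⟩)⟩)⟩)

noncomputable def vo_E3 : List Net := [v_g22, v_g21, v_g26, v_g19, v_g20, v_g23, v_g30, v_g31, v_g32, v_g37, v_g38, v_g29, v_u]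

theorem vo_E3_ok : okE 120 vo_E3 = true := (okE_cons.2 ⟨v_g22_ok, (okE_cons.2 ⟨v_g21_ok, (okE_cons.2 ⟨v_g26_ok, (okE_cons.2 ⟨v_g19_ok, (okE_cons.2 ⟨v_g20_ok, (okE_cons.2 ⟨v_g23_ok, (okE_cons.2 ⟨v_g30_ok, (okE_cons.2 ⟨v_g31_ok, (okE_cons.2 ⟨v_g32_ok, (okE_cons.2 ⟨v_g37_ok, (okE_cons.2 ⟨v_g38_ok, (okE_cons.2 ⟨v_g29_ok, (okE_cons.2 ⟨v_u_ok, (okE_nil 120)⟩)⟩)⟩)⟩)⟩)⟩)⟩)⟩)⟩)⟩)⟩)⟩)⟩)

noncomputable def vo_G2 : List Net := [v_g10, v_g16, v_g22, v_g21, v_g26, v_g19, v_g20, v_g23, v_g30, v_g31, v_g32, v_g37, v_g38, v_g29, v_u]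

theorem vo_G2_ok : okE 120 vo_G2 = true := (okE_cons.2 ⟨v_g10_ok, (okE_cons.2 ⟨v_g16_ok, (okE_cons.2 ⟨v_g22_ok, (okE_cons.2 ⟨v_g21_ok, (okE_cons.2 ⟨v_g26_ok, (okE_cons.2 ⟨v_g19_ok, (okE_cons.2 ⟨v_g20_ok, (okE_cons.2 ⟨v_g23_ok, (okE_cons.2 ⟨v_g30_ok, (okE_cons.2 ⟨v_g31_ok, (okE_cons.2 ⟨v_g32_ok, (okE_cons.2 ⟨v_g37_ok, (okE_cons.2 ⟨v_g38_ok, (okE_cons.2 ⟨v_g29_ok, (okE_cons.2 ⟨v_u_ok, (okE_nil 120)⟩)⟩)⟩)⟩)⟩)⟩)⟩)⟩)⟩)⟩)⟩)⟩)⟩)⟩)⟩)

noncomputable def vo_E2 : List Net := [v_g10, v_g16, v_g11, v_g12, v_g13, v_g22, v_g21, v_g26, v_g19, v_g20, v_g23, v_g30, v_g31, v_g32, v_g37, v_g38, v_g29, v_u]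

theorem vo_E2_ok : okE 120 vo_E2 = true := (okE_cons.2 ⟨v_g10_ok, (okE_cons.2 ⟨v_g16_ok, (okE_cons.2 ⟨v_g11_ok, (okE_cons.2 ⟨v_g12_ok, (okE_cons.2 ⟨v_g13_ok, (okE_cons.2 ⟨v_g22_ok, (okE_cons.2 ⟨v_g21_ok, (okE_cons.2 ⟨v_g26_ok, (okE_cons.2 ⟨v_g19_ok, (okE_cons.2 ⟨v_g20_ok, (okE_cons.2 ⟨v_g23_ok, (okE_cons.2 ⟨v_g30_ok, (okE_cons.2 ⟨v_g31_ok, (okE_cons.2 ⟨v_g32_ok, (okE_cons.2 ⟨v_g37_ok, (okE_cons.2 ⟨v_g38_ok, (okE_cons.2 ⟨v_g29_ok, (okE_cons.2 ⟨v_u_ok, (okE_nil 120)⟩)⟩)⟩)⟩)⟩)⟩)⟩)⟩)⟩)⟩)⟩)⟩)⟩)⟩)⟩)⟩)⟩)⟩)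

noncomputable def vo_G1 : List Net := [v_g7, v_g10, v_g16, v_g11, v_g12, v_g13, v_g22, v_g21, v_g26, v_g19, v_g20, v_g23, v_g30, v_g31, v_g32, v_g37, v_g38, v_g29, v_u]

theorem vo_G1_ok : okE 120 vo_G1 = true := (okE_cons.2 ⟨v_g7_ok, (okE_cons.2 ⟨v_g10_ok, (okE_cons.2 ⟨v_g16_ok, (okE_cons.2 ⟨v_g11_ok, (okE_cons.2 ⟨v_g12_ok, (okE_cons.2 ⟨v_g13_ok, (okE_cons.2 ⟨v_g22_ok, (okE_cons.2 ⟨v_g21_ok, (okE_cons.2 ⟨v_g26_ok, (okE_cons.2 ⟨v_g19_ok, (okE_cons.2 ⟨v_g20_ok, (okE_cons.2 ⟨v_g23_ok, (okE_cons.2 ⟨v_g30_ok, (okE_cons.2 ⟨v_g31_ok, (okE_cons.2 ⟨v_g32_ok, (okE_cons.2 ⟨v_g37_ok, (okE_cons.2 ⟨v_g38_ok, (okE_cons.2 ⟨v_g29_ok, (okE_cons.2 ⟨v_u_ok, (okE_nil 120)⟩)⟩)⟩)⟩)⟩)⟩)⟩)⟩)⟩)⟩)⟩)⟩)⟩)⟩)⟩)⟩)⟩)⟩)⟩)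

noncomputable def vo_E1 : List Net := [v_g7, v_g3, v_g4, v_g10, v_g16, v_g11, v_g12, v_g13, v_g22, v_g21, v_g26, v_g19, v_g20, v_g23, v_g30, v_g31, v_g32, v_g37, v_g38, v_g29, v_u]

theorem vo_E1_ok : okE 120 vo_E1 = true := (okE_cons.2 ⟨v_g7_ok, (okE_cons.2 ⟨v_g3_ok, (okE_cons.2 ⟨v_g4_ok, (okE_cons.2 ⟨v_g10_ok, (okE_cons.2 ⟨v_g16_ok, (okE_cons.2 ⟨v_g11_ok, (okE_cons.2 ⟨v_g12_ok, (okE_cons.2 ⟨v_g13_ok, (okE_cons.2 ⟨v_g22_ok, (okE_cons.2 ⟨v_g21_ok, (okE_cons.2 ⟨v_g26_ok, (okE_cons.2 ⟨v_g19_ok, (okE_cons.2 ⟨v_g20_ok, (okE_cons.2 ⟨v_g23_ok, (okE_cons.2 ⟨v_g30_ok, (okE_cons.2 ⟨v_g31_ok, (okE_cons.2 ⟨v_g32_ok, (okE_cons.2 ⟨v_g37_ok, (okE_cons.2 ⟨v_g38_ok, (okE_cons.2 ⟨v_g29_ok, (okE_cons.2 ⟨v_u_ok, (okE_nil 120)⟩)⟩)⟩)⟩)⟩)⟩)⟩)⟩)⟩)⟩)⟩)⟩)⟩)⟩)⟩)⟩)⟩)⟩)⟩)⟩)⟩)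

noncomputable def vo_G0 : List Net := [v_b, v_g7, v_g3, v_g4, v_g10, v_g16, v_g11, v_g12, v_g13, v_g22, v_g21, v_g26, v_g19, v_g20, v_g23, v_g30, v_g31, v_g32, v_g37, v_g38, v_g29, v_u]

theorem vo_G0_ok : okE 120 vo_G0 = true := (okE_cons.2 ⟨v_b_ok, (okE_cons.2 ⟨v_g7_ok, (okE_cons.2 ⟨v_g3_ok, (okE_cons.2 ⟨v_g4_ok, (okE_cons.2 ⟨v_g10_ok, (okE_cons.2 ⟨v_g16_ok, (okE_cons.2 ⟨v_g11_ok, (okE_cons.2 ⟨v_g12_ok, (okE_cons.2 ⟨v_g13_ok, (okE_cons.2 ⟨v_g22_ok, (okE_cons.2 ⟨v_g21_ok, (okE_cons.2 ⟨v_g26_ok, (okE_cons.2 ⟨v_g19_ok, (okE_cons.2 ⟨v_g20_ok, (okE_cons.2 ⟨v_g23_ok, (okE_cons.2 ⟨v_g30_ok, (okE_cons.2 ⟨v_g31_ok, (okE_cons.2 ⟨v_g32_ok, (okE_cons.2 ⟨v_g37_ok, (okE_cons.2 ⟨v_g38_ok, (okE_cons.2 ⟨v_g29_ok, (okE_cons.2 ⟨v_u_ok, (okE_nil 120)⟩)⟩)⟩)⟩)⟩)⟩)⟩)⟩)⟩)⟩)⟩)⟩)⟩)⟩)⟩)⟩)⟩)⟩)⟩)⟩)⟩)⟩)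

noncomputable def vo_E0 : List Net := [v_b, v_p0, v_p1, v_g7, v_g3, v_g4, v_g10, v_g16, v_g11, v_g12, v_g13, v_g22, v_g21, v_g26, v_g19, v_g20, v_g23, v_g30, v_g31, v_g32, v_g37, v_g38, v_g29, v_u]

theorem vo_E0_ok : okE 120 vo_E0 = true := (okE_cons.2 ⟨v_b_ok, (okE_cons.2 ⟨v_p0_ok, (okE_cons.2 ⟨v_p1_ok, (okE_cons.2 ⟨v_g7_ok, (okE_cons.2 ⟨v_g3_ok, (okE_cons.2 ⟨v_g4_ok, (okE_cons.2 ⟨v_g10_ok, (okE_cons.2 ⟨v_g16_ok, (okE_cons.2 ⟨v_g11_ok, (okE_cons.2 ⟨v_g12_ok, (okE_cons.2 ⟨v_g13_ok, (okE_cons.2 ⟨v_g22_ok, (okE_cons.2 ⟨v_g21_ok, (okE_cons.2 ⟨v_g26_ok, (okE_cons.2 ⟨v_g19_ok, (okE_cons.2 ⟨v_g20_ok, (okE_cons.2 ⟨v_g23_ok, (okE_cons.2 ⟨v_g30_ok, (okE_cons.2 ⟨v_g31_ok, (okE_cons.2 ⟨v_g32_ok, (okE_cons.2 ⟨v_g37_ok, (okE_cons.2 ⟨v_g38_ok, (okE_cons.2 ⟨v_g29_ok, (okE_cons.2 ⟨v_u_ok, (okE_nil 120)⟩)⟩)⟩)⟩)⟩)⟩)⟩)⟩)⟩)⟩)⟩)⟩)⟩)⟩)⟩)⟩)⟩)⟩)⟩)⟩)⟩)⟩)⟩)⟩)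

noncomputable def v_g68 : Net := (Net.cons (nat_lit 1) (nat_lit 0x400515111555440010011055001540) (Net.cons (nat_lit 2) (nat_lit 0x330212013132302022112100030220) (Net.cons (nat_lit 4) (nat_lit 0xf03060e030905090f0b0006020200) (Net.cons (nat_lit 8) (nat_lit 0xe900d00099003d006a00460048) (Net.cons (nat_lit 16) (nat_lit 0x11000041f80000842500001c00) (Net.cons (nat_lit 32) (nat_lit 0x1804ac000000009c000000) (Net.cons (nat_lit 64) (nat_lit 0xa04b15bcfe4df8) (Net.cons (nat_lit 32) (nat_lit 0x7bd405000000004539a7fc) (Net.cons (nat_lit 16) (nat_lit 0x3f0000942b0000313b000035d4) (Net.cons (nat_lit 8) (nat_lit 0x2f00c90099009000e300ee00f4) (Net.cons (nat_lit 4) (nat_lit 0xb0e01000c0f02040a0a020a00000a) (Net.cons (nat_lit 2) (nat_lit 0x221133330213012021021112110212) (Net.cons (nat_lit 1) (nat_lit 0x4404445014410001454545410410) Net.nil)))))))))))))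

theorem v_g68_ok : Net.ok 120 v_g68 = true := by decide +kernel

noncomputable def v_g69 : Net := (Net.cons (nat_lit 1) (nat_lit 0x145404155105504410111541054054) (Net.cons (nat_lit 2) (nat_lit 0x331030313313001313022001012300) (Net.cons (nat_lit 4) (nat_lit 0x1030d04030107010208040d040100) (Net.cons (nat_lit 8) (nat_lit 0x26009c007100e5004e00d60008) (Net.cons (nat_lit 16) (nat_lit 0x4000000ec0000060e400006e00) (Net.cons (nat_lit 32) (nat_lit 0x6568280000000000000000) (Net.cons (nat_lit 64) (nat_lit 0x5153b8cd3c3a14) (Net.cons (nat_lit 32) (nat_lit 0xbf8e01000000005a60b785) (Net.cons (nat_lit 16) (nat_lit 0xe50000527f0000606700007c05) (Net.cons (nat_lit 8) (nat_lit 0x7700960092000300ac005e004f) (Net.cons (nat_lit 4) (nat_lit 0xb06070b000f0e0e0703010f040400) (Net.cons (nat_lit 2) (nat_lit 0x221123110131111203020032113103) (Net.cons (nat_lit 1) (nat_lit 0x15454005540401504504510055405) Net.nil)))))))))))))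

theorem v_g69_ok : Net.ok 120 v_g69 = true := by decide +kernel

noncomputable def v_g70 : Net := (Net.cons (nat_lit 1) (nat_lit 0x15000414501044101004000000400) (Net.cons (nat_lit 2) (nat_lit 0x33000021201000020000000) (Net.cons (nat_lit 4) (nat_lit 0x101090c0904060000000009000400) (Net.cons (nat_lit 8) (nat_lit 0x9006900ac0005000000300000) (Net.cons (nat_lit 16) (nat_lit 0x1000000040000180100000000) (Net.cons (nat_lit 32) (nat_lit 0x40204000000000a0000000) (Net.cons (nat_lit 64) (nat_lit 0x502040a8040000) (Net.cons (nat_lit 32) (nat_lit 0x41a84000000000a0001801) (Net.cons (nat_lit 16) (nat_lit 0x1000001cc00001c4100000030) (Net.cons (nat_lit 8) (nat_lit 0x19006900ac0005000000300040) (Net.cons (nat_lit 4) (nat_lit 0x901090c0904060000000009000400) (Net.cons (nat_lit 2) (nat_lit 0x33100021201000020000000) (Net.cons (nat_lit 1) (nat_lit 0x15000414501044101004000000400) Net.nil)))))))))))))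

theorem v_g70_ok : Net.ok 120 v_g70 = true := by decide +kernel

noncomputable def v_g71 : Net := (Net.cons (nat_lit 1) (nat_lit 0x445400004004040000401000101400) (Net.cons (nat_lit 2) (nat_lit 0x110000211002122020100020200000) (Net.cons (nat_lit 4) (nat_lit 0xc0f0b060400030002000601080400) (Net.cons (nat_lit 8) (nat_lit 0x84008800200006004000200000) (Net.cons (nat_lit 16) (nat_lit 0x41000023040000201000004000) (Net.cons (nat_lit 32) (nat_lit 0x420100000000a0000000) (Net.cons (nat_lit 64) (nat_lit 0x245a2004004) (Net.cons (nat_lit 32) (nat_lit 0x9430b00000000a6103202) (Net.cons (nat_lit 16) (nat_lit 0xc1000025040000221000005238) (Net.cons (nat_lit 8) (nat_lit 0xb4008800200006005000300050) (Net.cons (nat_lit 4) (nat_lit 0xd0f0b060400030002000601080400) (Net.cons (nat_lit 2) (nat_lit 0x110000211202122020100020200000) (Net.cons (nat_lit 1) (nat_lit 0x545400004014040000401000101400) Net.nil)))))))))))))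

theorem v_g71_ok : Net.ok 120 v_g71 = true := by decide +kernel

noncomputable def v_g72 : Net := (Net.cons (nat_lit 1) (nat_lit 0x4400000400501001000100000000) (Net.cons (nat_lit 2) (nat_lit 0x101311000202102200130000000) (Net.cons (nat_lit 4) (nat_lit 0x50d06090402080c000404000000) (Net.cons (nat_lit 8) (nat_lit 0x85004100040050000000200000) (Net.cons (nat_lit 16) (nat_lit 0x10000001440000a54000001000) (Net.cons (nat_lit 32) (nat_lit 0x11420000000000000000) (Net.cons (nat_lit 64) (nat_lit 0x10814706041000) (Net.cons (nat_lit 32) (nat_lit 0x1010420000000068c00400) (Net.cons (nat_lit 16) (nat_lit 0x10000081c40000a54000001020) (Net.cons (nat_lit 8) (nat_lit 0xc700c100840050000000200000) (Net.cons (nat_lit 4) (nat_lit 0x8050c06080402090c000404000000) (Net.cons (nat_lit 2) (nat_lit 0x101311000202102200130000000) (Net.cons (nat_lit 1) (nat_lit 0x4400000400501001000100000000) Net.nil)))))))))))))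

theorem v_g72_ok : Net.ok 120 v_g72 = true := by decide +kernel

noncomputable def v_g73 : Net := (Net.cons (nat_lit 1) (nat_lit 0x10400010004445001005100014000) (Net.cons (nat_lit 2) (nat_lit 0x10013000022022020120021000) (Net.cons (nat_lit 4) (nat_lit 0x1050b020604070802000600080000) (Net.cons (nat_lit 8) (nat_lit 0x81009200340002000400300000) (Net.cons (nat_lit 16) (nat_lit 0x64000004000) (Net.cons (nat_lit 32) (nat_lit 0x68400000000034000000) (Net.cons (nat_lit 64) (nat_lit 0x1029c0b4145104) (Net.cons (nat_lit 32) (nat_lit 0x6d4a000000007c480302) (Net.cons (nat_lit 16) (nat_lit 0x20400000640000040a4) (Net.cons (nat_lit 8) (nat_lit 0x91009200340002000400300000) (Net.cons (nat_lit 4) (nat_lit 0x9050b020604070802000600080000) (Net.cons (nat_lit 2) (nat_lit 0x10013200022022020120021000) (Net.cons (nat_lit 1) (nat_lit 0x10400010014445001005100014000) Net.nil)))))))))))))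

theorem v_g73_ok : Net.ok 120 v_g73 = true := by decide +kernel

noncomputable def v_g74 : Net := (Net.cons (nat_lit 1) (nat_lit 0x4000100004041111001100111000) (Net.cons (nat_lit 2) (nat_lit 0x10231102032010000100220000) (Net.cons (nat_lit 4) (nat_lit 0x4090f0c00030802000600000000) (Net.cons (nat_lit 8) (nat_lit 0xc500f900200045001000000000) (Net.cons (nat_lit 16) (nat_lit 0x80000040d40000804100000000) (Net.cons (nat_lit 32) (nat_lit 0x1023c00000000010000000) (Net.cons (nat_lit 64) (nat_lit 0x12a2c432000104) (Net.cons (nat_lit 32) (nat_lit 0x9063c0000000001c601003) (Net.cons (nat_lit 16) (nat_lit 0x8000004cd50000c04100000088) (Net.cons (nat_lit 8) (nat_lit 0xc700f900200045001000000000) (Net.cons (nat_lit 4) (nat_lit 0x4090f0c00030802000600080008) (Net.cons (nat_lit 2) (nat_lit 0x10231302032010000100220000) (Net.cons (nat_lit 1) (nat_lit 0x104000100014041111001100111000) Net.nil)))))))))))))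

theorem v_g74_ok : Net.ok 120 v_g74 = true := by decide +kernel

noncomputable def v_g75 : Net := (Net.cons (nat_lit 1) (nat_lit 0x400400000000545100400100110000) (Net.cons (nat_lit 2) (nat_lit 0x10000002000021000100322220000) (Net.cons (nat_lit 4) (nat_lit 0x404000b00040e0200000401000000) (Net.cons (nat_lit 8) (nat_lit 0x48008200240005004000700000) (Net.cons (nat_lit 16) (nat_lit 0x40000000040000480300000000) (Net.cons (nat_lit 32) (nat_lit 0x4021080000000000000000) (Net.cons (nat_lit 64) (nat_lit 0x294889440000) (Net.cons (nat_lit 32) (nat_lit 0xc025080000000056021001) (Net.cons (nat_lit 16) (nat_lit 0x400000000600005803000010b8) (Net.cons (nat_lit 8) (nat_lit 0x48008200240005004000700000) (Net.cons (nat_lit 4) (nat_lit 0x404000b00040e0200000401080008) (Net.cons (nat_lit 2) (nat_lit 0x10000002000021000100322220000) (Net.cons (nat_lit 1) (nat_lit 0x400400000000545100400100110000) Net.nil)))))))))))))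

theorem v_g75_ok : Net.ok 120 v_g75 = true := by decide +kernel

noncomputable def vt_c1_K : List Net := [v_g68, v_g69, v_g70, v_g71, v_g72, v_g73, v_g74, v_g75]

theorem vt_c1_K_ok : okE 120 vt_c1_K = true := (okE_cons.2 ⟨v_g68_ok, (okE_cons.2 ⟨v_g69_ok, (okE_cons.2 ⟨v_g70_ok, (okE_cons.2 ⟨v_g71_ok, (okE_cons.2 ⟨v_g72_ok, (okE_cons.2 ⟨v_g73_ok, (okE_cons.2 ⟨v_g74_ok, (okE_cons.2 ⟨v_g75_ok, (okE_nil 120)⟩)⟩)⟩)⟩)⟩)⟩)⟩)⟩)

noncomputable def v_V77 : List Net := [v_g7, v_g3, v_g4, v_g10, v_g16, v_g11, v_g12, v_g13, v_g22, v_g21, v_g26, v_g19, v_g20, v_g23, v_g30, v_g31, v_g32, v_g37, v_g38, v_g29, v_u]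

theorem v_V77_ok : okE 120 v_V77 = true := (okE_cons.2 ⟨v_g7_ok, (okE_cons.2 ⟨v_g3_ok, (okE_cons.2 ⟨v_g4_ok, (okE_cons.2 ⟨v_g10_ok, (okE_cons.2 ⟨v_g16_ok, (okE_cons.2 ⟨v_g11_ok, (okE_cons.2 ⟨v_g12_ok, (okE_cons.2 ⟨v_g13_ok, (okE_cons.2 ⟨v_g22_ok, (okE_cons.2 ⟨v_g21_ok, (okE_cons.2 ⟨v_g26_ok, (okE_cons.2 ⟨v_g19_ok, (okE_cons.2 ⟨v_g20_ok, (okE_cons.2 ⟨v_g23_ok, (okE_cons.2 ⟨v_g30_ok, (okE_cons.2 ⟨v_g31_ok, (okE_cons.2 ⟨v_g32_ok, (okE_cons.2 ⟨v_g37_ok, (okE_cons.2 ⟨v_g38_ok, (okE_cons.2 ⟨v_g29_ok, (okE_cons.2 ⟨v_u_ok, (okE_nil 120)⟩)⟩)⟩)⟩)⟩)⟩)⟩)⟩)⟩)⟩)⟩)⟩)⟩)⟩)⟩)⟩)⟩)⟩)⟩)⟩)⟩)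

noncomputable def v_V78 : List Net := [v_g10, v_g16, v_g11, v_g12, v_g13, v_g22, v_g21, v_g26, v_g19, v_g20, v_g23, v_g30, v_g31, v_g32, v_g37, v_g38, v_g29, v_u]

theorem v_V78_ok : okE 120 v_V78 = true := (okE_cons.2 ⟨v_g10_ok, (okE_cons.2 ⟨v_g16_ok, (okE_cons.2 ⟨v_g11_ok, (okE_cons.2 ⟨v_g12_ok, (okE_cons.2 ⟨v_g13_ok, (okE_cons.2 ⟨v_g22_ok, (okE_cons.2 ⟨v_g21_ok, (okE_cons.2 ⟨v_g26_ok, (okE_cons.2 ⟨v_g19_ok, (okE_cons.2 ⟨v_g20_ok, (okE_cons.2 ⟨v_g23_ok, (okE_cons.2 ⟨v_g30_ok, (okE_cons.2 ⟨v_g31_ok, (okE_cons.2 ⟨v_g32_ok, (okE_cons.2 ⟨v_g37_ok, (okE_cons.2 ⟨v_g38_ok, (okE_cons.2 ⟨v_g29_ok, (okE_cons.2 ⟨v_u_ok, (okE_nil 120)⟩)⟩)⟩)⟩)⟩)⟩)⟩)⟩)⟩)⟩)⟩)⟩)⟩)⟩)⟩)⟩)⟩)⟩)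

noncomputable def v_g79 : Net := (Net.cons (nat_lit 1) (nat_lit 0x54400000404000001000000010400) (Net.cons (nat_lit 2) (nat_lit 0x10211102000003200000010000) (Net.cons (nat_lit 4) (nat_lit 0x10401070400000008000001000400) (Net.cons (nat_lit 8) (nat_lit 0x89008800000004002000140000) (Net.cons (nat_lit 16) (nat_lit 0x40000000040000002800004000) (Net.cons (nat_lit 32) (nat_lit 0x42000000000040000000) (Net.cons (nat_lit 64) (nat_lit 0x10030043004104) (Net.cons (nat_lit 32) (nat_lit 0x4043a00000000040a82100) (Net.cons (nat_lit 16) (nat_lit 0x48000088040000042800004410) (Net.cons (nat_lit 8) (nat_lit 0x89008800000004002000140040) (Net.cons (nat_lit 4) (nat_lit 0x10401070c08000008000001000400) (Net.cons (nat_lit 2) (nat_lit 0x10211102000003200000010000) (Net.cons (nat_lit 1) (nat_lit 0x154400000404000001000000010400) Net.nil)))))))))))))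

theorem v_g79_ok : Net.ok 120 v_g79 = true := by decide +kernel

noncomputable def v_g80 : Net := (Net.cons (nat_lit 1) (nat_lit 0x4010040500554011001100110400) (Net.cons (nat_lit 2) (nat_lit 0x2000003010031011000322230000) (Net.cons (nat_lit 4) (nat_lit 0x60503080409090000000600020400) (Net.cons (nat_lit 8) (nat_lit 0x8500a400890044002800200004) (Net.cons (nat_lit 16) (nat_lit 0x82000004110000304000000000) (Net.cons (nat_lit 32) (nat_lit 0x1008000000000000000000) (Net.cons (nat_lit 64) (nat_lit 0x30080588018400) (Net.cons (nat_lit 32) (nat_lit 0x9609000000000020421002) (Net.cons (nat_lit 16) (nat_lit 0x820000043900007448000000ac) (Net.cons (nat_lit 8) (nat_lit 0x8500a400890044002800200044) (Net.cons (nat_lit 4) (nat_lit 0xe05030804090900000006000a0408) (Net.cons (nat_lit 2) (nat_lit 0x2000003110031011000322230000) (Net.cons (nat_lit 1) (nat_lit 0x104010040500554011001100110400) Net.nil)))))))))))))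

theorem v_g80_ok : Net.ok 120 v_g80 = true := by decide +kernel

noncomputable def v_g81 : Net := (Net.cons (nat_lit 1) (nat_lit 0x4400100004005011001000000400) (Net.cons (nat_lit 2) (nat_lit 0x1000220000003012021020000000) (Net.cons (nat_lit 4) (nat_lit 0x304010e0000000808000200000400) (Net.cons (nat_lit 8) (nat_lit 0x4009000000046001000200000) (Net.cons (nat_lit 16) (nat_lit 0x11000000800000000000005000) (Net.cons (nat_lit 32) (nat_lit 0x48800000000000000000) (Net.cons (nat_lit 64) (nat_lit 0x20189402004000) (Net.cons (nat_lit 32) (nat_lit 0x14880000000001c800002) (Net.cons (nat_lit 16) (nat_lit 0x11000004900000420000005020) (Net.cons (nat_lit 8) (nat_lit 0x6009000000046001000200040) (Net.cons (nat_lit 4) (nat_lit 0xb04010e0000000808000200000400) (Net.cons (nat_lit 2) (nat_lit 0x1000220200003012021020000000) (Net.cons (nat_lit 1) (nat_lit 0x104400100004005011001000000400) Net.nil)))))))))))))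

theorem v_g81_ok : Net.ok 120 v_g81 = true := by decide +kernel

noncomputable def v_V82 : List Net := [v_g79, v_g80, v_g19, v_g37, v_g81]

theorem v_V82_ok : okE 120 v_V82 = true := (okE_cons.2 ⟨v_g79_ok, (okE_cons.2 ⟨v_g80_ok, (okE_cons.2 ⟨v_g19_ok, (okE_cons.2 ⟨v_g37_ok, (okE_cons.2 ⟨v_g81_ok, (okE_nil 120)⟩)⟩)⟩)⟩)⟩)

noncomputable def v_V84 : List Net := [v_g80, v_g19, v_g37, v_g81]

theorem v_V84_ok : okE 120 v_V84 = true := (okE_cons.2 ⟨v_g80_ok, (okE_cons.2 ⟨v_g19_ok, (okE_cons.2 ⟨v_g37_ok, (okE_cons.2 ⟨v_g81_ok, (okE_nil 120)⟩)⟩)⟩)⟩)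

noncomputable def v_V85 : List Net := [v_g19, v_g37, v_g81]

theorem v_V85_ok : okE 120 v_V85 = true := (okE_cons.2 ⟨v_g19_ok, (okE_cons.2 ⟨v_g37_ok, (okE_cons.2 ⟨v_g81_ok, (okE_nil 120)⟩)⟩)⟩)

noncomputable def v_V86 : List Net := [v_g37, v_g81]

theorem v_V86_ok : okE 120 v_V86 = true := (okE_cons.2 ⟨v_g37_ok, (okE_cons.2 ⟨v_g81_ok, (okE_nil 120)⟩)⟩)

noncomputable def v_V87 : List Net := [v_g81]

theorem v_V87_ok : okE 120 v_V87 = true := (okE_cons.2 ⟨v_g81_ok, (okE_nil 120)⟩)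

noncomputable def v_V88 : List Net := []

theorem v_V88_ok : okE 120 v_V88 = true := (okE_nil 120)

noncomputable def vt_c1_cnt_EG : List Net := [v_b, v_p0, v_p1, v_g7, v_g3, v_g4, v_g10, v_g16, v_g11, v_g12, v_g13, v_g22, v_g21, v_g26, v_g19, v_g20, v_g23, v_g30, v_g31, v_g32, v_g37, v_g38, v_g29, v_u, v_g81, v_g80, v_g79]

theorem vt_c1_cnt_EG_ok : okE 120 vt_c1_cnt_EG = true := (okE_cons.2 ⟨v_b_ok, (okE_cons.2 ⟨v_p0_ok, (okE_cons.2 ⟨v_p1_ok, (okE_cons.2 ⟨v_g7_ok, (okE_cons.2 ⟨v_g3_ok, (okE_cons.2 ⟨v_g4_ok, (okE_cons.2 ⟨v_g10_ok, (okE_cons.2 ⟨v_g16_ok, (okE_cons.2 ⟨v_g11_ok, (okE_cons.2 ⟨v_g12_ok, (okE_cons.2 ⟨v_g13_ok, (okE_cons.2 ⟨v_g22_ok, (okE_cons.2 ⟨v_g21_ok, (okE_cons.2 ⟨v_g26_ok, (okE_cons.2 ⟨v_g19_ok, (okE_cons.2 ⟨v_g20_ok, (okE_cons.2 ⟨v_g23_ok, (okE_cons.2 ⟨v_g30_ok, (okE_cons.2 ⟨v_g31_ok, (okE_cons.2 ⟨v_g32_ok, (okE_cons.2 ⟨v_g37_ok, (okE_cons.2 ⟨v_g38_ok, (okE_cons.2 ⟨v_g29_ok,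 (okE_cons.2 ⟨v_u_ok, (okE_cons.2 ⟨v_g81_ok, (okE_cons.2 ⟨v_g80_ok, (okE_cons.2 ⟨v_g79_ok, (okE_nil 120)⟩)⟩)⟩)⟩)⟩)⟩)⟩)⟩)⟩)⟩)⟩)⟩)⟩)⟩)⟩)⟩)⟩)⟩)⟩)⟩)⟩)⟩)⟩)⟩)⟩)⟩)⟩)

noncomputable def v_g89 : Net := (Net.cons (nat_lit 1) (nat_lit 0x100554504440144455454051141100) (Net.cons (nat_lit 2) (nat_lit 0x132302103330122120011010020210) (Net.cons (nat_lit 4) (nat_lit 0xc0d0d0a04090c080102020e090200) (Net.cons (nat_lit 8) (nat_lit 0x1c00fd005c00790078002a00b0) (Net.cons (nat_lit 16) (nat_lit 0xb90000b046000044c000000e00) (Net.cons (nat_lit 32) (nat_lit 0x1830840000000039000000) (Net.cons (nat_lit 64) (nat_lit 0x7dce16bd2475d3) (Net.cons (nat_lit 32) (nat_lit 0x15bcf40000000066c3344b) (Net.cons (nat_lit 16) (nat_lit 0x180000effa000083a20000de3f) (Net.cons (nat_lit 8) (nat_lit 0xa200a0005800ec0026007800c8) (Net.cons (nat_lit 4) (nat_lit 0xd010a06060004050300070906020e) (Net.cons (nat_lit 2) (nat_lit 0x31333010122000323111033023222)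 (Net.cons (nat_lit 1) (nat_lit 0x11510011555401404040055411501) Net.nil)))))))))))))

theorem v_g89_ok : Net.ok 120 v_g89 = true := by decide +kernel

noncomputable def v_g90 : Net := (Net.cons (nat_lit 1) (nat_lit 0x44441044044100414414411404510) (Net.cons (nat_lit 2) (nat_lit 0x110220201001023021033010233010) (Net.cons (nat_lit 4) (nat_lit 0x709060f0a010207010e0403040600) (Net.cons (nat_lit 8) (nat_lit 0x31009700680099007b00190010) (Net.cons (nat_lit 16) (nat_lit 0x3c000053380000945000008500) (Net.cons (nat_lit 32) (nat_lit 0x48283b0000000001000000) (Net.cons (nat_lit 64) (nat_lit 0xe3b52c05995a53) (Net.cons (nat_lit 32) (nat_lit 0x930963000000000a95b6a0) (Net.cons (nat_lit 16) (nat_lit 0xb70000cf920000e38000006c03) (Net.cons (nat_lit 8) (nat_lit 0x2700b10093004000cd00f20067) (Net.cons (nat_lit 4) (nat_lit 0xa0c0f00010c0c080800040c0c0d06) (Net.cons (nat_lit 2) (nat_lit 0x321110313303220001021122033001)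 (Net.cons (nat_lit 1) (nat_lit 0x41504155505055044511111450400) Net.nil)))))))))))))

theorem v_g90_ok : Net.ok 120 v_g90 = true := by decide +kernel

noncomputable def v_g91 : Net := (Net.cons (nat_lit 1) (nat_lit 0x440400000004500011001100005400) (Net.cons (nat_lit 2) (nat_lit 0x30230100212013220100000000) (Net.cons (nat_lit 4) (nat_lit 0x302030d0400080008000605000400) (Net.cons (nat_lit 8) (nat_lit 0x4900ec00240046003000100000) (Net.cons (nat_lit 16) (nat_lit 0x74000064c00000006800000400) (Net.cons (nat_lit 32) (nat_lit 0x2dc00000000000000000) (Net.cons (nat_lit 64) (nat_lit 0x428f025000500) (Net.cons (nat_lit 32) (nat_lit 0x406dc20000000020e83002) (Net.cons (nat_lit 16) (nat_lit 0x7c000044cc0000666800002410) (Net.cons (nat_lit 8) (nat_lit 0x6900ec00240046003000100040) (Net.cons (nat_lit 4) (nat_lit 0x702030d0400080008000605000400) (Net.cons (nat_lit 2) (nat_lit 0x30230100212013220100000000)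 (Net.cons (nat_lit 1) (nat_lit 0x440400000004500011001100005400) Net.nil)))))))))))))

theorem v_g91_ok : Net.ok 120 v_g91 = true := by decide +kernel

noncomputable def v_g92 : Net := (Net.cons (nat_lit 1) (nat_lit 0x10050000004111100000000010400) (Net.cons (nat_lit 2) (nat_lit 0x212211012320200200000010000) (Net.cons (nat_lit 4) (nat_lit 0x101010e0c01080000010000000400) (Net.cons (nat_lit 8) (nat_lit 0x3003000810000002000140000) (Net.cons (nat_lit 16) (nat_lit 0x20500000a2000000200) (Net.cons (nat_lit 32) (nat_lit 0x10000000000052000000) (Net.cons (nat_lit 64) (nat_lit 0x10120072118204) (Net.cons (nat_lit 32) (nat_lit 0x11400000000052200800) (Net.cons (nat_lit 16) (nat_lit 0xa0d00000a2000000600) (Net.cons (nat_lit 8) (nat_lit 0x1b003800890000002000140040) (Net.cons (nat_lit 4) (nat_lit 0x901010e0c01080000010000000400) (Net.cons (nat_lit 2) (nat_lit 0x212211212320200200000010000) (Net.cons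 (nat_lit 1) (nat_lit 0x10050000004111100000000010400) Net.nil)))))))))))))

theorem v_g92_ok : Net.ok 120 v_g92 = true := by decide +kernel

noncomputable def v_g93 : Net := (Net.cons (nat_lit 1) (nat_lit 0x44400040504000101001000011400) (Net.cons (nat_lit 2) (nat_lit 0x3020213002300222200220020000) (Net.cons (nat_lit 4) (nat_lit 0x80c0206040a0100020202000a0400) (Net.cons (nat_lit 8) (nat_lit 0x88008a00a00007003400220000) (Net.cons (nat_lit 16) (nat_lit 0xc000000050000280100004000) (Net.cons (nat_lit 32) (nat_lit 0x141200000000040000000) (Net.cons (nat_lit 64) (nat_lit 0x50520c0024004) (Net.cons (nat_lit 32) (nat_lit 0x9e1220000000066081a03) (Net.cons (nat_lit 16) (nat_lit 0x8c00000c0500002a01000042a0) (Net.cons (nat_lit 8) (nat_lit 0x88008a00a00007003400220040) (Net.cons (nat_lit 4) (nat_lit 0x80c0206040a0100020202000a0400) (Net.cons (nat_lit 2) (nat_lit 0x3020213102300222200220020000) (Net.cons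 (nat_lit 1) (nat_lit 0x144400040514000101001000011400) Net.nil)))))))))))))

theorem v_g93_ok : Net.ok 120 v_g93 = true := by decide +kernel

noncomputable def v_g94 : Net := (Net.cons (nat_lit 1) (nat_lit 0x1000000004440111001100000000) (Net.cons (nat_lit 2) (nat_lit 0x20012000210013220120000000) (Net.cons (nat_lit 4) (nat_lit 0x10002010200090000000601000000) (Net.cons (nat_lit 8) (nat_lit 0x48008200800047001000300000) (Net.cons (nat_lit 16) (nat_lit 0x14000018100000284100000000) (Net.cons (nat_lit 32) (nat_lit 0x1080200000000008000000) (Net.cons (nat_lit 64) (nat_lit 0x14883089000000) (Net.cons (nat_lit 32) (nat_lit 0x1090620000000028400003) (Net.cons (nat_lit 16) (nat_lit 0x1400001a1000006e4100000030) (Net.cons (nat_lit 8) (nat_lit 0x48008200800047001000300000) (Net.cons (nat_lit 4) (nat_lit 0x90002010200090000000601000000) (Net.cons (nat_lit 2) (nat_lit 0x20012000210013220120000000) (Net.cons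 (nat_lit 1) (nat_lit 0x101000000004440111001100000000) Net.nil)))))))))))))

theorem v_g94_ok : Net.ok 120 v_g94 = true := by decide +kernel

noncomputable def v_g95 : Net := (Net.cons (nat_lit 1) (nat_lit 0x40100404414010001100010000) (Net.cons (nat_lit 2) (nat_lit 0x30221002221010000100010000) (Net.cons (nat_lit 4) (nat_lit 0x100090e0400080000000200040000) (Net.cons (nat_lit 8) (nat_lit 0x4003800800048009000400000) (Net.cons (nat_lit 16) (nat_lit 0x10000000040000940400000000) (Net.cons (nat_lit 32) (nat_lit 0x1200000000080000000) (Net.cons (nat_lit 64) (nat_lit 0x530a2008004) (Net.cons (nat_lit 32) (nat_lit 0x1290000000080041002) (Net.cons (nat_lit 16) (nat_lit 0x1000000c940000dc0400004000) (Net.cons (nat_lit 8) (nat_lit 0x6003800800048009000400000) (Net.cons (nat_lit 4) (nat_lit 0x900090e0c08080000000200040000) (Net.cons (nat_lit 2) (nat_lit 0x30221002221010000100010000) (Net.cons (nat_lit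 1) (nat_lit 0x100040100404414010001100010000) Net.nil)))))))))))))

theorem v_g95_ok : Net.ok 120 v_g95 = true := by decide +kernel

noncomputable def v_g96 : Net := (Net.cons (nat_lit 1) (nat_lit 0x410440110004450001005100011400) (Net.cons (nat_lit 2) (nat_lit 0x10212002022020000320220000) (Net.cons (nat_lit 4) (nat_lit 0x905030200000e02080806010a0600) (Net.cons (nat_lit 8) (nat_lit 0x85009c008900a4003800300000) (Net.cons (nat_lit 16) (nat_lit 0x4000002040000004800004000) (Net.cons (nat_lit 32) (nat_lit 0x4a240000000000000000) (Net.cons (nat_lit 64) (nat_lit 0x100aa58200c000) (Net.cons (nat_lit 32) (nat_lit 0xc4b2600000000264a3202) (Net.cons (nat_lit 16) (nat_lit 0x4000000140000a248000062b0) (Net.cons (nat_lit 8) (nat_lit 0x95009c008900a4003800300040) (Net.cons (nat_lit 4) (nat_lit 0x905030200000e02080806010a0600) (Net.cons (nat_lit 2) (nat_lit 0x10212202022020000320220000) (Net.cons (nat_lit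 1) (nat_lit 0x410440110004450001005100011400) Net.nil)))))))))))))

theorem v_g96_ok : Net.ok 120 v_g96 = true := by decide +kernel

noncomputable def vt_c2_K : List Net := [v_g89, v_g90, v_g91, v_g92, v_g93, v_g94, v_g95, v_g96]

theorem vt_c2_K_ok : okE 120 vt_c2_K = true := (okE_cons.2 ⟨v_g89_ok, (okE_cons.2 ⟨v_g90_ok, (okE_cons.2 ⟨v_g91_ok, (okE_cons.2 ⟨v_g92_ok, (okE_cons.2 ⟨v_g93_ok, (okE_cons.2 ⟨v_g94_ok, (okE_cons.2 ⟨v_g95_ok, (okE_cons.2 ⟨v_g96_ok, (okE_nil 120)⟩)⟩)⟩)⟩)⟩)⟩)⟩)⟩)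

noncomputable def v_V98 : List Net := [v_g22, v_g21, v_g26, v_g19, v_g20, v_g23, v_g30, v_g31, v_g32, v_g37, v_g38, v_g29, v_u]

theorem v_V98_ok : okE 120 v_V98 = true := (okE_cons.2 ⟨v_g22_ok, (okE_cons.2 ⟨v_g21_ok, (okE_cons.2 ⟨v_g26_ok, (okE_cons.2 ⟨v_g19_ok, (okE_cons.2 ⟨v_g20_ok, (okE_cons.2 ⟨v_g23_ok, (okE_cons.2 ⟨v_g30_ok, (okE_cons.2 ⟨v_g31_ok, (okE_cons.2 ⟨v_g32_ok, (okE_cons.2 ⟨v_g37_ok, (okE_cons.2 ⟨v_g38_ok, (okE_cons.2 ⟨v_g29_ok, (okE_cons.2 ⟨v_u_ok, (okE_nil 120)⟩)⟩)⟩)⟩)⟩)⟩)⟩)⟩)⟩)⟩)⟩)⟩)⟩)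

noncomputable def v_V99 : List Net := [v_g30, v_g31, v_g32, v_g37, v_g38, v_g29, v_u]

theorem v_V99_ok : okE 120 v_V99 = true := (okE_cons.2 ⟨v_g30_ok, (okE_cons.2 ⟨v_g31_ok, (okE_cons.2 ⟨v_g32_ok, (okE_cons.2 ⟨v_g37_ok, (okE_cons.2 ⟨v_g38_ok, (okE_cons.2 ⟨v_g29_ok, (okE_cons.2 ⟨v_u_ok, (okE_nil 120)⟩)⟩)⟩)⟩)⟩)⟩)⟩)

noncomputable def v_g100 : Net := (Net.cons (nat_lit 1) (nat_lit 0x4000544000010011000100110000) (Net.cons (nat_lit 2) (nat_lit 0x21000022000000300220000) (Net.cons (nat_lit 4) (nat_lit 0x10b03080400080002000400000000) (Net.cons (nat_lit 8) (nat_lit 0xd00b100800008001000000000) (Net.cons (nat_lit 16) (nat_lit 0x12000003840000004200000000) (Net.cons (nat_lit 32) (nat_lit 0x800000000080000000) (Net.cons (nat_lit 64) (nat_lit 0x93a0008004) (Net.cons (nat_lit 32) (nat_lit 0x3880000000080620000) (Net.cons (nat_lit 16) (nat_lit 0x1600000b940000084200000088) (Net.cons (nat_lit 8) (nat_lit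 0x2d00b100800008001000000000) (Net.cons (nat_lit 4) (nat_lit 0x90b03080400080002000400080008) (Net.cons (nat_lit 2) (nat_lit 0x21000022000000300220000) (Net.cons (nat_lit 1) (nat_lit 0x104000544010010011000100110000) Net.nil)))))))))))))

theorem v_g100_ok : Net.ok 120 v_g100 = true := by decide +kernel

noncomputable def v_g101 : Net := (Net.cons (nat_lit 1) (nat_lit 0x445400000400040010000100100000) (Net.cons (nat_lit 2) (nat_lit 0x220203231000020330000120200000) (Net.cons (nat_lit 4) (nat_lit 0x80c0a0f0d04020202000401080000) (Net.cons (nat_lit 8) (nat_lit 0x2700e00002004a002000340000) (Net.cons (nat_lit 16) (nat_lit 0x10000014c40000274000006000) (Net.cons (nat_lit 32) (nat_lit 0x40e00000000000000000) (Net.cons (nat_lit 64) (nat_lit 0x8021e407004004) (Net.cons (nat_lit 32) (nat_lit 0x3052e80000000020440600) (Net.cons (nat_lit 16) (nat_lit 0x12000094c400006f4000006038) (Net.cons (nat_lit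 8) (nat_lit 0xa700e00002004a002000340000) (Net.cons (nat_lit 4) (nat_lit 0xc0c0a0f0d04020202000401080000) (Net.cons (nat_lit 2) (nat_lit 0x220203231000020330000120200000) (Net.cons (nat_lit 1) (nat_lit 0x445400000410040010000100100000) Net.nil)))))))))))))

theorem v_g101_ok : Net.ok 120 v_g101 = true := by decide +kernel

noncomputable def v_V102 : List Net := [v_g100, v_g29, v_g101]

theorem v_V102_ok : okE 120 v_V102 = true := (okE_cons.2 ⟨v_g100_ok, (okE_cons.2 ⟨v_g29_ok, (okE_cons.2 ⟨v_g101_ok, (okE_nil 120)⟩)⟩)⟩)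

noncomputable def v_V104 : List Net := [v_g29, v_g101]

theorem v_V104_ok : okE 120 v_V104 = true := (okE_cons.2 ⟨v_g29_ok, (okE_cons.2 ⟨v_g101_ok, (okE_nil 120)⟩)⟩)

noncomputable def v_V105 : List Net := [v_g101]

theorem v_V105_ok : okE 120 v_V105 = true := (okE_cons.2 ⟨v_g101_ok, (okE_nil 120)⟩)

noncomputable def v_V106 : List Net := []

theorem v_V106_ok : okE 120 v_V106 = true := (okE_nil 120)

noncomputable def vt_c2_cnt_EG : List Net := [v_b, v_p0, v_p1, v_g7, v_g3, v_g4, v_g10, v_g16, v_g11, v_g12, v_g13, v_g22, v_g21, v_g26, v_g19, v_g20, v_g23, v_g30, v_g31, v_g32, v_g37, v_g38, v_g29, v_u, v_g101, v_g100]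

theorem vt_c2_cnt_EG_ok : okE 120 vt_c2_cnt_EG = true := (okE_cons.2 ⟨v_b_ok, (okE_cons.2 ⟨v_p0_ok, (okE_cons.2 ⟨v_p1_ok, (okE_cons.2 ⟨v_g7_ok, (okE_cons.2 ⟨v_g3_ok, (okE_cons.2 ⟨v_g4_ok, (okE_cons.2 ⟨v_g10_ok, (okE_cons.2 ⟨v_g16_ok, (okE_cons.2 ⟨v_g11_ok, (okE_cons.2 ⟨v_g12_ok, (okE_cons.2 ⟨v_g13_ok, (okE_cons.2 ⟨v_g22_ok, (okE_cons.2 ⟨v_g21_ok, (okE_cons.2 ⟨v_g26_ok, (okE_cons.2 ⟨v_g19_ok, (okE_cons.2 ⟨v_g20_ok, (okE_cons.2 ⟨v_g23_ok, (okE_cons.2 ⟨v_g30_ok, (okE_cons.2 ⟨v_g31_ok, (okE_cons.2 ⟨v_g32_ok, (okE_cons.2 ⟨v_g37_ok, (okE_cons.2 ⟨v_g38_ok, (okE_cons.2 ⟨v_g29_ok, (okE_cons.2 ⟨v_u_ok, (okE_cons.2 ⟨v_g101_ok, (okE_cons.2 ⟨v_g100_ok, (okE_nil 120)⟩)⟩)⟩)⟩)⟩)⟩)⟩)⟩)⟩)⟩)⟩)⟩)⟩)⟩)⟩)⟩)⟩)⟩)⟩)⟩)⟩)⟩)⟩)⟩)⟩)⟩)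

noncomputable def v_g107 : Net := (Net.cons (nat_lit 1) (nat_lit 0x500415440505014155401440015110) (Net.cons (nat_lit 2) (nat_lit 0x130022130002013012222333020200) (Net.cons (nat_lit 4) (nat_lit 0x30c03070207030c0a040e0a0c00) (Net.cons (nat_lit 8) (nat_lit 0xb70072009a003800e4000f008d) (Net.cons (nat_lit 16) (nat_lit 0xda0000a53a0000540b00000d00) (Net.cons (nat_lit 32) (nat_lit 0x8104200000000c1000000) (Net.cons (nat_lit 64) (nat_lit 0xea0578c3c71c26) (Net.cons (nat_lit 32) (nat_lit 0xa729f900000000a4d7b23a) (Net.cons (nat_lit 16) (nat_lit 0xfd000060d70000f00b0000f9fe) (Net.cons (nat_lit 8) (nat_lit 0x23009600070054008d00020040) (Net.cons (nat_lit 4) (nat_lit 0x608090a040b040c040b0802020805) (Net.cons (nat_lit 2) (nat_lit 0x111310100323133011320131122220) (Net.cons (nat_lit 1) (nat_lit 0x114415104104015515045550505110) Net.nil)))))))))))))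

theorem v_g107_ok : Net.ok 120 v_g107 = true := by decide +kernel

noncomputable def v_g108 : Net := (Net.cons (nat_lit 1) (nat_lit 0x110150440501010101100141040010) (Net.cons (nat_lit 2) (nat_lit 0x313212003131233200332211032200) (Net.cons (nat_lit 4) (nat_lit 0x90205050e070c0a010a0a050b0000) (Net.cons (nat_lit 8) (nat_lit 0xf900f300c70048004000b000b0) (Net.cons (nat_lit 16) (nat_lit 0xb000004640000812800003200) (Net.cons (nat_lit 32) (nat_lit 0x2a9040000000048000000) (Net.cons (nat_lit 64) (nat_lit 0xa6c8cdcb9c3188) (Net.cons (nat_lit 32) (nat_lit 0x9fff500000000b501d828) (Net.cons (nat_lit 16) (nat_lit 0x710000fd03000015c300003ccc) (Net.cons (nat_lit 8) (nat_lit 0x4f00d400d0000800c700790014) (Net.cons (nat_lit 4) (nat_lit 0xc0f0a0303040006030f040e0f040c) (Net.cons (nat_lit 2) (nat_lit 0x31200312330102000200111322220) (Net.cons (nat_lit 1) (nat_lit 0x14401054444550100540451540410) Net.nil)))))))))))))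

theorem v_g108_ok : Net.ok 120 v_g108 = true := by decide +kernel

noncomputable def v_g109 : Net := (Net.cons (nat_lit 1) (nat_lit 0x451400000004055101000400000000) (Net.cons (nat_lit 2) (nat_lit 0x203000221000122000000020201000) (Net.cons (nat_lit 4) (nat_lit 0x90c090b04040b0802000001000000) (Net.cons (nat_lit 8) (nat_lit 0x80003000a40025008800300000) (Net.cons (nat_lit 16) (nat_lit 0x4010000808100004000) (Net.cons (nat_lit 32) (nat_lit 0x161000000000090000000) (Net.cons (nat_lit 64) (nat_lit 0x11a9009304c004) (Net.cons (nat_lit 32) (nat_lit 0x21650100000000fc800001) (Net.cons (nat_lit 16) (nat_lit 0x80000044050000808900004034) (Net.cons (nat_lit 8) (nat_lit 0x82003000a40025008800300000) (Net.cons (nat_lit 4) (nat_lit 0xd0c090b04040b0802000001000000) (Net.cons (nat_lit 2) (nat_lit 0x203000221000122000000020201000) (Net.cons (nat_lit 1) (nat_lit 0x551400000014055101000400000000) Net.nil)))))))))))))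

theorem v_g109_ok : Net.ok 120 v_g109 = true := by decide +kernel

noncomputable def v_g110 : Net := (Net.cons (nat_lit 1) (nat_lit 0x14000040504145101000000000400) (Net.cons (nat_lit 2) (nat_lit 0x1030123001101200210032000000) (Net.cons (nat_lit 4) (nat_lit 0x50f03090408090200000000000000) (Net.cons (nat_lit 8) (nat_lit 0xd00ac00800005000800080004) (Net.cons (nat_lit 16) (nat_lit 0x2810000142100000000) (Net.cons (nat_lit 32) (nat_lit 0x181800000000004000000) (Net.cons (nat_lit 64) (nat_lit 0x118084c4080500) (Net.cons (nat_lit 32) (nat_lit 0x5838a000000000a203c01) (Net.cons (nat_lit 16) (nat_lit 0xfa10000192900002c20) (Net.cons (nat_lit 8) (nat_lit 0x1d00ac00800005002800280024) (Net.cons (nat_lit 4) (nat_lit 0x50f03090408090200000000000000) (Net.cons (nat_lit 2) (nat_lit 0x1030123101101200210032000000) (Net.cons (nat_lit 1) (nat_lit 0x14000040514145101000000000400) Net.nil)))))))))))))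

theorem v_g110_ok : Net.ok 120 v_g110 = true := by decide +kernel

noncomputable def v_g111 : Net := (Net.cons (nat_lit 1) (nat_lit 0x400054004044111004000010400) (Net.cons (nat_lit 2) (nat_lit 0x101020033013011232210220030000) (Net.cons (nat_lit 4) (nat_lit 0x106020c04010100020000000c0000) (Net.cons (nat_lit 8) (nat_lit 0xc000e1000500c7003400400000) (Net.cons (nat_lit 16) (nat_lit 0x510000025500001a2700000000) (Net.cons (nat_lit 32) (nat_lit 0xd400400000000022000000) (Net.cons (nat_lit 64) (nat_lit 0x9404d4a2410004) (Net.cons (nat_lit 32) (nat_lit 0xd4024300000000262a3a01) (Net.cons (nat_lit 16) (nat_lit 0x510000025500005b2700004080) (Net.cons (nat_lit 8) (nat_lit 0xe000e1000500c7003400400000) (Net.cons (nat_lit 4) (nat_lit 0x106020c04010100020000000c0000) (Net.cons (nat_lit 2) (nat_lit 0x101020033013011232210220030000) (Net.cons (nat_lit 1) (nat_lit 0x100400054004044111004000010400) Net.nil)))))))))))))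

theorem v_g111_ok : Net.ok 120 v_g111 = true := by decide +kernel

noncomputable def v_g112 : Net := (Net.cons (nat_lit 1) (nat_lit 0x14000040404455100000100000400) (Net.cons (nat_lit 2) (nat_lit 0x10222000223200000100200000) (Net.cons (nat_lit 4) (nat_lit 0x505010a0a040e0000000408000400) (Net.cons (nat_lit 8) (nat_lit 0x41000000c6000500a600000000) (Net.cons (nat_lit 16) (nat_lit 0x50000e044000098c900000000) (Net.cons (nat_lit 32) (nat_lit 0x36000000000c0000000) (Net.cons (nat_lit 64) (nat_lit 0x150660d2048100) (Net.cons (nat_lit 32) (nat_lit 0x23600000000044c8b801) (Net.cons (nat_lit 16) (nat_lit 0x4500002086000018c900008000) (Net.cons (nat_lit 8) (nat_lit 0x5100400086004500a600000040) (Net.cons (nat_lit 4) (nat_lit 0xd05010a0a040e0000000408000400) (Net.cons (nat_lit 2) (nat_lit 0x10222000223200000100200000) (Net.cons (nat_lit 1) (nat_lit 0x114000040404455100000100000400) Net.nil)))))))))))))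

theorem v_g112_ok : Net.ok 120 v_g112 = true := by decide +kernel

noncomputable def v_g113 : Net := (Net.cons (nat_lit 1) (nat_lit 0x1000104004050001400000110000) (Net.cons (nat_lit 2) (nat_lit 0x1010021002022120100000210000) (Net.cons (nat_lit 4) (nat_lit 0x404010004000e00020008000c0000) (Net.cons (nat_lit 8) (nat_lit 0x49003800a00082001000440000) (Net.cons (nat_lit 16) (nat_lit 0x6cc00000e9000000000) (Net.cons (nat_lit 32) (nat_lit 0x4021880000000002000000) (Net.cons (nat_lit 64) (nat_lit 0x40288822008104) (Net.cons (nat_lit 32) (nat_lit 0x4025880000000002b40600) (Net.cons (nat_lit 16) (nat_lit 0x40000006dc00008e9000004008) (Net.cons (nat_lit 8) (nat_lit 0x4b003800a00082001000440000) (Net.cons (nat_lit 4) (nat_lit 0x404010004000e00020008000c0000) (Net.cons (nat_lit 2) (nat_lit 0x1010021202022120100000210000) (Net.cons (nat_lit 1) (nat_lit 0x1000104004050001400000110000) Net.nil)))))))))))))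

theorem v_g113_ok : Net.ok 120 v_g113 = true := by decide +kernel

noncomputable def vt_c3_K : List Net := [v_g107, v_g108, v_g109, v_g110, v_g111, v_g112, v_g113, v_g72]

theorem vt_c3_K_ok : okE 120 vt_c3_K = true := (okE_cons.2 ⟨v_g107_ok, (okE_cons.2 ⟨v_g108_ok, (okE_cons.2 ⟨v_g109_ok, (okE_cons.2 ⟨v_g110_ok, (okE_cons.2 ⟨v_g111_ok, (okE_cons.2 ⟨v_g112_ok, (okE_cons.2 ⟨v_g113_ok, (okE_cons.2 ⟨v_g72_ok, (okE_nil 120)⟩)⟩)⟩)⟩)⟩)⟩)⟩)⟩)

noncomputable def v_g115 : Net := (Net.cons (nat_lit 1) (nat_lit 0x441400000004550000405500111000) (Net.cons (nat_lit 2) (nat_lit 0x10012000022022120320220000) (Net.cons (nat_lit 4) (nat_lit 0x4010d02040c0000000601000000) (Net.cons (nat_lit 8) (nat_lit 0xa900a200840082000000200000) (Net.cons (nat_lit 16) (nat_lit 0x10040000205000004000) (Net.cons (nat_lit 32) (nat_lit 0x48480000000040000000) (Net.cons (nat_lit 64) (nat_lit 0x9e8c104c100) (Net.cons (nat_lit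 32) (nat_lit 0x805d480000000040503102) (Net.cons (nat_lit 16) (nat_lit 0x8000012240000a250000050b8) (Net.cons (nat_lit 8) (nat_lit 0xa900a200840082001000300010) (Net.cons (nat_lit 4) (nat_lit 0x404010d02040c0000000601080008) (Net.cons (nat_lit 2) (nat_lit 0x10012200022022120320220000) (Net.cons (nat_lit 1) (nat_lit 0x441400000004550000405500111000) Net.nil)))))))))))))

theorem v_g115_ok : Net.ok 120 v_g115 = true := by decide +kernel

noncomputable def v_g116 : Net := (Net.cons (nat_lit 1) (nat_lit 0x14000100044044000001000014000) (Net.cons (nat_lit 2) (nat_lit 0x13031321112311130200000020000) (Net.cons (nat_lit 4) (nat_lit 0x406080e0d000d0902000200080000) (Net.cons (nat_lit 8) (nat_lit 0x9700b800c40002002000040000) (Net.cons (nat_lit 16) (nat_lit 0x83d40000952000000000) (Net.cons (nat_lit 32) (nat_lit 0x1003810000000081000000) (Net.cons (nat_lit 64) (nat_lit 0x509285a3004104) (Net.cons (nat_lit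 32) (nat_lit 0x1003eb0000000083241702) (Net.cons (nat_lit 16) (nat_lit 0x9dd40000972000000280) (Net.cons (nat_lit 8) (nat_lit 0xb500b800c40002002000040000) (Net.cons (nat_lit 4) (nat_lit 0x4040b0e0d000f0802000200080100) (Net.cons (nat_lit 2) (nat_lit 0x13031321312311130200000020000) (Net.cons (nat_lit 1) (nat_lit 0x14000100054044000001000014000) Net.nil)))))))))))))

theorem v_g116_ok : Net.ok 120 v_g116 = true := by decide +kernel

noncomputable def v_g117 : Net := (Net.cons (nat_lit 1) (nat_lit 0x4000000004040010000100010000) (Net.cons (nat_lit 2) (nat_lit 0x220010000102010130200100030000) (Net.cons (nat_lit 4) (nat_lit 0x909050400000900020000000c0000) (Net.cons (nat_lit 8) (nat_lit 0x100000088004a003400440000) (Net.cons (nat_lit 16) (nat_lit 0x1c000002100000022000000000) (Net.cons (nat_lit 32) (nat_lit 0x1081000000000002000000) (Net.cons (nat_lit 64) (nat_lit 0x98801102000100) (Net.cons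 (nat_lit 32) (nat_lit 0x1489000000000006240600) (Net.cons (nat_lit 16) (nat_lit 0x1c0000061000004e2000004480) (Net.cons (nat_lit 8) (nat_lit 0x100000088004a003400440000) (Net.cons (nat_lit 4) (nat_lit 0xb09050400000900020000000c0000) (Net.cons (nat_lit 2) (nat_lit 0x220010000302010130200100030000) (Net.cons (nat_lit 1) (nat_lit 0x104000000014040010000100010000) Net.nil)))))))))))))

theorem v_g117_ok : Net.ok 120 v_g117 = true := by decide +kernel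

noncomputable def v_g118 : Net := (Net.cons (nat_lit 1) (nat_lit 0x440000000000141000000000000400) (Net.cons (nat_lit 2) (nat_lit 0x1010213000302000200000000000) (Net.cons (nat_lit 4) (nat_lit 0x80401070604050800000001000400) (Net.cons (nat_lit 8) (nat_lit 0x500980006000c002800100000) (Net.cons (nat_lit 16) (nat_lit 0x400000082000000000) (Net.cons (nat_lit 32) (nat_lit 0x4000010000000050000000) (Net.cons (nat_lit 64) (nat_lit 0x40010553040104) (Net.cons (nat_lit 32) (nat_lit 0x480101000000005c282100) (Net.cons (nat_lit 16) (nat_lit 0xc60000002800000014) (Net.cons (nat_lit 8) (nat_lit 0x5009800060004002000180040) (Net.cons (nat_lit 4) (nat_lit 0xc0401070604050800000001000400) (Net.cons (nat_lit 2) (nat_lit 0x1010213000302000200000000000) (Net.cons (nat_lit 1) (nat_lit 0x440000000010141000000000000400) Net.nil)))))))))))))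

theorem v_g118_ok : Net.ok 120 v_g118 = true := by decide +kernel

noncomputable def v_V119 : List Net := [v_g115, v_g116, v_g100, v_g117, v_g118]

theorem v_V119_ok : okE 120 v_V119 = true := (okE_cons.2 ⟨v_g115_ok, (okE_cons.2 ⟨v_g116_ok, (okE_cons.2 ⟨v_g100_ok, (okE_cons.2 ⟨v_g117_ok, (okE_cons.2 ⟨v_g118_ok, (okE_nil 120)⟩)⟩)⟩)⟩)⟩)

noncomputable def v_V121 : List Net := [v_g116, v_g100, v_g117, v_g118]

theorem v_V121_ok : okE 120 v_V121 = true := (okE_cons.2 ⟨v_g116_ok, (okE_cons.2 ⟨v_g100_ok, (okE_cons.2 ⟨v_g117_ok, (okE_cons.2 ⟨v_g118_ok, (okE_nil 120)⟩)⟩)⟩)⟩)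

noncomputable def v_V122 : List Net := [v_g100, v_g117, v_g118]

theorem v_V122_ok : okE 120 v_V122 = true := (okE_cons.2 ⟨v_g100_ok, (okE_cons.2 ⟨v_g117_ok, (okE_cons.2 ⟨v_g118_ok, (okE_nil 120)⟩)⟩)⟩)

noncomputable def v_V123 : List Net := [v_g117, v_g118]

theorem v_V123_ok : okE 120 v_V123 = true := (okE_cons.2 ⟨v_g117_ok, (okE_cons.2 ⟨v_g118_ok, (okE_nil 120)⟩)⟩)

noncomputable def v_V124 : List Net := [v_g118]

theorem v_V124_ok : okE 120 v_V124 = true := (okE_cons.2 ⟨v_g118_ok, (okE_nil 120)⟩)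

noncomputable def v_V125 : List Net := []

theorem v_V125_ok : okE 120 v_V125 = true := (okE_nil 120)

noncomputable def vt_c3_cnt_EG : List Net := [v_b, v_p0, v_p1, v_g7, v_g3, v_g4, v_g10, v_g16, v_g11, v_g12, v_g13, v_g22, v_g21, v_g26, v_g19, v_g20, v_g23, v_g30, v_g31, v_g32, v_g37, v_g38, v_g29, v_u, v_g118, v_g117, v_g100, v_g116, v_g115]

theorem vt_c3_cnt_EG_ok : okE 120 vt_c3_cnt_EG = true := (okE_cons.2 ⟨v_b_ok, (okE_cons.2 ⟨v_p0_ok, (okE_cons.2 ⟨v_p1_ok, (okE_cons.2 ⟨v_g7_ok, (okE_cons.2 ⟨v_g3_ok, (okE_cons.2 ⟨v_g4_ok, (okE_cons.2 ⟨v_g10_ok, (okE_cons.2 ⟨v_g16_ok, (okE_cons.2 ⟨v_g11_ok, (okE_cons.2 ⟨v_g12_ok, (okE_cons.2 ⟨v_g13_ok, (okE_cons.2 ⟨v_g22_ok, (okE_cons.2 ⟨v_g21_ok, (okE_cons.2 ⟨v_g26_ok, (okE_cons.2 ⟨v_g19_ok, (okE_cons.2 ⟨v_g20_ok, (okE_cons.2 ⟨v_g23_ok, (okE_cons.2 ⟨v_g30_ok, (okE_cons.2 ⟨v_g31_ok, (okE_cons.2 ⟨v_g32_ok, (okE_cons.2 ⟨v_g37_ok, (okE_cons.2 ⟨v_g38_ok,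 (okE_cons.2 ⟨v_g29_ok, (okE_cons.2 ⟨v_u_ok, (okE_cons.2 ⟨v_g118_ok, (okE_cons.2 ⟨v_g117_ok, (okE_cons.2 ⟨v_g100_ok, (okE_cons.2 ⟨v_g116_ok, (okE_cons.2 ⟨v_g115_ok, (okE_nil 120)⟩)⟩)⟩)⟩)⟩)⟩)⟩)⟩)⟩)⟩)⟩)⟩)⟩)⟩)⟩)⟩)⟩)⟩)⟩)⟩)⟩)⟩)⟩)⟩)⟩)⟩)⟩)⟩)⟩)

noncomputable def v_g126 : Net := (Net.cons (nat_lit 1) (nat_lit 0x40511414145414014150014005450) (Net.cons (nat_lit 2) (nat_lit 0x330102220033212033212003320010) (Net.cons (nat_lit 4) (nat_lit 0xb04050f06020b050d09080c0d0800) (Net.cons (nat_lit 8) (nat_lit 0xda002900b700980099008c00d9) (Net.cons (nat_lit 16) (nat_lit 0x700000b61a0000300c0000a500) (Net.cons (nat_lit 32) (nat_lit 0x1681400000000073000000) (Net.cons (nat_lit 64) (nat_lit 0x552c5b770bdb97) (Net.cons (nat_lit 32) (nat_lit 0xf9110000000000f71661f3) (Net.cons (nat_lit 16) (nat_lit 0xfe0000bd6b00005b2500000c42) (Net.cons (nat_lit 8) (nat_lit 0x7900f5006d00ff00fe00900074) (Net.cons (nat_lit 4) (nat_lit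 0x70d0b0a06010209040b0a040a0f06) (Net.cons (nat_lit 2) (nat_lit 0x1231233320201102201330230311) (Net.cons (nat_lit 1) (nat_lit 0x155440141411555145110105151014) Net.nil)))))))))))))

theorem v_g126_ok : Net.ok 120 v_g126 = true := by decide +kernel

noncomputable def v_g127 : Net := (Net.cons (nat_lit 1) (nat_lit 0x441141504555045441001411001100) (Net.cons (nat_lit 2) (nat_lit 0x100233010312303201211321310300) (Net.cons (nat_lit 4) (nat_lit 0x7010d05020607090b0d0a0a0a0000) (Net.cons (nat_lit 8) (nat_lit 0xdf00ac0022004400d0001200da) (Net.cons (nat_lit 16) (nat_lit 0xce000082280000690300001600) (Net.cons (nat_lit 32) (nat_lit 0xb208010000000001000000) (Net.cons (nat_lit 64) (nat_lit 0xc5bea6bd3ab4c5) (Net.cons (nat_lit 32) (nat_lit 0xbd77f6000000004e009d2c) (Net.cons (nat_lit 16) (nat_lit 0x400000d54200000c1600003e0b) (Net.cons (nat_lit 8) (nat_lit 0x780025008800fb00b200cd00d6) (Net.cons (nat_lit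 4) (nat_lit 0x90d0109010009010c0e0d05000a) (Net.cons (nat_lit 2) (nat_lit 0x121232312012230001132012311001) (Net.cons (nat_lit 1) (nat_lit 0x500144551401451154051540510054) Net.nil)))))))))))))

theorem v_g127_ok : Net.ok 120 v_g127 = true := by decide +kernel

noncomputable def v_g128 : Net := (Net.cons (nat_lit 1) (nat_lit 0x540141551151411405544005015014) (Net.cons (nat_lit 2) (nat_lit 0x230333012201220102300032203000) (Net.cons (nat_lit 4) (nat_lit 0x105020009020106060c07000c0a00) (Net.cons (nat_lit 8) (nat_lit 0x2000c1004a0099000200280014) (Net.cons (nat_lit 16) (nat_lit 0x73000044d1000069e800000300) (Net.cons (nat_lit 32) (nat_lit 0xd020f80000000059000000) (Net.cons (nat_lit 64) (nat_lit 0x90035d7f432ba4) (Net.cons (nat_lit 32) (nat_lit 0x14f60b000000006d0c02f0) (Net.cons (nat_lit 16) (nat_lit 0xb30000efb000002e220000d3a8) (Net.cons (nat_lit 8) (nat_lit 0xa0002d0062001a00a800b8000e)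 (Net.cons (nat_lit 4) (nat_lit 0xc01030f0d02020b0d080c000c0206) (Net.cons (nat_lit 2) (nat_lit 0x22333012100121111310033203012) (Net.cons (nat_lit 1) (nat_lit 0x450151150051505051504444411050) Net.nil)))))))))))))

theorem v_g128_ok : Net.ok 120 v_g128 = true := by decide +kernel

noncomputable def v_g129 : Net := (Net.cons (nat_lit 1) (nat_lit 0x55055501051115154455540451140) (Net.cons (nat_lit 2) (nat_lit 0x221201120210210322313332102200) (Net.cons (nat_lit 4) (nat_lit 0x5030201070408090b070905010700) (Net.cons (nat_lit 8) (nat_lit 0x39006c0081004b001400ba006a) (Net.cons (nat_lit 16) (nat_lit 0x11000072ed0000950800004100) (Net.cons (nat_lit 32) (nat_lit 0x47207000000002c000000) (Net.cons (nat_lit 64) (nat_lit 0x67b11f2d624fa0) (Net.cons (nat_lit 32) (nat_lit 0xeba14600000000740b2ab6) (Net.cons (nat_lit 16) (nat_lit 0x720000bbe10000d73e00005cd0) (Net.cons (nat_lit 8) (nat_lit 0x7200530035002a00f2006b005a)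 (Net.cons (nat_lit 4) (nat_lit 0xa0303050b0804030e03050b090308) (Net.cons (nat_lit 2) (nat_lit 0x323210210313233132332232130212) (Net.cons (nat_lit 1) (nat_lit 0x445451550041101555514440001144) Net.nil)))))))))))))

theorem v_g129_ok : Net.ok 120 v_g129 = true := by decide +kernel

noncomputable def v_g130 : Net := (Net.cons (nat_lit 1) (nat_lit 0x445400100504001000000000110400) (Net.cons (nat_lit 2) (nat_lit 0x2020131003302000010220230000) (Net.cons (nat_lit 4) (nat_lit 0x10600090000010800000400000400) (Net.cons (nat_lit 8) (nat_lit 0x1e00d800000000001800240000) (Net.cons (nat_lit 16) (nat_lit 0x90000004800000040200004000) (Net.cons (nat_lit 32) (nat_lit 0x42810000000014000000) (Net.cons (nat_lit 64) (nat_lit 0x69514004000) (Net.cons (nat_lit 32) (nat_lit 0x9042a3000000001c060000) (Net.cons (nat_lit 16) (nat_lit 0x9800008dc00000040a000044a8) (Net.cons (nat_lit 8) (nat_lit 0x3c00d800000000001800240040)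 (Net.cons (nat_lit 4) (nat_lit 0x50402090808030800000400080408) (Net.cons (nat_lit 2) (nat_lit 0x2020131103302000010220230000) (Net.cons (nat_lit 1) (nat_lit 0x545400100514001000000000110400) Net.nil)))))))))))))

theorem v_g130_ok : Net.ok 120 v_g130 = true := by decide +kernel

noncomputable def v_g131 : Net := (Net.cons (nat_lit 1) (nat_lit 0x40004051111000000110400) (Net.cons (nat_lit 2) (nat_lit 0x101202230012122230000000210000) (Net.cons (nat_lit 4) (nat_lit 0x404000f08010b0002010009080400) (Net.cons (nat_lit 8) (nat_lit 0x6400f800810042002900140000) (Net.cons (nat_lit 16) (nat_lit 0x22000002810000080000000000) (Net.cons (nat_lit 32) (nat_lit 0x4013a00000000000000000) (Net.cons (nat_lit 64) (nat_lit 0x4213a423018000) (Net.cons (nat_lit 32) (nat_lit 0x7013a00000000082202a00) (Net.cons (nat_lit 16) (nat_lit 0x620000088100004a0800000618) (Net.cons (nat_lit 8) (nat_lit 0x6c00f800810042002900140040)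 (Net.cons (nat_lit 4) (nat_lit 0xc04000f08010b0002010009080400) (Net.cons (nat_lit 2) (nat_lit 0x101202230212122230000000210000) (Net.cons (nat_lit 1) (nat_lit 0x40014051111000000110400) Net.nil)))))))))))))

theorem v_g131_ok : Net.ok 120 v_g131 = true := by decide +kernel

noncomputable def vt_c4_K : List Net := [v_g126, v_g127, v_g128, v_g129, v_g130, v_g131]

theorem vt_c4_K_ok : okE 120 vt_c4_K = true := (okE_cons.2 ⟨v_g126_ok, (okE_cons.2 ⟨v_g127_ok, (okE_cons.2 ⟨v_g128_ok, (okE_cons.2 ⟨v_g129_ok, (okE_cons.2 ⟨v_g130_ok, (okE_cons.2 ⟨v_g131_ok, (okE_nil 120)⟩)⟩)⟩)⟩)⟩)⟩)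

noncomputable def v_V133 : List Net := [v_g130, v_g30, v_g131]

theorem v_V133_ok : okE 120 v_V133 = true := (okE_cons.2 ⟨v_g130_ok, (okE_cons.2 ⟨v_g30_ok, (okE_cons.2 ⟨v_g131_ok, (okE_nil 120)⟩)⟩)⟩)

noncomputable def v_V135 : List Net := [v_g30, v_g131]

theorem v_V135_ok : okE 120 v_V135 = true := (okE_cons.2 ⟨v_g30_ok, (okE_cons.2 ⟨v_g131_ok, (okE_nil 120)⟩)⟩)

noncomputable def v_V136 : List Net := [v_g131]

theorem v_V136_ok : okE 120 v_V136 = true := (okE_cons.2 ⟨v_g131_ok, (okE_nil 120)⟩)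

noncomputable def v_V137 : List Net := []

theorem v_V137_ok : okE 120 v_V137 = true := (okE_nil 120)

noncomputable def vt_c4_cnt_EG : List Net := [v_b, v_p0, v_p1, v_g7, v_g3, v_g4, v_g10, v_g16, v_g11, v_g12, v_g13, v_g22, v_g21, v_g26, v_g19, v_g20, v_g23, v_g30, v_g31, v_g32, v_g37, v_g38, v_g29, v_u, v_g131, v_g130]

theorem vt_c4_cnt_EG_ok : okE 120 vt_c4_cnt_EG = true := (okE_cons.2 ⟨v_b_ok, (okE_cons.2 ⟨v_p0_ok, (okE_cons.2 ⟨v_p1_ok, (okE_cons.2 ⟨v_g7_ok, (okE_cons.2 ⟨v_g3_ok, (okE_cons.2 ⟨v_g4_ok, (okE_cons.2 ⟨v_g10_ok, (okE_cons.2 ⟨v_g16_ok, (okE_cons.2 ⟨v_g11_ok, (okE_cons.2 ⟨v_g12_ok, (okE_cons.2 ⟨v_g13_ok, (okE_cons.2 ⟨v_g22_ok, (okE_cons.2 ⟨v_g21_ok, (okE_cons.2 ⟨v_g26_ok, (okE_cons.2 ⟨v_g19_ok, (okE_cons.2 ⟨v_g20_ok, (okE_cons.2 ⟨v_g23_ok, (okE_cons.2 ⟨v_g30_ok, (okE_cons.2 ⟨v_g31_ok, (okE_cons.2 ⟨v_g32_ok, (okE_cons.2 ⟨v_g37_ok, (okE_cons.2 ⟨v_g38_ok, (okE_cons.2 ⟨v_g29_ok,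 (okE_cons.2 ⟨v_u_ok, (okE_cons.2 ⟨v_g131_ok, (okE_cons.2 ⟨v_g130_ok, (okE_nil 120)⟩)⟩)⟩)⟩)⟩)⟩)⟩)⟩)⟩)⟩)⟩)⟩)⟩)⟩)⟩)⟩)⟩)⟩)⟩)⟩)⟩)⟩)⟩)⟩)⟩)⟩)

noncomputable def v_g138 : Net := (Net.cons (nat_lit 1) (nat_lit 0x141115445144541145151400140050) (Net.cons (nat_lit 2) (nat_lit 0x230111131000321112002001223310) (Net.cons (nat_lit 4) (nat_lit 0x60007030a040a0f0308030d080800) (Net.cons (nat_lit 8) (nat_lit 0x7e00c60069002d00c100080063) (Net.cons (nat_lit 16) (nat_lit 0x42000010c3000085b000005400) (Net.cons (nat_lit 32) (nat_lit 0x402fe600000000d0000000) (Net.cons (nat_lit 64) (nat_lit 0x575f7ade35f09d) (Net.cons (nat_lit 32) (nat_lit 0x48823400000000bc2487db) (Net.cons (nat_lit 16) (nat_lit 0xf00000b626000056f800004dd9) (Net.cons (nat_lit 8) (nat_lit 0x9c002700850093004f008d0012) (Net.cons (nat_lit 4) (nat_lit 0xe020d0c07080e05060109020f0b02) (Net.cons (nat_lit 2) (nat_lit 0x323022311221303130113331011323)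 (Net.cons (nat_lit 1) (nat_lit 0x51510455454110144004150010440) Net.nil)))))))))))))

theorem v_g138_ok : Net.ok 120 v_g138 = true := by decide +kernel

noncomputable def v_g139 : Net := (Net.cons (nat_lit 1) (nat_lit 0x405400455000014551455041100044) (Net.cons (nat_lit 2) (nat_lit 0x311300123023203333020301203000) (Net.cons (nat_lit 4) (nat_lit 0xc0104070308070708030400020500) (Net.cons (nat_lit 8) (nat_lit 0x90056002a0087001f008c0029) (Net.cons (nat_lit 16) (nat_lit 0x8400000a2d0000810400001800) (Net.cons (nat_lit 32) (nat_lit 0xc2a03900000000a6000000) (Net.cons (nat_lit 64) (nat_lit 0x75a45ca6ae1a23) (Net.cons (nat_lit 32) (nat_lit 0xdd39c900000000a31e0078) (Net.cons (nat_lit 16) (nat_lit 0xd4000005240000332500001680) (Net.cons (nat_lit 8) (nat_lit 0x8800b400d9000d00260000003b) (Net.cons (nat_lit 4) (nat_lit 0xd0205020d04040c0c0a04050b0504) (Net.cons (nat_lit 2) (nat_lit 0x330320100112103300032113112310)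 (Net.cons (nat_lit 1) (nat_lit 0x405155015150455515114114101550) Net.nil)))))))))))))

theorem v_g139_ok : Net.ok 120 v_g139 = true := by decide +kernel

noncomputable def v_g140 : Net := (Net.cons (nat_lit 1) (nat_lit 0x1405045415144411414150441040) (Net.cons (nat_lit 2) (nat_lit 0x303122203310023220310211201030) (Net.cons (nat_lit 4) (nat_lit 0xe0304080702090c0d0c0b08060400) (Net.cons (nat_lit 8) (nat_lit 0x580053009c002500c2005000f7) (Net.cons (nat_lit 16) (nat_lit 0x98000020d300008cc800008700) (Net.cons (nat_lit 32) (nat_lit 0xa0418100000000f0000000) (Net.cons (nat_lit 64) (nat_lit 0xdf4657f46e9994) (Net.cons (nat_lit 32) (nat_lit 0x209b7f00000000fee22156) (Net.cons (nat_lit 16) (nat_lit 0x1800006f310000b19400002f31) (Net.cons (nat_lit 8) (nat_lit 0x1c0085003e005d00de006400c3) (Net.cons (nat_lit 4) (nat_lit 0xa0f040001040b0a020307050c000e) (Net.cons (nat_lit 2) (nat_lit 0x321110221130233223112210101220)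 (Net.cons (nat_lit 1) (nat_lit 0x501405045445455410414114445054) Net.nil)))))))))))))

theorem v_g140_ok : Net.ok 120 v_g140 = true := by decide +kernel

noncomputable def v_g141 : Net := (Net.cons (nat_lit 1) (nat_lit 0x145155440150544404001415404550) (Net.cons (nat_lit 2) (nat_lit 0x22322011312201231202222323110) (Net.cons (nat_lit 4) (nat_lit 0xb010a0800050b0b02060b02010900) (Net.cons (nat_lit 8) (nat_lit 0x770050008c00d300e400f600bb) (Net.cons (nat_lit 16) (nat_lit 0x5300007a240000f24800009800) (Net.cons (nat_lit 32) (nat_lit 0x8881280000000005000000) (Net.cons (nat_lit 64) (nat_lit 0x34fb5ac7ed0070) (Net.cons (nat_lit 32) (nat_lit 0xe97f90000000005a1d64c6) (Net.cons (nat_lit 16) (nat_lit 0x800000a4a40000915700001423) (Net.cons (nat_lit 8) (nat_lit 0xef00b900b200d500e9003b00ef) (Net.cons (nat_lit 4) (nat_lit 0xb00040f000a0c09060608030c0b02) (Net.cons (nat_lit 2) (nat_lit 0x122110231302231213331333202302)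 (Net.cons (nat_lit 1) (nat_lit 0x440551005115544005551451551014) Net.nil)))))))))))))

theorem v_g141_ok : Net.ok 120 v_g141 = true := by decide +kernel

noncomputable def vt_c5_K : List Net := [v_g138, v_g139, v_g140, v_g80, v_g141, v_u, v_g118]

theorem vt_c5_K_ok : okE 120 vt_c5_K = true := (okE_cons.2 ⟨v_g138_ok, (okE_cons.2 ⟨v_g139_ok, (okE_cons.2 ⟨v_g140_ok, (okE_cons.2 ⟨v_g80_ok, (okE_cons.2 ⟨v_g141_ok, (okE_cons.2 ⟨v_u_ok, (okE_cons.2 ⟨v_g118_ok, (okE_nil 120)⟩)⟩)⟩)⟩)⟩)⟩)⟩)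

noncomputable def v_g143 : Net := (Net.cons (nat_lit 1) (nat_lit 0x400000000004541110000100010400) (Net.cons (nat_lit 2) (nat_lit 0x20002011012020230000302030000) (Net.cons (nat_lit 4) (nat_lit 0x30f0c010a020a010401080400) (Net.cons (nat_lit 8) (nat_lit 0x6000d0000b0042002b00160000) (Net.cons (nat_lit 16) (nat_lit 0x40000008450000204100002000) (Net.cons (nat_lit 32) (nat_lit 0x18620000000010000000) (Net.cons (nat_lit 64) (nat_lit 0x9386219010004) (Net.cons (nat_lit 32) (nat_lit 0xc01863000000003a420a00) (Net.cons (nat_lit 16) (nat_lit 0x400000064d00006a4100002e90) (Net.cons (nat_lit 8) (nat_lit 0x6000d0000b0042002b00160040) (Net.cons (nat_lit 4) (nat_lit 0x30f0c010a020a010401080400) (Net.cons (nat_lit 2) (nat_lit 0x20002011212020230000302030000) (Net.cons (nat_lit 1) (nat_lit 0x500000000004541110000100010400) Net.nil)))))))))))))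

theorem v_g143_ok : Net.ok 120 v_g143 = true := by decide +kernel

noncomputable def v_V144 : List Net := [v_g143, v_g37, v_g19]

theorem v_V144_ok : okE 120 v_V144 = true := (okE_cons.2 ⟨v_g143_ok, (okE_cons.2 ⟨v_g37_ok, (okE_cons.2 ⟨v_g19_ok, (okE_nil 120)⟩)⟩)⟩)

noncomputable def v_V146 : List Net := [v_g37, v_g19]

theorem v_V146_ok : okE 120 v_V146 = true := (okE_cons.2 ⟨v_g37_ok, (okE_cons.2 ⟨v_g19_ok, (okE_nil 120)⟩)⟩)

noncomputable def v_V147 : List Net := [v_g19]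

theorem v_V147_ok : okE 120 v_V147 = true := (okE_cons.2 ⟨v_g19_ok, (okE_nil 120)⟩)

noncomputable def v_V148 : List Net := []

theorem v_V148_ok : okE 120 v_V148 = true := (okE_nil 120)

noncomputable def vt_c5_cnt_EG : List Net := [v_b, v_p0, v_p1, v_g7, v_g3, v_g4, v_g10, v_g16, v_g11, v_g12, v_g13, v_g22, v_g21, v_g26, v_g19, v_g20, v_g23, v_g30, v_g31, v_g32, v_g37, v_g38, v_g29, v_u, v_g143]

theorem vt_c5_cnt_EG_ok : okE 120 vt_c5_cnt_EG = true := (okE_cons.2 ⟨v_b_ok, (okE_cons.2 ⟨v_p0_ok, (okE_cons.2 ⟨v_p1_ok, (okE_cons.2 ⟨v_g7_ok, (okE_cons.2 ⟨v_g3_ok, (okE_cons.2 ⟨v_g4_ok, (okE_cons.2 ⟨v_g10_ok, (okE_cons.2 ⟨v_g16_ok, (okE_cons.2 ⟨v_g11_ok, (okE_cons.2 ⟨v_g12_ok, (okE_cons.2 ⟨v_g13_ok, (okE_cons.2 ⟨v_g22_ok, (okE_cons.2 ⟨v_g21_ok, (okE_cons.2 ⟨v_g26_ok, (okE_cons.2 ⟨v_g19_ok, (okE_cons.2 ⟨v_g20_ok, (okE_cons.2 ⟨v_g23_ok, (okE_cons.2 ⟨v_g30_ok, (okE_cons.2 ⟨v_g31_ok, (okE_cons.2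 ⟨v_g32_ok, (okE_cons.2 ⟨v_g37_ok, (okE_cons.2 ⟨v_g38_ok, (okE_cons.2 ⟨v_g29_ok, (okE_cons.2 ⟨v_u_ok, (okE_cons.2 ⟨v_g143_ok, (okE_nil 120)⟩)⟩)⟩)⟩)⟩)⟩)⟩)⟩)⟩)⟩)⟩)⟩)⟩)⟩)⟩)⟩)⟩)⟩)⟩)⟩)⟩)⟩)⟩)⟩)⟩)

noncomputable def v_g149 : Net := (Net.cons (nat_lit 1) (nat_lit 0x40455411145405054014040401104) (Net.cons (nat_lit 2) (nat_lit 0x123222200101012201301322131130) (Net.cons (nat_lit 4) (nat_lit 0x40003060d09000f000f05010c0400) (Net.cons (nat_lit 8) (nat_lit 0x500a7004c001d005000300045) (Net.cons (nat_lit 16) (nat_lit 0x560000260b0000667f00001000) (Net.cons (nat_lit 32) (nat_lit 0x700be10000000018000000) (Net.cons (nat_lit 64) (nat_lit 0x403db79cb5b258) (Net.cons (nat_lit 32) (nat_lit 0xef989c000000008b147c1a) (Net.cons (nat_lit 16) (nat_lit 0x60000068e10000dc800000fc97) (Net.cons (nat_lit 8) (nat_lit 0xce00e9003500160021008a00ea) (Net.cons (nat_lit 4) (nat_lit 0x90f01050802080106080a040e0002) (Net.cons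 (nat_lit 2) (nat_lit 0x232211213331233131010201032313) (Net.cons (nat_lit 1) (nat_lit 0x555050111411515505055415514451) Net.nil)))))))))))))

theorem v_g149_ok : Net.ok 120 v_g149 = true := by decide +kernel

noncomputable def v_g150 : Net := (Net.cons (nat_lit 1) (nat_lit 0x55445544045115140415011145010) (Net.cons (nat_lit 2) (nat_lit 0x133133310301203222100220233300) (Net.cons (nat_lit 4) (nat_lit 0x9080b010c0106080e010907000800) (Net.cons (nat_lit 8) (nat_lit 0xe20085003b00b100f9008100b6) (Net.cons (nat_lit 16) (nat_lit 0xb1000060d40000a9880000f100) (Net.cons (nat_lit 32) (nat_lit 0x7e02160000000090000000) (Net.cons (nat_lit 64) (nat_lit 0xc47d4e9abbdbb9) (Net.cons (nat_lit 32) (nat_lit 0x7f9fe0000000085edb312) (Net.cons (nat_lit 16) (nat_lit 0x4600002c5f0000e3ba000046a8) (Net.cons (nat_lit 8) (nat_lit 0x1500ed00600063000800c90004) (Net.cons (nat_lit 4) (nat_lit 0x70e05010408040803030e06000a06)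 (Net.cons (nat_lit 2) (nat_lit 0x131323310011331133311232002301) (Net.cons (nat_lit 1) (nat_lit 0x511400515515141004010415110104) Net.nil)))))))))))))

theorem v_g150_ok : Net.ok 120 v_g150 = true := by decide +kernel

noncomputable def v_g151 : Net := (Net.cons (nat_lit 1) (nat_lit 0x145544110541454110041115554540) (Net.cons (nat_lit 2) (nat_lit 0x320302333113013230333000100010) (Net.cons (nat_lit 4) (nat_lit 0xc0c0803010c0e0d0d05030f000400) (Net.cons (nat_lit 8) (nat_lit 0x31001a005a00f100b200730005) (Net.cons (nat_lit 16) (nat_lit 0xcb000086100000d82a00002a00) (Net.cons (nat_lit 32) (nat_lit 0x5ab200000000040000000) (Net.cons (nat_lit 64) (nat_lit 0xac9f3ed14b3081) (Net.cons (nat_lit 32) (nat_lit 0xdcd52300000000df088430) (Net.cons (nat_lit 16) (nat_lit 0xee0000c7f000008b870000f216) (Net.cons (nat_lit 8) (nat_lit 0xc400a3003500db000400330099) (Net.cons (nat_lit 4) (nat_lit 0xc0408060a0e0e0f040f01060e0d02)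 (Net.cons (nat_lit 2) (nat_lit 0x113023012331211203231021321132) (Net.cons (nat_lit 1) (nat_lit 0x14445115544454150051515450440) Net.nil)))))))))))))

theorem v_g151_ok : Net.ok 120 v_g151 = true := by decide +kernel

noncomputable def v_g152 : Net := (Net.cons (nat_lit 1) (nat_lit 0x105105100450041550104011550400) (Net.cons (nat_lit 2) (nat_lit 0x203002311003133321102032302120) (Net.cons (nat_lit 4) (nat_lit 0x90d060c000a04000e090006000b00) (Net.cons (nat_lit 8) (nat_lit 0x9000f5009a00250087001b0080) (Net.cons (nat_lit 16) (nat_lit 0xb20000c5100000c20800002000) (Net.cons (nat_lit 32) (nat_lit 0x184400000000040000000) (Net.cons (nat_lit 64) (nat_lit 0x11a541f0102300) (Net.cons (nat_lit 32) (nat_lit 0x8dfd7e00000000cf00a118) (Net.cons (nat_lit 16) (nat_lit 0x3c000049d40000522a0000e8aa) (Net.cons (nat_lit 8) (nat_lit 0x5e00bb00d3006d00cf0013008c) (Net.cons (nat_lit 4) (nat_lit 0x1090200040604000e090406040b00)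 (Net.cons (nat_lit 2) (nat_lit 0x323222311023133323102032302120) (Net.cons (nat_lit 1) (nat_lit 0x105105100450041550145011550410) Net.nil)))))))))))))

theorem v_g152_ok : Net.ok 120 v_g152 = true := by decide +kernel

noncomputable def v_g153 : Net := (Net.cons (nat_lit 1) (nat_lit 0x4010400500101011001000011000) (Net.cons (nat_lit 2) (nat_lit 0x10033001102010210120010000) (Net.cons (nat_lit 4) (nat_lit 0x101010d0e00000800000201040000) (Net.cons (nat_lit 8) (nat_lit 0xc500e20040004d001800700000) (Net.cons (nat_lit 16) (nat_lit 0x90000000840000080000000000) (Net.cons (nat_lit 32) (nat_lit 0x4005800000000000000000) (Net.cons (nat_lit 64) (nat_lit 0x4004d101000104) (Net.cons (nat_lit 32) (nat_lit 0xc04580000000002c083002) (Net.cons (nat_lit 16) (nat_lit 0x9400008aa40000610800006030) (Net.cons (nat_lit 8) (nat_lit 0xc700e200400045001000780000) (Net.cons (nat_lit 4) (nat_lit 0x901010d0e00000800000201040000)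 (Net.cons (nat_lit 2) (nat_lit 0x10033101102010210120010000) (Net.cons (nat_lit 1) (nat_lit 0x4010400500101011001000011000) Net.nil)))))))))))))

theorem v_g153_ok : Net.ok 120 v_g153 = true := by decide +kernel

noncomputable def v_g154 : Net := (Net.cons (nat_lit 1) (nat_lit 0x441400100004441001000100110000) (Net.cons (nat_lit 2) (nat_lit 0x200030031102202100000100230000) (Net.cons (nat_lit 4) (nat_lit 0x305090c04000e0802000001040000) (Net.cons (nat_lit 8) (nat_lit 0x8d009300080000003400540000) (Net.cons (nat_lit 16) (nat_lit 0x15000000c40000800000000000) (Net.cons (nat_lit 32) (nat_lit 0x4003820000000010000000) (Net.cons (nat_lit 64) (nat_lit 0x40829210000104) (Net.cons (nat_lit 32) (nat_lit 0x470be2000000001c242400) (Net.cons (nat_lit 16) (nat_lit 0x1d000004d40000840000004498) (Net.cons (nat_lit 8) (nat_lit 0x9d009300080000003400540000) (Net.cons (nat_lit 4) (nat_lit 0x705090c04000e08020000010c0008)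 (Net.cons (nat_lit 2) (nat_lit 0x200030031302202100000100230000) (Net.cons (nat_lit 1) (nat_lit 0x541400100004441001000100110000) Net.nil)))))))))))))

theorem v_g154_ok : Net.ok 120 v_g154 = true := by decide +kernel

noncomputable def vt_c6_K : List Net := [v_g149, v_g150, v_g151, v_g113, v_g152, v_g153, v_g154, v_u]

theorem vt_c6_K_ok : okE 120 vt_c6_K = true := (okE_cons.2 ⟨v_g149_ok, (okE_cons.2 ⟨v_g150_ok, (okE_cons.2 ⟨v_g151_ok, (okE_cons.2 ⟨v_g113_ok, (okE_cons.2 ⟨v_g152_ok, (okE_cons.2 ⟨v_g153_ok, (okE_cons.2 ⟨v_g154_ok, (okE_cons.2 ⟨v_u_ok, (okE_nil 120)⟩)⟩)⟩)⟩)⟩)⟩)⟩)⟩)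

noncomputable def v_V156 : List Net := [v_g37, v_g38, v_g29, v_u]

theorem v_V156_ok : okE 120 v_V156 = true := (okE_cons.2 ⟨v_g37_ok, (okE_cons.2 ⟨v_g38_ok, (okE_cons.2 ⟨v_g29_ok, (okE_cons.2 ⟨v_u_ok, (okE_nil 120)⟩)⟩)⟩)⟩)

noncomputable def v_V157 : List Net := [v_g29, v_u]

theorem v_V157_ok : okE 120 v_V157 = true := (okE_cons.2 ⟨v_g29_ok, (okE_cons.2 ⟨v_u_ok, (okE_nil 120)⟩)⟩)

noncomputable def v_V158 : List Net := [v_u]

theorem v_V158_ok : okE 120 v_V158 = true := (okE_cons.2 ⟨v_u_ok, (okE_nil 120)⟩)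

noncomputable def v_V159 : List Net := []

theorem v_V159_ok : okE 120 v_V159 = true := (okE_nil 120)

noncomputable def vt_c6_cnt_EG : List Net := [v_b, v_p0, v_p1, v_g7, v_g3, v_g4, v_g10, v_g16, v_g11, v_g12, v_g13, v_g22, v_g21, v_g26, v_g19, v_g20, v_g23, v_g30, v_g31, v_g32, v_g37, v_g38, v_g29, v_u]

theorem vt_c6_cnt_EG_ok : okE 120 vt_c6_cnt_EG = true := (okE_cons.2 ⟨v_b_ok, (okE_cons.2 ⟨v_p0_ok, (okE_cons.2 ⟨v_p1_ok, (okE_cons.2 ⟨v_g7_ok, (okE_cons.2 ⟨v_g3_ok, (okE_cons.2 ⟨v_g4_ok, (okE_cons.2 ⟨v_g10_ok, (okE_cons.2 ⟨v_g16_ok, (okE_cons.2 ⟨v_g11_ok, (okE_cons.2 ⟨v_g12_ok, (okE_cons.2 ⟨v_g13_ok, (okE_cons.2 ⟨v_g22_ok, (okE_cons.2 ⟨v_g21_ok, (okE_cons.2 ⟨v_g26_ok, (okE_cons.2 ⟨v_g19_ok, (okE_cons.2 ⟨v_g20_ok, (okE_cons.2 ⟨v_g23_ok, (okE_cons.2 ⟨v_g30_ok, (okE_cons.2 ⟨v_g31_ok, (okE_cons.2 ⟨v_g32_ok, (okE_cons.2 ⟨v_g37_ok, (okE_cons.2 ⟨v_g38_ok, (okE_cons.2 ⟨v_g29_ok, (okE_cons.2 ⟨v_u_ok,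 (okE_nil 120)⟩)⟩)⟩)⟩)⟩)⟩)⟩)⟩)⟩)⟩)⟩)⟩)⟩)⟩)⟩)⟩)⟩)⟩)⟩)⟩)⟩)⟩)⟩)⟩)

noncomputable def v_g160 : Net := (Net.cons (nat_lit 1) (nat_lit 0x155045411144445454504405545000) (Net.cons (nat_lit 2) (nat_lit 0x313002031030320333212031001010) (Net.cons (nat_lit 4) (nat_lit 0xe06030f0a090e01040b0404000100) (Net.cons (nat_lit 8) (nat_lit 0xe0022005900d4004600740024) (Net.cons (nat_lit 16) (nat_lit 0x580000e28a000060d900000800) (Net.cons (nat_lit 32) (nat_lit 0x68203000000008f000000) (Net.cons (nat_lit 64) (nat_lit 0x716eacdf06b50f) (Net.cons (nat_lit 32) (nat_lit 0xd8af56000000003581e556) (Net.cons (nat_lit 16) (nat_lit 0x740000ebf40000b649000028a6) (Net.cons (nat_lit 8) (nat_lit 0xe6005c004300a900fd00320021) (Net.cons (nat_lit 4) (nat_lit 0xa0300080c0d080105090b02050208) (Net.cons (nat_lit 2) (nat_lit 0x333330201021121332131000202013) (Net.cons (nat_lit 1) (nat_lit 0x154050155141554404400505055500) Net.nil)))))))))))))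

theorem v_g160_ok : Net.ok 120 v_g160 = true := by decide +kernel

noncomputable def v_g161 : Net := (Net.cons (nat_lit 1) (nat_lit 0x414014515140004104441104514450) (Net.cons (nat_lit 2) (nat_lit 0x201032133232302110030021031110) (Net.cons (nat_lit 4) (nat_lit 0xc080703060c060a0509080c0000) (Net.cons (nat_lit 8) (nat_lit 0xba0015002200c4000400400035) (Net.cons (nat_lit 16) (nat_lit 0x920000408b0000181100003000) (Net.cons (nat_lit 32) (nat_lit 0x220c0000000028000000) (Net.cons (nat_lit 64) (nat_lit 0x7515c3eb4eef5f) (Net.cons (nat_lit 32) (nat_lit 0x4f11f400000000f0f2802d) (Net.cons (nat_lit 16) (nat_lit 0x240000c297000005cc00004d92) (Net.cons (nat_lit 8) (nat_lit 0xb600dc0034009900e300f7001d) (Net.cons (nat_lit 4) (nat_lit 0xa01020d0b000600050c0d020e0e07) (Net.cons (nat_lit 2) (nat_lit 0x210322200101011033000233011023) (Net.cons (nat_lit 1) (nat_lit 0x505145505441405454401401154145) Net.nil)))))))))))))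

theorem v_g161_ok : Net.ok 120 v_g161 = true := by decide +kernel

noncomputable def v_g162 : Net := (Net.cons (nat_lit 1) (nat_lit 0x1000010105054111014044100000) (Net.cons (nat_lit 2) (nat_lit 0x110120113103312010200020101030) (Net.cons (nat_lit 4) (nat_lit 0xd0302070306020908000b00000000) (Net.cons (nat_lit 8) (nat_lit 0xc7007e002a00c5003300240012) (Net.cons (nat_lit 16) (nat_lit 0x230000c88300007a1800001800) (Net.cons (nat_lit 32) (nat_lit 0x440542000000006d000000) (Net.cons (nat_lit 64) (nat_lit 0x911bb06f77fef3) (Net.cons (nat_lit 32) (nat_lit 0x541742000000006c5d0334) (Net.cons (nat_lit 16) (nat_lit 0x3b0000eb970000981d00002b61) (Net.cons (nat_lit 8) (nat_lit 0x95005e002b008400270015003e) (Net.cons (nat_lit 4) (nat_lit 0x90206060105010e09050803000104) (Net.cons (nat_lit 2) (nat_lit 0x101130113102312120210111001130) (Net.cons (nat_lit 1) (nat_lit 0x100040014111054111414014010041) Net.nil)))))))))))))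

theorem v_g162_ok : Net.ok 120 v_g162 = true := by decide +kernel

noncomputable def v_g163 : Net := (Net.cons (nat_lit 1) (nat_lit 0x114414544154041154050111501040) (Net.cons (nat_lit 2) (nat_lit 0x10020200201222100301200300000) (Net.cons (nat_lit 4) (nat_lit 0x405080a0400070e08060709020100) (Net.cons (nat_lit 8) (nat_lit 0x9d0011002e00e200e20054000d) (Net.cons (nat_lit 16) (nat_lit 0x4f0000658800000e3600005400) (Net.cons (nat_lit 32) (nat_lit 0x16791a00000000b4000000) (Net.cons (nat_lit 64) (nat_lit 0xab8d15b7fc708a) (Net.cons (nat_lit 32) (nat_lit 0xf212890000000059697ba8) (Net.cons (nat_lit 16) (nat_lit 0x8b0000118b00009af80000cf23) (Net.cons (nat_lit 8) (nat_lit 0x2000bb0032005500a60006000c) (Net.cons (nat_lit 4) (nat_lit 0x70f0a0d0a020704010b000a030505) (Net.cons (nat_lit 2) (nat_lit 0x110210111111130012110101102021) (Net.cons (nat_lit 1) (nat_lit 0x100101455140450144444451100010) Net.nil)))))))))))))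

theorem v_g163_ok : Net.ok 120 v_g163 = true := by decide +kernel

noncomputable def v_g164 : Net := (Net.cons (nat_lit 1) (nat_lit 0x10145404415515014551104410144) (Net.cons (nat_lit 2) (nat_lit 0x10203002100111221321022223120) (Net.cons (nat_lit 4) (nat_lit 0x4070e0b090605080a06090e060400) (Net.cons (nat_lit 8) (nat_lit 0x10039001000c2000400a500c0) (Net.cons (nat_lit 16) (nat_lit 0x5b00000a8000000a7200000400) (Net.cons (nat_lit 32) (nat_lit 0xca24100000000049000000) (Net.cons (nat_lit 64) (nat_lit 0xd483596b1e6dcd) (Net.cons (nat_lit 32) (nat_lit 0x733ca7000000002593fce0) (Net.cons (nat_lit 16) (nat_lit 0x67000083e400007b7400000f8c) (Net.cons (nat_lit 8) (nat_lit 0x9b0010003000fd004600a90076) (Net.cons (nat_lit 4) (nat_lit 0x50203090d0c00030809050e0f0608) (Net.cons (nat_lit 2) (nat_lit 0x230311330103003230031232020230) (Net.cons (nat_lit 1) (nat_lit 0x544511001415545145540514510141) Net.nil)))))))))))))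

theorem v_g164_ok : Net.ok 120 v_g164 = true := by decide +kernel

noncomputable def v_g165 : Net := (Net.cons (nat_lit 1) (nat_lit 0x411000510400054100004100000400) (Net.cons (nat_lit 2) (nat_lit 0x200000031000021200000100000000) (Net.cons (nat_lit 4) (nat_lit 0x30101080c000a0000000401000000) (Net.cons (nat_lit 8) (nat_lit 0x84001200a00001000c00100000) (Net.cons (nat_lit 16) (nat_lit 0x10400001d4100000000) (Net.cons (nat_lit 32) (nat_lit 0x20000000000085000000) (Net.cons (nat_lit 64) (nat_lit 0x10248085008004) (Net.cons (nat_lit 32) (nat_lit 0x221000000000085401801) (Net.cons (nat_lit 16) (nat_lit 0x40000099400001d4900000010) (Net.cons (nat_lit 8) (nat_lit 0x94001200a00001000c00100000) (Net.cons (nat_lit 4) (nat_lit 0x30101080c000a0000000401000000) (Net.cons (nat_lit 2) (nat_lit 0x200000031000021200000100000000) (Net.cons (nat_lit 1) (nat_lit 0x511000510410054100004100000400) Net.nil)))))))))))))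

theorem v_g165_ok : Net.ok 120 v_g165 = true := by decide +kernel

noncomputable def v_g166 : Net := (Net.cons (nat_lit 1) (nat_lit 0x404000100400041000001000011000) (Net.cons (nat_lit 2) (nat_lit 0x200000223000002020200200030000) (Net.cons (nat_lit 4) (nat_lit 0x9010a0e000808020202010e0000) (Net.cons (nat_lit 8) (nat_lit 0xc003200000002001800520000) (Net.cons (nat_lit 16) (nat_lit 0x1000080040000242000000000) (Net.cons (nat_lit 32) (nat_lit 0x81800000000000000000) (Net.cons (nat_lit 64) (nat_lit 0x858000020004) (Net.cons (nat_lit 32) (nat_lit 0x218188000000000a203202) (Net.cons (nat_lit 16) (nat_lit 0x1000002940000262800004290) (Net.cons (nat_lit 8) (nat_lit 0x1c00b200800002009800520000) (Net.cons (nat_lit 4) (nat_lit 0x9010a0e000808020202010e0000) (Net.cons (nat_lit 2) (nat_lit 0x200000223000002020200200030000) (Net.cons (nat_lit 1) (nat_lit 0x404000100400041000001000011000) Net.nil)))))))))))))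

theorem v_g166_ok : Net.ok 120 v_g166 = true := by decide +kernel

noncomputable def vt_c7_K : List Net := [v_g161, v_g162, v_g163, v_g164, v_g165, v_g166]

theorem vt_c7_K_ok : okE 120 vt_c7_K = true := (okE_cons.2 ⟨v_g161_ok, (okE_cons.2 ⟨v_g162_ok, (okE_cons.2 ⟨v_g163_ok, (okE_cons.2 ⟨v_g164_ok, (okE_cons.2 ⟨v_g165_ok, (okE_cons.2 ⟨v_g166_ok, (okE_nil 120)⟩)⟩)⟩)⟩)⟩)⟩)

noncomputable def v_g168 : Net := (Net.cons (nat_lit 1) (nat_lit 0x415404000554404114510041000000) (Net.cons (nat_lit 2) (nat_lit 0x112200130212202121011002021000) (Net.cons (nat_lit 4) (nat_lit 0xc0808020c050f090100050e000000) (Net.cons (nat_lit 8) (nat_lit 0xae00010080009800a300300022) (Net.cons (nat_lit 16) (nat_lit 0xc30000e18a00005b4000000000) (Net.cons (nat_lit 32) (nat_lit 0x20000000090000000) (Net.cons (nat_lit 64) (nat_lit 0x20c4994a20532) (Net.cons (nat_lit 32) (nat_lit 0x4ce48600000000fb5d3480) (Net.cons (nat_lit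 16) (nat_lit 0xf70000e1ae000072780000a020) (Net.cons (nat_lit 8) (nat_lit 0xa6000300c1009000eb005a0022) (Net.cons (nat_lit 4) (nat_lit 0xc0808020c070d080100060d020000) (Net.cons (nat_lit 2) (nat_lit 0x112200130212202321011002021000) (Net.cons (nat_lit 1) (nat_lit 0x415505000554404114510041000000) Net.nil)))))))))))))

theorem v_g168_ok : Net.ok 120 v_g168 = true := by decide +kernel

noncomputable def v_g169 : Net := (Net.cons (nat_lit 1) (nat_lit 0x441005111440411554015015040500) (Net.cons (nat_lit 2) (nat_lit 0x12131121232322032111221202100) (Net.cons (nat_lit 4) (nat_lit 0x902010b0e0709060501020d010100) (Net.cons (nat_lit 8) (nat_lit 0x29000a001300c4007000420042) (Net.cons (nat_lit 16) (nat_lit 0xdb00004efc000080e800001500) (Net.cons (nat_lit 32) (nat_lit 0x10920c0000000070000000) (Net.cons (nat_lit 64) (nat_lit 0x55839cfead5500) (Net.cons (nat_lit 32) (nat_lit 0x2c07eb00000000b0296458)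 (Net.cons (nat_lit 16) (nat_lit 0x270000eb2d0000e4a5000081d6) (Net.cons (nat_lit 8) (nat_lit 0xa9000000e40014006d004000c2) (Net.cons (nat_lit 4) (nat_lit 0xd0f060802000a020e0e06090d0f08) (Net.cons (nat_lit 2) (nat_lit 0x32221202323013023330332130010) (Net.cons (nat_lit 1) (nat_lit 0x1405511114011555015515510544) Net.nil)))))))))))))

theorem v_g169_ok : Net.ok 120 v_g169 = true := by decide +kernel

noncomputable def v_g170 : Net := (Net.cons (nat_lit 1) (nat_lit 0x40440104404050011000100010000) (Net.cons (nat_lit 2) (nat_lit 0x20202000012032030010300230000) (Net.cons (nat_lit 4) (nat_lit 0x105050500090b000a0800010c0000) (Net.cons (nat_lit 8) (nat_lit 0x430028008100c7003800500000) (Net.cons (nat_lit 16) (nat_lit 0x58000002110000020e00000000) (Net.cons (nat_lit 32) (nat_lit 0xd000200000000002000000) (Net.cons (nat_lit 64) (nat_lit 0x90003922418000) (Net.cons (nat_lit 32) (nat_lit 0xd0002400000000062e2200)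 (Net.cons (nat_lit 16) (nat_lit 0x5a00000f110000c30e00004090) (Net.cons (nat_lit 8) (nat_lit 0x5b0028008100c7003800500000) (Net.cons (nat_lit 4) (nat_lit 0x105050500090b000a0800010c0000) (Net.cons (nat_lit 2) (nat_lit 0x20202000012032030010300230000) (Net.cons (nat_lit 1) (nat_lit 0x40440104414050011000100010000) Net.nil)))))))))))))

theorem v_g170_ok : Net.ok 120 v_g170 = true := by decide +kernel

noncomputable def v_g171 : Net := (Net.cons (nat_lit 1) (nat_lit 0x410000000004041000000000004000) (Net.cons (nat_lit 2) (nat_lit 0x11030000002312110000200020000) (Net.cons (nat_lit 4) (nat_lit 0xc070b0000000d0800000001080000) (Net.cons (nat_lit 8) (nat_lit 0x85002800400000002800940000) (Net.cons (nat_lit 16) (nat_lit 0x100000840200000000) (Net.cons (nat_lit 32) (nat_lit 0x1003010000000000000000) (Net.cons (nat_lit 64) (nat_lit 0x50820520004100) (Net.cons (nat_lit 32) (nat_lit 0x18030b0000000008062400)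 (Net.cons (nat_lit 16) (nat_lit 0x100000840a00008010) (Net.cons (nat_lit 8) (nat_lit 0xb5002800400000002800940000) (Net.cons (nat_lit 4) (nat_lit 0xc070b0000000d0800000001080000) (Net.cons (nat_lit 2) (nat_lit 0x11030000202312110000200020000) (Net.cons (nat_lit 1) (nat_lit 0x410000000014041000000000004000) Net.nil)))))))))))))

theorem v_g171_ok : Net.ok 120 v_g171 = true := by decide +kernel

noncomputable def v_V172 : List Net := [v_g168, v_g169, v_g92, v_g170, v_g100, v_g117, v_g171]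

theorem v_V172_ok : okE 120 v_V172 = true := (okE_cons.2 ⟨v_g168_ok, (okE_cons.2 ⟨v_g169_ok, (okE_cons.2 ⟨v_g92_ok, (okE_cons.2 ⟨v_g170_ok, (okE_cons.2 ⟨v_g100_ok, (okE_cons.2 ⟨v_g117_ok, (okE_cons.2 ⟨v_g171_ok, (okE_nil 120)⟩)⟩)⟩)⟩)⟩)⟩)⟩)

noncomputable def v_V174 : List Net := [v_g169, v_g92, v_g170, v_g100, v_g117, v_g171]

theorem v_V174_ok : okE 120 v_V174 = true := (okE_cons.2 ⟨v_g169_ok, (okE_cons.2 ⟨v_g92_ok, (okE_cons.2 ⟨v_g170_ok, (okE_cons.2 ⟨v_g100_ok, (okE_cons.2 ⟨v_g117_ok, (okE_cons.2 ⟨v_g171_ok, (okE_nil 120)⟩)⟩)⟩)⟩)⟩)⟩)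

noncomputable def v_V175 : List Net := [v_g170, v_g100, v_g117, v_g171]

theorem v_V175_ok : okE 120 v_V175 = true := (okE_cons.2 ⟨v_g170_ok, (okE_cons.2 ⟨v_g100_ok, (okE_cons.2 ⟨v_g117_ok, (okE_cons.2 ⟨v_g171_ok, (okE_nil 120)⟩)⟩)⟩)⟩)

noncomputable def v_V176 : List Net := [v_g100, v_g117, v_g171]

theorem v_V176_ok : okE 120 v_V176 = true := (okE_cons.2 ⟨v_g100_ok, (okE_cons.2 ⟨v_g117_ok, (okE_cons.2 ⟨v_g171_ok, (okE_nil 120)⟩)⟩)⟩)

noncomputable def v_V177 : List Net := [v_g117, v_g171]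

theorem v_V177_ok : okE 120 v_V177 = true := (okE_cons.2 ⟨v_g117_ok, (okE_cons.2 ⟨v_g171_ok, (okE_nil 120)⟩)⟩)

noncomputable def v_V178 : List Net := [v_g171]

theorem v_V178_ok : okE 120 v_V178 = true := (okE_cons.2 ⟨v_g171_ok, (okE_nil 120)⟩)

noncomputable def v_V179 : List Net := []

theorem v_V179_ok : okE 120 v_V179 = true := (okE_nil 120)

noncomputable def vt_c7_cnt_EG : List Net := [v_b, v_p0, v_p1, v_g7, v_g3, v_g4, v_g10, v_g16, v_g11, v_g12, v_g13, v_g22, v_g21, v_g26, v_g19, v_g20, v_g23, v_g30, v_g31, v_g32, v_g37, v_g38, v_g29, v_u, v_g168, v_g169, v_g92, v_g170, v_g100, v_g117, v_g171]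

theorem vt_c7_cnt_EG_ok : okE 120 vt_c7_cnt_EG = true := (okE_cons.2 ⟨v_b_ok, (okE_cons.2 ⟨v_p0_ok, (okE_cons.2 ⟨v_p1_ok, (okE_cons.2 ⟨v_g7_ok, (okE_cons.2 ⟨v_g3_ok, (okE_cons.2 ⟨v_g4_ok, (okE_cons.2 ⟨v_g10_ok, (okE_cons.2 ⟨v_g16_ok, (okE_cons.2 ⟨v_g11_ok, (okE_cons.2 ⟨v_g12_ok, (okE_cons.2 ⟨v_g13_ok, (okE_cons.2 ⟨v_g22_ok, (okE_cons.2 ⟨v_g21_ok, (okE_cons.2 ⟨v_g26_ok, (okE_cons.2 ⟨v_g19_ok, (okE_cons.2 ⟨v_g20_ok, (okE_cons.2 ⟨v_g23_ok, (okE_cons.2 ⟨v_g30_ok, (okE_cons.2 ⟨v_g31_ok, (okE_cons.2 ⟨v_g32_ok, (okE_cons.2 ⟨v_g37_ok, (okE_cons.2 ⟨v_g38_ok, (okE_cons.2 ⟨v_g29_ok, (okE_cons.2 ⟨v_u_ok, (okE_cons.2 ⟨v_g168_ok, (okE_cons.2 ⟨v_g169_ok, (okE_cons.2 ⟨v_g92_ok, (okE_cons.2 ⟨v_g170_ok, (okE_cons.2 ⟨v_g100_ok, (okE_cons.2 ⟨v_g117_ok, (okE_cons.2 ⟨v_g171_ok, (okE_nil 120)⟩)⟩)⟩)⟩)⟩)⟩)⟩)⟩)⟩)⟩)⟩)⟩)⟩)⟩)⟩)⟩)⟩)⟩)⟩)⟩)⟩)⟩)⟩)⟩)⟩)⟩)⟩)⟩)⟩)⟩)⟩)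

noncomputable def v_g180 : Net := (Net.cons (nat_lit 1) (nat_lit 0x14044150510115540541044041010) (Net.cons (nat_lit 2) (nat_lit 0x313212130331233022012123132300) (Net.cons (nat_lit 4) (nat_lit 0xa05010d0a060c0c0409070b000c00) (Net.cons (nat_lit 8) (nat_lit 0xc5000400cc0065004f002c0004) (Net.cons (nat_lit 16) (nat_lit 0x2c0000f140000012a900004900) (Net.cons (nat_lit 32) (nat_lit 0x6303e90000000058000000) (Net.cons (nat_lit 64) (nat_lit 0xa0cd1f5ddf6af6) (Net.cons (nat_lit 32) (nat_lit 0xdd903b000000003e18dcfd) (Net.cons (nat_lit 16) (nat_lit 0x850000b8320000bb4600001f10) (Net.cons (nat_lit 8) (nat_lit 0xfb00c800ec0020007b00f6006f) (Net.cons (nat_lit 4) (nat_lit 0xc02000c0b0b020f0d0901000f0a08) (Net.cons (nat_lit 2) (nat_lit 0x31003001011233311201002303011) (Net.cons (nat_lit 1) (nat_lit 0x100154041511515444540004505510) Net.nil)))))))))))))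

theorem v_g180_ok : Net.ok 120 v_g180 = true := by decide +kernel

noncomputable def v_g181 : Net := (Net.cons (nat_lit 1) (nat_lit 0x5101400154054041100444101400) (Net.cons (nat_lit 2) (nat_lit 0x131223322010232221323003011200) (Net.cons (nat_lit 4) (nat_lit 0xa040d05070e080c040e050400) (Net.cons (nat_lit 8) (nat_lit 0xec00240063007100fb000c0096) (Net.cons (nat_lit 16) (nat_lit 0xeb0000f7120000c09800000100) (Net.cons (nat_lit 32) (nat_lit 0x843aa40000000099000000) (Net.cons (nat_lit 64) (nat_lit 0x9de302fd421cb7) (Net.cons (nat_lit 32) (nat_lit 0x3a6dfa00000000d24d5e17) (Net.cons (nat_lit 16) (nat_lit 0x520000ad150000e10e0000e47c) (Net.cons (nat_lit 8) (nat_lit 0xb600020046003600f30050002b) (Net.cons (nat_lit 4) (nat_lit 0x30c060008010b030a0b0007030c05) (Net.cons (nat_lit 2) (nat_lit 0x31333211001211210332222222200) (Net.cons (nat_lit 1) (nat_lit 0x405515101005550551055144045145) Net.nil)))))))))))))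

theorem v_g181_ok : Net.ok 120 v_g181 = true := by decide +kernel

noncomputable def v_g182 : Net := (Net.cons (nat_lit 1) (nat_lit 0x14541550545105455004104110150) (Net.cons (nat_lit 2) (nat_lit 0x10020212111303221113221302200) (Net.cons (nat_lit 4) (nat_lit 0x80e0b010a0f000f06030c07090c00) (Net.cons (nat_lit 8) (nat_lit 0xa000900170036001700a20030) (Net.cons (nat_lit 16) (nat_lit 0xd90000f20400007c0800000100) (Net.cons (nat_lit 32) (nat_lit 0x1d84460000000066000000) (Net.cons (nat_lit 64) (nat_lit 0xe89be476f72412) (Net.cons (nat_lit 32) (nat_lit 0x6856790000000030f0c36c) (Net.cons (nat_lit 16) (nat_lit 0xf20000328500002d9400005bd8) (Net.cons (nat_lit 8) (nat_lit 0xef008900d6001e006600070072) (Net.cons (nat_lit 4) (nat_lit 0xf0f0d0f0b0c02080603090e020e02) (Net.cons (nat_lit 2) (nat_lit 0x120133200032200202003123030032) (Net.cons (nat_lit 1) (nat_lit 0x4041110410111045055410445550) Net.nil)))))))))))))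

theorem v_g182_ok : Net.ok 120 v_g182 = true := by decide +kernel

noncomputable def vt_c8_K : List Net := [v_g181, v_g182]

theorem vt_c8_K_ok : okE 120 vt_c8_K = true := (okE_cons.2 ⟨v_g181_ok, (okE_cons.2 ⟨v_g182_ok, (okE_nil 120)⟩)⟩)

noncomputable def v_V184 : List Net := [v_g170, v_g113, v_g30]

theorem v_V184_ok : okE 120 v_V184 = true := (okE_cons.2 ⟨v_g170_ok, (okE_cons.2 ⟨v_g113_ok, (okE_cons.2 ⟨v_g30_ok, (okE_nil 120)⟩)⟩)⟩)

noncomputable def v_V186 : List Net := [v_g113, v_g30]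

theorem v_V186_ok : okE 120 v_V186 = true := (okE_cons.2 ⟨v_g113_ok, (okE_cons.2 ⟨v_g30_ok, (okE_nil 120)⟩)⟩)

noncomputable def v_V187 : List Net := [v_g30]

theorem v_V187_ok : okE 120 v_V187 = true := (okE_cons.2 ⟨v_g30_ok, (okE_nil 120)⟩)

noncomputable def v_V188 : List Net := []

theorem v_V188_ok : okE 120 v_V188 = true := (okE_nil 120)

noncomputable def vt_c8_cnt_EG : List Net := [v_g7, v_g3, v_g4, v_g10, v_g16, v_g11, v_g12, v_g13, v_g22, v_g21, v_g26, v_g19, v_g20, v_g23, v_g30, v_g31, v_g32, v_g37, v_g38, v_g29, v_u, v_b, v_p0, v_p1, v_g168, v_g169, v_g92, v_g170, v_g100, v_g117, v_g171, v_g113]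

theorem vt_c8_cnt_EG_ok : okE 120 vt_c8_cnt_EG = true := (okE_cons.2 ⟨v_g7_ok, (okE_cons.2 ⟨v_g3_ok, (okE_cons.2 ⟨v_g4_ok, (okE_cons.2 ⟨v_g10_ok, (okE_cons.2 ⟨v_g16_ok, (okE_cons.2 ⟨v_g11_ok, (okE_cons.2 ⟨v_g12_ok, (okE_cons.2 ⟨v_g13_ok, (okE_cons.2 ⟨v_g22_ok, (okE_cons.2 ⟨v_g21_ok, (okE_cons.2 ⟨v_g26_ok, (okE_cons.2 ⟨v_g19_ok, (okE_cons.2 ⟨v_g20_ok, (okE_cons.2 ⟨v_g23_ok, (okE_cons.2 ⟨v_g30_ok, (okE_cons.2 ⟨v_g31_ok, (okE_cons.2 ⟨v_g32_ok, (okE_cons.2 ⟨v_g37_ok, (okE_cons.2 ⟨v_g38_ok, (okE_cons.2 ⟨v_g29_ok, (okE_cons.2 ⟨v_u_ok, (okE_cons.2 ⟨v_b_ok, (okE_cons.2 ⟨v_p0_ok, (okE_cons.2 ⟨v_p1_ok, (okE_cons.2 ⟨v_g168_ok, (okE_cons.2 ⟨v_g169_ok, (okE_cons.2 ⟨v_g92_ok, (okE_cons.2 ⟨v_g170_ok, (okE_cons.2 ⟨v_g100_ok, (okE_cons.2 ⟨v_g117_ok, (okE_cons.2 ⟨v_g171_ok, (okE_cons.2 ⟨v_g113_ok, (okE_nil 120)⟩)⟩)⟩)⟩)⟩)⟩)⟩)⟩)⟩)⟩)⟩)⟩)⟩)⟩)⟩)⟩)⟩)⟩)⟩)⟩)⟩)⟩)⟩)⟩)⟩)⟩)⟩)⟩)⟩)⟩)⟩)⟩)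

noncomputable def v_g189 : Net := (Net.cons (nat_lit 1) (nat_lit 0x454015004105500010054500050010) (Net.cons (nat_lit 2) (nat_lit 0x222022102020012333112201031020) (Net.cons (nat_lit 4) (nat_lit 0x80d0d090c0a020d0c0504010800) (Net.cons (nat_lit 8) (nat_lit 0x700d200c100b000a600600048) (Net.cons (nat_lit 16) (nat_lit 0x3300006b110000a0f100000300) (Net.cons (nat_lit 32) (nat_lit 0xa007140000000063000000) (Net.cons (nat_lit 64) (nat_lit 0x804c663ac0359) (Net.cons (nat_lit 32) (nat_lit 0xa13bac0000000062b9d7c8) (Net.cons (nat_lit 16) (nat_lit 0x44000063e600004d6b000029d4) (Net.cons (nat_lit 8) (nat_lit 0x69009100f0004c004800cb0084) (Net.cons (nat_lit 4) (nat_lit 0x30c00070d0a0b010f0c000e0a0f07) (Net.cons (nat_lit 2) (nat_lit 0x312103103032303313202222113113) (Net.cons (nat_lit 1) (nat_lit 0x51155441110101415155100440055) Net.nil)))))))))))))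

theorem v_g189_ok : Net.ok 120 v_g189 = true := by decide +kernel

noncomputable def v_g190 : Net := (Net.cons (nat_lit 1) (nat_lit 0x50045551415151011001114441100) (Net.cons (nat_lit 2) (nat_lit 0x210112101313210133211012012300) (Net.cons (nat_lit 4) (nat_lit 0xc030900040b0a080408020d000a00) (Net.cons (nat_lit 8) (nat_lit 0xe900d500aa00d80033002100de) (Net.cons (nat_lit 16) (nat_lit 0x440000f922000084c400006800) (Net.cons (nat_lit 32) (nat_lit 0x570191000000002d000000) (Net.cons (nat_lit 64) (nat_lit 0xbcce603d6bafdd) (Net.cons (nat_lit 32) (nat_lit 0x56791e00000000d5143a0f) (Net.cons (nat_lit 16) (nat_lit 0x560000c97c0000abca00006c84) (Net.cons (nat_lit 8) (nat_lit 0xb900a0008a00e600d000ad00f1) (Net.cons (nat_lit 4) (nat_lit 0x1020a090403060c0c0a0c08030a02) (Net.cons (nat_lit 2) (nat_lit 0x203100221300231021121033010100) (Net.cons (nat_lit 1) (nat_lit 0x144454414444101051454015441501) Net.nil)))))))))))))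

theorem v_g190_ok : Net.ok 120 v_g190 = true := by decide +kernel

noncomputable def v_g191 : Net := (Net.cons (nat_lit 1) (nat_lit 0x11401515114141545450155004454) (Net.cons (nat_lit 2) (nat_lit 0x113012211131313022302200223010) (Net.cons (nat_lit 4) (nat_lit 0x20e010504040201010e0b08000000) (Net.cons (nat_lit 8) (nat_lit 0x3b005000900022000c00ca0040) (Net.cons (nat_lit 16) (nat_lit 0x470000c081000040d000001d00) (Net.cons (nat_lit 32) (nat_lit 0xc00bf00000000e1000000) (Net.cons (nat_lit 64) (nat_lit 0x1b17bffb643f00) (Net.cons (nat_lit 32) (nat_lit 0x3e1b650000000075c26313) (Net.cons (nat_lit 16) (nat_lit 0xa400008e6000009a4000005dc0) (Net.cons (nat_lit 8) (nat_lit 0x8b006400640077002000c80053) (Net.cons (nat_lit 4) (nat_lit 0x30e0d0102050f0d0a0c0d0d050307) (Net.cons (nat_lit 2) (nat_lit 0x100003322212101002130010102020) (Net.cons (nat_lit 1) (nat_lit 0x441514510110141040054154141451) Net.nil)))))))))))))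

theorem v_g191_ok : Net.ok 120 v_g191 = true := by decide +kernel

noncomputable def v_g192 : Net := (Net.cons (nat_lit 1) (nat_lit 0x505114554515004500010511044400) (Net.cons (nat_lit 2) (nat_lit 0x313023021020001121123001323000) (Net.cons (nat_lit 4) (nat_lit 0x1010207040e0f00020a0c090b0000) (Net.cons (nat_lit 8) (nat_lit 0x5400aa005d00780075000d0000) (Net.cons (nat_lit 16) (nat_lit 0xb0000621c0000224c00001200) (Net.cons (nat_lit 32) (nat_lit 0x101960000000070000000) (Net.cons (nat_lit 64) (nat_lit 0xc0952e75511299) (Net.cons (nat_lit 32) (nat_lit 0xb9f6840000000074d05307) (Net.cons (nat_lit 16) (nat_lit 0x8100001ca50000e82600008996) (Net.cons (nat_lit 8) (nat_lit 0xf70073000600ab009e001b0011) (Net.cons (nat_lit 4) (nat_lit 0x604030b0c0e0a0a0a0a0108070200) (Net.cons (nat_lit 2) (nat_lit 0x221001133202212301203101032203) (Net.cons (nat_lit 1) (nat_lit 0x445144504411545500111411444404) Net.nil)))))))))))))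

theorem v_g192_ok : Net.ok 120 v_g192 = true := by decide +kernel

noncomputable def v_g193 : Net := (Net.cons (nat_lit 1) (nat_lit 0x4000000404001111001000005400) (Net.cons (nat_lit 2) (nat_lit 0x32223002012210010120000000) (Net.cons (nat_lit 4) (nat_lit 0x301010a0804020000000209000400) (Net.cons (nat_lit 8) (nat_lit 0xc7009000040045001800380000) (Net.cons (nat_lit 16) (nat_lit 0x90000002840000220000000200) (Net.cons (nat_lit 32) (nat_lit 0x1800000000012000000) (Net.cons (nat_lit 64) (nat_lit 0x2002d1120c0700) (Net.cons (nat_lit 32) (nat_lit 0x8001a0000000009e003802) (Net.cons (nat_lit 16) (nat_lit 0x940000c28400006b0800000a30) (Net.cons (nat_lit 8) (nat_lit 0xd7009000040045001800380040) (Net.cons (nat_lit 4) (nat_lit 0x301010a0804020000000209000400) (Net.cons (nat_lit 2) (nat_lit 0x32223002012210010120000000) (Net.cons (nat_lit 1) (nat_lit 0x4000000404001111001000005400) Net.nil)))))))))))))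

theorem v_g193_ok : Net.ok 120 v_g193 = true := by decide +kernel

noncomputable def v_g194 : Net := (Net.cons (nat_lit 1) (nat_lit 0x5000100404001111001100111400) (Net.cons (nat_lit 2) (nat_lit 0x232211102002210010120220000) (Net.cons (nat_lit 4) (nat_lit 0x501020c04020002000609000400) (Net.cons (nat_lit 8) (nat_lit 0x7009100040065001000100000) (Net.cons (nat_lit 16) (nat_lit 0x410000020000002a4000000200) (Net.cons (nat_lit 32) (nat_lit 0x1000000000002000000) (Net.cons (nat_lit 64) (nat_lit 0x20402040304) (Net.cons (nat_lit 32) (nat_lit 0x4101200000000086603802) (Net.cons (nat_lit 16) (nat_lit 0x410000821400006b40000022bc) (Net.cons (nat_lit 8) (nat_lit 0x1f009100040045001000300060) (Net.cons (nat_lit 4) (nat_lit 0x80501020c04020002000609080408) (Net.cons (nat_lit 2) (nat_lit 0x232211102002210010120220000) (Net.cons (nat_lit 1) (nat_lit 0x105000100414001111001100111400) Net.nil)))))))))))))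

theorem v_g194_ok : Net.ok 120 v_g194 = true := by decide +kernel

noncomputable def vt_c9_K : List Net := [v_g190, v_g191, v_g192, v_g193, v_g166, v_g194]

theorem vt_c9_K_ok : okE 120 vt_c9_K = true := (okE_cons.2 ⟨v_g190_ok, (okE_cons.2 ⟨v_g191_ok, (okE_cons.2 ⟨v_g192_ok, (okE_cons.2 ⟨v_g193_ok, (okE_cons.2 ⟨v_g166_ok, (okE_cons.2 ⟨v_g194_ok, (okE_nil 120)⟩)⟩)⟩)⟩)⟩)⟩)

noncomputable def v_g196 : Net := (Net.cons (nat_lit 1) (nat_lit 0x4010000104141010000100014400) (Net.cons (nat_lit 2) (nat_lit 0x2010211002330030000100020000) (Net.cons (nat_lit 4) (nat_lit 0x1030b020c04030402000400080400) (Net.cons (nat_lit 8) (nat_lit 0x100ac0032005a001000000000) (Net.cons (nat_lit 16) (nat_lit 0x12000000000000124000000000) (Net.cons (nat_lit 32) (nat_lit 0x1030000000000004000000) (Net.cons (nat_lit 64) (nat_lit 0x10311136040504) (Net.cons (nat_lit 32) (nat_lit 0x1233480000000000440300) (Net.cons (nat_lit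 16) (nat_lit 0x120000488400005a4000000480) (Net.cons (nat_lit 8) (nat_lit 0x3100a80036005e001000040044) (Net.cons (nat_lit 4) (nat_lit 0x1030b020c04030402000400080400) (Net.cons (nat_lit 2) (nat_lit 0x2010211002330030000100020000) (Net.cons (nat_lit 1) (nat_lit 0x104010000114141010000100014400) Net.nil)))))))))))))

theorem v_g196_ok : Net.ok 120 v_g196 = true := by decide +kernel

noncomputable def v_g197 : Net := (Net.cons (nat_lit 1) (nat_lit 0x404040100004051151000000010500) (Net.cons (nat_lit 2) (nat_lit 0x1032103111120210031020230000) (Net.cons (nat_lit 4) (nat_lit 0xe04030006090a0201090000080400) (Net.cons (nat_lit 8) (nat_lit 0x7700ca00a10051008900240000) (Net.cons (nat_lit 16) (nat_lit 0x10000640500002d0800000000) (Net.cons (nat_lit 32) (nat_lit 0x1002800000000024000000) (Net.cons (nat_lit 64) (nat_lit 0x302495a4018204) (Net.cons (nat_lit 32) (nat_lit 0x18438000000000240c0900) (Net.cons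 (nat_lit 16) (nat_lit 0x410000764500007d08000004a0) (Net.cons (nat_lit 8) (nat_lit 0x7700ca00a10051008900240040) (Net.cons (nat_lit 4) (nat_lit 0xe04030006090a0201090000080400) (Net.cons (nat_lit 2) (nat_lit 0x1032103111120210031020230000) (Net.cons (nat_lit 1) (nat_lit 0x404040100004051151000000010500) Net.nil)))))))))))))

theorem v_g197_ok : Net.ok 120 v_g197 = true := by decide +kernel

noncomputable def v_V198 : List Net := [v_g196, v_g30, v_g197, v_g92, v_g29]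

theorem v_V198_ok : okE 120 v_V198 = true := (okE_cons.2 ⟨v_g196_ok, (okE_cons.2 ⟨v_g30_ok, (okE_cons.2 ⟨v_g197_ok, (okE_cons.2 ⟨v_g92_ok, (okE_cons.2 ⟨v_g29_ok, (okE_nil 120)⟩)⟩)⟩)⟩)⟩)

noncomputable def v_V200 : List Net := [v_g30, v_g197, v_g92, v_g29]

theorem v_V200_ok : okE 120 v_V200 = true := (okE_cons.2 ⟨v_g30_ok, (okE_cons.2 ⟨v_g197_ok, (okE_cons.2 ⟨v_g92_ok, (okE_cons.2 ⟨v_g29_ok, (okE_nil 120)⟩)⟩)⟩)⟩)

noncomputable def v_V201 : List Net := [v_g197, v_g92, v_g29]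

theorem v_V201_ok : okE 120 v_V201 = true := (okE_cons.2 ⟨v_g197_ok, (okE_cons.2 ⟨v_g92_ok, (okE_cons.2 ⟨v_g29_ok, (okE_nil 120)⟩)⟩)⟩)

noncomputable def v_V202 : List Net := [v_g92, v_g29]

theorem v_V202_ok : okE 120 v_V202 = true := (okE_cons.2 ⟨v_g92_ok, (okE_cons.2 ⟨v_g29_ok, (okE_nil 120)⟩)⟩)

noncomputable def v_V203 : List Net := [v_g29]

theorem v_V203_ok : okE 120 v_V203 = true := (okE_cons.2 ⟨v_g29_ok, (okE_nil 120)⟩)

noncomputable def v_V204 : List Net := []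

theorem v_V204_ok : okE 120 v_V204 = true := (okE_nil 120)

noncomputable def vt_c9_cnt_EG : List Net := [v_b, v_p0, v_p1, v_g7, v_g3, v_g4, v_g10, v_g16, v_g11, v_g12, v_g13, v_g22, v_g21, v_g26, v_g19, v_g20, v_g23, v_g30, v_g31, v_g32, v_g37, v_g38, v_g29, v_u, v_g168, v_g169, v_g92, v_g170, v_g100, v_g117, v_g171, v_g197, v_g196]

theorem vt_c9_cnt_EG_ok : okE 120 vt_c9_cnt_EG = true := (okE_cons.2 ⟨v_b_ok, (okE_cons.2 ⟨v_p0_ok, (okE_cons.2 ⟨v_p1_ok, (okE_cons.2 ⟨v_g7_ok, (okE_cons.2 ⟨v_g3_ok, (okE_cons.2 ⟨v_g4_ok, (okE_cons.2 ⟨v_g10_ok, (okE_cons.2 ⟨v_g16_ok, (okE_cons.2 ⟨v_g11_ok, (okE_cons.2 ⟨v_g12_ok, (okE_cons.2 ⟨v_g13_ok, (okE_cons.2 ⟨v_g22_ok, (okE_cons.2 ⟨v_g21_ok, (okE_cons.2 ⟨v_g26_ok, (okE_cons.2 ⟨v_g19_ok, (okE_cons.2 ⟨v_g20_ok, (okE_cons.2 ⟨v_g23_ok, (okE_cons.2 ⟨v_g30_ok, (okE_cons.2 ⟨v_g31_ok, (okE_cons.2 ⟨v_g32_ok, (okE_cons.2 ⟨v_g37_ok, (okE_cons.2 ⟨v_g38_ok, (okE_cons.2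 ⟨v_g29_ok, (okE_cons.2 ⟨v_u_ok, (okE_cons.2 ⟨v_g168_ok, (okE_cons.2 ⟨v_g169_ok, (okE_cons.2 ⟨v_g92_ok, (okE_cons.2 ⟨v_g170_ok, (okE_cons.2 ⟨v_g100_ok, (okE_cons.2 ⟨v_g117_ok, (okE_cons.2 ⟨v_g171_ok, (okE_cons.2 ⟨v_g197_ok, (okE_cons.2 ⟨v_g196_ok, (okE_nil 120)⟩)⟩)⟩)⟩)⟩)⟩)⟩)⟩)⟩)⟩)⟩)⟩)⟩)⟩)⟩)⟩)⟩)⟩)⟩)⟩)⟩)⟩)⟩)⟩)⟩)⟩)⟩)⟩)⟩)⟩)⟩)⟩)⟩)

noncomputable def v_g205 : Net := (Net.cons (nat_lit 1) (nat_lit 0x415415554145001445401511405140) (Net.cons (nat_lit 2) (nat_lit 0x331232103230331210032022033200) (Net.cons (nat_lit 4) (nat_lit 0x10c0603010c06030e020c06030b00) (Net.cons (nat_lit 8) (nat_lit 0xa4002b00030039003000880004) (Net.cons (nat_lit 16) (nat_lit 0xc0000544a0000c86800001600) (Net.cons (nat_lit 32) (nat_lit 0x2a02130000000018000000) (Net.cons (nat_lit 64) (nat_lit 0x3d2ae39acdc55) (Net.cons (nat_lit 32) (nat_lit 0x3597000000002a8af848) (Net.cons (nat_lit 16) (nat_lit 0x1400004ce5000033fa00005ad0)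 (Net.cons (nat_lit 8) (nat_lit 0xaa002b003700f1007e00a0001e) (Net.cons (nat_lit 4) (nat_lit 0x40105060c09060c020a010704) (Net.cons (nat_lit 2) (nat_lit 0x313230101200211232231220133012) (Net.cons (nat_lit 1) (nat_lit 0x144455515145000455005515505444) Net.nil)))))))))))))

theorem v_g205_ok : Net.ok 120 v_g205 = true := by decide +kernel

noncomputable def v_g206 : Net := (Net.cons (nat_lit 1) (nat_lit 0x55444051155515000015040500054) (Net.cons (nat_lit 2) (nat_lit 0x331112112231213302002033110110) (Net.cons (nat_lit 4) (nat_lit 0xf0d0503090102010e0d0500040000) (Net.cons (nat_lit 8) (nat_lit 0x6000990021005000d4008200a8) (Net.cons (nat_lit 16) (nat_lit 0x3a0000f1a7000060800000e300) (Net.cons (nat_lit 32) (nat_lit 0x8802570000000090000000) (Net.cons (nat_lit 64) (nat_lit 0x86dbe49e49a993) (Net.cons (nat_lit 32) (nat_lit 0xb6e80b00000000a7815c85) (Net.cons (nat_lit 16) (nat_lit 0xe20000ca860000dc0f00001c50)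 (Net.cons (nat_lit 8) (nat_lit 0xc900620068008a007e008c00e6) (Net.cons (nat_lit 4) (nat_lit 0x20b0c0b0e050e0c0101090e09060b) (Net.cons (nat_lit 2) (nat_lit 0x311210311211002223230231223311) (Net.cons (nat_lit 1) (nat_lit 0x555051504055404144415504055114) Net.nil)))))))))))))

theorem v_g206_ok : Net.ok 120 v_g206 = true := by decide +kernel

noncomputable def v_g207 : Net := (Net.cons (nat_lit 1) (nat_lit 0x555014410505010040510005500004) (Net.cons (nat_lit 2) (nat_lit 0x12303231011312020101000023320) (Net.cons (nat_lit 4) (nat_lit 0x70700030c0b0a0a00040a03010000) (Net.cons (nat_lit 8) (nat_lit 0xc40055008900520031004c0020) (Net.cons (nat_lit 16) (nat_lit 0x270000a7150000fa430000d100) (Net.cons (nat_lit 32) (nat_lit 0xa154410000000020000000) (Net.cons (nat_lit 64) (nat_lit 0x53eabce8ac3f4f) (Net.cons (nat_lit 32) (nat_lit 0x1c89cf0000000073430a55) (Net.cons (nat_lit 16) (nat_lit 0xbe0000d0510000e25a00008101)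 (Net.cons (nat_lit 8) (nat_lit 0x71007200c3002c006f002f007a) (Net.cons (nat_lit 4) (nat_lit 0x70007060e0c07000b0c0e00010003) (Net.cons (nat_lit 2) (nat_lit 0x202201023223203220102302332333) (Net.cons (nat_lit 1) (nat_lit 0x150144515045051040514114101141) Net.nil)))))))))))))

theorem v_g207_ok : Net.ok 120 v_g207 = true := by decide +kernel

noncomputable def v_g208 : Net := (Net.cons (nat_lit 1) (nat_lit 0x451051454445554140401441115040) (Net.cons (nat_lit 2) (nat_lit 0x312012003203203122211033200020) (Net.cons (nat_lit 4) (nat_lit 0x106030c01020e0c0b03050e040a00) (Net.cons (nat_lit 8) (nat_lit 0x9d00e200100031004900330004) (Net.cons (nat_lit 16) (nat_lit 0x510000e01f0000610e00000800) (Net.cons (nat_lit 32) (nat_lit 0x12f2040000000021000000) (Net.cons (nat_lit 64) (nat_lit 0x35c01ae36a3a55) (Net.cons (nat_lit 32) (nat_lit 0x570a97000000003420202c) (Net.cons (nat_lit 16) (nat_lit 0x5e0000348f00007bff0000af4b)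 (Net.cons (nat_lit 8) (nat_lit 0x20043005a0017008d0079003e) (Net.cons (nat_lit 4) (nat_lit 0xc0a0e0102070a070f010a040803) (Net.cons (nat_lit 2) (nat_lit 0x330302000203313002010010012232) (Net.cons (nat_lit 1) (nat_lit 0x101111505445450015144445004500) Net.nil)))))))))))))

theorem v_g208_ok : Net.ok 120 v_g208 = true := by decide +kernel

noncomputable def v_g209 : Net := (Net.cons (nat_lit 1) (nat_lit 0x551140450050015401441104150410) (Net.cons (nat_lit 2) (nat_lit 0x121010222220212312321300301320) (Net.cons (nat_lit 4) (nat_lit 0xa0205060104040000000d06080800) (Net.cons (nat_lit 8) (nat_lit 0x82006b00fb0096000f00960092) (Net.cons (nat_lit 16) (nat_lit 0xf70000f259000055c60000d000) (Net.cons (nat_lit 32) (nat_lit 0x6e12e0000000004000000) (Net.cons (nat_lit 64) (nat_lit 0x4e1d996c21f2f6) (Net.cons (nat_lit 32) (nat_lit 0x7961770000000020457392) (Net.cons (nat_lit 16) (nat_lit 0x9a00001b26000095310000f278)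 (Net.cons (nat_lit 8) (nat_lit 0x920018005b00a2006700ab00f4) (Net.cons (nat_lit 4) (nat_lit 0x80404010706080402040903090c0e) (Net.cons (nat_lit 2) (nat_lit 0x310220302200003313303013020020) (Net.cons (nat_lit 1) (nat_lit 0x550140010500154015041401410550) Net.nil)))))))))))))

theorem v_g209_ok : Net.ok 120 v_g209 = true := by decide +kernel

noncomputable def v_g210 : Net := (Net.cons (nat_lit 1) (nat_lit 0x541451054100415550501041050100) (Net.cons (nat_lit 2) (nat_lit 0x132100131330012330212032021200) (Net.cons (nat_lit 4) (nat_lit 0xf05040d070a000601010706000e00) (Net.cons (nat_lit 8) (nat_lit 0x5b004400a6000200420074005c) (Net.cons (nat_lit 16) (nat_lit 0x90000096130000842a00000400) (Net.cons (nat_lit 32) (nat_lit 0xcc90100000000001000000) (Net.cons (nat_lit 64) (nat_lit 0x37d6a945eb4250) (Net.cons (nat_lit 32) (nat_lit 0xb94cd40000000023216102) (Net.cons (nat_lit 16) (nat_lit 0x5c000026cf00003cfa00003c44)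 (Net.cons (nat_lit 8) (nat_lit 0x4700d00036001e00d2007400dc) (Net.cons (nat_lit 4) (nat_lit 0x70d0c0d0702000e09090706080e00) (Net.cons (nat_lit 2) (nat_lit 0x132100131330012330212032021200) (Net.cons (nat_lit 1) (nat_lit 0x541451054100415550501041050100) Net.nil)))))))))))))

theorem v_g210_ok : Net.ok 120 v_g210 = true := by decide +kernel

noncomputable def v_g211 : Net := (Net.cons (nat_lit 1) (nat_lit 0x504540015540404405001500014110) (Net.cons (nat_lit 2) (nat_lit 0x310220300300032110321012001020) (Net.cons (nat_lit 4) (nat_lit 0x20a03060c06060e08020802080200) (Net.cons (nat_lit 8) (nat_lit 0x170088005b00d0006c0012008e) (Net.cons (nat_lit 16) (nat_lit 0x640000754d0000958400002300) (Net.cons (nat_lit 32) (nat_lit 0x49520d0000000008000000) (Net.cons (nat_lit 64) (nat_lit 0x96fd2b0d4d26c6) (Net.cons (nat_lit 32) (nat_lit 0x8167d7000000000a31248a) (Net.cons (nat_lit 16) (nat_lit 0xac0000fda700001dcc00006348)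 (Net.cons (nat_lit 8) (nat_lit 0x17008800df00c900ec000700ae) (Net.cons (nat_lit 4) (nat_lit 0xb0206070e060e07050a0003090a0c) (Net.cons (nat_lit 2) (nat_lit 0x310220302120012110321212001020) (Net.cons (nat_lit 1) (nat_lit 0x504540015540504405401500014110) Net.nil)))))))))))))

theorem v_g211_ok : Net.ok 120 v_g211 = true := by decide +kernel

noncomputable def v_g212 : Net := (Net.cons (nat_lit 1) (nat_lit 0x4000014400044000005000010400) (Net.cons (nat_lit 2) (nat_lit 0x1010032110121020000000030000) (Net.cons (nat_lit 4) (nat_lit 0x5010c0c01070002000200080400) (Net.cons (nat_lit 8) (nat_lit 0x45006000a10002000100040000) (Net.cons (nat_lit 16) (nat_lit 0x40010000160000000000) (Net.cons (nat_lit 32) (nat_lit 0x40204000000000a0000000) (Net.cons (nat_lit 64) (nat_lit 0x402544b0010100) (Net.cons (nat_lit 32) (nat_lit 0x40e14000000000a0041302) (Net.cons (nat_lit 16) (nat_lit 0x40c10000164000000480)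 (Net.cons (nat_lit 8) (nat_lit 0x55006000a10002000100040040) (Net.cons (nat_lit 4) (nat_lit 0x805010c0c01070002000200080400) (Net.cons (nat_lit 2) (nat_lit 0x1010032110121020000000030000) (Net.cons (nat_lit 1) (nat_lit 0x4000014410044000005000010400) Net.nil)))))))))))))

theorem v_g212_ok : Net.ok 120 v_g212 = true := by decide +kernel

noncomputable def vt_c10_K : List Net := [v_g206, v_g207, v_g208, v_g209, v_g210, v_g211, v_g212]

theorem vt_c10_K_ok : okE 120 vt_c10_K = true := (okE_cons.2 ⟨v_g206_ok, (okE_cons.2 ⟨v_g207_ok, (okE_cons.2 ⟨v_g208_ok, (okE_cons.2 ⟨v_g209_ok, (okE_cons.2 ⟨v_g210_ok, (okE_cons.2 ⟨v_g211_ok, (okE_cons.2 ⟨v_g212_ok, (okE_nil 120)⟩)⟩)⟩)⟩)⟩)⟩)⟩)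

noncomputable def v_g214 : Net := (Net.cons (nat_lit 1) (nat_lit 0x4000040400005011001000110000) (Net.cons (nat_lit 2) (nat_lit 0x3020202000301010000200230000) (Net.cons (nat_lit 4) (nat_lit 0x60c03020a00010000000200060000) (Net.cons (nat_lit 8) (nat_lit 0x66008000020040000000400000) (Net.cons (nat_lit 16) (nat_lit 0x21000008200000142000000000) (Net.cons (nat_lit 32) (nat_lit 0x4001010000000000000000) (Net.cons (nat_lit 64) (nat_lit 0x40052502000000) (Net.cons (nat_lit 32) (nat_lit 0x610b810000000000221002) (Net.cons (nat_lit 16) (nat_lit 0x61000088220000542000004088) (Net.cons (nat_lit 8) (nat_lit 0x66008000020040000000400000) (Net.cons (nat_lit 4) (nat_lit 0x60c03020a000100000002000e0008) (Net.cons (nat_lit 2) (nat_lit 0x3020202000301010000200230000) (Net.cons (nat_lit 1) (nat_lit 0x4000040410005011001000110000) Net.nil)))))))))))))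

theorem v_g214_ok : Net.ok 120 v_g214 = true := by decide +kernel

noncomputable def v_g215 : Net := (Net.cons (nat_lit 1) (nat_lit 0x54000540440414004541500540000) (Net.cons (nat_lit 2) (nat_lit 0x323330223300321100123020002000) (Net.cons (nat_lit 4) (nat_lit 0x200080b010404040e090a06060c00) (Net.cons (nat_lit 8) (nat_lit 0xca002d000e00e4007000460008) (Net.cons (nat_lit 16) (nat_lit 0x9a000089110000521900009800) (Net.cons (nat_lit 32) (nat_lit 0x1884310000000002000000) (Net.cons (nat_lit 64) (nat_lit 0x225cb34e78ca40) (Net.cons (nat_lit 32) (nat_lit 0x9a2f2900000000160f0d04) (Net.cons (nat_lit 16) (nat_lit 0xd800008f750000f65b00007e80) (Net.cons (nat_lit 8) (nat_lit 0xc2006d00de00ec0070002e0048) (Net.cons (nat_lit 4) (nat_lit 0x2000809010406040e0b0a0c040e02) (Net.cons (nat_lit 2) (nat_lit 0x333132203300321100121002002200) (Net.cons (nat_lit 1) (nat_lit 0x454000540040414014541500540000) Net.nil)))))))))))))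

theorem v_g215_ok : Net.ok 120 v_g215 = true := by decide +kernel

noncomputable def v_g216 : Net := (Net.cons (nat_lit 1) (nat_lit 0x404000004504044011001000010400) (Net.cons (nat_lit 2) (nat_lit 0x200000222010111011000020010000) (Net.cons (nat_lit 4) (nat_lit 0x100000e0801010000000200000400) (Net.cons (nat_lit 8) (nat_lit 0xc400a000010044001100240000) (Net.cons (nat_lit 16) (nat_lit 0x90000000910000100000000000) (Net.cons (nat_lit 32) (nat_lit 0x1001800000000020000000) (Net.cons (nat_lit 64) (nat_lit 0x1001d022010000) (Net.cons (nat_lit 32) (nat_lit 0xb001a00000000020001002) (Net.cons (nat_lit 16) (nat_lit 0x94000084910000540000000420) (Net.cons (nat_lit 8) (nat_lit 0xc600a000010044001100240040) (Net.cons (nat_lit 4) (nat_lit 0x100000e0801010000000200000400) (Net.cons (nat_lit 2) (nat_lit 0x200000222110111011000020010000) (Net.cons (nat_lit 1) (nat_lit 0x404000004514044011001000010400)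 Net.nil)))))))))))))

theorem v_g216_ok : Net.ok 120 v_g216 = true := by decide +kernel

noncomputable def v_g217 : Net := (Net.cons (nat_lit 1) (nat_lit 0x4400100000045101001100010400) (Net.cons (nat_lit 2) (nat_lit 0x212220000003222200120030000) (Net.cons (nat_lit 4) (nat_lit 0xc090a00000c0002000608080400) (Net.cons (nat_lit 8) (nat_lit 0xd009000800002000000240000) (Net.cons (nat_lit 16) (nat_lit 0x20000008000003a4000004000) (Net.cons (nat_lit 32) (nat_lit 0xc1c00000000000000000) (Net.cons (nat_lit 64) (nat_lit 0x280c402004100) (Net.cons (nat_lit 32) (nat_lit 0xc1c800000000a0481a02) (Net.cons (nat_lit 16) (nat_lit 0x20000009000003a40000044a0) (Net.cons (nat_lit 8) (nat_lit 0x8d009000800002000000240040) (Net.cons (nat_lit 4) (nat_lit 0xc090a00000c0002000608080400) (Net.cons (nat_lit 2) (nat_lit 0x212220000003222200120030000) (Net.cons (nat_lit 1) (nat_lit 0x4400100010045101001100010400) Net.nil)))))))))))))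

theorem v_g217_ok : Net.ok 120 v_g217 = true := by decide +kernel

noncomputable def v_V218 : List Net := [v_g214, v_g215, v_g216, v_g117, v_g217, v_g113]

theorem v_V218_ok : okE 120 v_V218 = true := (okE_cons.2 ⟨v_g214_ok, (okE_cons.2 ⟨v_g215_ok, (okE_cons.2 ⟨v_g216_ok, (okE_cons.2 ⟨v_g117_ok, (okE_cons.2 ⟨v_g217_ok, (okE_cons.2 ⟨v_g113_ok, (okE_nil 120)⟩)⟩)⟩)⟩)⟩)⟩)

noncomputable def v_V220 : List Net := [v_g215, v_g216, v_g117, v_g217, v_g113]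

theorem v_V220_ok : okE 120 v_V220 = true := (okE_cons.2 ⟨v_g215_ok, (okE_cons.2 ⟨v_g216_ok, (okE_cons.2 ⟨v_g117_ok, (okE_cons.2 ⟨v_g217_ok, (okE_cons.2 ⟨v_g113_ok, (okE_nil 120)⟩)⟩)⟩)⟩)⟩)

noncomputable def v_V221 : List Net := [v_g117, v_g217, v_g113]

theorem v_V221_ok : okE 120 v_V221 = true := (okE_cons.2 ⟨v_g117_ok, (okE_cons.2 ⟨v_g217_ok, (okE_cons.2 ⟨v_g113_ok, (okE_nil 120)⟩)⟩)⟩)

noncomputable def v_V222 : List Net := [v_g217, v_g113]

theorem v_V222_ok : okE 120 v_V222 = true := (okE_cons.2 ⟨v_g217_ok, (okE_cons.2 ⟨v_g113_ok, (okE_nil 120)⟩)⟩)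

noncomputable def v_V223 : List Net := [v_g113]

theorem v_V223_ok : okE 120 v_V223 = true := (okE_cons.2 ⟨v_g113_ok, (okE_nil 120)⟩)

noncomputable def v_V224 : List Net := []

theorem v_V224_ok : okE 120 v_V224 = true := (okE_nil 120)

noncomputable def vt_c10_cnt_EG : List Net := [v_b, v_p0, v_p1, v_g7, v_g3, v_g4, v_g10, v_g16, v_g11, v_g12, v_g13, v_g22, v_g21, v_g26, v_g19, v_g20, v_g23, v_g30, v_g31, v_g32, v_g37, v_g38, v_g29, v_u, v_g214, v_g215, v_g216, v_g117, v_g217, v_g113]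

theorem vt_c10_cnt_EG_ok : okE 120 vt_c10_cnt_EG = true := (okE_cons.2 ⟨v_b_ok, (okE_cons.2 ⟨v_p0_ok, (okE_cons.2 ⟨v_p1_ok, (okE_cons.2 ⟨v_g7_ok, (okE_cons.2 ⟨v_g3_ok, (okE_cons.2 ⟨v_g4_ok, (okE_cons.2 ⟨v_g10_ok, (okE_cons.2 ⟨v_g16_ok, (okE_cons.2 ⟨v_g11_ok, (okE_cons.2 ⟨v_g12_ok, (okE_cons.2 ⟨v_g13_ok, (okE_cons.2 ⟨v_g22_ok, (okE_cons.2 ⟨v_g21_ok, (okE_cons.2 ⟨v_g26_ok, (okE_cons.2 ⟨v_g19_ok, (okE_cons.2 ⟨v_g20_ok, (okE_cons.2 ⟨v_g23_ok, (okE_cons.2 ⟨v_g30_ok, (okE_cons.2 ⟨v_g31_ok, (okE_cons.2 ⟨v_g32_ok, (okE_cons.2 ⟨v_g37_ok, (okE_cons.2 ⟨v_g38_ok, (okE_cons.2 ⟨v_g29_ok, (okE_cons.2 ⟨v_u_ok, (okE_cons.2 ⟨v_g214_ok, (okE_cons.2 ⟨v_g215_ok, (okE_cons.2 ⟨v_g216_ok, (okE_cons.2 ⟨v_g117_ok, (okE_cons.2 ⟨v_g217_ok, (okE_cons.2 ⟨v_g113_ok, (okE_nil 120)⟩)⟩)⟩)⟩)⟩)⟩)⟩)⟩)⟩)⟩)⟩)⟩)⟩)⟩)⟩)⟩)⟩)⟩)⟩)⟩)⟩)⟩)⟩)⟩)⟩)⟩)⟩)⟩)⟩)⟩)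

noncomputable def v_g225 : Net := (Net.cons (nat_lit 1) (nat_lit 0x541544544551400051101554511514) (Net.cons (nat_lit 2) (nat_lit 0x31311011023211231023321020010) (Net.cons (nat_lit 4) (nat_lit 0x200010d010e04020f0c050b080300) (Net.cons (nat_lit 8) (nat_lit 0xef00de00950073000600840000) (Net.cons (nat_lit 16) (nat_lit 0xbf00007c29000019020000cc00) (Net.cons (nat_lit 32) (nat_lit 0x442f98000000008a000000) (Net.cons (nat_lit 64) (nat_lit 0xe5e1b1cf300e4d) (Net.cons (nat_lit 32) (nat_lit 0xa35c810000000041b554ca) (Net.cons (nat_lit 16) (nat_lit 0x600000ba9700008a4600007634) (Net.cons (nat_lit 8) (nat_lit 0x1200fb00760033003a00de002f) (Net.cons (nat_lit 4) (nat_lit 0x20b080f0a0c0f030f0e0107080301) (Net.cons (nat_lit 2) (nat_lit 0x330101232123112133113332332032) (Net.cons (nat_lit 1) (nat_lit 0x10510410014145505444151444441) Net.nil)))))))))))))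

theorem v_g225_ok : Net.ok 120 v_g225 = true := by decide +kernel

noncomputable def v_g226 : Net := (Net.cons (nat_lit 1) (nat_lit 0x554050454051550514055500404400) (Net.cons (nat_lit 2) (nat_lit 0x2131033231012301200230201310) (Net.cons (nat_lit 4) (nat_lit 0xe070806030c0a030a0f0200000000) (Net.cons (nat_lit 8) (nat_lit 0x53006c002500c9007300d10024) (Net.cons (nat_lit 16) (nat_lit 0xc80000e0530000921600000c00) (Net.cons (nat_lit 32) (nat_lit 0x690100000000000a000000) (Net.cons (nat_lit 64) (nat_lit 0x89bd9c1f72bee0) (Net.cons (nat_lit 32) (nat_lit 0xae441000000000edd9d23e) (Net.cons (nat_lit 16) (nat_lit 0x1600002b920000c0350000449e) (Net.cons (nat_lit 8) (nat_lit 0x9000c200c10014002700cf0085) (Net.cons (nat_lit 4) (nat_lit 0xb020a03010c0b0104080f02000a0e) (Net.cons (nat_lit 2) (nat_lit 0x131132300100232230300200311320) (Net.cons (nat_lit 1) (nat_lit 0x141001415041004510051440051504) Net.nil)))))))))))))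

theorem v_g226_ok : Net.ok 120 v_g226 = true := by decide +kernel

noncomputable def v_g227 : Net := (Net.cons (nat_lit 1) (nat_lit 0x104000014441151445540414511110) (Net.cons (nat_lit 2) (nat_lit 0x303103022221222120001300031000) (Net.cons (nat_lit 4) (nat_lit 0x30f010a0c08020f0a080f02070300) (Net.cons (nat_lit 8) (nat_lit 0xe90024002200bc006800f90005) (Net.cons (nat_lit 16) (nat_lit 0xd5000068570000144400009200) (Net.cons (nat_lit 32) (nat_lit 0xc2113500000000c8000000) (Net.cons (nat_lit 64) (nat_lit 0x52be71fe80290e) (Net.cons (nat_lit 32) (nat_lit 0xde775000000002e5a561e) (Net.cons (nat_lit 16) (nat_lit 0x6a0000290500001e570000747b) (Net.cons (nat_lit 8) (nat_lit 0x4b00f400d700f9006d00500000) (Net.cons (nat_lit 4) (nat_lit 0xa0d0e0b05080b0e0e010507030405) (Net.cons (nat_lit 2) (nat_lit 0x2231021300013221212113312130) (Net.cons (nat_lit 1) (nat_lit 0x505540154045540410500115454154) Net.nil)))))))))))))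

theorem v_g227_ok : Net.ok 120 v_g227 = true := by decide +kernel

noncomputable def v_g228 : Net := (Net.cons (nat_lit 1) (nat_lit 0x15100150451554541151501410400) (Net.cons (nat_lit 2) (nat_lit 0x101223202120202110300132010110) (Net.cons (nat_lit 4) (nat_lit 0xd01040a03080403080304030a0a00) (Net.cons (nat_lit 8) (nat_lit 0x400068000d0021002d00030050) (Net.cons (nat_lit 16) (nat_lit 0x490000a2280000293400000800) (Net.cons (nat_lit 32) (nat_lit 0x20ac090000000080000000) (Net.cons (nat_lit 64) (nat_lit 0x1762e0a4f0cfcd) (Net.cons (nat_lit 32) (nat_lit 0xdd5e1f00000000289de1a1) (Net.cons (nat_lit 16) (nat_lit 0x6c00008d1800003acb0000bc07) (Net.cons (nat_lit 8) (nat_lit 0xc6003800a900b3009d008700f0) (Net.cons (nat_lit 4) (nat_lit 0xc070609060a07000f090503050800) (Net.cons (nat_lit 2) (nat_lit 0x231233313120302201310032030210) (Net.cons (nat_lit 1) (nat_lit 0x545110511451554000111401540104) Net.nil)))))))))))))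

theorem v_g228_ok : Net.ok 120 v_g228 = true := by decide +kernel

noncomputable def v_g229 : Net := (Net.cons (nat_lit 1) (nat_lit 0x141010144114110155514541404540) (Net.cons (nat_lit 2) (nat_lit 0x113320320300323220103111123210) (Net.cons (nat_lit 4) (nat_lit 0x403060f0004050a050f0d08070100) (Net.cons (nat_lit 8) (nat_lit 0x200020006d00a500a000010060) (Net.cons (nat_lit 16) (nat_lit 0x5400003fc5000020b600002d00) (Net.cons (nat_lit 32) (nat_lit 0x853c100000000001000000) (Net.cons (nat_lit 64) (nat_lit 0x47b7b169800ac0) (Net.cons (nat_lit 32) (nat_lit 0x6f4bc6000000005cf09a8e) (Net.cons (nat_lit 16) (nat_lit 0x3d000001540000c3490000a179) (Net.cons (nat_lit 8) (nat_lit 0x500059006700c80052006f0095) (Net.cons (nat_lit 4) (nat_lit 0xf0a0c0b03010208090d0b02080b0a) (Net.cons (nat_lit 2) (nat_lit 0x122111100323123030302310100221) (Net.cons (nat_lit 1) (nat_lit 0x15145515114141004054445441510) Net.nil)))))))))))))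

theorem v_g229_ok : Net.ok 120 v_g229 = true := by decide +kernel

noncomputable def v_g230 : Net := (Net.cons (nat_lit 1) (nat_lit 0x44410050504145000001000100000) (Net.cons (nat_lit 2) (nat_lit 0x3010000002123020001020200000) (Net.cons (nat_lit 4) (nat_lit 0x90f0f020804060802000b00080000) (Net.cons (nat_lit 8) (nat_lit 0x8f000200240002001800200000) (Net.cons (nat_lit 16) (nat_lit 0x1000000a440000128000004000) (Net.cons (nat_lit 32) (nat_lit 0x4060000000000022000000) (Net.cons (nat_lit 64) (nat_lit 0x40211532044100) (Net.cons (nat_lit 32) (nat_lit 0x406f08000000002a801302) (Net.cons (nat_lit 16) (nat_lit 0x900000424e0000128800004028) (Net.cons (nat_lit 8) (nat_lit 0xb7000a002c0002001800200000) (Net.cons (nat_lit 4) (nat_lit 0x90f0f020804060802000b00080000) (Net.cons (nat_lit 2) (nat_lit 0x3010000102123020001020200000) (Net.cons (nat_lit 1) (nat_lit 0x144410050504145000001000100000) Net.nil)))))))))))))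

theorem v_g230_ok : Net.ok 120 v_g230 = true := by decide +kernel

noncomputable def v_g231 : Net := (Net.cons (nat_lit 1) (nat_lit 0x4410040000154111000000010400) (Net.cons (nat_lit 2) (nat_lit 0x221000222000231032011200020000) (Net.cons (nat_lit 4) (nat_lit 0xc04000a0200080003010000080400) (Net.cons (nat_lit 8) (nat_lit 0x8008c00830047003500000000) (Net.cons (nat_lit 16) (nat_lit 0x40000318400000a0300005000) (Net.cons (nat_lit 32) (nat_lit 0x40800000000001000000) (Net.cons (nat_lit 64) (nat_lit 0x851c800300d000) (Net.cons (nat_lit 32) (nat_lit 0x609400000000150a2201) (Net.cons (nat_lit 16) (nat_lit 0x40000318e00004a1300005080) (Net.cons (nat_lit 8) (nat_lit 0x9008c00830047003500000040) (Net.cons (nat_lit 4) (nat_lit 0xe04000a0200080003010000080400) (Net.cons (nat_lit 2) (nat_lit 0x221000222200231032011200020000) (Net.cons (nat_lit 1) (nat_lit 0x104410040000154111000000010400) Net.nil)))))))))))))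

theorem v_g231_ok : Net.ok 120 v_g231 = true := by decide +kernel

noncomputable def vt_c11_K : List Net := [v_g226, v_g227, v_g228, v_g229, v_g230, v_g231, v_g93]

theorem vt_c11_K_ok : okE 120 vt_c11_K = true := (okE_cons.2 ⟨v_g226_ok, (okE_cons.2 ⟨v_g227_ok, (okE_cons.2 ⟨v_g228_ok, (okE_cons.2 ⟨v_g229_ok, (okE_cons.2 ⟨v_g230_ok, (okE_cons.2 ⟨v_g231_ok, (okE_cons.2 ⟨v_g93_ok, (okE_nil 120)⟩)⟩)⟩)⟩)⟩)⟩)⟩)

noncomputable def v_V233 : List Net := [v_g37, v_g32]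

theorem v_V233_ok : okE 120 v_V233 = true := (okE_cons.2 ⟨v_g37_ok, (okE_cons.2 ⟨v_g32_ok, (okE_nil 120)⟩)⟩)

noncomputable def v_V235 : List Net := [v_g32]

theorem v_V235_ok : okE 120 v_V235 = true := (okE_cons.2 ⟨v_g32_ok, (okE_nil 120)⟩)

noncomputable def v_V236 : List Net := []

theorem v_V236_ok : okE 120 v_V236 = true := (okE_nil 120)

noncomputable def vt_c11_cnt_EG : List Net := [v_b, v_p0, v_p1, v_g7, v_g3, v_g4, v_g10, v_g16, v_g11, v_g12, v_g13, v_g22, v_g21, v_g26, v_g19, v_g20, v_g23, v_g30, v_g31, v_g32, v_g37, v_g38, v_g29, v_u, v_g130, v_g131]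

theorem vt_c11_cnt_EG_ok : okE 120 vt_c11_cnt_EG = true := (okE_cons.2 ⟨v_b_ok, (okE_cons.2 ⟨v_p0_ok, (okE_cons.2 ⟨v_p1_ok, (okE_cons.2 ⟨v_g7_ok, (okE_cons.2 ⟨v_g3_ok, (okE_cons.2 ⟨v_g4_ok, (okE_cons.2 ⟨v_g10_ok, (okE_cons.2 ⟨v_g16_ok, (okE_cons.2 ⟨v_g11_ok, (okE_cons.2 ⟨v_g12_ok, (okE_cons.2 ⟨v_g13_ok, (okE_cons.2 ⟨v_g22_ok, (okE_cons.2 ⟨v_g21_ok, (okE_cons.2 ⟨v_g26_ok, (okE_cons.2 ⟨v_g19_ok, (okE_cons.2 ⟨v_g20_ok, (okE_cons.2 ⟨v_g23_ok, (okE_cons.2 ⟨v_g30_ok, (okE_cons.2 ⟨v_g31_ok, (okE_cons.2 ⟨v_g32_ok, (okE_cons.2 ⟨v_g37_ok, (okE_cons.2 ⟨v_g38_ok, (okE_cons.2 ⟨v_g29_ok, (okE_cons.2 ⟨v_u_ok, (okE_cons.2 ⟨v_g130_ok, (okE_cons.2 ⟨v_g131_ok, (okE_nil 120)⟩)⟩)⟩)⟩)⟩)⟩)⟩)⟩)⟩)⟩)⟩)⟩)⟩)⟩)⟩)⟩)⟩)⟩)⟩)⟩)⟩)⟩)⟩)⟩)⟩)⟩)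

noncomputable def v_g237 : Net := (Net.cons (nat_lit 1) (nat_lit 0x410411551151044011100441400450) (Net.cons (nat_lit 2) (nat_lit 0x200021332010311020312001200) (Net.cons (nat_lit 4) (nat_lit 0x307040d04000102060f080f000400) (Net.cons (nat_lit 8) (nat_lit 0x8b00f900d40044001400aa002c) (Net.cons (nat_lit 16) (nat_lit 0x700000264800001fb100000600) (Net.cons (nat_lit 32) (nat_lit 0x2210000000000027000000) (Net.cons (nat_lit 64) (nat_lit 0x42159e376c8500) (Net.cons (nat_lit 32) (nat_lit 0x2772fb0000000037a40a55) (Net.cons (nat_lit 16) (nat_lit 0x690000098a00008fa30000973a) (Net.cons (nat_lit 8) (nat_lit 0xf7000500bb00f30009006a00db) (Net.cons (nat_lit 4) (nat_lit 0x2080806010b0804050f060b0f0900) (Net.cons (nat_lit 2) (nat_lit 0x332133332333101202122121331102) (Net.cons (nat_lit 1) (nat_lit 0x514141550441540154550101010011) Net.nil)))))))))))))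

theorem v_g237_ok : Net.ok 120 v_g237 = true := by decide +kernel

noncomputable def v_g238 : Net := (Net.cons (nat_lit 1) (nat_lit 0x455555140041405105451541400044) (Net.cons (nat_lit 2) (nat_lit 0x103201122100332222310333321020) (Net.cons (nat_lit 4) (nat_lit 0xb040f0e07040203070904030300) (Net.cons (nat_lit 8) (nat_lit 0x8e00370020000a0010007f001c) (Net.cons (nat_lit 16) (nat_lit 0x50000f0480000e41b00005b00) (Net.cons (nat_lit 32) (nat_lit 0x36b3740000000018000000) (Net.cons (nat_lit 64) (nat_lit 0x3dcdac5fcb7ed0) (Net.cons (nat_lit 32) (nat_lit 0x9d522000000000a735c7c7) (Net.cons (nat_lit 16) (nat_lit 0xf20000dd930000b885000033d7) (Net.cons (nat_lit 8) (nat_lit 0xb700c0003100d5004a005300e5) (Net.cons (nat_lit 4) (nat_lit 0xa000b0b06070204000d03000e0e) (Net.cons (nat_lit 2) (nat_lit 0x133330222031013001200133032300) (Net.cons (nat_lit 1) (nat_lit 0x411441415145451514451004510154) Net.nil)))))))))))))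

theorem v_g238_ok : Net.ok 120 v_g238 = true := by decide +kernel

noncomputable def v_g239 : Net := (Net.cons (nat_lit 1) (nat_lit 0x111051545051044450011044100400) (Net.cons (nat_lit 2) (nat_lit 0x1012120131013231110212203310) (Net.cons (nat_lit 4) (nat_lit 0x4010e0a0c0b070708020408080d00) (Net.cons (nat_lit 8) (nat_lit 0x410006001b00940081004f004c) (Net.cons (nat_lit 16) (nat_lit 0x190000d0200000842100004000) (Net.cons (nat_lit 32) (nat_lit 0x8204990000000000000000) (Net.cons (nat_lit 64) (nat_lit 0xd411591b27e782) (Net.cons (nat_lit 32) (nat_lit 0xf25d1400000000fe990a78) (Net.cons (nat_lit 16) (nat_lit 0x8a00004229000050fa0000ce90) (Net.cons (nat_lit 8) (nat_lit 0x1100a6004b007400bb00dc00bf) (Net.cons (nat_lit 4) (nat_lit 0x70605030500050d0d0f0c0b070c0f) (Net.cons (nat_lit 2) (nat_lit 0x201031020211213003310130211110) (Net.cons (nat_lit 1) (nat_lit 0x151051545151144550011144100440) Net.nil)))))))))))))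

theorem v_g239_ok : Net.ok 120 v_g239 = true := by decide +kernel

noncomputable def v_g240 : Net := (Net.cons (nat_lit 1) (nat_lit 0x515141515101510554501415501004) (Net.cons (nat_lit 2) (nat_lit 0x232302000001102121330010020000) (Net.cons (nat_lit 4) (nat_lit 0x8080e0500040f01090b0a05020000) (Net.cons (nat_lit 8) (nat_lit 0x510000000f000a00400000004d) (Net.cons (nat_lit 16) (nat_lit 0xa300008ca000008f8200008600) (Net.cons (nat_lit 32) (nat_lit 0x43a10c0000000031000000) (Net.cons (nat_lit 64) (nat_lit 0x94ef9b7de75e55) (Net.cons (nat_lit 32) (nat_lit 0x1274ed00000000ba1854cc) (Net.cons (nat_lit 16) (nat_lit 0x7f00009df100009f3e0000b759) (Net.cons (nat_lit 8) (nat_lit 0xe000910017009a00d8000800dd) (Net.cons (nat_lit 4) (nat_lit 0xd090f0401040e00090a0b04020501) (Net.cons (nat_lit 2) (nat_lit 0x232302000201112131230010120000) (Net.cons (nat_lit 1) (nat_lit 0x505141515141510554501015505004)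 Net.nil)))))))))))))

theorem v_g240_ok : Net.ok 120 v_g240 = true := by decide +kernel

noncomputable def v_g241 : Net := (Net.cons (nat_lit 1) (nat_lit 0x100104400104054154554114555400) (Net.cons (nat_lit 2) (nat_lit 0x23131221311303110321012121330) (Net.cons (nat_lit 4) (nat_lit 0x60b0f09080e010b0c080c000a0300) (Net.cons (nat_lit 8) (nat_lit 0x11007a0021006100e700cb00a0) (Net.cons (nat_lit 16) (nat_lit 0x1400006a100000f90000000000) (Net.cons (nat_lit 32) (nat_lit 0x48b410000000004a000000) (Net.cons (nat_lit 64) (nat_lit 0x44b3b17e280e00) (Net.cons (nat_lit 32) (nat_lit 0x3363d1000000006df02741) (Net.cons (nat_lit 16) (nat_lit 0xdd00005fb0000098af00000ca1) (Net.cons (nat_lit 8) (nat_lit 0x7900ef00040099003a00d100dd) (Net.cons (nat_lit 4) (nat_lit 0x60301090d0004080005030e04030a) (Net.cons (nat_lit 2) (nat_lit 0x102021133020030003023121100113) (Net.cons (nat_lit 1) (nat_lit 0x401110151451541101455545400)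 Net.nil)))))))))))))

theorem v_g241_ok : Net.ok 120 v_g241 = true := by decide +kernel

noncomputable def v_g242 : Net := (Net.cons (nat_lit 1) (nat_lit 0x4000050404445001401100110000) (Net.cons (nat_lit 2) (nat_lit 0x20020002001121100320220000) (Net.cons (nat_lit 4) (nat_lit 0x407030800000c0000000600020000) (Net.cons (nat_lit 8) (nat_lit 0x100cd00000088003400200000) (Net.cons (nat_lit 16) (nat_lit 0x8000003000000335000000400) (Net.cons (nat_lit 32) (nat_lit 0x8000480000000043000000) (Net.cons (nat_lit 64) (nat_lit 0x88044953000000) (Net.cons (nat_lit 32) (nat_lit 0x84034a0000000067521002) (Net.cons (nat_lit 16) (nat_lit 0x800008b000000bb54000004a8) (Net.cons (nat_lit 8) (nat_lit 0x3100cd00000088003400200000) (Net.cons (nat_lit 4) (nat_lit 0x407030808080c00000006000a0008) (Net.cons (nat_lit 2) (nat_lit 0x20020002001121100320220000) (Net.cons (nat_lit 1) (nat_lit 0x104000050404445001401100110000)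 Net.nil)))))))))))))

theorem v_g242_ok : Net.ok 120 v_g242 = true := by decide +kernel

noncomputable def vt_c12_K : List Net := [v_g238, v_g239, v_g240, v_g241, v_g242, v_x, v_u]

theorem vt_c12_K_ok : okE 120 vt_c12_K = true := (okE_cons.2 ⟨v_g238_ok, (okE_cons.2 ⟨v_g239_ok, (okE_cons.2 ⟨v_g240_ok, (okE_cons.2 ⟨v_g241_ok, (okE_cons.2 ⟨v_g242_ok, (okE_cons.2 ⟨v_x_ok, (okE_cons.2 ⟨v_u_ok, (okE_nil 120)⟩)⟩)⟩)⟩)⟩)⟩)⟩)

noncomputable def v_g244 : Net := (Net.cons (nat_lit 1) (nat_lit 0x55455550101104114111545010510) (Net.cons (nat_lit 2) (nat_lit 0x2223203023131031301010122210) (Net.cons (nat_lit 4) (nat_lit 0x10d050207030e0f08010c0f0b0200) (Net.cons (nat_lit 8) (nat_lit 0x3900f300f0008c00d3007000a2) (Net.cons (nat_lit 16) (nat_lit 0x6100007a240000042900000800) (Net.cons (nat_lit 32) (nat_lit 0x201e920000000049000000) (Net.cons (nat_lit 64) (nat_lit 0x65a73c79cbb886) (Net.cons (nat_lit 32) (nat_lit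 0xd1826c00000000e9724246) (Net.cons (nat_lit 16) (nat_lit 0x83000019ba000001ed00006528) (Net.cons (nat_lit 8) (nat_lit 0xf0000a009400860064003c00ee) (Net.cons (nat_lit 4) (nat_lit 0x20c0804040a08090802070f030200) (Net.cons (nat_lit 2) (nat_lit 0x232310221100001013301310210) (Net.cons (nat_lit 1) (nat_lit 0x450400150555001154110015105554) Net.nil)))))))))))))

theorem v_g244_ok : Net.ok 120 v_g244 = true := by decide +kernel

noncomputable def v_g245 : Net := (Net.cons (nat_lit 1) (nat_lit 0x4400400400041111000000014400) (Net.cons (nat_lit 2) (nat_lit 0x2032003000312232220020020000) (Net.cons (nat_lit 4) (nat_lit 0x10609080e000b00020204080a0400) (Net.cons (nat_lit 8) (nat_lit 0xd0008008e0062001200200000) (Net.cons (nat_lit 16) (nat_lit 0x100000001400000e0200004000) (Net.cons (nat_lit 32) (nat_lit 0x10c0010000000000000000) (Net.cons (nat_lit 64) (nat_lit 0x10851708004504) (Net.cons (nat_lit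 32) (nat_lit 0x10cb2100000000800a0b00) (Net.cons (nat_lit 16) (nat_lit 0x100000009e00006e02000040a0) (Net.cons (nat_lit 8) (nat_lit 0xd0008008e0062001200200040) (Net.cons (nat_lit 4) (nat_lit 0x90609080e000b00020204080a0400) (Net.cons (nat_lit 2) (nat_lit 0x2032003000312232220020020000) (Net.cons (nat_lit 1) (nat_lit 0x104400400410041111000000014400) Net.nil)))))))))))))

theorem v_g245_ok : Net.ok 120 v_g245 = true := by decide +kernel

noncomputable def v_g246 : Net := (Net.cons (nat_lit 1) (nat_lit 0x405000100404054101401000100400) (Net.cons (nat_lit 2) (nat_lit 0x10012313003121220110020200000) (Net.cons (nat_lit 4) (nat_lit 0xc080303040c0b0202000a00080400) (Net.cons (nat_lit 8) (nat_lit 0x900c800a40027005000200000) (Net.cons (nat_lit 16) (nat_lit 0x60000012000000189000000000) (Net.cons (nat_lit 32) (nat_lit 0x23010000000000000000) (Net.cons (nat_lit 64) (nat_lit 0x20624182048104) (Net.cons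 (nat_lit 32) (nat_lit 0x8330b0000000026901a02) (Net.cons (nat_lit 16) (nat_lit 0x600000194400001b900000022c) (Net.cons (nat_lit 8) (nat_lit 0x900c800a40027005000200040) (Net.cons (nat_lit 4) (nat_lit 0xc080303040c0b0202000a00080400) (Net.cons (nat_lit 2) (nat_lit 0x10012313003121220110020200000) (Net.cons (nat_lit 1) (nat_lit 0x405000100414054101401000100400) Net.nil)))))))))))))

theorem v_g246_ok : Net.ok 120 v_g246 = true := by decide +kernel

noncomputable def v_V247 : List Net := [v_g244, v_g245, v_g116, v_g73, v_g92, v_g246]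

theorem v_V247_ok : okE 120 v_V247 = true := (okE_cons.2 ⟨v_g244_ok, (okE_cons.2 ⟨v_g245_ok, (okE_cons.2 ⟨v_g116_ok, (okE_cons.2 ⟨v_g73_ok, (okE_cons.2 ⟨v_g92_ok, (okE_cons.2 ⟨v_g246_ok, (okE_nil 120)⟩)⟩)⟩)⟩)⟩)⟩)

noncomputable def v_V249 : List Net := [v_g245, v_g116, v_g73, v_g92, v_g246]

theorem v_V249_ok : okE 120 v_V249 = true := (okE_cons.2 ⟨v_g245_ok, (okE_cons.2 ⟨v_g116_ok, (okE_cons.2 ⟨v_g73_ok, (okE_cons.2 ⟨v_g92_ok, (okE_cons.2 ⟨v_g246_ok, (okE_nil 120)⟩)⟩)⟩)⟩)⟩)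

noncomputable def v_V250 : List Net := [v_g116, v_g73, v_g92, v_g246]

theorem v_V250_ok : okE 120 v_V250 = true := (okE_cons.2 ⟨v_g116_ok, (okE_cons.2 ⟨v_g73_ok, (okE_cons.2 ⟨v_g92_ok, (okE_cons.2 ⟨v_g246_ok, (okE_nil 120)⟩)⟩)⟩)⟩)

noncomputable def v_V251 : List Net := [v_g73, v_g92, v_g246]

theorem v_V251_ok : okE 120 v_V251 = true := (okE_cons.2 ⟨v_g73_ok, (okE_cons.2 ⟨v_g92_ok, (okE_cons.2 ⟨v_g246_ok, (okE_nil 120)⟩)⟩)⟩)

noncomputable def v_V252 : List Net := [v_g92, v_g246]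

theorem v_V252_ok : okE 120 v_V252 = true := (okE_cons.2 ⟨v_g92_ok, (okE_cons.2 ⟨v_g246_ok, (okE_nil 120)⟩)⟩)

noncomputable def v_V253 : List Net := [v_g246]

theorem v_V253_ok : okE 120 v_V253 = true := (okE_cons.2 ⟨v_g246_ok, (okE_nil 120)⟩)

noncomputable def v_V254 : List Net := []

theorem v_V254_ok : okE 120 v_V254 = true := (okE_nil 120)

noncomputable def vt_c12_cnt_EG : List Net := [v_b, v_p0, v_p1, v_g7, v_g3, v_g4, v_g10, v_g16, v_g11, v_g12, v_g13, v_g22, v_g21, v_g26, v_g19, v_g20, v_g23, v_g30, v_g31, v_g32, v_g37, v_g38, v_g29, v_u, v_g244, v_g245, v_g116, v_g73, v_g92, v_g246]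

theorem vt_c12_cnt_EG_ok : okE 120 vt_c12_cnt_EG = true := (okE_cons.2 ⟨v_b_ok, (okE_cons.2 ⟨v_p0_ok, (okE_cons.2 ⟨v_p1_ok, (okE_cons.2 ⟨v_g7_ok, (okE_cons.2 ⟨v_g3_ok, (okE_cons.2 ⟨v_g4_ok, (okE_cons.2 ⟨v_g10_ok, (okE_cons.2 ⟨v_g16_ok, (okE_cons.2 ⟨v_g11_ok, (okE_cons.2 ⟨v_g12_ok, (okE_cons.2 ⟨v_g13_ok, (okE_cons.2 ⟨v_g22_ok, (okE_cons.2 ⟨v_g21_ok, (okE_cons.2 ⟨v_g26_ok, (okE_cons.2 ⟨v_g19_ok, (okE_cons.2 ⟨v_g20_ok, (okE_cons.2 ⟨v_g23_ok, (okE_cons.2 ⟨v_g30_ok, (okE_cons.2 ⟨v_g31_ok, (okE_cons.2 ⟨v_g32_ok, (okE_cons.2 ⟨v_g37_ok, (okE_cons.2 ⟨v_g38_ok, (okE_cons.2 ⟨v_g29_ok, (okE_cons.2 ⟨v_u_ok, (okE_cons.2 ⟨v_g244_ok, (okE_cons.2 ⟨v_g245_ok, (okE_cons.2 ⟨v_g116_ok, (okE_cons.2 ⟨v_g73_ok, (okE_cons.2 ⟨v_g92_ok, (okE_cons.2 ⟨v_g246_ok, (okE_nil 120)⟩)⟩)⟩)⟩)⟩)⟩)⟩)⟩)⟩)⟩)⟩)⟩)⟩)⟩)⟩)⟩)⟩)⟩)⟩)⟩)⟩)⟩)⟩)⟩)⟩)⟩)⟩)⟩)⟩)⟩)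

noncomputable def v_g255 : Net := (Net.cons (nat_lit 1) (nat_lit 0x41004005454411055141514005010) (Net.cons (nat_lit 2) (nat_lit 0x130122332131130303223332131130) (Net.cons (nat_lit 4) (nat_lit 0xd0b02060f060706050d0606090000) (Net.cons (nat_lit 8) (nat_lit 0x400045007600d30033005700b8) (Net.cons (nat_lit 16) (nat_lit 0x390000d0440000b50100005000) (Net.cons (nat_lit 32) (nat_lit 0x20582800000000d8000000) (Net.cons (nat_lit 64) (nat_lit 0x600913d803d07c) (Net.cons (nat_lit 32) (nat_lit 0xe34540000000006f3c9335) (Net.cons (nat_lit 16) (nat_lit 0x5d0000fd3b000006300000d096) (Net.cons (nat_lit 8) (nat_lit 0x69007000ff00e300cf005100d5) (Net.cons (nat_lit 4) (nat_lit 0x905020f0d0c0606060505040a010b) (Net.cons (nat_lit 2) (nat_lit 0x32220211131010223021332131320) (Net.cons (nat_lit 1) (nat_lit 0x505000054415455505145144044544) Net.nil)))))))))))))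

theorem v_g255_ok : Net.ok 120 v_g255 = true := by decide +kernel

noncomputable def v_g256 : Net := (Net.cons (nat_lit 1) (nat_lit 0x40104100005545041155105150010) (Net.cons (nat_lit 2) (nat_lit 0x223211221210130220123203230010) (Net.cons (nat_lit 4) (nat_lit 0x90f08000d06050a0800000c010600) (Net.cons (nat_lit 8) (nat_lit 0x2500be00bc0038003200ca00d2) (Net.cons (nat_lit 16) (nat_lit 0x4d0000ca100000419100001600) (Net.cons (nat_lit 32) (nat_lit 0x10410600000000ca000000) (Net.cons (nat_lit 64) (nat_lit 0xa83e54cad8578a) (Net.cons (nat_lit 32) (nat_lit 0xb72c36000000002a851136) (Net.cons (nat_lit 16) (nat_lit 0x7f00008d53000039920000bcdb) (Net.cons (nat_lit 8) (nat_lit 0x1300d10015008000340010009b) (Net.cons (nat_lit 4) (nat_lit 0x907080305020001050508020a0308) (Net.cons (nat_lit 2) (nat_lit 0x232210312001300000102202332323) (Net.cons (nat_lit 1) (nat_lit 0x411504105455115051511115414544) Net.nil)))))))))))))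

theorem v_g256_ok : Net.ok 120 v_g256 = true := by decide +kernel

noncomputable def v_g257 : Net := (Net.cons (nat_lit 1) (nat_lit 0x144105501400011141150040550400) (Net.cons (nat_lit 2) (nat_lit 0x130031033023121122203301023200) (Net.cons (nat_lit 4) (nat_lit 0x7070b06000c0f040c050b04040200) (Net.cons (nat_lit 8) (nat_lit 0x70073006d00cb00ca001f000f) (Net.cons (nat_lit 16) (nat_lit 0x440000a8020000198600004200) (Net.cons (nat_lit 32) (nat_lit 0x410a490000000010000000) (Net.cons (nat_lit 64) (nat_lit 0xf3090b70244672) (Net.cons (nat_lit 32) (nat_lit 0x7ce82b00000000ccd1277e) (Net.cons (nat_lit 16) (nat_lit 0xf20000bad700009aec00001570) (Net.cons (nat_lit 8) (nat_lit 0x13009300b000c600be009b00e4) (Net.cons (nat_lit 4) (nat_lit 0x708090d00060604080b0c04030106) (Net.cons (nat_lit 2) (nat_lit 0x223330210033121201212010023301) (Net.cons (nat_lit 1) (nat_lit 0x405541500440005510510400010514) Net.nil)))))))))))))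

theorem v_g257_ok : Net.ok 120 v_g257 = true := by decide +kernel

noncomputable def v_g258 : Net := (Net.cons (nat_lit 1) (nat_lit 0x514140104441055505554000501000) (Net.cons (nat_lit 2) (nat_lit 0x201033011132023023333033300000) (Net.cons (nat_lit 4) (nat_lit 0xc0f060d090707040b0308070e0800) (Net.cons (nat_lit 8) (nat_lit 0x96000e00140008008e00ce0011) (Net.cons (nat_lit 16) (nat_lit 0xe90000049500009e100000f300) (Net.cons (nat_lit 32) (nat_lit 0x46814000000004f000000) (Net.cons (nat_lit 64) (nat_lit 0x3899c5cf4673b2) (Net.cons (nat_lit 32) (nat_lit 0x253a300000000e2214ac1) (Net.cons (nat_lit 16) (nat_lit 0xf40000de940000862000003c13) (Net.cons (nat_lit 8) (nat_lit 0xc7000d00a20010005800de001a) (Net.cons (nat_lit 4) (nat_lit 0xf0d060d090a0c01010b03050e0505) (Net.cons (nat_lit 2) (nat_lit 0x221230001302102300133223320033) (Net.cons (nat_lit 1) (nat_lit 0x1504040014445105104140045541) Net.nil)))))))))))))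

theorem v_g258_ok : Net.ok 120 v_g258 = true := by decide +kernel

noncomputable def v_g259 : Net := (Net.cons (nat_lit 1) (nat_lit 0x444400110000044101000000114000) (Net.cons (nat_lit 2) (nat_lit 0x201010020000031001001000220000) (Net.cons (nat_lit 4) (nat_lit 0x304010800040e0000000000000000) (Net.cons (nat_lit 8) (nat_lit 0x9001200440001003000000000) (Net.cons (nat_lit 16) (nat_lit 0x100000400400000c0100005000) (Net.cons (nat_lit 32) (nat_lit 0x40200000000080000000) (Net.cons (nat_lit 64) (nat_lit 0x1d34c0044100) (Net.cons (nat_lit 32) (nat_lit 0x241a00000000090002101) (Net.cons (nat_lit 16) (nat_lit 0x18000040140000080500005088) (Net.cons (nat_lit 8) (nat_lit 0xd001200440005003400000000) (Net.cons (nat_lit 4) (nat_lit 0x304010800040e0000000000080008) (Net.cons (nat_lit 2) (nat_lit 0x201010020200031001001000220000) (Net.cons (nat_lit 1) (nat_lit 0x544400110000044101000000114000) Net.nil)))))))))))))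

theorem v_g259_ok : Net.ok 120 v_g259 = true := by decide +kernel

noncomputable def vt_c13_K : List Net := [v_g256, v_g255, v_g257, v_g258, v_g259, v_g165]

theorem vt_c13_K_ok : okE 120 vt_c13_K = true := (okE_cons.2 ⟨v_g256_ok, (okE_cons.2 ⟨v_g255_ok, (okE_cons.2 ⟨v_g257_ok, (okE_cons.2 ⟨v_g258_ok, (okE_cons.2 ⟨v_g259_ok, (okE_cons.2 ⟨v_g165_ok, (okE_nil 120)⟩)⟩)⟩)⟩)⟩)⟩)

noncomputable def vt_c13_cnt_EG : List Net := [v_b, v_p0, v_p1, v_g7, v_g3, v_g4, v_g10, v_g16, v_g11, v_g12, v_g13, v_g22, v_g21, v_g26, v_g19, v_g20, v_g23, v_g30, v_g31, v_g32, v_g37, v_g38, v_g29, v_u, v_g143]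

theorem vt_c13_cnt_EG_ok : okE 120 vt_c13_cnt_EG = true := (okE_cons.2 ⟨v_b_ok, (okE_cons.2 ⟨v_p0_ok, (okE_cons.2 ⟨v_p1_ok, (okE_cons.2 ⟨v_g7_ok, (okE_cons.2 ⟨v_g3_ok, (okE_cons.2 ⟨v_g4_ok, (okE_cons.2 ⟨v_g10_ok, (okE_cons.2 ⟨v_g16_ok, (okE_cons.2 ⟨v_g11_ok, (okE_cons.2 ⟨v_g12_ok, (okE_cons.2 ⟨v_g13_ok, (okE_cons.2 ⟨v_g22_ok, (okE_cons.2 ⟨v_g21_ok, (okE_cons.2 ⟨v_g26_ok, (okE_cons.2 ⟨v_g19_ok, (okE_cons.2 ⟨v_g20_ok, (okE_cons.2 ⟨v_g23_ok, (okE_cons.2 ⟨v_g30_ok, (okE_cons.2 ⟨v_g31_ok, (okE_cons.2 ⟨v_g32_ok, (okE_cons.2 ⟨v_g37_ok, (okE_cons.2 ⟨v_g38_ok, (okE_cons.2 ⟨v_g29_ok, (okE_cons.2 ⟨v_u_ok, (okE_cons.2 ⟨v_g143_ok, (okE_nil 120)⟩)⟩)⟩)⟩)⟩)⟩)⟩)⟩)⟩)⟩)⟩)⟩)⟩)⟩)⟩)⟩)⟩)⟩)⟩)⟩)⟩)⟩)⟩)⟩)⟩)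

noncomputable def v_g261 : Net := (Net.cons (nat_lit 1) (nat_lit 0x555005515450115051110145100514) (Net.cons (nat_lit 2) (nat_lit 0x201120233123220020320010201020) (Net.cons (nat_lit 4) (nat_lit 0x60e0800040e0d040d06040a060800) (Net.cons (nat_lit 8) (nat_lit 0x7700e70016006900940004000c) (Net.cons (nat_lit 16) (nat_lit 0x25000001030000a84a0000a200) (Net.cons (nat_lit 32) (nat_lit 0x53c400000000091000000) (Net.cons (nat_lit 64) (nat_lit 0x7659549f5127af) (Net.cons (nat_lit 32) (nat_lit 0x799b210000000001e1642e) (Net.cons (nat_lit 16) (nat_lit 0xf4000030dd00005d050000f4a3) (Net.cons (nat_lit 8) (nat_lit 0x72006a0004005100d200bc00b3) (Net.cons (nat_lit 4) (nat_lit 0xa0a080e0c0b0907020e000c0205) (Net.cons (nat_lit 2) (nat_lit 0x333021231302023310322231112102) (Net.cons (nat_lit 1) (nat_lit 0x145145140010550145445415505041) Net.nil)))))))))))))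

theorem v_g261_ok : Net.ok 120 v_g261 = true := by decide +kernel

noncomputable def v_g262 : Net := (Net.cons (nat_lit 1) (nat_lit 0x545040045515010404440550001540) (Net.cons (nat_lit 2) (nat_lit 0x120031001202030031223212203020) (Net.cons (nat_lit 4) (nat_lit 0xa060e020c0d0f0a040601050800) (Net.cons (nat_lit 8) (nat_lit 0xc000a5003700e1001300210027) (Net.cons (nat_lit 16) (nat_lit 0x6c00004e880000f06200002200) (Net.cons (nat_lit 32) (nat_lit 0x47a00100000000b1000000) (Net.cons (nat_lit 64) (nat_lit 0x44cbe2fb2b7065) (Net.cons (nat_lit 32) (nat_lit 0x9f1e76000000009f2067be) (Net.cons (nat_lit 16) (nat_lit 0x700002bbe000033290000236f) (Net.cons (nat_lit 8) (nat_lit 0xe9009000dd006a001900d9001e) (Net.cons (nat_lit 4) (nat_lit 0xb070d04050b000b09040d0e0a0b05) (Net.cons (nat_lit 2) (nat_lit 0x310211312230230201133033222111) (Net.cons (nat_lit 1) (nat_lit 0x444405405545441014510411510401) Net.nil)))))))))))))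

theorem v_g262_ok : Net.ok 120 v_g262 = true := by decide +kernel

noncomputable def v_g263 : Net := (Net.cons (nat_lit 1) (nat_lit 0x1400010510051104440450040440) (Net.cons (nat_lit 2) (nat_lit 0x323300232132110200000210210010) (Net.cons (nat_lit 4) (nat_lit 0xa00000c000204010b0607090c00) (Net.cons (nat_lit 8) (nat_lit 0x500005008c005400080030) (Net.cons (nat_lit 16) (nat_lit 0x690000540c0000940200004000) (Net.cons (nat_lit 32) (nat_lit 0x2016520000000020000000) (Net.cons (nat_lit 64) (nat_lit 0x62b471fa0083af) (Net.cons (nat_lit 32) (nat_lit 0x3c5e730000000028104c21) (Net.cons (nat_lit 16) (nat_lit 0x690000d42c000097ae000040d0) (Net.cons (nat_lit 8) (nat_lit 0x200510085008c0054008d0072) (Net.cons (nat_lit 4) (nat_lit 0xb00080c00020c010b0e07060800) (Net.cons (nat_lit 2) (nat_lit 0x323300232132110201001202301020) (Net.cons (nat_lit 1) (nat_lit 0x1400000500051100440450000010) Net.nil)))))))))))))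

theorem v_g263_ok : Net.ok 120 v_g263 = true := by decide +kernel

noncomputable def v_g264 : Net := (Net.cons (nat_lit 1) (nat_lit 0x1000410400554011001100110400) (Net.cons (nat_lit 2) (nat_lit 0x21010221012221020000100210000) (Net.cons (nat_lit 4) (nat_lit 0xd05010a0c010c0002020e00080400) (Net.cons (nat_lit 8) (nat_lit 0x41002e0083000a001000000000) (Net.cons (nat_lit 16) (nat_lit 0x9000000605000016c400000400) (Net.cons (nat_lit 32) (nat_lit 0x5640000000082000000) (Net.cons (nat_lit 64) (nat_lit 0x4f0b2018104) (Net.cons (nat_lit 32) (nat_lit 0x1600000000082e01606) (Net.cons (nat_lit 16) (nat_lit 0xd00000068f00001ec40000000c) (Net.cons (nat_lit 8) (nat_lit 0x57002a0083000e001000040044) (Net.cons (nat_lit 4) (nat_lit 0xd05010a0c010c0002020e00080400) (Net.cons (nat_lit 2) (nat_lit 0x21010221012221020000100210000) (Net.cons (nat_lit 1) (nat_lit 0x101000410400554011001100110400) Net.nil)))))))))))))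

theorem v_g264_ok : Net.ok 120 v_g264 = true := by decide +kernel

noncomputable def v_g265 : Net := (Net.cons (nat_lit 1) (nat_lit 0x4000140504041011401000111400) (Net.cons (nat_lit 2) (nat_lit 0x30000221010022021100120210000) (Net.cons (nat_lit 4) (nat_lit 0xc0109060c01060802000201080400) (Net.cons (nat_lit 8) (nat_lit 0x81009000210026004800040000) (Net.cons (nat_lit 16) (nat_lit 0x40000020450000221000000000) (Net.cons (nat_lit 32) (nat_lit 0x4000000000000020000000) (Net.cons (nat_lit 64) (nat_lit 0xc0404122010004) (Net.cons (nat_lit 32) (nat_lit 0x4020880000000028303202) (Net.cons (nat_lit 16) (nat_lit 0x400000a4550000261800003438) (Net.cons (nat_lit 8) (nat_lit 0x93009000210006005800340070) (Net.cons (nat_lit 4) (nat_lit 0xc0109060c01060802000201080400) (Net.cons (nat_lit 2) (nat_lit 0x30000221110022021100120210000) (Net.cons (nat_lit 1) (nat_lit 0x4000140504041011401000111400) Net.nil)))))))))))))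

theorem v_g265_ok : Net.ok 120 v_g265 = true := by decide +kernel

noncomputable def v_g266 : Net := (Net.cons (nat_lit 1) (nat_lit 0x4000140004041111001100001400) (Net.cons (nat_lit 2) (nat_lit 0x100010233003022010010120000000) (Net.cons (nat_lit 4) (nat_lit 0x10109060404020804040604000400) (Net.cons (nat_lit 8) (nat_lit 0x8000d100240044001000200000) (Net.cons (nat_lit 16) (nat_lit 0x14000020400000a14800000000) (Net.cons (nat_lit 32) (nat_lit 0x43400000000030000000) (Net.cons (nat_lit 64) (nat_lit 0x4c251b2040104) (Net.cons (nat_lit 32) (nat_lit 0x163c80000000078481103) (Net.cons (nat_lit 16) (nat_lit 0x14000020540000a44900000024) (Net.cons (nat_lit 8) (nat_lit 0x8100d100240045001100200041) (Net.cons (nat_lit 4) (nat_lit 0x10109060404020804040604000400) (Net.cons (nat_lit 2) (nat_lit 0x100010233003022010010120000000) (Net.cons (nat_lit 1) (nat_lit 0x104000140014041111001100001400) Net.nil)))))))))))))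

theorem v_g266_ok : Net.ok 120 v_g266 = true := by decide +kernel

noncomputable def v_g267 : Net := (Net.cons (nat_lit 1) (nat_lit 0x4400014001044100000100110400) (Net.cons (nat_lit 2) (nat_lit 0x10023000021000000120220000) (Net.cons (nat_lit 4) (nat_lit 0x10501080500060000000400000400) (Net.cons (nat_lit 8) (nat_lit 0x8100a100000089003000200000) (Net.cons (nat_lit 16) (nat_lit 0x19000000040000104100004000) (Net.cons (nat_lit 32) (nat_lit 0x8041600000000020000000) (Net.cons (nat_lit 64) (nat_lit 0x890070a0004104) (Net.cons (nat_lit 32) (nat_lit 0x8041e00000000020403001) (Net.cons (nat_lit 16) (nat_lit 0x190000010400001841000040a8) (Net.cons (nat_lit 8) (nat_lit 0x8100a100000089003000200040) (Net.cons (nat_lit 4) (nat_lit 0x90501080500060000000400080408) (Net.cons (nat_lit 2) (nat_lit 0x10023000021000000120220000) (Net.cons (nat_lit 1) (nat_lit 0x4400014011044100000100110400) Net.nil)))))))))))))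

theorem v_g267_ok : Net.ok 120 v_g267 = true := by decide +kernel

noncomputable def vt_c14_K : List Net := [v_g262, v_g261, v_g263, v_g264, v_g265, v_g266, v_g267]

theorem vt_c14_K_ok : okE 120 vt_c14_K = true := (okE_cons.2 ⟨v_g262_ok, (okE_cons.2 ⟨v_g261_ok, (okE_cons.2 ⟨v_g263_ok, (okE_cons.2 ⟨v_g264_ok, (okE_cons.2 ⟨v_g265_ok, (okE_cons.2 ⟨v_g266_ok, (okE_cons.2 ⟨v_g267_ok, (okE_nil 120)⟩)⟩)⟩)⟩)⟩)⟩)⟩)

noncomputable def v_V269 : List Net := []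

theorem v_V269_ok : okE 120 v_V269 = true := (okE_nil 120)

noncomputable def vt_c14_cnt_EG : List Net := [v_b, v_p0, v_p1, v_g7, v_g3, v_g4, v_g10, v_g16, v_g11, v_g12, v_g13, v_g22, v_g21, v_g26, v_g19, v_g20, v_g23, v_g30, v_g31, v_g32, v_g37, v_g38, v_g29, v_u]

theorem vt_c14_cnt_EG_ok : okE 120 vt_c14_cnt_EG = true := (okE_cons.2 ⟨v_b_ok, (okE_cons.2 ⟨v_p0_ok, (okE_cons.2 ⟨v_p1_ok, (okE_cons.2 ⟨v_g7_ok, (okE_cons.2 ⟨v_g3_ok, (okE_cons.2 ⟨v_g4_ok, (okE_cons.2 ⟨v_g10_ok, (okE_cons.2 ⟨v_g16_ok, (okE_cons.2 ⟨v_g11_ok, (okE_cons.2 ⟨v_g12_ok, (okE_cons.2 ⟨v_g13_ok, (okE_cons.2 ⟨v_g22_ok, (okE_cons.2 ⟨v_g21_ok, (okE_cons.2 ⟨v_g26_ok, (okE_cons.2 ⟨v_g19_ok, (okE_cons.2 ⟨v_g20_ok, (okE_cons.2 ⟨v_g23_ok, (okE_cons.2 ⟨v_g30_ok, (okE_cons.2 ⟨v_g31_ok, (okE_cons.2 ⟨v_g32_ok, (okE_cons.2 ⟨v_g37_ok, (okE_cons.2 ⟨v_g38_ok, (okE_cons.2 ⟨v_g29_ok, (okE_cons.2 ⟨v_u_ok, (okE_nil 120)⟩)⟩)⟩)⟩)⟩)⟩)⟩)⟩)⟩)⟩)⟩)⟩)⟩)⟩)⟩)⟩)⟩)⟩)⟩)⟩)⟩)⟩)⟩)⟩)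

noncomputable def v_g271 : Net := (Net.cons (nat_lit 1) (nat_lit 0x145401151140010404040051004440) (Net.cons (nat_lit 2) (nat_lit 0x111131312300333322213133102310) (Net.cons (nat_lit 4) (nat_lit 0xf010508060d050d07070502010300) (Net.cons (nat_lit 8) (nat_lit 0xab009a0086004300f5000300a0) (Net.cons (nat_lit 16) (nat_lit 0xb400004550000026330000ec00) (Net.cons (nat_lit 32) (nat_lit 0x90754a0000000054000000) (Net.cons (nat_lit 64) (nat_lit 0xc1b3a55c75ccce) (Net.cons (nat_lit 32) (nat_lit 0x671c800000000054e7bd71) (Net.cons (nat_lit 16) (nat_lit 0x9100008a590000a547000057b3) (Net.cons (nat_lit 8) (nat_lit 0x26007f007f00be007400970038) (Net.cons (nat_lit 4) (nat_lit 0xb0a0e0403070e06060b0305050e02) (Net.cons (nat_lit 2) (nat_lit 0x13112000030222310302033002323) (Net.cons (nat_lit 1) (nat_lit 0x144445410100041011544114404455) Net.nil)))))))))))))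

theorem v_g271_ok : Net.ok 120 v_g271 = true := by decide +kernel

noncomputable def v_g272 : Net := (Net.cons (nat_lit 1) (nat_lit 0x444550144000104155404005554000) (Net.cons (nat_lit 2) (nat_lit 0x311011230001323020122232123000) (Net.cons (nat_lit 4) (nat_lit 0x20207010609060a0f0006060c0000) (Net.cons (nat_lit 8) (nat_lit 0xcc005f00d10034007f00980080) (Net.cons (nat_lit 16) (nat_lit 0x450000b5020000710c00000400) (Net.cons (nat_lit 32) (nat_lit 0xd4434b0000000004000000) (Net.cons (nat_lit 64) (nat_lit 0xdab1833c26cacc) (Net.cons (nat_lit 32) (nat_lit 0x3b842d00000000207cd801) (Net.cons (nat_lit 16) (nat_lit 0xc10000e5c4000047c600008e70) (Net.cons (nat_lit 8) (nat_lit 0x8a00e500b0006d008400b60053) (Net.cons (nat_lit 4) (nat_lit 0x201050b05060c090d030f0d0e0c03) (Net.cons (nat_lit 2) (nat_lit 0x131111211010222030121223222210) (Net.cons (nat_lit 1) (nat_lit 0x544554104540101405500414115540)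 Net.nil)))))))))))))

theorem v_g272_ok : Net.ok 120 v_g272 = true := by decide +kernel

noncomputable def v_g273 : Net := (Net.cons (nat_lit 1) (nat_lit 0x405010000504051011001000111000) (Net.cons (nat_lit 2) (nat_lit 0x11111201002032110000000220000) (Net.cons (nat_lit 4) (nat_lit 0x80e0f020100090902000201000000) (Net.cons (nat_lit 8) (nat_lit 0x99002900800040001800140000) (Net.cons (nat_lit 16) (nat_lit 0x2000004100000b40000001000) (Net.cons (nat_lit 32) (nat_lit 0x1002000000000001000000) (Net.cons (nat_lit 64) (nat_lit 0x10930023008100) (Net.cons (nat_lit 32) (nat_lit 0x1a07080000000019242502) (Net.cons (nat_lit 16) (nat_lit 0x300000c900000f40800001098) (Net.cons (nat_lit 8) (nat_lit 0xf9002900800040001800140000) (Net.cons (nat_lit 4) (nat_lit 0x80e0f020908090902000201080008) (Net.cons (nat_lit 2) (nat_lit 0x11111201102032110000000220000) (Net.cons (nat_lit 1) (nat_lit 0x405010000504051011001000111000)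 Net.nil)))))))))))))

theorem v_g273_ok : Net.ok 120 v_g273 = true := by decide +kernel

noncomputable def v_g274 : Net := (Net.cons (nat_lit 1) (nat_lit 0x1400010000015111004000010000) (Net.cons (nat_lit 2) (nat_lit 0x20010011000122033220000021000) (Net.cons (nat_lit 4) (nat_lit 0x905090604040908020200010a0000) (Net.cons (nat_lit 8) (nat_lit 0x81003100840027005200100000) (Net.cons (nat_lit 16) (nat_lit 0x14000040010000820300004000) (Net.cons (nat_lit 32) (nat_lit 0x2100000000000010000000) (Net.cons (nat_lit 64) (nat_lit 0xa5c1901004c104) (Net.cons (nat_lit 32) (nat_lit 0x21412100000000580a4301) (Net.cons (nat_lit 16) (nat_lit 0x14000040050000a64300004094) (Net.cons (nat_lit 8) (nat_lit 0x91003100840027005200100000) (Net.cons (nat_lit 4) (nat_lit 0x905090604040908020200010a0000) (Net.cons (nat_lit 2) (nat_lit 0x20010011200122033220000021000) (Net.cons (nat_lit 1) (nat_lit 0x101400010010015111004000010000)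 Net.nil)))))))))))))

theorem v_g274_ok : Net.ok 120 v_g274 = true := by decide +kernel

noncomputable def v_g275 : Net := (Net.cons (nat_lit 1) (nat_lit 0x4400140404041111001000000400) (Net.cons (nat_lit 2) (nat_lit 0x1000233000032212031020000000) (Net.cons (nat_lit 4) (nat_lit 0x10509070a04030008000309000000) (Net.cons (nat_lit 8) (nat_lit 0x8500d900260047001000100000) (Net.cons (nat_lit 16) (nat_lit 0x11000029140000200100004000) (Net.cons (nat_lit 32) (nat_lit 0x5048000000000030000000) (Net.cons (nat_lit 64) (nat_lit 0x5108143a044000) (Net.cons (nat_lit 32) (nat_lit 0x50698800000000bc800803) (Net.cons (nat_lit 16) (nat_lit 0x110000a11700006b0100004810) (Net.cons (nat_lit 8) (nat_lit 0x9700d900260047001000100000) (Net.cons (nat_lit 4) (nat_lit 0x10509070a04030008000309000000) (Net.cons (nat_lit 2) (nat_lit 0x1000233000032212031020000000) (Net.cons (nat_lit 1) (nat_lit 0x104400140404041111001000000400)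 Net.nil)))))))))))))

theorem v_g275_ok : Net.ok 120 v_g275 = true := by decide +kernel

noncomputable def vt_c15_K : List Net := [v_g272, v_g271, v_g273, v_g274, v_g275]

theorem vt_c15_K_ok : okE 120 vt_c15_K = true := (okE_cons.2 ⟨v_g272_ok, (okE_cons.2 ⟨v_g271_ok, (okE_cons.2 ⟨v_g273_ok, (okE_cons.2 ⟨v_g274_ok, (okE_cons.2 ⟨v_g275_ok, (okE_nil 120)⟩)⟩)⟩)⟩)⟩)

noncomputable def v_g277 : Net := (Net.cons (nat_lit 1) (nat_lit 0x455410000500141001401000111400) (Net.cons (nat_lit 2) (nat_lit 0x30011230102020100000230000) (Net.cons (nat_lit 4) (nat_lit 0x1000f090601040c02000201000400) (Net.cons (nat_lit 8) (nat_lit 0xc9008c00010080000800000000) (Net.cons (nat_lit 16) (nat_lit 0x14000018450000601400000000) (Net.cons (nat_lit 32) (nat_lit 0x4001000000000004000000) (Net.cons (nat_lit 64) (nat_lit 0x40401005010104) (Net.cons (nat_lit 32) (nat_lit 0xc419820000000008303006) (Net.cons (nat_lit 16)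 (nat_lit 0x1c000038650000e01c0000149c) (Net.cons (nat_lit 8) (nat_lit 0xc900a800210084001800140054) (Net.cons (nat_lit 4) (nat_lit 0x5000f090601040c02000201080408) (Net.cons (nat_lit 2) (nat_lit 0x30011230102020100000230000) (Net.cons (nat_lit 1) (nat_lit 0x455410000500141001401000111400) Net.nil)))))))))))))

theorem v_g277_ok : Net.ok 120 v_g277 = true := by decide +kernel

noncomputable def v_g278 : Net := (Net.cons (nat_lit 1) (nat_lit 0x445400400000150010001000111000) (Net.cons (nat_lit 2) (nat_lit 0x20200012010122120000020210000) (Net.cons (nat_lit 4) (nat_lit 0x804010702090b00020106010c0000) (Net.cons (nat_lit 8) (nat_lit 0x4e008800b10002001100740000) (Net.cons (nat_lit 16) (nat_lit 0x400000300100002e0100000000) (Net.cons (nat_lit 32) (nat_lit 0x4001100000000060000000) (Net.cons (nat_lit 64) (nat_lit 0x810914e1418000) (Net.cons (nat_lit 32) (nat_lit 0x4811110000000060043602) (Net.cons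 (nat_lit 16) (nat_lit 0x420000328300002e0100004038) (Net.cons (nat_lit 8) (nat_lit 0x4e008a00b30002001100740000) (Net.cons (nat_lit 4) (nat_lit 0x804010702090b00020106010c0000) (Net.cons (nat_lit 2) (nat_lit 0x20200012010122120000020210000) (Net.cons (nat_lit 1) (nat_lit 0x545400400010150010001000111000) Net.nil)))))))))))))

theorem v_g278_ok : Net.ok 120 v_g278 = true := by decide +kernel

noncomputable def v_V279 : List Net := [v_g277, v_g278, v_g21, v_g101]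

theorem v_V279_ok : okE 120 v_V279 = true := (okE_cons.2 ⟨v_g277_ok, (okE_cons.2 ⟨v_g278_ok, (okE_cons.2 ⟨v_g21_ok, (okE_cons.2 ⟨v_g101_ok, (okE_nil 120)⟩)⟩)⟩)⟩)

noncomputable def v_V281 : List Net := [v_g278, v_g21, v_g101]

theorem v_V281_ok : okE 120 v_V281 = true := (okE_cons.2 ⟨v_g278_ok, (okE_cons.2 ⟨v_g21_ok, (okE_cons.2 ⟨v_g101_ok, (okE_nil 120)⟩)⟩)⟩)

noncomputable def v_V282 : List Net := [v_g21, v_g101]

theorem v_V282_ok : okE 120 v_V282 = true := (okE_cons.2 ⟨v_g21_ok, (okE_cons.2 ⟨v_g101_ok, (okE_nil 120)⟩)⟩)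

noncomputable def v_V283 : List Net := [v_g101]

theorem v_V283_ok : okE 120 v_V283 = true := (okE_cons.2 ⟨v_g101_ok, (okE_nil 120)⟩)

noncomputable def v_V284 : List Net := []

theorem v_V284_ok : okE 120 v_V284 = true := (okE_nil 120)

noncomputable def vt_c15_cnt_EG : List Net := [v_b, v_p0, v_p1, v_g7, v_g3, v_g4, v_g10, v_g16, v_g11, v_g12, v_g13, v_g22, v_g21, v_g26, v_g19, v_g20, v_g23, v_g30, v_g31, v_g32, v_g37, v_g38, v_g29, v_u, v_g278, v_g101, v_g277, v_g79, v_g80, v_g81]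

theorem vt_c15_cnt_EG_ok : okE 120 vt_c15_cnt_EG = true := (okE_cons.2 ⟨v_b_ok, (okE_cons.2 ⟨v_p0_ok, (okE_cons.2 ⟨v_p1_ok, (okE_cons.2 ⟨v_g7_ok, (okE_cons.2 ⟨v_g3_ok, (okE_cons.2 ⟨v_g4_ok, (okE_cons.2 ⟨v_g10_ok, (okE_cons.2 ⟨v_g16_ok, (okE_cons.2 ⟨v_g11_ok, (okE_cons.2 ⟨v_g12_ok, (okE_cons.2 ⟨v_g13_ok, (okE_cons.2 ⟨v_g22_ok, (okE_cons.2 ⟨v_g21_ok, (okE_cons.2 ⟨v_g26_ok, (okE_cons.2 ⟨v_g19_ok, (okE_cons.2 ⟨v_g20_ok, (okE_cons.2 ⟨v_g23_ok, (okE_cons.2 ⟨v_g30_ok, (okE_cons.2 ⟨v_g31_ok, (okE_cons.2 ⟨v_g32_ok, (okE_cons.2 ⟨v_g37_ok, (okE_cons.2 ⟨v_g38_ok, (okE_cons.2 ⟨v_g29_ok, (okE_cons.2 ⟨v_u_ok, (okE_cons.2 ⟨v_g278_ok, (okE_cons.2 ⟨v_g101_ok, (okE_cons.2 ⟨v_g277_ok, (okE_cons.2 ⟨v_g79_ok, (okE_cons.2 ⟨v_g80_ok, (okE_cons.2 ⟨v_g81_ok, (okE_nil 120)⟩)⟩)⟩)⟩)⟩)⟩)⟩)⟩)⟩)⟩)⟩)⟩)⟩)⟩)⟩)⟩)⟩)⟩)⟩)⟩)⟩)⟩)⟩)⟩)⟩)⟩)⟩)⟩)⟩)⟩)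

noncomputable def v_g285 : Net := (Net.cons (nat_lit 1) (nat_lit 0x511401500100501055100154041040) (Net.cons (nat_lit 2) (nat_lit 0x23003111310312011031122101100) (Net.cons (nat_lit 4) (nat_lit 0x40e0a050b030e000a09020a090c00) (Net.cons (nat_lit 8) (nat_lit 0x780091008100d6001500560061) (Net.cons (nat_lit 16) (nat_lit 0xd40000e1cb00002c0100003000) (Net.cons (nat_lit 32) (nat_lit 0x110c0100000000a5000000) (Net.cons (nat_lit 64) (nat_lit 0xb489c1b76fa4be) (Net.cons (nat_lit 32) (nat_lit 0x27fae400000000678fd911) (Net.cons (nat_lit 16) (nat_lit 0x290000ddb30000c7660000c0d7) (Net.cons (nat_lit 8) (nat_lit 0x9e009a00c60046008b00560068) (Net.cons (nat_lit 4) (nat_lit 0x6080f0a0806000202080b0d070200) (Net.cons (nat_lit 2) (nat_lit 0x302313231310113010122201331100) (Net.cons (nat_lit 1) (nat_lit 0x54044441544154550140401105541) Net.nil)))))))))))))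

theorem v_g285_ok : Net.ok 120 v_g285 = true := by decide +kernel

noncomputable def v_g286 : Net := (Net.cons (nat_lit 1) (nat_lit 0x441415454101505455011551000) (Net.cons (nat_lit 2) (nat_lit 0x301211300021130003233021102000) (Net.cons (nat_lit 4) (nat_lit 0x5010305010a010f0d050f000a0700) (Net.cons (nat_lit 8) (nat_lit 0x3700c000210011008300c60067) (Net.cons (nat_lit 16) (nat_lit 0x20000041840000600000008100) (Net.cons (nat_lit 32) (nat_lit 0xf12800000000094000000) (Net.cons (nat_lit 64) (nat_lit 0x45e6f2f51af442) (Net.cons (nat_lit 32) (nat_lit 0x8e83c400000000e1a0989c) (Net.cons (nat_lit 16) (nat_lit 0x25000024a4000035100000b301) (Net.cons (nat_lit 8) (nat_lit 0x7e00de0038000200c300c60077) (Net.cons (nat_lit 4) (nat_lit 0x5040604040f000a0c010e040e0705) (Net.cons (nat_lit 2) (nat_lit 0x200331020321030003033121002120) (Net.cons (nat_lit 1) (nat_lit 0x441415454101505455015551000) Net.nil)))))))))))))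

theorem v_g286_ok : Net.ok 120 v_g286 = true := by decide +kernel

noncomputable def v_g287 : Net := (Net.cons (nat_lit 1) (nat_lit 0x401444154114100401144041510104) (Net.cons (nat_lit 2) (nat_lit 0x312031001021130120101110203200) (Net.cons (nat_lit 4) (nat_lit 0xd0b0d03030502070500040e0e0c00) (Net.cons (nat_lit 8) (nat_lit 0x87005c001100a80048003400c9) (Net.cons (nat_lit 16) (nat_lit 0x5000007d070000408900008900) (Net.cons (nat_lit 32) (nat_lit 0x4c00800000000004000000) (Net.cons (nat_lit 64) (nat_lit 0x5cc9e31400fd01) (Net.cons (nat_lit 32) (nat_lit 0x6f85c50000000050800d4d) (Net.cons (nat_lit 16) (nat_lit 0xd90000e5cb0000674000009dba) (Net.cons (nat_lit 8) (nat_lit 0x7900db00a400fd00c1003400c3) (Net.cons (nat_lit 4) (nat_lit 0x4070b0b0c0b0f05080e06060500) (Net.cons (nat_lit 2) (nat_lit 0x203130001031030023101110012102) (Net.cons (nat_lit 1) (nat_lit 0x401545154115100401144051510104) Net.nil)))))))))))))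

theorem v_g287_ok : Net.ok 120 v_g287 = true := by decide +kernel

noncomputable def v_g288 : Net := (Net.cons (nat_lit 1) (nat_lit 0x454410004504140001000100004000) (Net.cons (nat_lit 2) (nat_lit 0x110030212220310012220320020000) (Net.cons (nat_lit 4) (nat_lit 0xc040f030006050400000401080000) (Net.cons (nat_lit 8) (nat_lit 0x4f002800c60002004000d00000) (Net.cons (nat_lit 16) (nat_lit 0x40000008140000486200000000) (Net.cons (nat_lit 32) (nat_lit 0x500100000000002c000000) (Net.cons (nat_lit 64) (nat_lit 0x1040442fc44100) (Net.cons (nat_lit 32) (nat_lit 0x580f00000000006c2a2000) (Net.cons (nat_lit 16) (nat_lit 0x400000881600004a620000a030) (Net.cons (nat_lit 8) (nat_lit 0x4f002800c60002006000f00020) (Net.cons (nat_lit 4) (nat_lit 0xd040f030006050400000401080000) (Net.cons (nat_lit 2) (nat_lit 0x110030212320310012220320020000) (Net.cons (nat_lit 1) (nat_lit 0x454410004514140001000100004000)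 Net.nil)))))))))))))

theorem v_g288_ok : Net.ok 120 v_g288 = true := by decide +kernel

noncomputable def vt_c16_K : List Net := [v_g285, v_g286, v_g287, v_g288, v_u]

theorem vt_c16_K_ok : okE 120 vt_c16_K = true := (okE_cons.2 ⟨v_g285_ok, (okE_cons.2 ⟨v_g286_ok, (okE_cons.2 ⟨v_g287_ok, (okE_cons.2 ⟨v_g288_ok, (okE_cons.2 ⟨v_u_ok, (okE_nil 120)⟩)⟩)⟩)⟩)⟩)

noncomputable def vt_c16_cnt_EG : List Net := [v_b, v_p0, v_p1, v_g7, v_g3, v_g4, v_g10, v_g16, v_g11, v_g12, v_g13, v_g22, v_g21, v_g26, v_g19, v_g20, v_g23, v_g30, v_g31, v_g32, v_g37, v_g38, v_g29, v_u]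

theorem vt_c16_cnt_EG_ok : okE 120 vt_c16_cnt_EG = true := (okE_cons.2 ⟨v_b_ok, (okE_cons.2 ⟨v_p0_ok, (okE_cons.2 ⟨v_p1_ok, (okE_cons.2 ⟨v_g7_ok, (okE_cons.2 ⟨v_g3_ok, (okE_cons.2 ⟨v_g4_ok, (okE_cons.2 ⟨v_g10_ok, (okE_cons.2 ⟨v_g16_ok, (okE_cons.2 ⟨v_g11_ok, (okE_cons.2 ⟨v_g12_ok, (okE_cons.2 ⟨v_g13_ok, (okE_cons.2 ⟨v_g22_ok, (okE_cons.2 ⟨v_g21_ok, (okE_cons.2 ⟨v_g26_ok, (okE_cons.2 ⟨v_g19_ok, (okE_cons.2 ⟨v_g20_ok, (okE_cons.2 ⟨v_g23_ok, (okE_cons.2 ⟨v_g30_ok, (okE_cons.2 ⟨v_g31_ok, (okE_cons.2 ⟨v_g32_ok, (okE_cons.2 ⟨v_g37_ok, (okE_cons.2 ⟨v_g38_ok, (okE_cons.2 ⟨v_g29_ok, (okE_cons.2 ⟨v_u_ok, (okE_nil 120)⟩)⟩)⟩)⟩)⟩)⟩)⟩)⟩)⟩)⟩)⟩)⟩)⟩)⟩)⟩)⟩)⟩)⟩)⟩)⟩)⟩)⟩)⟩)⟩)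

noncomputable def v_g290 : Net := (Net.cons (nat_lit 1) (nat_lit 0x401140005401141050404105010544) (Net.cons (nat_lit 2) (nat_lit 0x313030200200122232321102012100) (Net.cons (nat_lit 4) (nat_lit 0x70500060f010e01040e0f08080c00) (Net.cons (nat_lit 8) (nat_lit 0x51002900040062009800090000) (Net.cons (nat_lit 16) (nat_lit 0x49000056200000069800004000) (Net.cons (nat_lit 32) (nat_lit 0x9330000000000081000000) (Net.cons (nat_lit 64) (nat_lit 0xb8e6c4932f55b8) (Net.cons (nat_lit 32) (nat_lit 0x697797000000009c71e609) (Net.cons (nat_lit 16) (nat_lit 0x6000003ad000053a9000005cb) (Net.cons (nat_lit 8) (nat_lit 0x990027001a00e100bd007200f7) (Net.cons (nat_lit 4) (nat_lit 0xc0d060e07020c0504020b01020809) (Net.cons (nat_lit 2) (nat_lit 0x12302032201022232311310302313) (Net.cons (nat_lit 1) (nat_lit 0x500451510514440150504440154145) Net.nil)))))))))))))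

theorem v_g290_ok : Net.ok 120 v_g290 = true := by decide +kernel

noncomputable def v_g291 : Net := (Net.cons (nat_lit 1) (nat_lit 0x55140040515101114055104440050) (Net.cons (nat_lit 2) (nat_lit 0x201112222031003220201032210210) (Net.cons (nat_lit 4) (nat_lit 0x70a0504000f070e0f0d0d060000) (Net.cons (nat_lit 8) (nat_lit 0x7a005b00100006000a00980083) (Net.cons (nat_lit 16) (nat_lit 0x62000018020000198800001100) (Net.cons (nat_lit 32) (nat_lit 0x5200f4000000008a000000) (Net.cons (nat_lit 64) (nat_lit 0xaeb6d3fe791d2d) (Net.cons (nat_lit 32) (nat_lit 0x73d1f80000000063267ab8) (Net.cons (nat_lit 16) (nat_lit 0x2a0000993a0000eeb300009e18) (Net.cons (nat_lit 8) (nat_lit 0x8800bf002200a8002d006d00ac) (Net.cons (nat_lit 4) (nat_lit 0x50d0b01040e0a050804060b050607) (Net.cons (nat_lit 2) (nat_lit 0x212113201300320001213022112302) (Net.cons (nat_lit 1) (nat_lit 0x155001051000111541101015550511) Net.nil)))))))))))))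

theorem v_g291_ok : Net.ok 120 v_g291 = true := by decide +kernel

noncomputable def v_g292 : Net := (Net.cons (nat_lit 1) (nat_lit 0x541040115011501055005154004000) (Net.cons (nat_lit 2) (nat_lit 0x223011320101232220023033210300) (Net.cons (nat_lit 4) (nat_lit 0x60c0e06090903010d000501040300) (Net.cons (nat_lit 8) (nat_lit 0x71008800cd0090002e0069008c) (Net.cons (nat_lit 16) (nat_lit 0x100000eb97000044aa00000e00) (Net.cons (nat_lit 32) (nat_lit 0x407939000000008a000000) (Net.cons (nat_lit 64) (nat_lit 0xacc225daecbd5a) (Net.cons (nat_lit 32) (nat_lit 0x111cbf00000000028a978d) (Net.cons (nat_lit 16) (nat_lit 0xca0000d39600001d6900001e05) (Net.cons (nat_lit 8) (nat_lit 0xbe0047005c00d100b5006500e4) (Net.cons (nat_lit 4) (nat_lit 0xd09030305080b010009040704020d) (Net.cons (nat_lit 2) (nat_lit 0x333001331311121130103020220311) (Net.cons (nat_lit 1) (nat_lit 0x40400411004400150145401510004) Net.nil)))))))))))))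

theorem v_g292_ok : Net.ok 120 v_g292 = true := by decide +kernel

noncomputable def v_g293 : Net := (Net.cons (nat_lit 1) (nat_lit 0x10441510010055540545411410440) (Net.cons (nat_lit 2) (nat_lit 0x323122323213022320113230032330) (Net.cons (nat_lit 4) (nat_lit 0x30c080000000a0204040a00090e00) (Net.cons (nat_lit 8) (nat_lit 0xd7003d00720089003a00640083) (Net.cons (nat_lit 16) (nat_lit 0xb20000657d0000688c00004100) (Net.cons (nat_lit 32) (nat_lit 0x94a8450000000008000000) (Net.cons (nat_lit 64) (nat_lit 0x404ea5ddf5f2c8) (Net.cons (nat_lit 32) (nat_lit 0xb5c11b00000000549a2390) (Net.cons (nat_lit 16) (nat_lit 0x380000475500008c9300001666) (Net.cons (nat_lit 8) (nat_lit 0xf8009e00010080002e007600c2) (Net.cons (nat_lit 4) (nat_lit 0xf060f020107080000010004010e01) (Net.cons (nat_lit 2) (nat_lit 0x223002233001123122033123022223) (Net.cons (nat_lit 1) (nat_lit 0x441440040015445045415500104455) Net.nil)))))))))))))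

theorem v_g293_ok : Net.ok 120 v_g293 = true := by decide +kernel

noncomputable def v_g294 : Net := (Net.cons (nat_lit 1) (nat_lit 0x400400410000045100400000104400) (Net.cons (nat_lit 2) (nat_lit 0x1030003100302020100020201000) (Net.cons (nat_lit 4) (nat_lit 0x70b0a06000d0c02000801080400) (Net.cons (nat_lit 8) (nat_lit 0x5009200100083000800300000) (Net.cons (nat_lit 16) (nat_lit 0x10450000068100004000) (Net.cons (nat_lit 32) (nat_lit 0x4141000000000030000000) (Net.cons (nat_lit 64) (nat_lit 0x41008430005104) (Net.cons (nat_lit 32) (nat_lit 0xc1414a0000000028801601) (Net.cons (nat_lit 16) (nat_lit 0xa450000968900005038) (Net.cons (nat_lit 8) (nat_lit 0x35009200100083000800300040) (Net.cons (nat_lit 4) (nat_lit 0x70b0a06000d0c02000801080400) (Net.cons (nat_lit 2) (nat_lit 0x1030003100302020100020201000) (Net.cons (nat_lit 1) (nat_lit 0x500400410010045100400000104400) Net.nil)))))))))))))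

theorem v_g294_ok : Net.ok 120 v_g294 = true := by decide +kernel

noncomputable def vt_c17_K : List Net := [v_g291, v_g292, v_g293, v_g216, v_g294]

theorem vt_c17_K_ok : okE 120 vt_c17_K = true := (okE_cons.2 ⟨v_g291_ok, (okE_cons.2 ⟨v_g292_ok, (okE_cons.2 ⟨v_g293_ok, (okE_cons.2 ⟨v_g216_ok, (okE_cons.2 ⟨v_g294_ok, (okE_nil 120)⟩)⟩)⟩)⟩)⟩)

noncomputable def v_g296 : Net := (Net.cons (nat_lit 1) (nat_lit 0x440440000000055041001000010100) (Net.cons (nat_lit 2) (nat_lit 0x200031221002022111000000221000) (Net.cons (nat_lit 4) (nat_lit 0x60a0a0c040b080b080200090000) (Net.cons (nat_lit 8) (nat_lit 0xa00b800a40081000c00100000) (Net.cons (nat_lit 16) (nat_lit 0x81000001800000050800004000) (Net.cons (nat_lit 32) (nat_lit 0x62800000000011000000) (Net.cons (nat_lit 64) (nat_lit 0x8120803304c204) (Net.cons (nat_lit 32) (nat_lit 0x2062900000000059280502) (Net.cons (nat_lit 16) (nat_lit 0x89000009840000850c00005084)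 (Net.cons (nat_lit 8) (nat_lit 0x2a00b800a40081000c00100000) (Net.cons (nat_lit 4) (nat_lit 0x4060a0a0c040b080b080200090000) (Net.cons (nat_lit 2) (nat_lit 0x200031221202022111000000221000) (Net.cons (nat_lit 1) (nat_lit 0x540440000000055041001000010100) Net.nil)))))))))))))

theorem v_g296_ok : Net.ok 120 v_g296 = true := by decide +kernel

noncomputable def v_g297 : Net := (Net.cons (nat_lit 1) (nat_lit 0x5410000500151111000000100400) (Net.cons (nat_lit 2) (nat_lit 0x22202231003230230010000200000) (Net.cons (nat_lit 4) (nat_lit 0x806030f00000b0202000001080400) (Net.cons (nat_lit 8) (nat_lit 0x3000700082004700a000100000) (Net.cons (nat_lit 16) (nat_lit 0x2000020100000aa0000006000) (Net.cons (nat_lit 32) (nat_lit 0x5044200000000090000000) (Net.cons (nat_lit 64) (nat_lit 0xd024209300e000) (Net.cons (nat_lit 32) (nat_lit 0x52463100000000b4000a00) (Net.cons (nat_lit 16) (nat_lit 0x2000028980000eb0000006018)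 (Net.cons (nat_lit 8) (nat_lit 0x380078008a004700a000100040) (Net.cons (nat_lit 4) (nat_lit 0x806030f08080b0202000001080400) (Net.cons (nat_lit 2) (nat_lit 0x22202231103230230010000200000) (Net.cons (nat_lit 1) (nat_lit 0x105410000500151111000000100400) Net.nil)))))))))))))

theorem v_g297_ok : Net.ok 120 v_g297 = true := by decide +kernel

noncomputable def v_V298 : List Net := [v_g296, v_g153, v_g297, v_u, v_g278]

theorem v_V298_ok : okE 120 v_V298 = true := (okE_cons.2 ⟨v_g296_ok, (okE_cons.2 ⟨v_g153_ok, (okE_cons.2 ⟨v_g297_ok, (okE_cons.2 ⟨v_u_ok, (okE_cons.2 ⟨v_g278_ok, (okE_nil 120)⟩)⟩)⟩)⟩)⟩)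

noncomputable def v_V300 : List Net := [v_g153, v_g297, v_u, v_g278]

theorem v_V300_ok : okE 120 v_V300 = true := (okE_cons.2 ⟨v_g153_ok, (okE_cons.2 ⟨v_g297_ok, (okE_cons.2 ⟨v_u_ok, (okE_cons.2 ⟨v_g278_ok, (okE_nil 120)⟩)⟩)⟩)⟩)

noncomputable def v_V301 : List Net := [v_g297, v_u, v_g278]

theorem v_V301_ok : okE 120 v_V301 = true := (okE_cons.2 ⟨v_g297_ok, (okE_cons.2 ⟨v_u_ok, (okE_cons.2 ⟨v_g278_ok, (okE_nil 120)⟩)⟩)⟩)

noncomputable def v_V302 : List Net := [v_u, v_g278]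

theorem v_V302_ok : okE 120 v_V302 = true := (okE_cons.2 ⟨v_u_ok, (okE_cons.2 ⟨v_g278_ok, (okE_nil 120)⟩)⟩)

noncomputable def v_V303 : List Net := [v_g278]

theorem v_V303_ok : okE 120 v_V303 = true := (okE_cons.2 ⟨v_g278_ok, (okE_nil 120)⟩)

noncomputable def v_V304 : List Net := []

theorem v_V304_ok : okE 120 v_V304 = true := (okE_nil 120)

noncomputable def vt_c17_cnt_EG : List Net := [v_b, v_p0, v_p1, v_g7, v_g3, v_g4, v_g10, v_g16, v_g11, v_g12, v_g13, v_g22, v_g21, v_g26, v_g19, v_g20, v_g23, v_g30, v_g31, v_g32, v_g37, v_g38, v_g29, v_u, v_g278, v_g297, v_g153, v_g296]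

theorem vt_c17_cnt_EG_ok : okE 120 vt_c17_cnt_EG = true := (okE_cons.2 ⟨v_b_ok, (okE_cons.2 ⟨v_p0_ok, (okE_cons.2 ⟨v_p1_ok, (okE_cons.2 ⟨v_g7_ok, (okE_cons.2 ⟨v_g3_ok, (okE_cons.2 ⟨v_g4_ok, (okE_cons.2 ⟨v_g10_ok, (okE_cons.2 ⟨v_g16_ok, (okE_cons.2 ⟨v_g11_ok, (okE_cons.2 ⟨v_g12_ok, (okE_cons.2 ⟨v_g13_ok, (okE_cons.2 ⟨v_g22_ok, (okE_cons.2 ⟨v_g21_ok, (okE_cons.2 ⟨v_g26_ok, (okE_cons.2 ⟨v_g19_ok, (okE_cons.2 ⟨v_g20_ok, (okE_cons.2 ⟨v_g23_ok, (okE_cons.2 ⟨v_g30_ok, (okE_cons.2 ⟨v_g31_ok, (okE_cons.2 ⟨v_g32_ok, (okE_cons.2 ⟨v_g37_ok, (okE_cons.2 ⟨v_g38_ok, (okE_cons.2 ⟨v_g29_ok, (okE_cons.2 ⟨v_u_ok, (okE_cons.2 ⟨v_g278_ok, (okE_cons.2 ⟨v_g297_ok, (okE_cons.2 ⟨v_g153_ok, (okE_cons.2 ⟨v_g296_ok, (okE_nil 120)⟩)⟩)⟩)⟩)⟩)⟩)⟩)⟩)⟩)⟩)⟩)⟩)⟩)⟩)⟩)⟩)⟩)⟩)⟩)⟩)⟩)⟩)⟩)⟩)⟩)⟩)⟩)⟩)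

noncomputable def v_g305 : Net := (Net.cons (nat_lit 1) (nat_lit 0x400011101545055541544404540014) (Net.cons (nat_lit 2) (nat_lit 0x2022010202030002101023012220) (Net.cons (nat_lit 4) (nat_lit 0xd0005040a0b0101070706090c0000) (Net.cons (nat_lit 8) (nat_lit 0xfd00640069006f001c0044003c) (Net.cons (nat_lit 16) (nat_lit 0x2a0000dc8b00003c4c00004100) (Net.cons (nat_lit 32) (nat_lit 0x10206a0000000002000000) (Net.cons (nat_lit 64) (nat_lit 0xf13f33358ed9d) (Net.cons (nat_lit 32) (nat_lit 0xd86fd70000000069e555b0) (Net.cons (nat_lit 16) (nat_lit 0xb50000a246000064f8000050ca) (Net.cons (nat_lit 8) (nat_lit 0xa200f8007100a1004d003400c3) (Net.cons (nat_lit 4) (nat_lit 0xe0d0e070800060c0e0e000d040f06) (Net.cons (nat_lit 2) (nat_lit 0x132311320220120012223212030223) (Net.cons (nat_lit 1) (nat_lit 0x5150145045054044115401104010) Net.nil)))))))))))))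

theorem v_g305_ok : Net.ok 120 v_g305 = true := by decide +kernel

noncomputable def v_g306 : Net := (Net.cons (nat_lit 1) (nat_lit 0x50044444040100545504504040100) (Net.cons (nat_lit 2) (nat_lit 0x3230310311212002332320200200) (Net.cons (nat_lit 4) (nat_lit 0x20d020f0000070f040c0000060100) (Net.cons (nat_lit 8) (nat_lit 0xf1008a00a80048001f00f70046) (Net.cons (nat_lit 16) (nat_lit 0x4200009cdc0000a82200009200) (Net.cons (nat_lit 32) (nat_lit 0x5222da000000001a000000) (Net.cons (nat_lit 64) (nat_lit 0x4ba46c3f194796) (Net.cons (nat_lit 32) (nat_lit 0x86bff0000000003a33dcc0) (Net.cons (nat_lit 16) (nat_lit 0x270000ae350000c2a30000c4bd) (Net.cons (nat_lit 8) (nat_lit 0x2200fb008a00fb00df000700a7) (Net.cons (nat_lit 4) (nat_lit 0x70f06050a0b0e0e010e030705020e) (Net.cons (nat_lit 2) (nat_lit 0x11033210012301130312121211332) (Net.cons (nat_lit 1) (nat_lit 0x541450001404055141015410501501) Net.nil)))))))))))))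

theorem v_g306_ok : Net.ok 120 v_g306 = true := by decide +kernel

noncomputable def v_g307 : Net := (Net.cons (nat_lit 1) (nat_lit 0x54101404141444040444014445140) (Net.cons (nat_lit 2) (nat_lit 0x101213131323220333132002302120) (Net.cons (nat_lit 4) (nat_lit 0xd01020402090107030e0805020c00) (Net.cons (nat_lit 8) (nat_lit 0x7c008e003b00540029002c0010) (Net.cons (nat_lit 16) (nat_lit 0x56000081010000a04000004200) (Net.cons (nat_lit 32) (nat_lit 0x4171ae0000000042000000) (Net.cons (nat_lit 64) (nat_lit 0x5a87a6d61d7058) (Net.cons (nat_lit 32) (nat_lit 0x4aecd00000000040173568) (Net.cons (nat_lit 16) (nat_lit 0x1c00003b8f000041c00000dabc) (Net.cons (nat_lit 8) (nat_lit 0x5002400820012002700d00062) (Net.cons (nat_lit 4) (nat_lit 0x90209000a090e050f080c01070b06) (Net.cons (nat_lit 2) (nat_lit 0x201202323103203303310133201010) (Net.cons (nat_lit 1) (nat_lit 0x544044140155055441151155004404) Net.nil)))))))))))))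

theorem v_g307_ok : Net.ok 120 v_g307 = true := by decide +kernel

noncomputable def vt_c18_K : List Net := [v_g306, v_g307]

theorem vt_c18_K_ok : okE 120 vt_c18_K = true := (okE_cons.2 ⟨v_g306_ok, (okE_cons.2 ⟨v_g307_ok, (okE_nil 120)⟩)⟩)

noncomputable def v_g309 : Net := (Net.cons (nat_lit 1) (nat_lit 0x450054051051051555050145105400) (Net.cons (nat_lit 2) (nat_lit 0x202031301012122003031201221000) (Net.cons (nat_lit 4) (nat_lit 0xe09090d0d040c0103030404070000) (Net.cons (nat_lit 8) (nat_lit 0xcc00bd00620025001400a40014) (Net.cons (nat_lit 16) (nat_lit 0xc5000069ef0000630000000300) (Net.cons (nat_lit 32) (nat_lit 0x42006900000000cc000000) (Net.cons (nat_lit 64) (nat_lit 0xa39627ddc98c5e) (Net.cons (nat_lit 32) (nat_lit 0x39274100000000c0e2ef0a) (Net.cons (nat_lit 16) (nat_lit 0x9d0000a2eb0000479d00002576) (Net.cons (nat_lit 8) (nat_lit 0x85009d00a2008d00df0044008a) (Net.cons (nat_lit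 4) (nat_lit 0xf020b0a0e02090d05070f060d0b0a) (Net.cons (nat_lit 2) (nat_lit 0x2023222211211031312232000130) (Net.cons (nat_lit 1) (nat_lit 0x441150551141114504454115155114) Net.nil)))))))))))))

theorem v_g309_ok : Net.ok 120 v_g309 = true := by decide +kernel

noncomputable def v_g310 : Net := (Net.cons (nat_lit 1) (nat_lit 0x5154100554514000104411505554) (Net.cons (nat_lit 2) (nat_lit 0x130300330031102022322132321020) (Net.cons (nat_lit 4) (nat_lit 0xc010202000405040503020c0c0500) (Net.cons (nat_lit 8) (nat_lit 0x7800ee00a3006900c000f30062) (Net.cons (nat_lit 16) (nat_lit 0xc200003c0700008a0300009000) (Net.cons (nat_lit 32) (nat_lit 0x9606090000000029000000) (Net.cons (nat_lit 64) (nat_lit 0x9c5c61e9033358) (Net.cons (nat_lit 32) (nat_lit 0x78b76500000000ab824d4c) (Net.cons (nat_lit 16) (nat_lit 0x8800009a7e0000937e0000ae1e) (Net.cons (nat_lit 8) (nat_lit 0x1600c8002f00f8000400ef00fe) (Net.cons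 (nat_lit 4) (nat_lit 0x40f0404040406010d03040409020a) (Net.cons (nat_lit 2) (nat_lit 0x10103130112210102223100003222) (Net.cons (nat_lit 1) (nat_lit 0x515051145444501451514500541444) Net.nil)))))))))))))

theorem v_g310_ok : Net.ok 120 v_g310 = true := by decide +kernel

noncomputable def v_g311 : Net := (Net.cons (nat_lit 1) (nat_lit 0x440040400000451010000100010000) (Net.cons (nat_lit 2) (nat_lit 0x10000100022030000300220000) (Net.cons (nat_lit 4) (nat_lit 0x103070800000a0802080401080000) (Net.cons (nat_lit 8) (nat_lit 0x4000a800880042003800100000) (Net.cons (nat_lit 16) (nat_lit 0x14000000000000024a00000000) (Net.cons (nat_lit 32) (nat_lit 0x8200000000000000000) (Net.cons (nat_lit 64) (nat_lit 0x83020008000) (Net.cons (nat_lit 32) (nat_lit 0x84086300000000084a2200) (Net.cons (nat_lit 16) (nat_lit 0x14000000080000424a00000090) (Net.cons (nat_lit 8) (nat_lit 0x7000a800880042003800100000)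 (Net.cons (nat_lit 4) (nat_lit 0x503070800000a0802080401080000) (Net.cons (nat_lit 2) (nat_lit 0x10000100022030000300220000) (Net.cons (nat_lit 1) (nat_lit 0x540040400000451010000100010000) Net.nil)))))))))))))

theorem v_g311_ok : Net.ok 120 v_g311 = true := by decide +kernel

noncomputable def v_g312 : Net := (Net.cons (nat_lit 1) (nat_lit 0x400044004000001401000111400) (Net.cons (nat_lit 2) (nat_lit 0x3030011002102021100000220000) (Net.cons (nat_lit 4) (nat_lit 0xc03050400010000000201000400) (Net.cons (nat_lit 8) (nat_lit 0x1000000000080000000000000) (Net.cons (nat_lit 16) (nat_lit 0x8040000241000004000) (Net.cons (nat_lit 32) (nat_lit 0x8043010000000040000000) (Net.cons (nat_lit 64) (nat_lit 0x80060541004104) (Net.cons (nat_lit 32) (nat_lit 0x804b030000000040103002) (Net.cons (nat_lit 16) (nat_lit 0x8040000a01400005098) (Net.cons (nat_lit 8) (nat_lit 0x5000000000084001400100050) (Net.cons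 (nat_lit 4) (nat_lit 0xc03050400010000000201080408) (Net.cons (nat_lit 2) (nat_lit 0x3030011002102021100000220000) (Net.cons (nat_lit 1) (nat_lit 0x100400044014000001401000111400) Net.nil)))))))))))))

theorem v_g312_ok : Net.ok 120 v_g312 = true := by decide +kernel

noncomputable def v_V313 : List Net := [v_g309, v_g310, v_g311, v_g92, v_g312]

theorem v_V313_ok : okE 120 v_V313 = true := (okE_cons.2 ⟨v_g309_ok, (okE_cons.2 ⟨v_g310_ok, (okE_cons.2 ⟨v_g311_ok, (okE_cons.2 ⟨v_g92_ok, (okE_cons.2 ⟨v_g312_ok, (okE_nil 120)⟩)⟩)⟩)⟩)⟩)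

noncomputable def v_V315 : List Net := [v_g310, v_g311, v_g92, v_g312]

theorem v_V315_ok : okE 120 v_V315 = true := (okE_cons.2 ⟨v_g310_ok, (okE_cons.2 ⟨v_g311_ok, (okE_cons.2 ⟨v_g92_ok, (okE_cons.2 ⟨v_g312_ok, (okE_nil 120)⟩)⟩)⟩)⟩)

noncomputable def v_V316 : List Net := [v_g311, v_g92, v_g312]

theorem v_V316_ok : okE 120 v_V316 = true := (okE_cons.2 ⟨v_g311_ok, (okE_cons.2 ⟨v_g92_ok, (okE_cons.2 ⟨v_g312_ok, (okE_nil 120)⟩)⟩)⟩)

noncomputable def v_V317 : List Net := [v_g92, v_g312]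

theorem v_V317_ok : okE 120 v_V317 = true := (okE_cons.2 ⟨v_g92_ok, (okE_cons.2 ⟨v_g312_ok, (okE_nil 120)⟩)⟩)

noncomputable def v_V318 : List Net := [v_g312]

theorem v_V318_ok : okE 120 v_V318 = true := (okE_cons.2 ⟨v_g312_ok, (okE_nil 120)⟩)

noncomputable def v_V319 : List Net := []

theorem v_V319_ok : okE 120 v_V319 = true := (okE_nil 120)

noncomputable def vt_c18_cnt_EG : List Net := [v_b, v_p0, v_p1, v_g7, v_g3, v_g4, v_g10, v_g16, v_g11, v_g12, v_g13, v_g22, v_g21, v_g26, v_g19, v_g20, v_g23, v_g30, v_g31, v_g32, v_g37, v_g38, v_g29, v_u, v_g309, v_g310, v_g311, v_g92, v_g312, v_g244, v_g245, v_g116, v_g73, v_g246]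

theorem vt_c18_cnt_EG_ok : okE 120 vt_c18_cnt_EG = true := (okE_cons.2 ⟨v_b_ok, (okE_cons.2 ⟨v_p0_ok, (okE_cons.2 ⟨v_p1_ok, (okE_cons.2 ⟨v_g7_ok, (okE_cons.2 ⟨v_g3_ok, (okE_cons.2 ⟨v_g4_ok, (okE_cons.2 ⟨v_g10_ok, (okE_cons.2 ⟨v_g16_ok, (okE_cons.2 ⟨v_g11_ok, (okE_cons.2 ⟨v_g12_ok, (okE_cons.2 ⟨v_g13_ok, (okE_cons.2 ⟨v_g22_ok, (okE_cons.2 ⟨v_g21_ok, (okE_cons.2 ⟨v_g26_ok, (okE_cons.2 ⟨v_g19_ok, (okE_cons.2 ⟨v_g20_ok, (okE_cons.2 ⟨v_g23_ok, (okE_cons.2 ⟨v_g30_ok, (okE_cons.2 ⟨v_g31_ok, (okE_cons.2 ⟨v_g32_ok, (okE_cons.2 ⟨v_g37_ok, (okE_cons.2 ⟨v_g38_ok, (okE_cons.2 ⟨v_g29_ok, (okE_cons.2 ⟨v_u_ok, (okE_cons.2 ⟨v_g309_ok, (okE_cons.2 ⟨v_g310_ok, (okE_cons.2 ⟨v_g311_ok, (okE_cons.2 ⟨v_g92_ok, (okE_cons.2 ⟨v_g312_ok, (okE_cons.2 ⟨v_g244_ok, (okE_cons.2 ⟨v_g245_ok, (okE_cons.2 ⟨v_g116_ok, (okE_cons.2 ⟨v_g73_ok, (okE_cons.2 ⟨v_g246_ok, (okE_nil 120)⟩)⟩)⟩)⟩)⟩)⟩)⟩)⟩)⟩)⟩)⟩)⟩)⟩)⟩)⟩)⟩)⟩)⟩)⟩)⟩)⟩)⟩)⟩)⟩)⟩)⟩)⟩)⟩)⟩)⟩)⟩)⟩)⟩)⟩)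

noncomputable def v_g320 : Net := (Net.cons (nat_lit 1) (nat_lit 0x455500515144051554441414105044) (Net.cons (nat_lit 2) (nat_lit 0x303231100032021033011011132230) (Net.cons (nat_lit 4) (nat_lit 0x701070707090c00020404030c0000) (Net.cons (nat_lit 8) (nat_lit 0xba002d00de0008001500b40008) (Net.cons (nat_lit 16) (nat_lit 0xb000060000000005800000800) (Net.cons (nat_lit 32) (nat_lit 0x50828c0000000043000000) (Net.cons (nat_lit 64) (nat_lit 0xeed042e39a6bed) (Net.cons (nat_lit 32) (nat_lit 0xbcef60000000083f969ee) (Net.cons (nat_lit 16) (nat_lit 0x668a0000955f0000cc91) (Net.cons (nat_lit 8) (nat_lit 0x6700f30061005300d200e6002a) (Net.cons (nat_lit 4) (nat_lit 0xa0704070e03050c04000e060a020e) (Net.cons (nat_lit 2) (nat_lit 0x122020000332202011233320220222) (Net.cons (nat_lit 1) (nat_lit 0x51400505055055551404501104404) Net.nil)))))))))))))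

theorem v_g320_ok : Net.ok 120 v_g320 = true := by decide +kernel

noncomputable def v_g321 : Net := (Net.cons (nat_lit 1) (nat_lit 0x544451411054544110550054504000) (Net.cons (nat_lit 2) (nat_lit 0x302002232132000020203230110120) (Net.cons (nat_lit 4) (nat_lit 0xa000300060b0801000c0e05000200) (Net.cons (nat_lit 8) (nat_lit 0x1400ea0097009300d10084000c) (Net.cons (nat_lit 16) (nat_lit 0xab0000831100001cc500006100) (Net.cons (nat_lit 32) (nat_lit 0x2f80000000042000000) (Net.cons (nat_lit 64) (nat_lit 0xe774b047b2924b) (Net.cons (nat_lit 32) (nat_lit 0xa8476a000000002663890c) (Net.cons (nat_lit 16) (nat_lit 0xfb0000763c00000dff0000e926) (Net.cons (nat_lit 8) (nat_lit 0xde0064005800f00090008c00ca) (Net.cons (nat_lit 4) (nat_lit 0xa020b080f0f0205000a040d020408) (Net.cons (nat_lit 2) (nat_lit 0x301022012023331023202020223221) (Net.cons (nat_lit 1) (nat_lit 0x144441510510405151150550551100) Net.nil)))))))))))))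

theorem v_g321_ok : Net.ok 120 v_g321 = true := by decide +kernel

noncomputable def v_g322 : Net := (Net.cons (nat_lit 1) (nat_lit 0x15500405141504451501050401550) (Net.cons (nat_lit 2) (nat_lit 0x20020101112301330232123222110) (Net.cons (nat_lit 4) (nat_lit 0x10003070b0d050004060202030200) (Net.cons (nat_lit 8) (nat_lit 0x38001f00e4000700c900b30040) (Net.cons (nat_lit 16) (nat_lit 0xba48000020480000a400) (Net.cons (nat_lit 32) (nat_lit 0x274b110000000054000000) (Net.cons (nat_lit 64) (nat_lit 0xadf413778aabc6) (Net.cons (nat_lit 32) (nat_lit 0x44e16500000000d4febe06) (Net.cons (nat_lit 16) (nat_lit 0x20000058570000b44d0000970a) (Net.cons (nat_lit 8) (nat_lit 0xa90030006e0002005200fd0074) (Net.cons (nat_lit 4) (nat_lit 0x200090d070b0d03040e000c020704) (Net.cons (nat_lit 2) (nat_lit 0x201133003332020330222131100332) (Net.cons (nat_lit 1) (nat_lit 0x405544400144441440111450001514) Net.nil)))))))))))))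

theorem v_g322_ok : Net.ok 120 v_g322 = true := by decide +kernel

noncomputable def vt_c19_K : List Net := [v_g321, v_g322]

theorem vt_c19_K_ok : okE 120 vt_c19_K = true := (okE_cons.2 ⟨v_g321_ok, (okE_cons.2 ⟨v_g322_ok, (okE_nil 120)⟩)⟩)

noncomputable def vt_c19_cnt_EG : List Net := [v_b, v_p0, v_p1, v_g7, v_g3, v_g4, v_g10, v_g16, v_g11, v_g12, v_g13, v_g22, v_g21, v_g26, v_g19, v_g20, v_g23, v_g30, v_g31, v_g32, v_g37, v_g38, v_g29, v_u, v_g309, v_g310, v_g311, v_g92, v_g312, v_g244, v_g245, v_g116, v_g73, v_g246]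

theorem vt_c19_cnt_EG_ok : okE 120 vt_c19_cnt_EG = true := (okE_cons.2 ⟨v_b_ok, (okE_cons.2 ⟨v_p0_ok, (okE_cons.2 ⟨v_p1_ok, (okE_cons.2 ⟨v_g7_ok, (okE_cons.2 ⟨v_g3_ok, (okE_cons.2 ⟨v_g4_ok, (okE_cons.2 ⟨v_g10_ok, (okE_cons.2 ⟨v_g16_ok, (okE_cons.2 ⟨v_g11_ok, (okE_cons.2 ⟨v_g12_ok, (okE_cons.2 ⟨v_g13_ok, (okE_cons.2 ⟨v_g22_ok, (okE_cons.2 ⟨v_g21_ok, (okE_cons.2 ⟨v_g26_ok, (okE_cons.2 ⟨v_g19_ok, (okE_cons.2 ⟨v_g20_ok, (okE_cons.2 ⟨v_g23_ok, (okE_cons.2 ⟨v_g30_ok, (okE_cons.2 ⟨v_g31_ok, (okE_cons.2 ⟨v_g32_ok, (okE_cons.2 ⟨v_g37_ok, (okE_cons.2 ⟨v_g38_ok, (okE_cons.2 ⟨v_g29_ok, (okE_cons.2 ⟨v_u_ok, (okE_cons.2 ⟨v_g309_ok, (okE_cons.2 ⟨v_g310_ok, (okE_cons.2 ⟨v_g311_ok, (okE_cons.2 ⟨v_g92_ok, (okE_cons.2 ⟨v_g312_ok, (okE_cons.2 ⟨v_g244_ok, (okE_cons.2 ⟨v_g245_ok, (okE_cons.2 ⟨v_g116_ok, (okE_cons.2 ⟨v_g73_ok, (okE_cons.2 ⟨v_g246_ok, (okE_nil 120)⟩)⟩)⟩)⟩)⟩)⟩)⟩)⟩)⟩)⟩)⟩)⟩)⟩)⟩)⟩)⟩)⟩)⟩)⟩)⟩)⟩)⟩)⟩)⟩)⟩)⟩)⟩)⟩)⟩)⟩)⟩)⟩)⟩)⟩)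

noncomputable def v_g324 : Net := (Net.cons (nat_lit 1) (nat_lit 0x545455551545544041010441050504) (Net.cons (nat_lit 2) (nat_lit 0x103301101000311213210200301130) (Net.cons (nat_lit 4) (nat_lit 0x20d010e0901010004010301000800) (Net.cons (nat_lit 8) (nat_lit 0xa100c900b8008600520041000c) (Net.cons (nat_lit 16) (nat_lit 0xa000072610000ad3b0000b000) (Net.cons (nat_lit 32) (nat_lit 0x3502800000000d1000000) (Net.cons (nat_lit 64) (nat_lit 0x542b64df67f289) (Net.cons (nat_lit 32) (nat_lit 0xeed4e90000000072b31d28) (Net.cons (nat_lit 16) (nat_lit 0xb80000ca5400006fb100008630) (Net.cons (nat_lit 8) (nat_lit 0x4d00b600360057007e00f0007f) (Net.cons (nat_lit 4) (nat_lit 0x90200080d080c0d0007090708020d) (Net.cons (nat_lit 2) (nat_lit 0x3233100031112001113313222201) (Net.cons (nat_lit 1) (nat_lit 0x501144551011555010545000514140) Net.nil)))))))))))))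

theorem v_g324_ok : Net.ok 120 v_g324 = true := by decide +kernel

noncomputable def v_g325 : Net := (Net.cons (nat_lit 1) (nat_lit 0x55104045041115405051115401410) (Net.cons (nat_lit 2) (nat_lit 0x202132313320222313100112123000) (Net.cons (nat_lit 4) (nat_lit 0xb0b070e0604030f0f000001050100) (Net.cons (nat_lit 8) (nat_lit 0x500d200c9002000c600d80076) (Net.cons (nat_lit 16) (nat_lit 0x370000ed230000852500001200) (Net.cons (nat_lit 32) (nat_lit 0x88a8c30000000021000000) (Net.cons (nat_lit 64) (nat_lit 0x640b4e31cfe78d) (Net.cons (nat_lit 32) (nat_lit 0x40367d00000000ff4d0a28) (Net.cons (nat_lit 16) (nat_lit 0x14000057e500002aa900003c35) (Net.cons (nat_lit 8) (nat_lit 0xb10004008b007800cd00c400e9) (Net.cons (nat_lit 4) (nat_lit 0x60b090606040209070a0a08090305) (Net.cons (nat_lit 2) (nat_lit 0x10302323322033313130122213022) (Net.cons (nat_lit 1) (nat_lit 0x154415550154414505151450545011) Net.nil)))))))))))))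

theorem v_g325_ok : Net.ok 120 v_g325 = true := by decide +kernel

noncomputable def vt_c20_K : List Net := [v_g324, v_g325, v_s]

theorem vt_c20_K_ok : okE 120 vt_c20_K = true := (okE_cons.2 ⟨v_g324_ok, (okE_cons.2 ⟨v_g325_ok, (okE_cons.2 ⟨v_s_ok, (okE_nil 120)⟩)⟩)⟩)

noncomputable def v_V327 : List Net := [v_g100, v_g117]

theorem v_V327_ok : okE 120 v_V327 = true := (okE_cons.2 ⟨v_g100_ok, (okE_cons.2 ⟨v_g117_ok, (okE_nil 120)⟩)⟩)

noncomputable def v_V329 : List Net := [v_g117]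

theorem v_V329_ok : okE 120 v_V329 = true := (okE_cons.2 ⟨v_g117_ok, (okE_nil 120)⟩)

noncomputable def v_V330 : List Net := []

theorem v_V330_ok : okE 120 v_V330 = true := (okE_nil 120)

noncomputable def vt_c20_cnt_EG : List Net := [v_b, v_p0, v_p1, v_g7, v_g3, v_g4, v_g10, v_g16, v_g11, v_g12, v_g13, v_g22, v_g21, v_g26, v_g19, v_g20, v_g23, v_g30, v_g31, v_g32, v_g37, v_g38, v_g29, v_u, v_g214, v_g215, v_g216, v_g117, v_g217, v_g113, v_g100]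

theorem vt_c20_cnt_EG_ok : okE 120 vt_c20_cnt_EG = true := (okE_cons.2 ⟨v_b_ok, (okE_cons.2 ⟨v_p0_ok, (okE_cons.2 ⟨v_p1_ok, (okE_cons.2 ⟨v_g7_ok, (okE_cons.2 ⟨v_g3_ok, (okE_cons.2 ⟨v_g4_ok, (okE_cons.2 ⟨v_g10_ok, (okE_cons.2 ⟨v_g16_ok, (okE_cons.2 ⟨v_g11_ok, (okE_cons.2 ⟨v_g12_ok, (okE_cons.2 ⟨v_g13_ok, (okE_cons.2 ⟨v_g22_ok, (okE_cons.2 ⟨v_g21_ok, (okE_cons.2 ⟨v_g26_ok, (okE_cons.2 ⟨v_g19_ok, (okE_cons.2 ⟨v_g20_ok, (okE_cons.2 ⟨v_g23_ok, (okE_cons.2 ⟨v_g30_ok, (okE_cons.2 ⟨v_g31_ok, (okE_cons.2 ⟨v_g32_ok, (okE_cons.2 ⟨v_g37_ok, (okE_cons.2 ⟨v_g38_ok, (okE_cons.2 ⟨v_g29_ok, (okE_cons.2 ⟨v_u_ok, (okE_cons.2 ⟨v_g214_ok, (okE_cons.2 ⟨v_g215_ok, (okE_cons.2 ⟨v_g216_ok, (okE_cons.2 ⟨v_g117_ok, (okE_cons.2 ⟨v_g217_ok, (okE_cons.2 ⟨v_g113_ok, (okE_cons.2 ⟨v_g100_ok, (okE_nil 120)⟩)⟩)⟩)⟩)⟩)⟩)⟩)⟩)⟩)⟩)⟩)⟩)⟩)⟩)⟩)⟩)⟩)⟩)⟩)⟩)⟩)⟩)⟩)⟩)⟩)⟩)⟩)⟩)⟩)⟩)⟩)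

noncomputable def v_g331 : Net := (Net.cons (nat_lit 1) (nat_lit 0x45004415500045155404154400540) (Net.cons (nat_lit 2) (nat_lit 0x122222033113033001213203323100) (Net.cons (nat_lit 4) (nat_lit 0x908010e02090f010c040b060b0100) (Net.cons (nat_lit 8) (nat_lit 0xda008700c000e300c0008f00a1) (Net.cons (nat_lit 16) (nat_lit 0x9a000023000000c20500000600) (Net.cons (nat_lit 32) (nat_lit 0x300038000000002c000000) (Net.cons (nat_lit 64) (nat_lit 0x2ac2cd6f5b8134) (Net.cons (nat_lit 32) (nat_lit 0xcc4e1900000000232afa91) (Net.cons (nat_lit 16) (nat_lit 0x5100009221000070f800004fe7) (Net.cons (nat_lit 8) (nat_lit 0x3000b30035000900a200dd000e) (Net.cons (nat_lit 4) (nat_lit 0xc0a0b0600060000020a0e01070501) (Net.cons (nat_lit 2) (nat_lit 0x301022020131012010220030021202) (Net.cons (nat_lit 1) (nat_lit 0x111115444450011450545144400145) Net.nil)))))))))))))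

theorem v_g331_ok : Net.ok 120 v_g331 = true := by decide +kernel

noncomputable def v_g332 : Net := (Net.cons (nat_lit 1) (nat_lit 0x454404540040015100541510414040) (Net.cons (nat_lit 2) (nat_lit 0x320110132301330302302302201010) (Net.cons (nat_lit 4) (nat_lit 0xe0409030f0e05070902020c0a0000) (Net.cons (nat_lit 8) (nat_lit 0x9100d9005e0023009600440000) (Net.cons (nat_lit 16) (nat_lit 0x2000004b280000841100007900) (Net.cons (nat_lit 32) (nat_lit 0x12bcb00000000088000000) (Net.cons (nat_lit 64) (nat_lit 0xe449ccd74ba6b) (Net.cons (nat_lit 32) (nat_lit 0x794f28000000004bb46c19) (Net.cons (nat_lit 16) (nat_lit 0x8a00006efa0000c2310000664c) (Net.cons (nat_lit 8) (nat_lit 0xaa00b100160027001b00040015) (Net.cons (nat_lit 4) (nat_lit 0xe0e070d0906040d0802080f0a0902) (Net.cons (nat_lit 2) (nat_lit 0x200123221102222201212203230121) (Net.cons (nat_lit 1) (nat_lit 0x545400004055405000541504004540) Net.nil)))))))))))))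

theorem v_g332_ok : Net.ok 120 v_g332 = true := by decide +kernel

noncomputable def vt_c21_K : List Net := [v_g331, v_g332, v_s]

theorem vt_c21_K_ok : okE 120 vt_c21_K = true := (okE_cons.2 ⟨v_g331_ok, (okE_cons.2 ⟨v_g332_ok, (okE_cons.2 ⟨v_s_ok, (okE_nil 120)⟩)⟩)⟩)

noncomputable def vt_c21_cnt_EG : List Net := [v_b, v_p0, v_p1, v_g7, v_g3, v_g4, v_g10, v_g16, v_g11, v_g12, v_g13, v_g22, v_g21, v_g26, v_g19, v_g20, v_g23, v_g30, v_g31, v_g32, v_g37, v_g38, v_g29, v_u, v_g214, v_g215, v_g216, v_g117, v_g217, v_g113, v_g100]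

theorem vt_c21_cnt_EG_ok : okE 120 vt_c21_cnt_EG = true := (okE_cons.2 ⟨v_b_ok, (okE_cons.2 ⟨v_p0_ok, (okE_cons.2 ⟨v_p1_ok, (okE_cons.2 ⟨v_g7_ok, (okE_cons.2 ⟨v_g3_ok, (okE_cons.2 ⟨v_g4_ok, (okE_cons.2 ⟨v_g10_ok, (okE_cons.2 ⟨v_g16_ok, (okE_cons.2 ⟨v_g11_ok, (okE_cons.2 ⟨v_g12_ok, (okE_cons.2 ⟨v_g13_ok, (okE_cons.2 ⟨v_g22_ok, (okE_cons.2 ⟨v_g21_ok, (okE_cons.2 ⟨v_g26_ok, (okE_cons.2 ⟨v_g19_ok, (okE_cons.2 ⟨v_g20_ok, (okE_cons.2 ⟨v_g23_ok, (okE_cons.2 ⟨v_g30_ok, (okE_cons.2 ⟨v_g31_ok, (okE_cons.2 ⟨v_g32_ok, (okE_cons.2 ⟨v_g37_ok, (okE_cons.2 ⟨v_g38_ok, (okE_cons.2 ⟨v_g29_ok, (okE_cons.2 ⟨v_u_ok, (okE_cons.2 ⟨v_g214_ok, (okE_cons.2 ⟨v_g215_ok, (okE_cons.2 ⟨v_g216_ok, (okE_cons.2 ⟨v_g117_ok, (okE_cons.2 ⟨v_g217_ok, (okE_cons.2 ⟨v_g113_ok, (okE_cons.2 ⟨v_g100_ok, (okE_nil 120)⟩)⟩)⟩)⟩)⟩)⟩)⟩)⟩)⟩)⟩)⟩)⟩)⟩)⟩)⟩)⟩)⟩)⟩)⟩)⟩)⟩)⟩)⟩)⟩)⟩)⟩)⟩)⟩)⟩)⟩)⟩)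

noncomputable def v_g334 : Net := (Net.cons (nat_lit 1) (nat_lit 0x410010104111514044150400100400) (Net.cons (nat_lit 2) (nat_lit 0x120003112003333301320300211200) (Net.cons (nat_lit 4) (nat_lit 0x6090d06000a020b00010804040500) (Net.cons (nat_lit 8) (nat_lit 0xd800b100eb00a80093006e00f0) (Net.cons (nat_lit 16) (nat_lit 0x75000090b00000f46000002200) (Net.cons (nat_lit 32) (nat_lit 0x51c0180000000034000000) (Net.cons (nat_lit 64) (nat_lit 0xdd4228760ca0f5) (Net.cons (nat_lit 32) (nat_lit 0xc02ce8000000006018c2cf) (Net.cons (nat_lit 16) (nat_lit 0xed0000ffbc000017dc000067ed) (Net.cons (nat_lit 8) (nat_lit 0xd200f1009700cf009900be00f2) (Net.cons (nat_lit 4) (nat_lit 0xf060107090308070c090c0c0d0e0c) (Net.cons (nat_lit 2) (nat_lit 0x111011122122332302320013030130) (Net.cons (nat_lit 1) (nat_lit 0x440451554545011114014101115510) Net.nil)))))))))))))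

theorem v_g334_ok : Net.ok 120 v_g334 = true := by decide +kernel

noncomputable def v_g335 : Net := (Net.cons (nat_lit 1) (nat_lit 0x101505540450405100150041045544) (Net.cons (nat_lit 2) (nat_lit 0x111010113111322102000112220300) (Net.cons (nat_lit 4) (nat_lit 0x70a0904020f00080104010c030200) (Net.cons (nat_lit 8) (nat_lit 0x5900a2000400c9004b005d004b) (Net.cons (nat_lit 16) (nat_lit 0xb500000c8e00006b4900004500) (Net.cons (nat_lit 32) (nat_lit 0x2920000000044000000) (Net.cons (nat_lit 64) (nat_lit 0x80f47e43809f0) (Net.cons (nat_lit 32) (nat_lit 0x18e77c00000000d16c6373) (Net.cons (nat_lit 16) (nat_lit 0x6b000067c90000198f0000dc98) (Net.cons (nat_lit 8) (nat_lit 0x1900490077008f00bc00b50007) (Net.cons (nat_lit 4) (nat_lit 0x10c0d0c0609020b050700000b0908) (Net.cons (nat_lit 2) (nat_lit 0x232212311332322202202012221333) (Net.cons (nat_lit 1) (nat_lit 0x45105444001005140141011145404) Net.nil)))))))))))))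

theorem v_g335_ok : Net.ok 120 v_g335 = true := by decide +kernel

noncomputable def v_g336 : Net := (Net.cons (nat_lit 1) (nat_lit 0x50110500054101000100110400) (Net.cons (nat_lit 2) (nat_lit 0x10023000021201000320220000) (Net.cons (nat_lit 4) (nat_lit 0x10101080e040e0002000401000400) (Net.cons (nat_lit 8) (nat_lit 0x5001200a50025001800300000) (Net.cons (nat_lit 16) (nat_lit 0x31000000000000184300000000) (Net.cons (nat_lit 32) (nat_lit 0x20400000000080000000) (Net.cons (nat_lit 64) (nat_lit 0x1205080048004) (Net.cons (nat_lit 32) (nat_lit 0x20214000000000a0421801) (Net.cons (nat_lit 16) (nat_lit 0x350000029400001c4b000000bc) (Net.cons (nat_lit 8) (nat_lit 0x17001200a50025001800300040) (Net.cons (nat_lit 4) (nat_lit 0x10101080e040e0002000401080408) (Net.cons (nat_lit 2) (nat_lit 0x10023100021201000320220000) (Net.cons (nat_lit 1) (nat_lit 0x100050110510054101000100110400) Net.nil)))))))))))))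

theorem v_g336_ok : Net.ok 120 v_g336 = true := by decide +kernel

noncomputable def v_g337 : Net := (Net.cons (nat_lit 1) (nat_lit 0x54405004111004100010400) (Net.cons (nat_lit 2) (nat_lit 0x30033112001030210120030000) (Net.cons (nat_lit 4) (nat_lit 0x10307080009000002000401080400) (Net.cons (nat_lit 8) (nat_lit 0x400bc000100ca001000340000) (Net.cons (nat_lit 16) (nat_lit 0x18000026050000334000000000) (Net.cons (nat_lit 32) (nat_lit 0x8021040000000002000000) (Net.cons (nat_lit 64) (nat_lit 0x88201582010100) (Net.cons (nat_lit 32) (nat_lit 0x8027060000000022441301) (Net.cons (nat_lit 16) (nat_lit 0x1800003e0500007a41000004b0) (Net.cons (nat_lit 8) (nat_lit 0x1500bc000100cb001100340041) (Net.cons (nat_lit 4) (nat_lit 0x10307080009000002000401080400) (Net.cons (nat_lit 2) (nat_lit 0x30033112001030210120030000) (Net.cons (nat_lit 1) (nat_lit 0x100000054415004111004100010400) Net.nil)))))))))))))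

theorem v_g337_ok : Net.ok 120 v_g337 = true := by decide +kernel

noncomputable def vt_c22_K : List Net := [v_g335, v_g334, v_g336, v_g337]

theorem vt_c22_K_ok : okE 120 vt_c22_K = true := (okE_cons.2 ⟨v_g335_ok, (okE_cons.2 ⟨v_g334_ok, (okE_cons.2 ⟨v_g336_ok, (okE_cons.2 ⟨v_g337_ok, (okE_nil 120)⟩)⟩)⟩)⟩)

noncomputable def v_g339 : Net := (Net.cons (nat_lit 1) (nat_lit 0x450440450015554111411501100400) (Net.cons (nat_lit 2) (nat_lit 0x101123221230233222232101120000) (Net.cons (nat_lit 4) (nat_lit 0xf0e080c0e0308000b08000e020000) (Net.cons (nat_lit 8) (nat_lit 0x80024004700c90001000a0088) (Net.cons (nat_lit 16) (nat_lit 0xf2000072e10000cf880000c800) (Net.cons (nat_lit 32) (nat_lit 0x40014100000000e0000000) (Net.cons (nat_lit 64) (nat_lit 0x7a8b81f7a68a48) (Net.cons (nat_lit 32) (nat_lit 0xe7679300000000ad220398) (Net.cons (nat_lit 16) (nat_lit 0x72000037610000ce880000adc4) (Net.cons (nat_lit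 8) (nat_lit 0x8007a004700cb0023000a0088) (Net.cons (nat_lit 4) (nat_lit 0xb0b0c080a0304080f0c000a060c04) (Net.cons (nat_lit 2) (nat_lit 0x101123221230233222232101120000) (Net.cons (nat_lit 1) (nat_lit 0x450440554015554111411501100400) Net.nil)))))))))))))

theorem v_g339_ok : Net.ok 120 v_g339 = true := by decide +kernel

noncomputable def v_V340 : List Net := [v_e, v_g339, v_g113, v_g171, v_g118]

theorem v_V340_ok : okE 120 v_V340 = true := (okE_cons.2 ⟨v_e_ok, (okE_cons.2 ⟨v_g339_ok, (okE_cons.2 ⟨v_g113_ok, (okE_cons.2 ⟨v_g171_ok, (okE_cons.2 ⟨v_g118_ok, (okE_nil 120)⟩)⟩)⟩)⟩)⟩)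

noncomputable def v_V342 : List Net := [v_g113, v_g171, v_g118]

theorem v_V342_ok : okE 120 v_V342 = true := (okE_cons.2 ⟨v_g113_ok, (okE_cons.2 ⟨v_g171_ok, (okE_cons.2 ⟨v_g118_ok, (okE_nil 120)⟩)⟩)⟩)

noncomputable def v_V343 : List Net := [v_g171, v_g118]

theorem v_V343_ok : okE 120 v_V343 = true := (okE_cons.2 ⟨v_g171_ok, (okE_cons.2 ⟨v_g118_ok, (okE_nil 120)⟩)⟩)

noncomputable def v_V344 : List Net := [v_g118]

theorem v_V344_ok : okE 120 v_V344 = true := (okE_cons.2 ⟨v_g118_ok, (okE_nil 120)⟩)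

noncomputable def v_V345 : List Net := []

theorem v_V345_ok : okE 120 v_V345 = true := (okE_nil 120)

noncomputable def vt_c22_cnt_EG : List Net := [v_b, v_p0, v_p1, v_g7, v_g3, v_g4, v_g10, v_g16, v_g11, v_g12, v_g13, v_g22, v_g21, v_g26, v_g19, v_g20, v_g23, v_g30, v_g31, v_g32, v_g37, v_g38, v_g29, v_u, v_g168, v_g169, v_g92, v_g170, v_g100, v_g117, v_g171, v_e, v_g339, v_g113, v_g118]

theorem vt_c22_cnt_EG_ok : okE 120 vt_c22_cnt_EG = true := (okE_cons.2 ⟨v_b_ok, (okE_cons.2 ⟨v_p0_ok, (okE_cons.2 ⟨v_p1_ok, (okE_cons.2 ⟨v_g7_ok, (okE_cons.2 ⟨v_g3_ok, (okE_cons.2 ⟨v_g4_ok, (okE_cons.2 ⟨v_g10_ok, (okE_cons.2 ⟨v_g16_ok, (okE_cons.2 ⟨v_g11_ok, (okE_cons.2 ⟨v_g12_ok, (okE_cons.2 ⟨v_g13_ok, (okE_cons.2 ⟨v_g22_ok, (okE_cons.2 ⟨v_g21_ok, (okE_cons.2 ⟨v_g26_ok, (okE_cons.2 ⟨v_g19_ok, (okE_cons.2 ⟨v_g20_ok, (okE_cons.2 ⟨v_g23_ok, (okE_cons.2 ⟨v_g30_ok, (okE_cons.2 ⟨v_g31_ok, (okE_cons.2 ⟨v_g32_ok,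 (okE_cons.2 ⟨v_g37_ok, (okE_cons.2 ⟨v_g38_ok, (okE_cons.2 ⟨v_g29_ok, (okE_cons.2 ⟨v_u_ok, (okE_cons.2 ⟨v_g168_ok, (okE_cons.2 ⟨v_g169_ok, (okE_cons.2 ⟨v_g92_ok, (okE_cons.2 ⟨v_g170_ok, (okE_cons.2 ⟨v_g100_ok, (okE_cons.2 ⟨v_g117_ok, (okE_cons.2 ⟨v_g171_ok, (okE_cons.2 ⟨v_e_ok, (okE_cons.2 ⟨v_g339_ok, (okE_cons.2 ⟨v_g113_ok, (okE_cons.2 ⟨v_g118_ok, (okE_nil 120)⟩)⟩)⟩)⟩)⟩)⟩)⟩)⟩)⟩)⟩)⟩)⟩)⟩)⟩)⟩)⟩)⟩)⟩)⟩)⟩)⟩)⟩)⟩)⟩)⟩)⟩)⟩)⟩)⟩)⟩)⟩)⟩)⟩)⟩)⟩)

noncomputable def v_g346 : Net := (Net.cons (nat_lit 1) (nat_lit 0x1110555141410154114050504410) (Net.cons (nat_lit 2) (nat_lit 0x211320301232222123000033112230) (Net.cons (nat_lit 4) (nat_lit 0x2020a0108060d0609020b01030700) (Net.cons (nat_lit 8) (nat_lit 0x5000ca006200530022009100e0) (Net.cons (nat_lit 16) (nat_lit 0x6a00003a190000040400005000) (Net.cons (nat_lit 32) (nat_lit 0x4c74e30000000086000000) (Net.cons (nat_lit 64) (nat_lit 0xf183bc978f7557) (Net.cons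 (nat_lit 32) (nat_lit 0x7b1bdc00000000721cf39a) (Net.cons (nat_lit 16) (nat_lit 0x5c000059af0000e65b0000e325) (Net.cons (nat_lit 8) (nat_lit 0x4800a0009c00e50080007b00af) (Net.cons (nat_lit 4) (nat_lit 0x40d08090e0403030a0b0801080508) (Net.cons (nat_lit 2) (nat_lit 0x102020202212132122123323210213) (Net.cons (nat_lit 1) (nat_lit 0x440011144555041010005404541444) Net.nil)))))))))))))

theorem v_g346_ok : Net.ok 120 v_g346 = true := by decide +kernel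

noncomputable def v_g347 : Net := (Net.cons (nat_lit 1) (nat_lit 0x10144540144110144100045141540) (Net.cons (nat_lit 2) (nat_lit 0x123002030000312001322022230000) (Net.cons (nat_lit 4) (nat_lit 0x70c0a020d060808080b01020a0600) (Net.cons (nat_lit 8) (nat_lit 0x30098007d00d400df009a002a) (Net.cons (nat_lit 16) (nat_lit 0xe600008af30000800100004600) (Net.cons (nat_lit 32) (nat_lit 0x4c480000000050000000) (Net.cons (nat_lit 64) (nat_lit 0x842a39de374640) (Net.cons (nat_lit 32) (nat_lit 0x4c8ede000000004a01a98a) (Net.cons (nat_lit 16) (nat_lit 0xb20000a0ad00004f91000027c5) (Net.cons (nat_lit 8) (nat_lit 0x40009c0023002400c6008c0061) (Net.cons (nat_lit 4) (nat_lit 0x10e0c0e0d0d0c09080b08060f0b08) (Net.cons (nat_lit 2) (nat_lit 0x300000230222313201303212210120) (Net.cons (nat_lit 1) (nat_lit 0x105041045040110544500011544145) Net.nil)))))))))))))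

theorem v_g347_ok : Net.ok 120 v_g347 = true := by decide +kernel

noncomputable def v_g348 : Net := (Net.cons (nat_lit 1) (nat_lit 0x4000000504505111000100110400) (Net.cons (nat_lit 2) (nat_lit 0x220000201012203030000100210000) (Net.cons (nat_lit 4) (nat_lit 0x80509060401020802000400080400) (Net.cons (nat_lit 8) (nat_lit 0x85002800010043002000040000) (Net.cons (nat_lit 16) (nat_lit 0x1000002050000944100000000) (Net.cons (nat_lit 32) (nat_lit 0x2020000000000000000) (Net.cons (nat_lit 64) (nat_lit 0x81860632010004) (Net.cons (nat_lit 32) (nat_lit 0x202000000000a603201) (Net.cons (nat_lit 16) (nat_lit 0x100008c850000d64100000608) (Net.cons (nat_lit 8) (nat_lit 0x9700a800810043002000040040) (Net.cons (nat_lit 4) (nat_lit 0xa0509060c09020802000400080400) (Net.cons (nat_lit 2) (nat_lit 0x220000201112203030000100210000) (Net.cons (nat_lit 1) (nat_lit 0x104000000504505111000100110400) Net.nil)))))))))))))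

theorem v_g348_ok : Net.ok 120 v_g348 = true := by decide +kernel

noncomputable def v_g349 : Net := (Net.cons (nat_lit 1) (nat_lit 0x150051505541041540440140040400) (Net.cons (nat_lit 2) (nat_lit 0x203103123010301330320301110110) (Net.cons (nat_lit 4) (nat_lit 0x10e010b02010a0104070203020800) (Net.cons (nat_lit 8) (nat_lit 0x4e000900b300e40015002c0081) (Net.cons (nat_lit 16) (nat_lit 0x8000007690000187300002c00) (Net.cons (nat_lit 32) (nat_lit 0x9315040000000058000000) (Net.cons (nat_lit 64) (nat_lit 0x74a06b7ac39d35) (Net.cons (nat_lit 32) (nat_lit 0x4678bd000000008c45497a) (Net.cons (nat_lit 16) (nat_lit 0x3700002928000072de0000484e) (Net.cons (nat_lit 8) (nat_lit 0xaa001100490087001f00c30016) (Net.cons (nat_lit 4) (nat_lit 0x608000e000608030c08080b000902) (Net.cons (nat_lit 2) (nat_lit 0x310213331132300121101111111331) (Net.cons (nat_lit 1) (nat_lit 0x450141511555104411005501111544) Net.nil)))))))))))))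

theorem v_g349_ok : Net.ok 120 v_g349 = true := by decide +kernel

noncomputable def vt_c23_K : List Net := [v_g346, v_g347, v_g348, v_g349, v_g212]

theorem vt_c23_K_ok : okE 120 vt_c23_K = true := (okE_cons.2 ⟨v_g346_ok, (okE_cons.2 ⟨v_g347_ok, (okE_cons.2 ⟨v_g348_ok, (okE_cons.2 ⟨v_g349_ok, (okE_cons.2 ⟨v_g212_ok, (okE_nil 120)⟩)⟩)⟩)⟩)⟩)

noncomputable def v_g351 : Net := (Net.cons (nat_lit 1) (nat_lit 0x1000000000040011000000100400) (Net.cons (nat_lit 2) (nat_lit 0x220010232000030030000000200000) (Net.cons (nat_lit 4) (nat_lit 0x8010b060204030002000800080400) (Net.cons (nat_lit 8) (nat_lit 0x7004900260046000000000000) (Net.cons (nat_lit 16) (nat_lit 0x890000001c0000028000000000) (Net.cons (nat_lit 32) (nat_lit 0x5020080000000000000000) (Net.cons (nat_lit 64) (nat_lit 0x50218812040100) (Net.cons (nat_lit 32) (nat_lit 0x5923080000000004a00300) (Net.cons (nat_lit 16) (nat_lit 0x8d0000001e0000428000000008)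 (Net.cons (nat_lit 8) (nat_lit 0x17004900260046000000000040) (Net.cons (nat_lit 4) (nat_lit 0xa010b060204030002000800080400) (Net.cons (nat_lit 2) (nat_lit 0x220010232000030030000000200000) (Net.cons (nat_lit 1) (nat_lit 0x1000000000040011000000100400) Net.nil)))))))))))))

theorem v_g351_ok : Net.ok 120 v_g351 = true := by decide +kernel

noncomputable def v_g352 : Net := (Net.cons (nat_lit 1) (nat_lit 0x444400000004040011000000010000) (Net.cons (nat_lit 2) (nat_lit 0x1010210100020030011020020000) (Net.cons (nat_lit 4) (nat_lit 0x90f03060400020002000100080000) (Net.cons (nat_lit 8) (nat_lit 0xc1004800200047001400200000) (Net.cons (nat_lit 16) (nat_lit 0x14000040000000020000000000) (Net.cons (nat_lit 32) (nat_lit 0x4021000000000000000000) (Net.cons (nat_lit 64) (nat_lit 0x44241112000100) (Net.cons (nat_lit 32) (nat_lit 0x4861020000000004000200) (Net.cons (nat_lit 16) (nat_lit 0x940000440000004300000000a0)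 (Net.cons (nat_lit 8) (nat_lit 0xf1004800200047001400200000) (Net.cons (nat_lit 4) (nat_lit 0xd0f03060400020002000100080000) (Net.cons (nat_lit 2) (nat_lit 0x1010210300020030011020020000) (Net.cons (nat_lit 1) (nat_lit 0x444400000004040011000000010000) Net.nil)))))))))))))

theorem v_g352_ok : Net.ok 120 v_g352 = true := by decide +kernel

noncomputable def v_V353 : List Net := [v_g19, v_g130, v_g351, v_g352]

theorem v_V353_ok : okE 120 v_V353 = true := (okE_cons.2 ⟨v_g19_ok, (okE_cons.2 ⟨v_g130_ok, (okE_cons.2 ⟨v_g351_ok, (okE_cons.2 ⟨v_g352_ok, (okE_nil 120)⟩)⟩)⟩)⟩)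

noncomputable def v_V355 : List Net := [v_g130, v_g351, v_g352]

theorem v_V355_ok : okE 120 v_V355 = true := (okE_cons.2 ⟨v_g130_ok, (okE_cons.2 ⟨v_g351_ok, (okE_cons.2 ⟨v_g352_ok, (okE_nil 120)⟩)⟩)⟩)

noncomputable def v_V356 : List Net := [v_g351, v_g352]

theorem v_V356_ok : okE 120 v_V356 = true := (okE_cons.2 ⟨v_g351_ok, (okE_cons.2 ⟨v_g352_ok, (okE_nil 120)⟩)⟩)

noncomputable def v_V357 : List Net := [v_g352]

theorem v_V357_ok : okE 120 v_V357 = true := (okE_cons.2 ⟨v_g352_ok, (okE_nil 120)⟩)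

noncomputable def v_V358 : List Net := []

theorem v_V358_ok : okE 120 v_V358 = true := (okE_nil 120)

noncomputable def vt_c23_cnt_EG : List Net := [v_b, v_p0, v_p1, v_g7, v_g3, v_g4, v_g10, v_g16, v_g11, v_g12, v_g13, v_g22, v_g21, v_g26, v_g19, v_g20, v_g23, v_g30, v_g31, v_g32, v_g37, v_g38, v_g29, v_u, v_g168, v_g169, v_g92, v_g170, v_g100, v_g117, v_g171, v_g352, v_g351, v_g130, v_g196, v_g197]

theorem vt_c23_cnt_EG_ok : okE 120 vt_c23_cnt_EG = true := (okE_cons.2 ⟨v_b_ok, (okE_cons.2 ⟨v_p0_ok, (okE_cons.2 ⟨v_p1_ok, (okE_cons.2 ⟨v_g7_ok, (okE_cons.2 ⟨v_g3_ok, (okE_cons.2 ⟨v_g4_ok, (okE_cons.2 ⟨v_g10_ok, (okE_cons.2 ⟨v_g16_ok, (okE_cons.2 ⟨v_g11_ok, (okE_cons.2 ⟨v_g12_ok, (okE_cons.2 ⟨v_g13_ok, (okE_cons.2 ⟨v_g22_ok, (okE_cons.2 ⟨v_g21_ok, (okE_cons.2 ⟨v_g26_ok, (okE_cons.2 ⟨v_g19_ok, (okE_cons.2 ⟨v_g20_ok, (okE_cons.2 ⟨v_g23_ok, (okE_cons.2 ⟨v_g30_ok, (okE_cons.2 ⟨v_g31_ok, (okE_cons.2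 ⟨v_g32_ok, (okE_cons.2 ⟨v_g37_ok, (okE_cons.2 ⟨v_g38_ok, (okE_cons.2 ⟨v_g29_ok, (okE_cons.2 ⟨v_u_ok, (okE_cons.2 ⟨v_g168_ok, (okE_cons.2 ⟨v_g169_ok, (okE_cons.2 ⟨v_g92_ok, (okE_cons.2 ⟨v_g170_ok, (okE_cons.2 ⟨v_g100_ok, (okE_cons.2 ⟨v_g117_ok, (okE_cons.2 ⟨v_g171_ok, (okE_cons.2 ⟨v_g352_ok, (okE_cons.2 ⟨v_g351_ok, (okE_cons.2 ⟨v_g130_ok, (okE_cons.2 ⟨v_g196_ok, (okE_cons.2 ⟨v_g197_ok, (okE_nil 120)⟩)⟩)⟩)⟩)⟩)⟩)⟩)⟩)⟩)⟩)⟩)⟩)⟩)⟩)⟩)⟩)⟩)⟩)⟩)⟩)⟩)⟩)⟩)⟩)⟩)⟩)⟩)⟩)⟩)⟩)⟩)⟩)⟩)⟩)⟩)⟩)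

noncomputable def v_g359 : Net := (Net.cons (nat_lit 1) (nat_lit 0x440011144555041010005404541444) (Net.cons (nat_lit 2) (nat_lit 0x231302130121200210210010023020) (Net.cons (nat_lit 4) (nat_lit 0x10504060a010c0c0c0c0004020100) (Net.cons (nat_lit 8) (nat_lit 0x3000b000410077000200c8008b) (Net.cons (nat_lit 16) (nat_lit 0x360000578a0000981800007c00) (Net.cons (nat_lit 32) (nat_lit 0x989219000000000c000000) (Net.cons (nat_lit 64) (nat_lit 0xf1d4ad6d6d2f56) (Net.cons (nat_lit 32) (nat_lit 0x542dd200000000ba71cf4f) (Net.cons (nat_lit 16) (nat_lit 0x9e0000ea4700009024000073c5) (Net.cons (nat_lit 8) (nat_lit 0xd4003e00fa000f0088005600b2) (Net.cons (nat_lit 4) (nat_lit 0x808080404090308070a0e040e0f02) (Net.cons (nat_lit 2) (nat_lit 0x122013032001100201232300221103) (Net.cons (nat_lit 1) (nat_lit 0x1110555141410154114050504410) Net.nil)))))))))))))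

theorem v_g359_ok : Net.ok 120 v_g359 = true := by decide +kernel

noncomputable def v_g360 : Net := (Net.cons (nat_lit 1) (nat_lit 0x414415144140044400101010051540) (Net.cons (nat_lit 2) (nat_lit 0x20201101020121333212122223230) (Net.cons (nat_lit 4) (nat_lit 0x405040d0b0e0a0509060f03000300) (Net.cons (nat_lit 8) (nat_lit 0x4d00cd0066002200d4008f0008) (Net.cons (nat_lit 16) (nat_lit 0x600000ff00000123400004600) (Net.cons (nat_lit 32) (nat_lit 0x32a55c0000000012000000) (Net.cons (nat_lit 64) (nat_lit 0xa9c170b6976e8d) (Net.cons (nat_lit 32) (nat_lit 0x65df43000000008f99cd6d) (Net.cons (nat_lit 16) (nat_lit 0x38000011e30000de560000d0fd) (Net.cons (nat_lit 8) (nat_lit 0x2900a200c400ad000a0063007c) (Net.cons (nat_lit 4) (nat_lit 0x70c0c000d03060d0f0d000f0b0900) (Net.cons (nat_lit 2) (nat_lit 0x12131211012112123113011332032) (Net.cons (nat_lit 1) (nat_lit 0x541555054055110415110150554011) Net.nil)))))))))))))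

theorem v_g360_ok : Net.ok 120 v_g360 = true := by decide +kernel

noncomputable def v_g361 : Net := (Net.cons (nat_lit 1) (nat_lit 0x450141511555104411005501111544) (Net.cons (nat_lit 2) (nat_lit 0x201320020021201032010000022000) (Net.cons (nat_lit 4) (nat_lit 0x506000104050c04090e0004000a00) (Net.cons (nat_lit 8) (nat_lit 0xa006800d00005008500580085) (Net.cons (nat_lit 16) (nat_lit 0x5e00004a3900008ac000003600) (Net.cons (nat_lit 32) (nat_lit 0xd768020000000080000000) (Net.cons (nat_lit 64) (nat_lit 0xa44e74bc5b23d3) (Net.cons (nat_lit 32) (nat_lit 0x1bb9f70000000031da5655) (Net.cons (nat_lit 16) (nat_lit 0x910000eb2d0000004f00003b19) (Net.cons (nat_lit 8) (nat_lit 0xd90048006e001b00e9006f0060) (Net.cons (nat_lit 4) (nat_lit 0xc090204060c0e0c07050406000e06) (Net.cons (nat_lit 2) (nat_lit 0x332010032101020221031230023201) (Net.cons (nat_lit 1) (nat_lit 0x150051505541041540440140040400) Net.nil)))))))))))))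

theorem v_g361_ok : Net.ok 120 v_g361 = true := by decide +kernel

noncomputable def vt_c24_K : List Net := [v_g359, v_g360, v_g74, v_g361, v_g212]

theorem vt_c24_K_ok : okE 120 vt_c24_K = true := (okE_cons.2 ⟨v_g359_ok, (okE_cons.2 ⟨v_g360_ok, (okE_cons.2 ⟨v_g74_ok, (okE_cons.2 ⟨v_g361_ok, (okE_cons.2 ⟨v_g212_ok, (okE_nil 120)⟩)⟩)⟩)⟩)⟩)

noncomputable def vt_c24_cnt_EG : List Net := [v_b, v_p0, v_p1, v_g7, v_g3, v_g4, v_g10, v_g16, v_g11, v_g12, v_g13, v_g22, v_g21, v_g26, v_g19, v_g20, v_g23, v_g30, v_g31, v_g32, v_g37, v_g38, v_g29, v_u, v_g168, v_g169, v_g92, v_g170, v_g100, v_g117, v_g171, v_g352, v_g351, v_g130, v_g196, v_g197]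

theorem vt_c24_cnt_EG_ok : okE 120 vt_c24_cnt_EG = true := (okE_cons.2 ⟨v_b_ok, (okE_cons.2 ⟨v_p0_ok, (okE_cons.2 ⟨v_p1_ok, (okE_cons.2 ⟨v_g7_ok, (okE_cons.2 ⟨v_g3_ok, (okE_cons.2 ⟨v_g4_ok, (okE_cons.2 ⟨v_g10_ok, (okE_cons.2 ⟨v_g16_ok, (okE_cons.2 ⟨v_g11_ok, (okE_cons.2 ⟨v_g12_ok, (okE_cons.2 ⟨v_g13_ok, (okE_cons.2 ⟨v_g22_ok, (okE_cons.2 ⟨v_g21_ok, (okE_cons.2 ⟨v_g26_ok, (okE_cons.2 ⟨v_g19_ok, (okE_cons.2 ⟨v_g20_ok, (okE_cons.2 ⟨v_g23_ok, (okE_cons.2 ⟨v_g30_ok, (okE_cons.2 ⟨v_g31_ok, (okE_cons.2 ⟨v_g32_ok, (okE_cons.2 ⟨v_g37_ok, (okE_cons.2 ⟨v_g38_ok, (okE_cons.2 ⟨v_g29_ok, (okE_cons.2 ⟨v_u_ok, (okE_cons.2 ⟨v_g168_ok, (okE_cons.2 ⟨v_g169_ok, (okE_cons.2 ⟨v_g92_ok, (okE_cons.2 ⟨v_g170_ok, (okE_cons.2 ⟨v_g100_ok, (okE_cons.2 ⟨v_g117_ok, (okE_cons.2 ⟨v_g171_ok, (okE_cons.2 ⟨v_g352_ok, (okE_cons.2 ⟨v_g351_ok, (okE_cons.2 ⟨v_g130_ok, (okE_cons.2 ⟨v_g196_ok, (okE_cons.2 ⟨v_g197_ok, (okE_nil 120)⟩)⟩)⟩)⟩)⟩)⟩)⟩)⟩)⟩)⟩)⟩)⟩)⟩)⟩)⟩)⟩)⟩)⟩)⟩)⟩)⟩)⟩)⟩)⟩)⟩)⟩)⟩)⟩)⟩)⟩)⟩)⟩)⟩)⟩)⟩)⟩)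

noncomputable def v_g363 : Net := (Net.cons (nat_lit 1) (nat_lit 0x501400415451550140004455540444) (Net.cons (nat_lit 2) (nat_lit 0x330013100201103133313033123020) (Net.cons (nat_lit 4) (nat_lit 0x406040c060108020e0905090d0000) (Net.cons (nat_lit 8) (nat_lit 0xb8008d00f100d60052006a0010) (Net.cons (nat_lit 16) (nat_lit 0x170000e0280000050a00000a00) (Net.cons (nat_lit 32) (nat_lit 0x120964000000002a000000) (Net.cons (nat_lit 64) (nat_lit 0x70d796baa71cfa) (Net.cons (nat_lit 32) (nat_lit 0xc6c89d000000002771d238) (Net.cons (nat_lit 16) (nat_lit 0x7700004762000026d20000ead4) (Net.cons (nat_lit 8) (nat_lit 0x1200d600ed0086002f00db00f0) (Net.cons (nat_lit 4) (nat_lit 0x400080f0309010a01090a0f0e060e) (Net.cons (nat_lit 2) (nat_lit 0x203200311322211302333111300312) (Net.cons (nat_lit 1) (nat_lit 0x155101510145445555055515005510) Net.nil)))))))))))))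

theorem v_g363_ok : Net.ok 120 v_g363 = true := by decide +kernel

noncomputable def v_g364 : Net := (Net.cons (nat_lit 1) (nat_lit 0x400044451114554040104141050010) (Net.cons (nat_lit 2) (nat_lit 0x310021311321111033220111200100) (Net.cons (nat_lit 4) (nat_lit 0xc000b0d0604020d02000004020000) (Net.cons (nat_lit 8) (nat_lit 0xb6007900cc00a60021004c0052) (Net.cons (nat_lit 16) (nat_lit 0x40000cc2f0000d48400000800) (Net.cons (nat_lit 32) (nat_lit 0x92200000000070000000) (Net.cons (nat_lit 64) (nat_lit 0x4c0f3e77cdfd42) (Net.cons (nat_lit 32) (nat_lit 0xde49d300000000d02b2ec5) (Net.cons (nat_lit 16) (nat_lit 0xc60000b7ea000024130000ae82) (Net.cons (nat_lit 8) (nat_lit 0x6000a700ee00d3009900840035) (Net.cons (nat_lit 4) (nat_lit 0x8070a0e010301000d020004040500) (Net.cons (nat_lit 2) (nat_lit 0x3102031311310210011201232220) (Net.cons (nat_lit 1) (nat_lit 0x154014450104115544411505001551) Net.nil)))))))))))))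

theorem v_g364_ok : Net.ok 120 v_g364 = true := by decide +kernel

noncomputable def v_g365 : Net := (Net.cons (nat_lit 1) (nat_lit 0x551050454040114511415455041040) (Net.cons (nat_lit 2) (nat_lit 0x33321013000301132010212321300) (Net.cons (nat_lit 4) (nat_lit 0xb0a08080d0c0101040a0001040100) (Net.cons (nat_lit 8) (nat_lit 0x53001a0035002e000e00a2002d) (Net.cons (nat_lit 16) (nat_lit 0xda000092ca0000834900008800) (Net.cons (nat_lit 32) (nat_lit 0x2100d000000000d9000000) (Net.cons (nat_lit 64) (nat_lit 0xb3ee28dd9a6ef3) (Net.cons (nat_lit 32) (nat_lit 0x1a242500000000fe89f4ea) (Net.cons (nat_lit 16) (nat_lit 0x770000a7f40000d8e90000ec51) (Net.cons (nat_lit 8) (nat_lit 0x66006f00b3004e005c00f3008d) (Net.cons (nat_lit 4) (nat_lit 0xf00070c0c05000805030f01060904) (Net.cons (nat_lit 2) (nat_lit 0x201202211003211113223321321020) (Net.cons (nat_lit 1) (nat_lit 0x451140454040450515004515055550) Net.nil)))))))))))))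

theorem v_g365_ok : Net.ok 120 v_g365 = true := by decide +kernel

noncomputable def v_g366 : Net := (Net.cons (nat_lit 1) (nat_lit 0x414000000004040001000100010000) (Net.cons (nat_lit 2) (nat_lit 0x10101210002010111200120010000) (Net.cons (nat_lit 4) (nat_lit 0xc0000060000010000000000040000) (Net.cons (nat_lit 8) (nat_lit 0xc1000800000008000400640000) (Net.cons (nat_lit 16) (nat_lit 0x8000000180000210000000000) (Net.cons (nat_lit 32) (nat_lit 0x1002000000000040000000) (Net.cons (nat_lit 64) (nat_lit 0x58034052000000) (Net.cons (nat_lit 32) (nat_lit 0x1002a80000000064000400) (Net.cons (nat_lit 16) (nat_lit 0x90000001800002d0400004420) (Net.cons (nat_lit 8) (nat_lit 0xc7000800000008000400640000) (Net.cons (nat_lit 4) (nat_lit 0xc0000060000010000000000040000) (Net.cons (nat_lit 2) (nat_lit 0x10101210002010111200120010000) (Net.cons (nat_lit 1) (nat_lit 0x514000000014040001000100010000) Net.nil)))))))))))))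

theorem v_g366_ok : Net.ok 120 v_g366 = true := by decide +kernel

noncomputable def vt_c25_K : List Net := [v_g363, v_g364, v_g365, v_g366, v_g72]

theorem vt_c25_K_ok : okE 120 vt_c25_K = true := (okE_cons.2 ⟨v_g363_ok, (okE_cons.2 ⟨v_g364_ok, (okE_cons.2 ⟨v_g365_ok, (okE_cons.2 ⟨v_g366_ok, (okE_cons.2 ⟨v_g72_ok, (okE_nil 120)⟩)⟩)⟩)⟩)⟩)

noncomputable def v_g368 : Net := (Net.cons (nat_lit 1) (nat_lit 0x10000140000041001400000100000) (Net.cons (nat_lit 2) (nat_lit 0x1000121000122020100000200000) (Net.cons (nat_lit 4) (nat_lit 0x5060a080400030802000001080000) (Net.cons (nat_lit 8) (nat_lit 0x4400d400000082002800100004) (Net.cons (nat_lit 16) (nat_lit 0x16800000120000000000) (Net.cons (nat_lit 32) (nat_lit 0x10a10000000000000000) (Net.cons (nat_lit 64) (nat_lit 0x1010a500000400) (Net.cons (nat_lit 32) (nat_lit 0x412ab0000000018202200) (Net.cons (nat_lit 16) (nat_lit 0x40000016c00000920800000018)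 (Net.cons (nat_lit 8) (nat_lit 0x4500d400000082002800100004) (Net.cons (nat_lit 4) (nat_lit 0x5060a080400030802000001080000) (Net.cons (nat_lit 2) (nat_lit 0x1000121000122020100000200000) (Net.cons (nat_lit 1) (nat_lit 0x10000140010041001400000100000) Net.nil)))))))))))))

theorem v_g368_ok : Net.ok 120 v_g368 = true := by decide +kernel

noncomputable def v_V369 : List Net := [v_g368, v_g171]

theorem v_V369_ok : okE 120 v_V369 = true := (okE_cons.2 ⟨v_g368_ok, (okE_cons.2 ⟨v_g171_ok, (okE_nil 120)⟩)⟩)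

noncomputable def v_V371 : List Net := [v_g171]

theorem v_V371_ok : okE 120 v_V371 = true := (okE_cons.2 ⟨v_g171_ok, (okE_nil 120)⟩)

noncomputable def v_V372 : List Net := []

theorem v_V372_ok : okE 120 v_V372 = true := (okE_nil 120)

noncomputable def vt_c25_cnt_EG : List Net := [v_b, v_p0, v_p1, v_g7, v_g3, v_g4, v_g10, v_g16, v_g11, v_g12, v_g13, v_g22, v_g21, v_g26, v_g19, v_g20, v_g23, v_g30, v_g31, v_g32, v_g37, v_g38, v_g29, v_u, v_g168, v_g169, v_g92, v_g170, v_g100, v_g117, v_g171, v_g368, v_g113]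

theorem vt_c25_cnt_EG_ok : okE 120 vt_c25_cnt_EG = true := (okE_cons.2 ⟨v_b_ok, (okE_cons.2 ⟨v_p0_ok, (okE_cons.2 ⟨v_p1_ok, (okE_cons.2 ⟨v_g7_ok, (okE_cons.2 ⟨v_g3_ok, (okE_cons.2 ⟨v_g4_ok, (okE_cons.2 ⟨v_g10_ok, (okE_cons.2 ⟨v_g16_ok, (okE_cons.2 ⟨v_g11_ok, (okE_cons.2 ⟨v_g12_ok, (okE_cons.2 ⟨v_g13_ok, (okE_cons.2 ⟨v_g22_ok, (okE_cons.2 ⟨v_g21_ok, (okE_cons.2 ⟨v_g26_ok, (okE_cons.2 ⟨v_g19_ok, (okE_cons.2 ⟨v_g20_ok, (okE_cons.2 ⟨v_g23_ok, (okE_cons.2 ⟨v_g30_ok, (okE_cons.2 ⟨v_g31_ok, (okE_cons.2 ⟨v_g32_ok, (okE_cons.2 ⟨v_g37_ok, (okE_cons.2 ⟨v_g38_ok, (okE_cons.2 ⟨v_g29_ok, (okE_cons.2 ⟨v_u_ok, (okE_cons.2 ⟨v_g168_ok, (okE_cons.2 ⟨v_g169_ok, (okE_cons.2 ⟨v_g92_ok, (okE_cons.2 ⟨v_g170_ok, (okE_cons.2 ⟨v_g100_ok, (okE_cons.2 ⟨v_g117_ok, (okE_cons.2 ⟨v_g171_ok, (okE_cons.2 ⟨v_g368_ok, (okE_cons.2 ⟨v_g113_ok, (okE_nil 120)⟩)⟩)⟩)⟩)⟩)⟩)⟩)⟩)⟩)⟩)⟩)⟩)⟩)⟩)⟩)⟩)⟩)⟩)⟩)⟩)⟩)⟩)⟩)⟩)⟩)⟩)⟩)⟩)⟩)⟩)⟩)⟩)⟩)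

noncomputable def v_g373 : Net := (Net.cons (nat_lit 1) (nat_lit 0x11141551504450004450410055404) (Net.cons (nat_lit 2) (nat_lit 0x102220103211010122232333212330) (Net.cons (nat_lit 4) (nat_lit 0x20e0607040e09020d0803090c0500) (Net.cons (nat_lit 8) (nat_lit 0x3100e60009002b006300130040) (Net.cons (nat_lit 16) (nat_lit 0x580000835e00009a2800008200) (Net.cons (nat_lit 32) (nat_lit 0x5358280000000004000000) (Net.cons (nat_lit 64) (nat_lit 0x1cf6b2b7672cdb) (Net.cons (nat_lit 32) (nat_lit 0xa5d6e100000000c6228b25) (Net.cons (nat_lit 16) (nat_lit 0x7000003c7600003edd0000546d) (Net.cons (nat_lit 8) (nat_lit 0x2300e400700072006a00ce006d) (Net.cons (nat_lit 4) (nat_lit 0xc030706060a0f020d0b0d0e0d0a0c) (Net.cons (nat_lit 2) (nat_lit 0x330002230222012023022020213303) (Net.cons (nat_lit 1) (nat_lit 0x145011541544144001511415101050) Net.nil)))))))))))))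

theorem v_g373_ok : Net.ok 120 v_g373 = true := by decide +kernel

noncomputable def v_g374 : Net := (Net.cons (nat_lit 1) (nat_lit 0x111404455041114401540014111000) (Net.cons (nat_lit 2) (nat_lit 0x121302130112012202222231022220) (Net.cons (nat_lit 4) (nat_lit 0xb070f0b0d020108050009010b0b00) (Net.cons (nat_lit 8) (nat_lit 0xfa001e00dd00e9006500010010) (Net.cons (nat_lit 16) (nat_lit 0xc60000b2480000db0800002400) (Net.cons (nat_lit 32) (nat_lit 0x24620400000000c1000000) (Net.cons (nat_lit 64) (nat_lit 0xd51882ff7beb85) (Net.cons (nat_lit 32) (nat_lit 0x6d364e00000000b1d56a3c) (Net.cons (nat_lit 16) (nat_lit 0x9a0000ca770000574a000071d4) (Net.cons (nat_lit 8) (nat_lit 0xbd006b0051007200ba00f300d4) (Net.cons (nat_lit 4) (nat_lit 0x4040c0d0c0c0a080e040807070d) (Net.cons (nat_lit 2) (nat_lit 0x332223230011232010220311300322) (Net.cons (nat_lit 1) (nat_lit 0x440400100055004451000514500145) Net.nil)))))))))))))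

theorem v_g374_ok : Net.ok 120 v_g374 = true := by decide +kernel

noncomputable def vt_c26_K : List Net := [v_g373, v_g374, v_g160, v_g166]

theorem vt_c26_K_ok : okE 120 vt_c26_K = true := (okE_cons.2 ⟨v_g373_ok, (okE_cons.2 ⟨v_g374_ok, (okE_cons.2 ⟨v_g160_ok, (okE_cons.2 ⟨v_g166_ok, (okE_nil 120)⟩)⟩)⟩)⟩)

noncomputable def v_g376 : Net := (Net.cons (nat_lit 1) (nat_lit 0x400440500000011000100110000) (Net.cons (nat_lit 2) (nat_lit 0x30021000000101000100220000) (Net.cons (nat_lit 4) (nat_lit 0x30703080c04000000000401000000) (Net.cons (nat_lit 8) (nat_lit 0x1008000040008003400100000) (Net.cons (nat_lit 16) (nat_lit 0x18000002800000044000004000) (Net.cons (nat_lit 32) (nat_lit 0x41800000000000000000) (Net.cons (nat_lit 64) (nat_lit 0x28009100044104) (Net.cons (nat_lit 32) (nat_lit 0x43820000000000402400) (Net.cons (nat_lit 16) (nat_lit 0x1800008a8400000c440000409c) (Net.cons (nat_lit 8) (nat_lit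 0x11008000040008003400100000) (Net.cons (nat_lit 4) (nat_lit 0x30703080c04000000000401080008) (Net.cons (nat_lit 2) (nat_lit 0x30021100000101000100220000) (Net.cons (nat_lit 1) (nat_lit 0x400440510000011000100110000) Net.nil)))))))))))))

theorem v_g376_ok : Net.ok 120 v_g376 = true := by decide +kernel

noncomputable def v_g377 : Net := (Net.cons (nat_lit 1) (nat_lit 0x444410104500000001000000004000) (Net.cons (nat_lit 2) (nat_lit 0x30000220012103000000000000) (Net.cons (nat_lit 4) (nat_lit 0x70b000806040008000001000000) (Net.cons (nat_lit 8) (nat_lit 0x8900ba00440000002400100000) (Net.cons (nat_lit 16) (nat_lit 0xc80400008c0800004000) (Net.cons (nat_lit 32) (nat_lit 0x49000000000000000000) (Net.cons (nat_lit 64) (nat_lit 0x880060044100) (Net.cons (nat_lit 32) (nat_lit 0xc1820000000000882400) (Net.cons (nat_lit 16) (nat_lit 0x80000ca1400008c0c00004010) (Net.cons (nat_lit 8) (nat_lit 0xb900ba00440000002400100000)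 (Net.cons (nat_lit 4) (nat_lit 0x40703000006040808000001000000) (Net.cons (nat_lit 2) (nat_lit 0x30000320012103000000000000) (Net.cons (nat_lit 1) (nat_lit 0x544410104500000001000000004000) Net.nil)))))))))))))

theorem v_g377_ok : Net.ok 120 v_g377 = true := by decide +kernel

noncomputable def v_V378 : List Net := [v_g118, v_g376, v_g171, v_g377]

theorem v_V378_ok : okE 120 v_V378 = true := (okE_cons.2 ⟨v_g118_ok, (okE_cons.2 ⟨v_g376_ok, (okE_cons.2 ⟨v_g171_ok, (okE_cons.2 ⟨v_g377_ok, (okE_nil 120)⟩)⟩)⟩)⟩)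

noncomputable def v_V380 : List Net := [v_g376, v_g171, v_g377]

theorem v_V380_ok : okE 120 v_V380 = true := (okE_cons.2 ⟨v_g376_ok, (okE_cons.2 ⟨v_g171_ok, (okE_cons.2 ⟨v_g377_ok, (okE_nil 120)⟩)⟩)⟩)

noncomputable def v_V381 : List Net := [v_g171, v_g377]

theorem v_V381_ok : okE 120 v_V381 = true := (okE_cons.2 ⟨v_g171_ok, (okE_cons.2 ⟨v_g377_ok, (okE_nil 120)⟩)⟩)

noncomputable def v_V382 : List Net := [v_g377]

theorem v_V382_ok : okE 120 v_V382 = true := (okE_cons.2 ⟨v_g377_ok, (okE_nil 120)⟩)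

noncomputable def v_V383 : List Net := []

theorem v_V383_ok : okE 120 v_V383 = true := (okE_nil 120)

noncomputable def vt_c26_cnt_EG : List Net := [v_g7, v_g3, v_g4, v_g10, v_g16, v_g11, v_g12, v_g13, v_g22, v_g21, v_g26, v_g19, v_g20, v_g23, v_g30, v_g31, v_g32, v_g37, v_g38, v_g29, v_u, v_b, v_p0, v_p1, v_g168, v_g169, v_g92, v_g170, v_g100, v_g117, v_g171, v_g118, v_g376, v_g377]

theorem vt_c26_cnt_EG_ok : okE 120 vt_c26_cnt_EG = true := (okE_cons.2 ⟨v_g7_ok, (okE_cons.2 ⟨v_g3_ok, (okE_cons.2 ⟨v_g4_ok, (okE_cons.2 ⟨v_g10_ok, (okE_cons.2 ⟨v_g16_ok, (okE_cons.2 ⟨v_g11_ok, (okE_cons.2 ⟨v_g12_ok, (okE_cons.2 ⟨v_g13_ok, (okE_cons.2 ⟨v_g22_ok, (okE_cons.2 ⟨v_g21_ok, (okE_cons.2 ⟨v_g26_ok, (okE_cons.2 ⟨v_g19_ok, (okE_cons.2 ⟨v_g20_ok, (okE_cons.2 ⟨v_g23_ok, (okE_cons.2 ⟨v_g30_ok, (okE_cons.2 ⟨v_g31_ok, (okE_cons.2 ⟨v_g32_ok, (okE_cons.2 ⟨v_g37_ok, (okE_cons.2 ⟨v_g38_ok, (okE_cons.2 ⟨v_g29_ok,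 (okE_cons.2 ⟨v_u_ok, (okE_cons.2 ⟨v_b_ok, (okE_cons.2 ⟨v_p0_ok, (okE_cons.2 ⟨v_p1_ok, (okE_cons.2 ⟨v_g168_ok, (okE_cons.2 ⟨v_g169_ok, (okE_cons.2 ⟨v_g92_ok, (okE_cons.2 ⟨v_g170_ok, (okE_cons.2 ⟨v_g100_ok, (okE_cons.2 ⟨v_g117_ok, (okE_cons.2 ⟨v_g171_ok, (okE_cons.2 ⟨v_g118_ok, (okE_cons.2 ⟨v_g376_ok, (okE_cons.2 ⟨v_g377_ok, (okE_nil 120)⟩)⟩)⟩)⟩)⟩)⟩)⟩)⟩)⟩)⟩)⟩)⟩)⟩)⟩)⟩)⟩)⟩)⟩)⟩)⟩)⟩)⟩)⟩)⟩)⟩)⟩)⟩)⟩)⟩)⟩)⟩)⟩)⟩)⟩)

noncomputable def v_g384 : Net := (Net.cons (nat_lit 1) (nat_lit 0x155404450114540400155104540000) (Net.cons (nat_lit 2) (nat_lit 0x310320301123200121000333021000) (Net.cons (nat_lit 4) (nat_lit 0xa070a030d0c0d0806030e000400) (Net.cons (nat_lit 8) (nat_lit 0xfc00e6004300e000e200870054) (Net.cons (nat_lit 16) (nat_lit 0x5400004707000080240000a100) (Net.cons (nat_lit 32) (nat_lit 0x21460600000000f2000000) (Net.cons (nat_lit 64) (nat_lit 0xe1f80f739e056) (Net.cons (nat_lit 32) (nat_lit 0xd6ea060000000090b619d7)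 (Net.cons (nat_lit 16) (nat_lit 0xaa0000ee5f000004a60000c66b) (Net.cons (nat_lit 8) (nat_lit 0x33003500420071008c000b001d) (Net.cons (nat_lit 4) (nat_lit 0xe00020808000e000b0e08080c010b) (Net.cons (nat_lit 2) (nat_lit 0x310132020232233133311031320001) (Net.cons (nat_lit 1) (nat_lit 0x405441501550545414004051455414) Net.nil)))))))))))))

theorem v_g384_ok : Net.ok 120 v_g384 = true := by decide +kernel

noncomputable def v_g385 : Net := (Net.cons (nat_lit 1) (nat_lit 0x505455405444545015411415500550) (Net.cons (nat_lit 2) (nat_lit 0x213310302221311122011000120200) (Net.cons (nat_lit 4) (nat_lit 0x5050303090e04060805090e050000) (Net.cons (nat_lit 8) (nat_lit 0x10007800c6000b004f00480045) (Net.cons (nat_lit 16) (nat_lit 0xcd000050920000af0000000100) (Net.cons (nat_lit 32) (nat_lit 0xcb112c0000000090000000) (Net.cons (nat_lit 64) (nat_lit 0x2fefadd6d4f2c3) (Net.cons (nat_lit 32) (nat_lit 0xcc7e57000000003c4a7f46)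 (Net.cons (nat_lit 16) (nat_lit 0xf20000bb8d0000d8250000946f) (Net.cons (nat_lit 8) (nat_lit 0x64004c00db00cc00d4002000b9) (Net.cons (nat_lit 4) (nat_lit 0xf0e080001040a0d0209010a070805) (Net.cons (nat_lit 2) (nat_lit 0x233110301013111232210132022122) (Net.cons (nat_lit 1) (nat_lit 0x1405144041511511540001004115) Net.nil)))))))))))))

theorem v_g385_ok : Net.ok 120 v_g385 = true := by decide +kernel

noncomputable def vt_c27_K : List Net := [v_g384, v_g385]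

theorem vt_c27_K_ok : okE 120 vt_c27_K = true := (okE_cons.2 ⟨v_g384_ok, (okE_cons.2 ⟨v_g385_ok, (okE_nil 120)⟩)⟩)

noncomputable def v_g387 : Net := (Net.cons (nat_lit 1) (nat_lit 0x45400000004015010001100110400) (Net.cons (nat_lit 2) (nat_lit 0x213002022010000320221000) (Net.cons (nat_lit 4) (nat_lit 0x80d00020400080c00000600020400) (Net.cons (nat_lit 8) (nat_lit 0x8c009000800040002000240000) (Net.cons (nat_lit 16) (nat_lit 0x1040000244000004000) (Net.cons (nat_lit 32) (nat_lit 0x42000000000010000000) (Net.cons (nat_lit 64) (nat_lit 0x2049200c004) (Net.cons (nat_lit 32) (nat_lit 0x43080000000038440402) (Net.cons (nat_lit 16) (nat_lit 0x800000010400006440000040a8) (Net.cons (nat_lit 8) (nat_lit 0x8c009000800040002000240040) (Net.cons (nat_lit 4) (nat_lit 0x80d00020400080c000006000a0408) (Net.cons (nat_lit 2) (nat_lit 0x213202022010000320221000) (Net.cons (nat_lit 1) (nat_lit 0x45400000014015010001100110400)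 Net.nil)))))))))))))

theorem v_g387_ok : Net.ok 120 v_g387 = true := by decide +kernel

noncomputable def v_g388 : Net := (Net.cons (nat_lit 1) (nat_lit 0x401001004100004000) (Net.cons (nat_lit 2) (nat_lit 0x30212000212000210120000000) (Net.cons (nat_lit 4) (nat_lit 0x40501070000060800000401000000) (Net.cons (nat_lit 8) (nat_lit 0xc1008000440005000000100000) (Net.cons (nat_lit 16) (nat_lit 0x4000000000000006800000000) (Net.cons (nat_lit 32) (nat_lit 0x1020000000040000000) (Net.cons (nat_lit 64) (nat_lit 0x40083c3004100) (Net.cons (nat_lit 32) (nat_lit 0x522000000004c682000) (Net.cons (nat_lit 16) (nat_lit 0x44000000000000016800002030) (Net.cons (nat_lit 8) (nat_lit 0xc1008000440005002000300020) (Net.cons (nat_lit 4) (nat_lit 0x40501070000060800000401000000) (Net.cons (nat_lit 2) (nat_lit 0x30212200212000210120000000) (Net.cons (nat_lit 1) (nat_lit 0x100000000000401001004100004000) Net.nil)))))))))))))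

theorem v_g388_ok : Net.ok 120 v_g388 = true := by decide +kernel

noncomputable def v_V389 : List Net := [v_g387, v_g143, v_g217, v_g388, v_g216]

theorem v_V389_ok : okE 120 v_V389 = true := (okE_cons.2 ⟨v_g387_ok, (okE_cons.2 ⟨v_g143_ok, (okE_cons.2 ⟨v_g217_ok, (okE_cons.2 ⟨v_g388_ok, (okE_cons.2 ⟨v_g216_ok, (okE_nil 120)⟩)⟩)⟩)⟩)⟩)

noncomputable def v_V391 : List Net := [v_g143, v_g217, v_g388, v_g216]

theorem v_V391_ok : okE 120 v_V391 = true := (okE_cons.2 ⟨v_g143_ok, (okE_cons.2 ⟨v_g217_ok, (okE_cons.2 ⟨v_g388_ok, (okE_cons.2 ⟨v_g216_ok, (okE_nil 120)⟩)⟩)⟩)⟩)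

noncomputable def v_V392 : List Net := [v_g217, v_g388, v_g216]

theorem v_V392_ok : okE 120 v_V392 = true := (okE_cons.2 ⟨v_g217_ok, (okE_cons.2 ⟨v_g388_ok, (okE_cons.2 ⟨v_g216_ok, (okE_nil 120)⟩)⟩)⟩)

noncomputable def v_V393 : List Net := [v_g388, v_g216]

theorem v_V393_ok : okE 120 v_V393 = true := (okE_cons.2 ⟨v_g388_ok, (okE_cons.2 ⟨v_g216_ok, (okE_nil 120)⟩)⟩)

noncomputable def v_V394 : List Net := [v_g216]

theorem v_V394_ok : okE 120 v_V394 = true := (okE_cons.2 ⟨v_g216_ok, (okE_nil 120)⟩)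

noncomputable def v_V395 : List Net := []

theorem v_V395_ok : okE 120 v_V395 = true := (okE_nil 120)

noncomputable def vt_c27_cnt_EG : List Net := [v_b, v_p0, v_p1, v_g7, v_g3, v_g4, v_g10, v_g16, v_g11, v_g12, v_g13, v_g22, v_g21, v_g26, v_g19, v_g20, v_g23, v_g30, v_g31, v_g32, v_g37, v_g38, v_g29, v_u, v_g387, v_g143, v_g217, v_g388, v_g216]

theorem vt_c27_cnt_EG_ok : okE 120 vt_c27_cnt_EG = true := (okE_cons.2 ⟨v_b_ok, (okE_cons.2 ⟨v_p0_ok, (okE_cons.2 ⟨v_p1_ok, (okE_cons.2 ⟨v_g7_ok, (okE_cons.2 ⟨v_g3_ok, (okE_cons.2 ⟨v_g4_ok, (okE_cons.2 ⟨v_g10_ok, (okE_cons.2 ⟨v_g16_ok, (okE_cons.2 ⟨v_g11_ok, (okE_cons.2 ⟨v_g12_ok, (okE_cons.2 ⟨v_g13_ok, (okE_cons.2 ⟨v_g22_ok, (okE_cons.2 ⟨v_g21_ok, (okE_cons.2 ⟨v_g26_ok, (okE_cons.2 ⟨v_g19_ok, (okE_cons.2 ⟨v_g20_ok, (okE_cons.2 ⟨v_g23_ok, (okE_cons.2 ⟨v_g30_ok, (okE_cons.2 ⟨v_g31_ok, (okE_cons.2 ⟨v_g32_ok, (okE_cons.2 ⟨v_g37_ok, (okE_cons.2 ⟨v_g38_ok,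 (okE_cons.2 ⟨v_g29_ok, (okE_cons.2 ⟨v_u_ok, (okE_cons.2 ⟨v_g387_ok, (okE_cons.2 ⟨v_g143_ok, (okE_cons.2 ⟨v_g217_ok, (okE_cons.2 ⟨v_g388_ok, (okE_cons.2 ⟨v_g216_ok, (okE_nil 120)⟩)⟩)⟩)⟩)⟩)⟩)⟩)⟩)⟩)⟩)⟩)⟩)⟩)⟩)⟩)⟩)⟩)⟩)⟩)⟩)⟩)⟩)⟩)⟩)⟩)⟩)⟩)⟩)⟩)

noncomputable def v_g396 : Net := (Net.cons (nat_lit 1) (nat_lit 0x50001441011415014100100100004) (Net.cons (nat_lit 2) (nat_lit 0x233210211103102020101323000010) (Net.cons (nat_lit 4) (nat_lit 0x30c090e0a07070202020c02020500) (Net.cons (nat_lit 8) (nat_lit 0xe6000800e200e50051007400c3) (Net.cons (nat_lit 16) (nat_lit 0xc40a0000c64000007000) (Net.cons (nat_lit 32) (nat_lit 0x1103160000000003000000) (Net.cons (nat_lit 64) (nat_lit 0x53df3aab841ce4) (Net.cons (nat_lit 32) (nat_lit 0x127d3b0000000047a82e5f) (Net.cons (nat_lit 16) (nat_lit 0xcc0000e576000046500000abab) (Net.cons (nat_lit 8) (nat_lit 0x1b00c000530079007200d000d0) (Net.cons (nat_lit 4) (nat_lit 0xd0d01040601070d07090508070008)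 (Net.cons (nat_lit 2) (nat_lit 0x302321223230032103012320233103) (Net.cons (nat_lit 1) (nat_lit 0x54051054411010454055000501554) Net.nil)))))))))))))

theorem v_g396_ok : Net.ok 120 v_g396 = true := by decide +kernel

noncomputable def v_g397 : Net := (Net.cons (nat_lit 1) (nat_lit 0x514114555110041115410141401140) (Net.cons (nat_lit 2) (nat_lit 0x12221322020031203021022212110) (Net.cons (nat_lit 4) (nat_lit 0x7030700000b080a090001020a0100) (Net.cons (nat_lit 8) (nat_lit 0xe700c500b900a600b900000089) (Net.cons (nat_lit 16) (nat_lit 0x1b000042480000921000009700) (Net.cons (nat_lit 32) (nat_lit 0x5386850000000032000000) (Net.cons (nat_lit 64) (nat_lit 0x8b0df63ef4fa73) (Net.cons (nat_lit 32) (nat_lit 0x8df8b40000000083271c23) (Net.cons (nat_lit 16) (nat_lit 0x700004a7a000042890000603d) (Net.cons (nat_lit 8) (nat_lit 0xc00650089008b009100ff009d) (Net.cons (nat_lit 4) (nat_lit 0x3090903000c080a080a0e010d0f05)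 (Net.cons (nat_lit 2) (nat_lit 0x112132101000232200202211323331) (Net.cons (nat_lit 1) (nat_lit 0x400444104110155504010155541455) Net.nil)))))))))))))

theorem v_g397_ok : Net.ok 120 v_g397 = true := by decide +kernel

noncomputable def vt_c28_K : List Net := [v_g396, v_g397, v_g100]

theorem vt_c28_K_ok : okE 120 vt_c28_K = true := (okE_cons.2 ⟨v_g396_ok, (okE_cons.2 ⟨v_g397_ok, (okE_cons.2 ⟨v_g100_ok, (okE_nil 120)⟩)⟩)⟩)

noncomputable def v_V399 : List Net := [v_g19, v_g113, v_g38, v_g143]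

theorem v_V399_ok : okE 120 v_V399 = true := (okE_cons.2 ⟨v_g19_ok, (okE_cons.2 ⟨v_g113_ok, (okE_cons.2 ⟨v_g38_ok, (okE_cons.2 ⟨v_g143_ok, (okE_nil 120)⟩)⟩)⟩)⟩)

noncomputable def v_V401 : List Net := [v_g113, v_g38, v_g143]

theorem v_V401_ok : okE 120 v_V401 = true := (okE_cons.2 ⟨v_g113_ok, (okE_cons.2 ⟨v_g38_ok, (okE_cons.2 ⟨v_g143_ok, (okE_nil 120)⟩)⟩)⟩)

noncomputable def v_V402 : List Net := [v_g38, v_g143]

theorem v_V402_ok : okE 120 v_V402 = true := (okE_cons.2 ⟨v_g38_ok, (okE_cons.2 ⟨v_g143_ok, (okE_nil 120)⟩)⟩)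

noncomputable def v_V403 : List Net := [v_g143]

theorem v_V403_ok : okE 120 v_V403 = true := (okE_cons.2 ⟨v_g143_ok, (okE_nil 120)⟩)

noncomputable def v_V404 : List Net := []

theorem v_V404_ok : okE 120 v_V404 = true := (okE_nil 120)

noncomputable def vt_c28_cnt_EG : List Net := [v_b, v_p0, v_p1, v_g7, v_g3, v_g4, v_g10, v_g16, v_g11, v_g12, v_g13, v_g22, v_g21, v_g26, v_g19, v_g20, v_g23, v_g30, v_g31, v_g32, v_g37, v_g38, v_g29, v_u, v_g143, v_g113, v_g387, v_g217, v_g388, v_g216]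

theorem vt_c28_cnt_EG_ok : okE 120 vt_c28_cnt_EG = true := (okE_cons.2 ⟨v_b_ok, (okE_cons.2 ⟨v_p0_ok, (okE_cons.2 ⟨v_p1_ok, (okE_cons.2 ⟨v_g7_ok, (okE_cons.2 ⟨v_g3_ok, (okE_cons.2 ⟨v_g4_ok, (okE_cons.2 ⟨v_g10_ok, (okE_cons.2 ⟨v_g16_ok, (okE_cons.2 ⟨v_g11_ok, (okE_cons.2 ⟨v_g12_ok, (okE_cons.2 ⟨v_g13_ok, (okE_cons.2 ⟨v_g22_ok, (okE_cons.2 ⟨v_g21_ok, (okE_cons.2 ⟨v_g26_ok, (okE_cons.2 ⟨v_g19_ok, (okE_cons.2 ⟨v_g20_ok, (okE_cons.2 ⟨v_g23_ok, (okE_cons.2 ⟨v_g30_ok, (okE_cons.2 ⟨v_g31_ok, (okE_cons.2 ⟨v_g32_ok, (okE_cons.2 ⟨v_g37_ok, (okE_cons.2 ⟨v_g38_ok, (okE_cons.2 ⟨v_g29_ok, (okE_cons.2 ⟨v_u_ok, (okE_cons.2 ⟨v_g143_ok, (okE_cons.2 ⟨v_g113_ok, (okE_cons.2 ⟨v_g387_ok, (okE_cons.2 ⟨v_g217_ok, (okE_cons.2 ⟨v_g388_ok, (okE_cons.2 ⟨v_g216_ok, (okE_nil 120)⟩)⟩)⟩)⟩)⟩)⟩)⟩)⟩)⟩)⟩)⟩)⟩)⟩)⟩)⟩)⟩)⟩)⟩)⟩)⟩)⟩)⟩)⟩)⟩)⟩)⟩)⟩)⟩)⟩)⟩)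

noncomputable def v_g405 : Net := (Net.cons (nat_lit 1) (nat_lit 0x555144411541405050014151545540) (Net.cons (nat_lit 2) (nat_lit 0x201132000200101113120020203100) (Net.cons (nat_lit 4) (nat_lit 0x9090809020c0302050d080c0a0700) (Net.cons (nat_lit 8) (nat_lit 0xf0007800f80008004800e70066) (Net.cons (nat_lit 16) (nat_lit 0x59000025440000224600000100) (Net.cons (nat_lit 32) (nat_lit 0x30609a0000000060000000) (Net.cons (nat_lit 64) (nat_lit 0xe85b18f214a6c3) (Net.cons (nat_lit 32) (nat_lit 0x4e615b0000000019264c60) (Net.cons (nat_lit 16) (nat_lit 0x970000a7120000dfe7000065ab) (Net.cons (nat_lit 8) (nat_lit 0x6e00eb007a006c00d8000600c3) (Net.cons (nat_lit 4) (nat_lit 0x40b0201010a0d0c05010a060a0805) (Net.cons (nat_lit 2) (nat_lit 0x1331003223331310021323201300) (Net.cons (nat_lit 1) (nat_lit 0x4140510155415410155010515151) Net.nil)))))))))))))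

theorem v_g405_ok : Net.ok 120 v_g405 = true := by decide +kernel

noncomputable def v_g406 : Net := (Net.cons (nat_lit 1) (nat_lit 0x141004444011151504515040155014) (Net.cons (nat_lit 2) (nat_lit 0x130032003130233001301300032200) (Net.cons (nat_lit 4) (nat_lit 0x70b0007050702080706030e000f00) (Net.cons (nat_lit 8) (nat_lit 0xed00f000b600ce00ae00580046) (Net.cons (nat_lit 16) (nat_lit 0x42000075d9000051a300000e00) (Net.cons (nat_lit 32) (nat_lit 0x63301a0000000030000000) (Net.cons (nat_lit 64) (nat_lit 0x668f897305b632) (Net.cons (nat_lit 32) (nat_lit 0xd7975f000000008a5f47ec) (Net.cons (nat_lit 16) (nat_lit 0xb0000d0a800001bc100002f41) (Net.cons (nat_lit 8) (nat_lit 0x5f004d00e6003300aa005a00f7) (Net.cons (nat_lit 4) (nat_lit 0xe090a0e0e0d0b050e090b05080b08) (Net.cons (nat_lit 2) (nat_lit 0x110033101113132113121310132222) (Net.cons (nat_lit 1) (nat_lit 0x554004005400541411551441114454) Net.nil)))))))))))))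

theorem v_g406_ok : Net.ok 120 v_g406 = true := by decide +kernel

noncomputable def v_g407 : Net := (Net.cons (nat_lit 1) (nat_lit 0x1000104000450111001100010400) (Net.cons (nat_lit 2) (nat_lit 0x20213010230211000120010000) (Net.cons (nat_lit 4) (nat_lit 0x20008070401090000030601000400) (Net.cons (nat_lit 8) (nat_lit 0x40006000830045000900340000) (Net.cons (nat_lit 16) (nat_lit 0x44000010550000184100000000) (Net.cons (nat_lit 32) (nat_lit 0x1002600000000030000000) (Net.cons (nat_lit 64) (nat_lit 0x35026032018004) (Net.cons (nat_lit 32) (nat_lit 0x5012680000000030400803) (Net.cons (nat_lit 16) (nat_lit 0x440000115500005c4900000430) (Net.cons (nat_lit 8) (nat_lit 0x43006000830045000900340040) (Net.cons (nat_lit 4) (nat_lit 0x20008070401090000030601000400) (Net.cons (nat_lit 2) (nat_lit 0x20213210230211000120010000) (Net.cons (nat_lit 1) (nat_lit 0x101000104000450111001100010400) Net.nil)))))))))))))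

theorem v_g407_ok : Net.ok 120 v_g407 = true := by decide +kernel

noncomputable def vt_c29_K : List Net := [v_g405, v_g406, v_g407]

theorem vt_c29_K_ok : okE 120 vt_c29_K = true := (okE_cons.2 ⟨v_g405_ok, (okE_cons.2 ⟨v_g406_ok, (okE_cons.2 ⟨v_g407_ok, (okE_nil 120)⟩)⟩)⟩)

noncomputable def v_g409 : Net := (Net.cons (nat_lit 1) (nat_lit 0x404400000004041011001000001000) (Net.cons (nat_lit 2) (nat_lit 0x200010031102112012200020000000) (Net.cons (nat_lit 4) (nat_lit 0x30401090c04010408000601000000) (Net.cons (nat_lit 8) (nat_lit 0x5009a00040040001000300000) (Net.cons (nat_lit 16) (nat_lit 0x50000000900000000800004000) (Net.cons (nat_lit 32) (nat_lit 0x1042810000000014000000) (Net.cons (nat_lit 64) (nat_lit 0x30039515044104) (Net.cons (nat_lit 32) (nat_lit 0x5243810000000034883102) (Net.cons (nat_lit 16) (nat_lit 0x50000048940000600800006034) (Net.cons (nat_lit 8) (nat_lit 0x7009a00040040001000300000)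 (Net.cons (nat_lit 4) (nat_lit 0x30401090c04010408000601000000) (Net.cons (nat_lit 2) (nat_lit 0x200010031302112012200020000000) (Net.cons (nat_lit 1) (nat_lit 0x504400000014041011001000001000) Net.nil)))))))))))))

theorem v_g409_ok : Net.ok 120 v_g409 = true := by decide +kernel

noncomputable def v_V410 : List Net := [v_g409, v_g92, v_g297, v_g95, v_g29]

theorem v_V410_ok : okE 120 v_V410 = true := (okE_cons.2 ⟨v_g409_ok, (okE_cons.2 ⟨v_g92_ok, (okE_cons.2 ⟨v_g297_ok, (okE_cons.2 ⟨v_g95_ok, (okE_cons.2 ⟨v_g29_ok, (okE_nil 120)⟩)⟩)⟩)⟩)⟩)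

noncomputable def v_V412 : List Net := [v_g92, v_g297, v_g95, v_g29]

theorem v_V412_ok : okE 120 v_V412 = true := (okE_cons.2 ⟨v_g92_ok, (okE_cons.2 ⟨v_g297_ok, (okE_cons.2 ⟨v_g95_ok, (okE_cons.2 ⟨v_g29_ok, (okE_nil 120)⟩)⟩)⟩)⟩)

noncomputable def v_V413 : List Net := [v_g297, v_g95, v_g29]

theorem v_V413_ok : okE 120 v_V413 = true := (okE_cons.2 ⟨v_g297_ok, (okE_cons.2 ⟨v_g95_ok, (okE_cons.2 ⟨v_g29_ok, (okE_nil 120)⟩)⟩)⟩)

noncomputable def v_V414 : List Net := [v_g95, v_g29]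

theorem v_V414_ok : okE 120 v_V414 = true := (okE_cons.2 ⟨v_g95_ok, (okE_cons.2 ⟨v_g29_ok, (okE_nil 120)⟩)⟩)

noncomputable def v_V415 : List Net := [v_g29]

theorem v_V415_ok : okE 120 v_V415 = true := (okE_cons.2 ⟨v_g29_ok, (okE_nil 120)⟩)

noncomputable def v_V416 : List Net := []

theorem v_V416_ok : okE 120 v_V416 = true := (okE_nil 120)

noncomputable def vt_c29_cnt_EG : List Net := [v_b, v_p0, v_p1, v_g7, v_g3, v_g4, v_g10, v_g16, v_g11, v_g12, v_g13, v_g22, v_g21, v_g26, v_g19, v_g20, v_g23, v_g30, v_g31, v_g32, v_g37, v_g38, v_g29, v_u, v_g244, v_g245, v_g116, v_g73, v_g92, v_g246, v_g297, v_g95, v_g409]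

theorem vt_c29_cnt_EG_ok : okE 120 vt_c29_cnt_EG = true := (okE_cons.2 ⟨v_b_ok, (okE_cons.2 ⟨v_p0_ok, (okE_cons.2 ⟨v_p1_ok, (okE_cons.2 ⟨v_g7_ok, (okE_cons.2 ⟨v_g3_ok, (okE_cons.2 ⟨v_g4_ok, (okE_cons.2 ⟨v_g10_ok, (okE_cons.2 ⟨v_g16_ok, (okE_cons.2 ⟨v_g11_ok, (okE_cons.2 ⟨v_g12_ok, (okE_cons.2 ⟨v_g13_ok, (okE_cons.2 ⟨v_g22_ok, (okE_cons.2 ⟨v_g21_ok, (okE_cons.2 ⟨v_g26_ok, (okE_cons.2 ⟨v_g19_ok, (okE_cons.2 ⟨v_g20_ok, (okE_cons.2 ⟨v_g23_ok, (okE_cons.2 ⟨v_g30_ok, (okE_cons.2 ⟨v_g31_ok, (okE_cons.2 ⟨v_g32_ok, (okE_cons.2 ⟨v_g37_ok, (okE_cons.2 ⟨v_g38_ok, (okE_cons.2 ⟨v_g29_ok, (okE_cons.2 ⟨v_u_ok, (okE_cons.2 ⟨v_g244_ok, (okE_cons.2 ⟨v_g245_ok, (okE_cons.2 ⟨v_g116_ok, (okE_cons.2 ⟨v_g73_ok, (okE_cons.2 ⟨v_g92_ok, (okE_cons.2 ⟨v_g246_ok, (okE_cons.2 ⟨v_g297_ok, (okE_cons.2 ⟨v_g95_ok, (okE_cons.2 ⟨v_g409_ok, (okE_nil 120)⟩)⟩)⟩)⟩)⟩)⟩)⟩)⟩)⟩)⟩)⟩)⟩)⟩)⟩)⟩)⟩)⟩)⟩)⟩)⟩)⟩)⟩)⟩)⟩)⟩)⟩)⟩)⟩)⟩)⟩)⟩)⟩)⟩)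

noncomputable def v_g417 : Net := (Net.cons (nat_lit 1) (nat_lit 0x454045110105515410155010454044) (Net.cons (nat_lit 2) (nat_lit 0x202133003231310212320320003210) (Net.cons (nat_lit 4) (nat_lit 0x6090e0d0906000a0c050c00010d00) (Net.cons (nat_lit 8) (nat_lit 0xdc006b0005001000ab00d50074) (Net.cons (nat_lit 16) (nat_lit 0x3700004264000022c600004800) (Net.cons (nat_lit 32) (nat_lit 0xc427640000000009000000) (Net.cons (nat_lit 64) (nat_lit 0xc3298c790c16e2) (Net.cons (nat_lit 32) (nat_lit 0x81c9520000000047854130) (Net.cons (nat_lit 16) (nat_lit 0xa10000d6df0000269f00007ca4) (Net.cons (nat_lit 8) (nat_lit 0x73006200eb000900b300d600de) (Net.cons (nat_lit 4) (nat_lit 0xa0a030e0908050e0c070d050b0308) (Net.cons (nat_lit 2) (nat_lit 0x203120131203220300212100010232) (Net.cons (nat_lit 1) (nat_lit 0x11410404051115015515040414514) Net.nil)))))))))))))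

theorem v_g417_ok : Net.ok 120 v_g417 = true := by decide +kernel

noncomputable def v_g418 : Net := (Net.cons (nat_lit 1) (nat_lit 0x405150411451414501554011400000) (Net.cons (nat_lit 2) (nat_lit 0x10210110110120001201103121030) (Net.cons (nat_lit 4) (nat_lit 0xb020d060200000f090c000a070a00) (Net.cons (nat_lit 8) (nat_lit 0x28005000ad0096000800500036) (Net.cons (nat_lit 16) (nat_lit 0x7e000001120000016100000200) (Net.cons (nat_lit 32) (nat_lit 0xc02d280000000036000000) (Net.cons (nat_lit 64) (nat_lit 0x826a553f49973e) (Net.cons (nat_lit 32) (nat_lit 0x1fbf1200000000061d19bf) (Net.cons (nat_lit 16) (nat_lit 0xd100006f050000d36f0000b358) (Net.cons (nat_lit 8) (nat_lit 0x1e0065008f00d3009e006400c9) (Net.cons (nat_lit 4) (nat_lit 0x80a010e05030300010209020f0e03) (Net.cons (nat_lit 2) (nat_lit 0x223202001302001200313101320332) (Net.cons (nat_lit 1) (nat_lit 0x510550145441055555445554510404) Net.nil)))))))))))))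

theorem v_g418_ok : Net.ok 120 v_g418 = true := by decide +kernel

noncomputable def v_g419 : Net := (Net.cons (nat_lit 1) (nat_lit 0x414404545514100451515105040040) (Net.cons (nat_lit 2) (nat_lit 0x312013203133120110201200223310) (Net.cons (nat_lit 4) (nat_lit 0xa040e0f090b090804030b00000000) (Net.cons (nat_lit 8) (nat_lit 0x1200b800390059001600c30011) (Net.cons (nat_lit 16) (nat_lit 0x1f00008cb90000b52c00008800) (Net.cons (nat_lit 32) (nat_lit 0x1cb0c40000000040000000) (Net.cons (nat_lit 64) (nat_lit 0xa7bc6340f80e95) (Net.cons (nat_lit 32) (nat_lit 0x6e779e00000000f5300eaf) (Net.cons (nat_lit 16) (nat_lit 0x32000049d700008905000098ca) (Net.cons (nat_lit 8) (nat_lit 0xd20021005900c100f900de00f1) (Net.cons (nat_lit 4) (nat_lit 0xa08010d06090b050f050601050b0a) (Net.cons (nat_lit 2) (nat_lit 0x202310321332103112030103031110) (Net.cons (nat_lit 1) (nat_lit 0x5541051514040400454555540140) Net.nil)))))))))))))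

theorem v_g419_ok : Net.ok 120 v_g419 = true := by decide +kernel

noncomputable def v_g420 : Net := (Net.cons (nat_lit 1) (nat_lit 0x4404044111400100110000) (Net.cons (nat_lit 2) (nat_lit 0x10100202002021001100320230000) (Net.cons (nat_lit 4) (nat_lit 0x50103030008060002000001040000) (Net.cons (nat_lit 8) (nat_lit 0x1000880021002d004100700000) (Net.cons (nat_lit 16) (nat_lit 0x4a000000430000000700000000) (Net.cons (nat_lit 32) (nat_lit 0x6122000000000000000000) (Net.cons (nat_lit 64) (nat_lit 0x69234283000000) (Net.cons (nat_lit 32) (nat_lit 0x6322010000000030061001) (Net.cons (nat_lit 16) (nat_lit 0x5a0000084300001c07000050b8) (Net.cons (nat_lit 8) (nat_lit 0x1000880021002d004100700000) (Net.cons (nat_lit 4) (nat_lit 0xd01030300080600020000010c0008) (Net.cons (nat_lit 2) (nat_lit 0x10100202002021001100320230000) (Net.cons (nat_lit 1) (nat_lit 0x100000004414044111400100110000) Net.nil)))))))))))))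

theorem v_g420_ok : Net.ok 120 v_g420 = true := by decide +kernel

noncomputable def vt_c30_K : List Net := [v_g417, v_g418, v_g419, v_g420]

theorem vt_c30_K_ok : okE 120 vt_c30_K = true := (okE_cons.2 ⟨v_g417_ok, (okE_cons.2 ⟨v_g418_ok, (okE_cons.2 ⟨v_g419_ok, (okE_cons.2 ⟨v_g420_ok, (okE_nil 120)⟩)⟩)⟩)⟩)

noncomputable def v_g422 : Net := (Net.cons (nat_lit 1) (nat_lit 0x445000000004040101400100110400) (Net.cons (nat_lit 2) (nat_lit 0x200212030013020220110120210000) (Net.cons (nat_lit 4) (nat_lit 0x20d01000801020002000c00080400) (Net.cons (nat_lit 8) (nat_lit 0x50003002900a3001800240000) (Net.cons (nat_lit 16) (nat_lit 0x20000060300000ed000000000) (Net.cons (nat_lit 32) (nat_lit 0x2100000000000e000000) (Net.cons (nat_lit 64) (nat_lit 0x224040e010100) (Net.cons (nat_lit 32) (nat_lit 0x2983000000002ed40a00) (Net.cons (nat_lit 16) (nat_lit 0x20000060b00008fd800000428) (Net.cons (nat_lit 8)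 (nat_lit 0x8d0003002900a3001800240040) (Net.cons (nat_lit 4) (nat_lit 0x605090008010a0002000c00080400) (Net.cons (nat_lit 2) (nat_lit 0x200212030013020220110120210000) (Net.cons (nat_lit 1) (nat_lit 0x545000000014040101400100110400) Net.nil)))))))))))))

theorem v_g422_ok : Net.ok 120 v_g422 = true := by decide +kernel

noncomputable def v_g423 : Net := (Net.cons (nat_lit 1) (nat_lit 0x445000410500045011001000110000) (Net.cons (nat_lit 2) (nat_lit 0x220010032001121020010020210000) (Net.cons (nat_lit 4) (nat_lit 0xb0109080a00030002000a000c0000) (Net.cons (nat_lit 8) (nat_lit 0x41004300a00027001000600000) (Net.cons (nat_lit 16) (nat_lit 0x91000000000000128000000000) (Net.cons (nat_lit 32) (nat_lit 0x250100000000c0000000) (Net.cons (nat_lit 64) (nat_lit 0x24d1d0000100) (Net.cons (nat_lit 32) (nat_lit 0x3a50900000000e4801202) (Net.cons (nat_lit 16) (nat_lit 0x9100000a800000138000004028) (Net.cons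 (nat_lit 8) (nat_lit 0x53004300a00027001000600000) (Net.cons (nat_lit 4) (nat_lit 0xf0109080a00030002000a000c0000) (Net.cons (nat_lit 2) (nat_lit 0x220010032101121020010020210000) (Net.cons (nat_lit 1) (nat_lit 0x445000410510045011001000110000) Net.nil)))))))))))))

theorem v_g423_ok : Net.ok 120 v_g423 = true := by decide +kernel

noncomputable def v_g424 : Net := (Net.cons (nat_lit 1) (nat_lit 0x405010004000150011000100100000) (Net.cons (nat_lit 2) (nat_lit 0x222010233000320030010120200000) (Net.cons (nat_lit 4) (nat_lit 0x80701060400020002000c00080800) (Net.cons (nat_lit 8) (nat_lit 0x300e90028004f000400000020) (Net.cons (nat_lit 16) (nat_lit 0xc50000004c000002c000000000) (Net.cons (nat_lit 32) (nat_lit 0x21480000000020000000) (Net.cons (nat_lit 64) (nat_lit 0x424c8b2000904) (Net.cons (nat_lit 32) (nat_lit 0x61214a0000000024e00200) (Net.cons (nat_lit 16) (nat_lit 0xc5000000cc00004bc000002008)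 (Net.cons (nat_lit 8) (nat_lit 0x1300e90028004f000400000020) (Net.cons (nat_lit 4) (nat_lit 0x80701060400020002000c00080800) (Net.cons (nat_lit 2) (nat_lit 0x222010233200320030010120200000) (Net.cons (nat_lit 1) (nat_lit 0x505010004010150011000100100000) Net.nil)))))))))))))

theorem v_g424_ok : Net.ok 120 v_g424 = true := by decide +kernel

noncomputable def v_V425 : List Net := [v_g312, v_g422, v_g423, v_g424]

theorem v_V425_ok : okE 120 v_V425 = true := (okE_cons.2 ⟨v_g312_ok, (okE_cons.2 ⟨v_g422_ok, (okE_cons.2 ⟨v_g423_ok, (okE_cons.2 ⟨v_g424_ok, (okE_nil 120)⟩)⟩)⟩)⟩)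

noncomputable def v_V427 : List Net := [v_g422, v_g423, v_g424]

theorem v_V427_ok : okE 120 v_V427 = true := (okE_cons.2 ⟨v_g422_ok, (okE_cons.2 ⟨v_g423_ok, (okE_cons.2 ⟨v_g424_ok, (okE_nil 120)⟩)⟩)⟩)

noncomputable def v_V428 : List Net := [v_g423, v_g424]

theorem v_V428_ok : okE 120 v_V428 = true := (okE_cons.2 ⟨v_g423_ok, (okE_cons.2 ⟨v_g424_ok, (okE_nil 120)⟩)⟩)

noncomputable def v_V429 : List Net := [v_g424]

theorem v_V429_ok : okE 120 v_V429 = true := (okE_cons.2 ⟨v_g424_ok, (okE_nil 120)⟩)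

noncomputable def v_V430 : List Net := []

theorem v_V430_ok : okE 120 v_V430 = true := (okE_nil 120)

noncomputable def vt_c30_cnt_EG : List Net := [v_g7, v_g3, v_g4, v_g10, v_g16, v_g11, v_g12, v_g13, v_g22, v_g21, v_g26, v_g19, v_g20, v_g23, v_g30, v_g31, v_g32, v_g37, v_g38, v_g29, v_u, v_b, v_p0, v_p1, v_g244, v_g245, v_g116, v_g73, v_g92, v_g246, v_g424, v_g423, v_g422, v_g312, v_g409, v_g297, v_g95]

theorem vt_c30_cnt_EG_ok : okE 120 vt_c30_cnt_EG = true := (okE_cons.2 ⟨v_g7_ok, (okE_cons.2 ⟨v_g3_ok, (okE_cons.2 ⟨v_g4_ok, (okE_cons.2 ⟨v_g10_ok, (okE_cons.2 ⟨v_g16_ok, (okE_cons.2 ⟨v_g11_ok, (okE_cons.2 ⟨v_g12_ok, (okE_cons.2 ⟨v_g13_ok, (okE_cons.2 ⟨v_g22_ok, (okE_cons.2 ⟨v_g21_ok, (okE_cons.2 ⟨v_g26_ok, (okE_cons.2 ⟨v_g19_ok, (okE_cons.2 ⟨v_g20_ok, (okE_cons.2 ⟨v_g23_ok, (okE_cons.2 ⟨v_g30_ok, (okE_cons.2 ⟨v_g31_ok, (okE_cons.2 ⟨v_g32_ok, (okE_cons.2 ⟨v_g37_ok, (okE_cons.2 ⟨v_g38_ok,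 (okE_cons.2 ⟨v_g29_ok, (okE_cons.2 ⟨v_u_ok, (okE_cons.2 ⟨v_b_ok, (okE_cons.2 ⟨v_p0_ok, (okE_cons.2 ⟨v_p1_ok, (okE_cons.2 ⟨v_g244_ok, (okE_cons.2 ⟨v_g245_ok, (okE_cons.2 ⟨v_g116_ok, (okE_cons.2 ⟨v_g73_ok, (okE_cons.2 ⟨v_g92_ok, (okE_cons.2 ⟨v_g246_ok, (okE_cons.2 ⟨v_g424_ok, (okE_cons.2 ⟨v_g423_ok, (okE_cons.2 ⟨v_g422_ok, (okE_cons.2 ⟨v_g312_ok, (okE_cons.2 ⟨v_g409_ok, (okE_cons.2 ⟨v_g297_ok, (okE_cons.2 ⟨v_g95_ok, (okE_nil 120)⟩)⟩)⟩)⟩)⟩)⟩)⟩)⟩)⟩)⟩)⟩)⟩)⟩)⟩)⟩)⟩)⟩)⟩)⟩)⟩)⟩)⟩)⟩)⟩)⟩)⟩)⟩)⟩)⟩)⟩)⟩)⟩)⟩)⟩)⟩)⟩)⟩)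

noncomputable def v_g431 : Net := (Net.cons (nat_lit 1) (nat_lit 0x44404440005400441404110041104) (Net.cons (nat_lit 2) (nat_lit 0x30203002311222313313110211200) (Net.cons (nat_lit 4) (nat_lit 0xb0803080e0d0e0d0d060f01080b00) (Net.cons (nat_lit 8) (nat_lit 0xa700190000001100020030004d) (Net.cons (nat_lit 16) (nat_lit 0xb60000c9b10000c30700001000) (Net.cons (nat_lit 32) (nat_lit 0x1b1860000000018000000) (Net.cons (nat_lit 64) (nat_lit 0xdb43aabd82f805) (Net.cons (nat_lit 32) (nat_lit 0x62ed9100000000f8264462) (Net.cons (nat_lit 16) (nat_lit 0x810000a6f50000a015000010b6) (Net.cons (nat_lit 8) (nat_lit 0x2e00ac00af002b003800130087) (Net.cons (nat_lit 4) (nat_lit 0xf0e070602070c0b070803020e0e02) (Net.cons (nat_lit 2) (nat_lit 0x20331011100102332010030113102) (Net.cons (nat_lit 1) (nat_lit 0x101045141544044000400541405154) Net.nil)))))))))))))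

theorem v_g431_ok : Net.ok 120 v_g431 = true := by decide +kernel

noncomputable def v_g432 : Net := (Net.cons (nat_lit 1) (nat_lit 0x11415011540054110010550141050) (Net.cons (nat_lit 2) (nat_lit 0x2332212201031113021300310020) (Net.cons (nat_lit 4) (nat_lit 0xb020209000304000c0a070c050000) (Net.cons (nat_lit 8) (nat_lit 0x73005000a000cd0073009800d4) (Net.cons (nat_lit 16) (nat_lit 0xe0000402a000058c20000a000) (Net.cons (nat_lit 32) (nat_lit 0x812b2e00000000b3000000) (Net.cons (nat_lit 64) (nat_lit 0xf3c002f32a3f7c) (Net.cons (nat_lit 32) (nat_lit 0x4aad7100000000f7609998) (Net.cons (nat_lit 16) (nat_lit 0xc100008d3100002c490000c438) (Net.cons (nat_lit 8) (nat_lit 0x7e0025009f00ec000a00ca00d6) (Net.cons (nat_lit 4) (nat_lit 0xa020302020309080e0d070f060e02) (Net.cons (nat_lit 2) (nat_lit 0x111012311202013121333210000022) (Net.cons (nat_lit 1) (nat_lit 0x445511554455414505155441040540) Net.nil)))))))))))))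

theorem v_g432_ok : Net.ok 120 v_g432 = true := by decide +kernel

noncomputable def v_g433 : Net := (Net.cons (nat_lit 1) (nat_lit 0x510405144504111151500401451000) (Net.cons (nat_lit 2) (nat_lit 0x320013001233123333021130230020) (Net.cons (nat_lit 4) (nat_lit 0x80a07020505070001040801040400) (Net.cons (nat_lit 8) (nat_lit 0x8b003000ad004900df00100015) (Net.cons (nat_lit 16) (nat_lit 0x49000093900000472400001800) (Net.cons (nat_lit 32) (nat_lit 0xa00ad00000000030000000) (Net.cons (nat_lit 64) (nat_lit 0xda0ae33b60d414) (Net.cons (nat_lit 32) (nat_lit 0x4e97600000000012ac6758) (Net.cons (nat_lit 16) (nat_lit 0x750000a546000001af00002868) (Net.cons (nat_lit 8) (nat_lit 0x3800a300ad004e001f004000a6) (Net.cons (nat_lit 4) (nat_lit 0xc0303050b05070401090a04090500) (Net.cons (nat_lit 2) (nat_lit 0x320113330331023000120001122103) (Net.cons (nat_lit 1) (nat_lit 0x101545100401041141044110041400)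 Net.nil)))))))))))))

theorem v_g433_ok : Net.ok 120 v_g433 = true := by decide +kernel

noncomputable def v_g434 : Net := (Net.cons (nat_lit 1) (nat_lit 0x440010404455544011444551450154) (Net.cons (nat_lit 2) (nat_lit 0x22201312113203210231030101330) (Net.cons (nat_lit 4) (nat_lit 0xb080c0408000e050705050a0c0100) (Net.cons (nat_lit 8) (nat_lit 0x83004900f10061005c001b004a) (Net.cons (nat_lit 16) (nat_lit 0xc00000a7a70000418200000400) (Net.cons (nat_lit 32) (nat_lit 0x2c90830000000092000000) (Net.cons (nat_lit 64) (nat_lit 0x282b539b06bde0) (Net.cons (nat_lit 32) (nat_lit 0x148f1c000000000526f8a6) (Net.cons (nat_lit 16) (nat_lit 0xfe0000d2ac000067ed0000d014) (Net.cons (nat_lit 8) (nat_lit 0x23007300a000150045000200f4) (Net.cons (nat_lit 4) (nat_lit 0xc00090e06050e00050b07090a0002) (Net.cons (nat_lit 2) (nat_lit 0x110220003010002223223302202130) (Net.cons (nat_lit 1) (nat_lit 0x500445004045515455111105140454)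 Net.nil)))))))))))))

theorem v_g434_ok : Net.ok 120 v_g434 = true := by decide +kernel

noncomputable def vt_c31_K : List Net := [v_g431, v_g432, v_g433, v_g434, v_g420]

theorem vt_c31_K_ok : okE 120 vt_c31_K = true := (okE_cons.2 ⟨v_g431_ok, (okE_cons.2 ⟨v_g432_ok, (okE_cons.2 ⟨v_g433_ok, (okE_cons.2 ⟨v_g434_ok, (okE_cons.2 ⟨v_g420_ok, (okE_nil 120)⟩)⟩)⟩)⟩)⟩)

noncomputable def vt_c31_cnt_EG : List Net := [v_g7, v_g3, v_g4, v_g10, v_g16, v_g11, v_g12, v_g13, v_g22, v_g21, v_g26, v_g19, v_g20, v_g23, v_g30, v_g31, v_g32, v_g37, v_g38, v_g29, v_u, v_b, v_p0, v_p1, v_g244, v_g245, v_g116, v_g73, v_g92, v_g246, v_g424, v_g423, v_g422, v_g312, v_g409, v_g297, v_g95]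

theorem vt_c31_cnt_EG_ok : okE 120 vt_c31_cnt_EG = true := (okE_cons.2 ⟨v_g7_ok, (okE_cons.2 ⟨v_g3_ok, (okE_cons.2 ⟨v_g4_ok, (okE_cons.2 ⟨v_g10_ok, (okE_cons.2 ⟨v_g16_ok, (okE_cons.2 ⟨v_g11_ok, (okE_cons.2 ⟨v_g12_ok, (okE_cons.2 ⟨v_g13_ok, (okE_cons.2 ⟨v_g22_ok, (okE_cons.2 ⟨v_g21_ok, (okE_cons.2 ⟨v_g26_ok, (okE_cons.2 ⟨v_g19_ok, (okE_cons.2 ⟨v_g20_ok, (okE_cons.2 ⟨v_g23_ok, (okE_cons.2 ⟨v_g30_ok, (okE_cons.2 ⟨v_g31_ok, (okE_cons.2 ⟨v_g32_ok, (okE_cons.2 ⟨v_g37_ok, (okE_cons.2 ⟨v_g38_ok, (okE_cons.2 ⟨v_g29_ok, (okE_cons.2 ⟨v_u_ok, (okE_cons.2 ⟨v_b_ok, (okE_cons.2 ⟨v_p0_ok, (okE_cons.2 ⟨v_p1_ok, (okE_cons.2 ⟨v_g244_ok, (okE_cons.2 ⟨v_g245_ok, (okE_cons.2 ⟨v_g116_ok, (okE_cons.2 ⟨v_g73_ok, (okE_cons.2 ⟨v_g92_ok, (okE_cons.2 ⟨v_g246_ok, (okE_cons.2 ⟨v_g424_ok, (okE_cons.2 ⟨v_g423_ok, (okE_cons.2 ⟨v_g422_ok, (okE_cons.2 ⟨v_g312_ok, (okE_cons.2 ⟨v_g409_ok, (okE_cons.2 ⟨v_g297_ok, (okE_cons.2 ⟨v_g95_ok,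 (okE_nil 120)⟩)⟩)⟩)⟩)⟩)⟩)⟩)⟩)⟩)⟩)⟩)⟩)⟩)⟩)⟩)⟩)⟩)⟩)⟩)⟩)⟩)⟩)⟩)⟩)⟩)⟩)⟩)⟩)⟩)⟩)⟩)⟩)⟩)⟩)⟩)⟩)⟩)

noncomputable def v_g436 : Net := (Net.cons (nat_lit 1) (nat_lit 0x11410404051115015515040414514) (Net.cons (nat_lit 2) (nat_lit 0x21302313021002122030322232010) (Net.cons (nat_lit 4) (nat_lit 0x1080a0c0808070c040b0d07000b00) (Net.cons (nat_lit 8) (nat_lit 0xf900f800d3001100a300ee0046) (Net.cons (nat_lit 16) (nat_lit 0xb4000066410000342100000c00) (Net.cons (nat_lit 32) (nat_lit 0x20884c00000000c1000000) (Net.cons (nat_lit 64) (nat_lit 0x662884e913857a) (Net.cons (nat_lit 32) (nat_lit 0x5c4649000000000501d926) (Net.cons (nat_lit 16) (nat_lit 0xb30000d8f30000c0400000c096) (Net.cons (nat_lit 8) (nat_lit 0x4f00d9002d0020009300670064) (Net.cons (nat_lit 4) (nat_lit 0xf000d0d010f0208040f0c0a070d02) (Net.cons (nat_lit 2) (nat_lit 0x20311221013132030102102221032) (Net.cons (nat_lit 1) (nat_lit 0x454045110105515410155010454044)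 Net.nil)))))))))))))

theorem v_g436_ok : Net.ok 120 v_g436 = true := by decide +kernel

noncomputable def v_g437 : Net := (Net.cons (nat_lit 1) (nat_lit 0x441400000504541111400100110400) (Net.cons (nat_lit 2) (nat_lit 0x310123133001000200110312220000) (Net.cons (nat_lit 4) (nat_lit 0x60102080a010c0600000400000400) (Net.cons (nat_lit 8) (nat_lit 0x2000f600100005005000400000) (Net.cons (nat_lit 16) (nat_lit 0x1800000685200001000) (Net.cons (nat_lit 32) (nat_lit 0x414c80000000010000000) (Net.cons (nat_lit 64) (nat_lit 0x6424c818401000) (Net.cons (nat_lit 32) (nat_lit 0x615ca0000000056120800) (Net.cons (nat_lit 16) (nat_lit 0x83b00000695200001088) (Net.cons (nat_lit 8) (nat_lit 0x2400f600100005005000400040) (Net.cons (nat_lit 4) (nat_lit 0x70102080a010c0600000400080408) (Net.cons (nat_lit 2) (nat_lit 0x310123133101000200110312220000) (Net.cons (nat_lit 1) (nat_lit 0x441400000504541111400100110400)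 Net.nil)))))))))))))

theorem v_g437_ok : Net.ok 120 v_g437 = true := by decide +kernel

noncomputable def v_g438 : Net := (Net.cons (nat_lit 1) (nat_lit 0x40400150004045101004000010400) (Net.cons (nat_lit 2) (nat_lit 0x103000112001123202020020010000) (Net.cons (nat_lit 4) (nat_lit 0x80d0b070a00070008000009000400) (Net.cons (nat_lit 8) (nat_lit 0x8c005e00280003000800340000) (Net.cons (nat_lit 16) (nat_lit 0x8000000410000180100004000) (Net.cons (nat_lit 32) (nat_lit 0x160480000000020000000) (Net.cons (nat_lit 64) (nat_lit 0x1204c28004000) (Net.cons (nat_lit 32) (nat_lit 0x19684b00000000a0841801) (Net.cons (nat_lit 16) (nat_lit 0x880000034500001a0100004430) (Net.cons (nat_lit 8) (nat_lit 0x9c005e00280003000800340040) (Net.cons (nat_lit 4) (nat_lit 0x80d0b070a00070008000009000400) (Net.cons (nat_lit 2) (nat_lit 0x103000112201123202020020010000) (Net.cons (nat_lit 1) (nat_lit 0x140400150014045101004000010400)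 Net.nil)))))))))))))

theorem v_g438_ok : Net.ok 120 v_g438 = true := by decide +kernel

noncomputable def vt_c32_K : List Net := [v_g436, v_g418, v_g437, v_g438]

theorem vt_c32_K_ok : okE 120 vt_c32_K = true := (okE_cons.2 ⟨v_g436_ok, (okE_cons.2 ⟨v_g418_ok, (okE_cons.2 ⟨v_g437_ok, (okE_cons.2 ⟨v_g438_ok, (okE_nil 120)⟩)⟩)⟩)⟩)

noncomputable def v_g440 : Net := (Net.cons (nat_lit 1) (nat_lit 0x4010044104150001400000110000) (Net.cons (nat_lit 2) (nat_lit 0x111101233002220101101220230000) (Net.cons (nat_lit 4) (nat_lit 0x504060e04000c0002000000040000) (Net.cons (nat_lit 8) (nat_lit 0x9008900800020005400600000) (Net.cons (nat_lit 16) (nat_lit 0x42000020c40000091200000400) (Net.cons (nat_lit 32) (nat_lit 0x6002800000000040000000) (Net.cons (nat_lit 64) (nat_lit 0x601fc0d2008004) (Net.cons (nat_lit 32) (nat_lit 0x6322900000000064120000) (Net.cons (nat_lit 16) (nat_lit 0x42000024cc00000916000044a8)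 (Net.cons (nat_lit 8) (nat_lit 0x49008900800020005400600000) (Net.cons (nat_lit 4) (nat_lit 0xd04060e04000c00020000000c0008) (Net.cons (nat_lit 2) (nat_lit 0x111101233002220101101220230000) (Net.cons (nat_lit 1) (nat_lit 0x4010044104150001400000110000) Net.nil)))))))))))))

theorem v_g440_ok : Net.ok 120 v_g440 = true := by decide +kernel

noncomputable def v_g441 : Net := (Net.cons (nat_lit 1) (nat_lit 0x15000000040011001401100111000) (Net.cons (nat_lit 2) (nat_lit 0x10013111022020110120230000) (Net.cons (nat_lit 4) (nat_lit 0x10005050201080802000201040000) (Net.cons (nat_lit 8) (nat_lit 0x510092008100a5000000400000) (Net.cons (nat_lit 16) (nat_lit 0x14000000000000201400000000) (Net.cons (nat_lit 32) (nat_lit 0x5000000000050000000) (Net.cons (nat_lit 64) (nat_lit 0x450d1008100) (Net.cons (nat_lit 32) (nat_lit 0x140520000000005c343002) (Net.cons (nat_lit 16) (nat_lit 0x14000002010000a114000070b8)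 (Net.cons (nat_lit 8) (nat_lit 0x51009200810085001000700030) (Net.cons (nat_lit 4) (nat_lit 0x100050502010808020002010c0008) (Net.cons (nat_lit 2) (nat_lit 0x10013311022020110120230000) (Net.cons (nat_lit 1) (nat_lit 0x115000000050011001401100111000) Net.nil)))))))))))))

theorem v_g441_ok : Net.ok 120 v_g441 = true := by decide +kernel

noncomputable def v_g442 : Net := (Net.cons (nat_lit 1) (nat_lit 0x5000000004101011400000110000) (Net.cons (nat_lit 2) (nat_lit 0x10030231100302000110020220000) (Net.cons (nat_lit 4) (nat_lit 0x402030f0400090802000001000000) (Net.cons (nat_lit 8) (nat_lit 0x11009800000025006800300000) (Net.cons (nat_lit 16) (nat_lit 0x54000010840000100000000000) (Net.cons (nat_lit 32) (nat_lit 0x11810000000040000000) (Net.cons (nat_lit 64) (nat_lit 0x650c143000104) (Net.cons (nat_lit 32) (nat_lit 0x501183000000007c002000) (Net.cons (nat_lit 16) (nat_lit 0x540000148c00001108000000b8)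 (Net.cons (nat_lit 8) (nat_lit 0x31009800000025006800300000) (Net.cons (nat_lit 4) (nat_lit 0xc02030f0400090802000001080008) (Net.cons (nat_lit 2) (nat_lit 0x10030231300302000110020220000) (Net.cons (nat_lit 1) (nat_lit 0x5000000014101011400000110000) Net.nil)))))))))))))

theorem v_g442_ok : Net.ok 120 v_g442 = true := by decide +kernel

noncomputable def v_V443 : List Net := [v_g440, v_g441, v_g212, v_g116, v_g442]

theorem v_V443_ok : okE 120 v_V443 = true := (okE_cons.2 ⟨v_g440_ok, (okE_cons.2 ⟨v_g441_ok, (okE_cons.2 ⟨v_g212_ok, (okE_cons.2 ⟨v_g116_ok, (okE_cons.2 ⟨v_g442_ok, (okE_nil 120)⟩)⟩)⟩)⟩)⟩)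

noncomputable def v_V445 : List Net := [v_g441, v_g212, v_g116, v_g442]

theorem v_V445_ok : okE 120 v_V445 = true := (okE_cons.2 ⟨v_g441_ok, (okE_cons.2 ⟨v_g212_ok, (okE_cons.2 ⟨v_g116_ok, (okE_cons.2 ⟨v_g442_ok, (okE_nil 120)⟩)⟩)⟩)⟩)

noncomputable def v_V446 : List Net := [v_g212, v_g116, v_g442]

theorem v_V446_ok : okE 120 v_V446 = true := (okE_cons.2 ⟨v_g212_ok, (okE_cons.2 ⟨v_g116_ok, (okE_cons.2 ⟨v_g442_ok, (okE_nil 120)⟩)⟩)⟩)

noncomputable def v_V447 : List Net := [v_g116, v_g442]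

theorem v_V447_ok : okE 120 v_V447 = true := (okE_cons.2 ⟨v_g116_ok, (okE_cons.2 ⟨v_g442_ok, (okE_nil 120)⟩)⟩)

noncomputable def v_V448 : List Net := [v_g442]

theorem v_V448_ok : okE 120 v_V448 = true := (okE_cons.2 ⟨v_g442_ok, (okE_nil 120)⟩)

noncomputable def v_V449 : List Net := []

theorem v_V449_ok : okE 120 v_V449 = true := (okE_nil 120)

noncomputable def vt_c32_cnt_EG : List Net := [v_g7, v_g3, v_g4, v_g10, v_g16, v_g11, v_g12, v_g13, v_g22, v_g21, v_g26, v_g19, v_g20, v_g23, v_g30, v_g31, v_g32, v_g37, v_g38, v_g29, v_u, v_b, v_p0, v_p1, v_g244, v_g245, v_g116, v_g73, v_g92, v_g246, v_g440, v_g441, v_g212, v_g442]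

theorem vt_c32_cnt_EG_ok : okE 120 vt_c32_cnt_EG = true := (okE_cons.2 ⟨v_g7_ok, (okE_cons.2 ⟨v_g3_ok, (okE_cons.2 ⟨v_g4_ok, (okE_cons.2 ⟨v_g10_ok, (okE_cons.2 ⟨v_g16_ok, (okE_cons.2 ⟨v_g11_ok, (okE_cons.2 ⟨v_g12_ok, (okE_cons.2 ⟨v_g13_ok, (okE_cons.2 ⟨v_g22_ok, (okE_cons.2 ⟨v_g21_ok, (okE_cons.2 ⟨v_g26_ok, (okE_cons.2 ⟨v_g19_ok, (okE_cons.2 ⟨v_g20_ok, (okE_cons.2 ⟨v_g23_ok, (okE_cons.2 ⟨v_g30_ok, (okE_cons.2 ⟨v_g31_ok, (okE_cons.2 ⟨v_g32_ok, (okE_cons.2 ⟨v_g37_ok, (okE_cons.2 ⟨v_g38_ok, (okE_cons.2 ⟨v_g29_ok, (okE_cons.2 ⟨v_u_ok, (okE_cons.2 ⟨v_b_ok, (okE_cons.2 ⟨v_p0_ok, (okE_cons.2 ⟨v_p1_ok, (okE_cons.2 ⟨v_g244_ok, (okE_cons.2 ⟨v_g245_ok, (okE_cons.2 ⟨v_g116_ok, (okE_cons.2 ⟨v_g73_ok, (okE_cons.2 ⟨v_g92_ok, (okE_cons.2 ⟨v_g246_ok, (okE_cons.2 ⟨v_g440_ok, (okE_cons.2 ⟨v_g441_ok, (okE_cons.2 ⟨v_g212_ok, (okE_cons.2 ⟨v_g442_ok, (okE_nil 120)⟩)⟩)⟩)⟩)⟩)⟩)⟩)⟩)⟩)⟩)⟩)⟩)⟩)⟩)⟩)⟩)⟩)⟩)⟩)⟩)⟩)⟩)⟩)⟩)⟩)⟩)⟩)⟩)⟩)⟩)⟩)⟩)⟩)⟩)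

noncomputable def v_g450 : Net := (Net.cons (nat_lit 1) (nat_lit 0x151541140515555404440045540044) (Net.cons (nat_lit 2) (nat_lit 0x231302023110123221103313323020) (Net.cons (nat_lit 4) (nat_lit 0x3000f010707020f07080e04040200) (Net.cons (nat_lit 8) (nat_lit 0x29001100a60030002f00800038) (Net.cons (nat_lit 16) (nat_lit 0x200003e020000c34100004800) (Net.cons (nat_lit 32) (nat_lit 0x524a360000000002000000) (Net.cons (nat_lit 64) (nat_lit 0x77b0936e04de25) (Net.cons (nat_lit 32) (nat_lit 0xa279d500000000927bd71d) (Net.cons (nat_lit 16) (nat_lit 0x7c0000991c0000f5fe0000f589) (Net.cons (nat_lit 8) (nat_lit 0x2a005e00f70021007d00420000) (Net.cons (nat_lit 4) (nat_lit 0x309040e010e070e0302090f09030e) (Net.cons (nat_lit 2) (nat_lit 0x130202333303130030310302002301) (Net.cons (nat_lit 1) (nat_lit 0x400011401051140555150454414400) Net.nil)))))))))))))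

theorem v_g450_ok : Net.ok 120 v_g450 = true := by decide +kernel

noncomputable def v_g451 : Net := (Net.cons (nat_lit 1) (nat_lit 0x515150101401010005404144514000) (Net.cons (nat_lit 2) (nat_lit 0x31310031220112013312100011300) (Net.cons (nat_lit 4) (nat_lit 0x3000d060e0903010f010309040c00) (Net.cons (nat_lit 8) (nat_lit 0x93002800470021006800cc00c0) (Net.cons (nat_lit 16) (nat_lit 0xea0000502d00005c250000d200) (Net.cons (nat_lit 32) (nat_lit 0x2ca4160000000000000000) (Net.cons (nat_lit 64) (nat_lit 0x32627f379f8c88) (Net.cons (nat_lit 32) (nat_lit 0x65ba600000000b7a0ea17) (Net.cons (nat_lit 16) (nat_lit 0x8b0000c8d10000d6b80000c24d) (Net.cons (nat_lit 8) (nat_lit 0xf000600e3000e00ce00b400c7) (Net.cons (nat_lit 4) (nat_lit 0xc02040c0e050b07060d0f070a0f04) (Net.cons (nat_lit 2) (nat_lit 0x231110121211010031222130132230) (Net.cons (nat_lit 1) (nat_lit 0x451150515144500544510504455550) Net.nil)))))))))))))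

theorem v_g451_ok : Net.ok 120 v_g451 = true := by decide +kernel

noncomputable def vt_c33_K : List Net := [v_g450, v_g451]

theorem vt_c33_K_ok : okE 120 vt_c33_K = true := (okE_cons.2 ⟨v_g450_ok, (okE_cons.2 ⟨v_g451_ok, (okE_nil 120)⟩)⟩)

noncomputable def v_g453 : Net := (Net.cons (nat_lit 1) (nat_lit 0x44400040504040000400000110000) (Net.cons (nat_lit 2) (nat_lit 0x111010231012020000101020230000) (Net.cons (nat_lit 4) (nat_lit 0x404090f0c01040000000001040000) (Net.cons (nat_lit 8) (nat_lit 0xdd009000090000006000700000) (Net.cons (nat_lit 16) (nat_lit 0xc0000020c50000140000000000) (Net.cons (nat_lit 32) (nat_lit 0x3800000000040000000) (Net.cons (nat_lit 64) (nat_lit 0x4006d443410104) (Net.cons (nat_lit 32) (nat_lit 0xd02ba00000000050402000) (Net.cons (nat_lit 16) (nat_lit 0xc80000a4c500001400000040b8) (Net.cons (nat_lit 8) (nat_lit 0xdf009000090000006000700000) (Net.cons (nat_lit 4) (nat_lit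 0x404090f0c010400000000010c0008) (Net.cons (nat_lit 2) (nat_lit 0x111010231112020000101020230000) (Net.cons (nat_lit 1) (nat_lit 0x144400040504040000400000110000) Net.nil)))))))))))))

theorem v_g453_ok : Net.ok 120 v_g453 = true := by decide +kernel

noncomputable def v_V454 : List Net := [v_g113, v_g214, v_g453, v_g245]

theorem v_V454_ok : okE 120 v_V454 = true := (okE_cons.2 ⟨v_g113_ok, (okE_cons.2 ⟨v_g214_ok, (okE_cons.2 ⟨v_g453_ok, (okE_cons.2 ⟨v_g245_ok, (okE_nil 120)⟩)⟩)⟩)⟩)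

noncomputable def v_V456 : List Net := [v_g214, v_g453, v_g245]

theorem v_V456_ok : okE 120 v_V456 = true := (okE_cons.2 ⟨v_g214_ok, (okE_cons.2 ⟨v_g453_ok, (okE_cons.2 ⟨v_g245_ok, (okE_nil 120)⟩)⟩)⟩)

noncomputable def v_V457 : List Net := [v_g453, v_g245]

theorem v_V457_ok : okE 120 v_V457 = true := (okE_cons.2 ⟨v_g453_ok, (okE_cons.2 ⟨v_g245_ok, (okE_nil 120)⟩)⟩)

noncomputable def v_V458 : List Net := [v_g245]

theorem v_V458_ok : okE 120 v_V458 = true := (okE_cons.2 ⟨v_g245_ok, (okE_nil 120)⟩)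

noncomputable def v_V459 : List Net := []

theorem v_V459_ok : okE 120 v_V459 = true := (okE_nil 120)

noncomputable def vt_c33_cnt_EG : List Net := [v_b, v_p0, v_p1, v_g7, v_g3, v_g4, v_g10, v_g16, v_g11, v_g12, v_g13, v_g22, v_g21, v_g26, v_g19, v_g20, v_g23, v_g30, v_g31, v_g32, v_g37, v_g38, v_g29, v_u, v_g453, v_g245, v_g214, v_g113, v_g115, v_g116, v_g100, v_g117, v_g118]

theorem vt_c33_cnt_EG_ok : okE 120 vt_c33_cnt_EG = true := (okE_cons.2 ⟨v_b_ok, (okE_cons.2 ⟨v_p0_ok, (okE_cons.2 ⟨v_p1_ok, (okE_cons.2 ⟨v_g7_ok, (okE_cons.2 ⟨v_g3_ok, (okE_cons.2 ⟨v_g4_ok, (okE_cons.2 ⟨v_g10_ok, (okE_cons.2 ⟨v_g16_ok, (okE_cons.2 ⟨v_g11_ok, (okE_cons.2 ⟨v_g12_ok, (okE_cons.2 ⟨v_g13_ok, (okE_cons.2 ⟨v_g22_ok, (okE_cons.2 ⟨v_g21_ok, (okE_cons.2 ⟨v_g26_ok, (okE_cons.2 ⟨v_g19_ok, (okE_cons.2 ⟨v_g20_ok, (okE_cons.2 ⟨v_g23_ok, (okE_cons.2 ⟨v_g30_ok, (okE_cons.2 ⟨v_g31_ok, (okE_cons.2 ⟨v_g32_ok, (okE_cons.2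 ⟨v_g37_ok, (okE_cons.2 ⟨v_g38_ok, (okE_cons.2 ⟨v_g29_ok, (okE_cons.2 ⟨v_u_ok, (okE_cons.2 ⟨v_g453_ok, (okE_cons.2 ⟨v_g245_ok, (okE_cons.2 ⟨v_g214_ok, (okE_cons.2 ⟨v_g113_ok, (okE_cons.2 ⟨v_g115_ok, (okE_cons.2 ⟨v_g116_ok, (okE_cons.2 ⟨v_g100_ok, (okE_cons.2 ⟨v_g117_ok, (okE_cons.2 ⟨v_g118_ok, (okE_nil 120)⟩)⟩)⟩)⟩)⟩)⟩)⟩)⟩)⟩)⟩)⟩)⟩)⟩)⟩)⟩)⟩)⟩)⟩)⟩)⟩)⟩)⟩)⟩)⟩)⟩)⟩)⟩)⟩)⟩)⟩)⟩)⟩)⟩)

noncomputable def v_g460 : Net := (Net.cons (nat_lit 1) (nat_lit 0x44145105405410104014551400150) (Net.cons (nat_lit 2) (nat_lit 0x2022131111103100102300320000) (Net.cons (nat_lit 4) (nat_lit 0x3060b0b08090b000e0c0c03060000) (Net.cons (nat_lit 8) (nat_lit 0xcb00710088008100f000890012) (Net.cons (nat_lit 16) (nat_lit 0x9b00000a5a0000b15400005500) (Net.cons (nat_lit 32) (nat_lit 0x11100000000000d0000000) (Net.cons (nat_lit 64) (nat_lit 0xfbc525fdae1550) (Net.cons (nat_lit 32) (nat_lit 0xe85fc5000000002a3086f0) (Net.cons (nat_lit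 16) (nat_lit 0xe50000b09a000065d80000b689) (Net.cons (nat_lit 8) (nat_lit 0x920014009600cd00f00058002b) (Net.cons (nat_lit 4) (nat_lit 0xc020d070e0a0d0d0e0708030d0701) (Net.cons (nat_lit 2) (nat_lit 0x121312021312212200000303033003) (Net.cons (nat_lit 1) (nat_lit 0x411100540154515050405150551155) Net.nil)))))))))))))

theorem v_g460_ok : Net.ok 120 v_g460 = true := by decide +kernel

noncomputable def v_g461 : Net := (Net.cons (nat_lit 1) (nat_lit 0x105415140140014504114504540014) (Net.cons (nat_lit 2) (nat_lit 0x120012213011221221302203132030) (Net.cons (nat_lit 4) (nat_lit 0x9090a0802080408020409060c0000) (Net.cons (nat_lit 8) (nat_lit 0x9900c90024001400e000200087) (Net.cons (nat_lit 16) (nat_lit 0x940000ea710000424a0000c200) (Net.cons (nat_lit 32) (nat_lit 0x29b6c40000000052000000) (Net.cons (nat_lit 64) (nat_lit 0x3ccd66ff057383) (Net.cons (nat_lit 32) (nat_lit 0x77328a0000000016004feb)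 (Net.cons (nat_lit 16) (nat_lit 0xa10000f8610000e74100003c2e) (Net.cons (nat_lit 8) (nat_lit 0x43009500b1007c0048000a008a) (Net.cons (nat_lit 4) (nat_lit 0x50a00090403060c0c070e0f050c09) (Net.cons (nat_lit 2) (nat_lit 0x102033310211330122012302102312) (Net.cons (nat_lit 1) (nat_lit 0x15101504011111104105105550141) Net.nil)))))))))))))

theorem v_g461_ok : Net.ok 120 v_g461 = true := by decide +kernel

noncomputable def vt_c34_K : List Net := [v_g460, v_g461]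

theorem vt_c34_K_ok : okE 120 vt_c34_K = true := (okE_cons.2 ⟨v_g460_ok, (okE_cons.2 ⟨v_g461_ok, (okE_nil 120)⟩)⟩)

noncomputable def vt_c34_cnt_EG : List Net := [v_b, v_p0, v_p1, v_g7, v_g3, v_g4, v_g10, v_g16, v_g11, v_g12, v_g13, v_g22, v_g21, v_g26, v_g19, v_g20, v_g23, v_g30, v_g31, v_g32, v_g37, v_g38, v_g29, v_u, v_g115, v_g116, v_g100, v_g117, v_g118, v_g113, v_g214, v_g453, v_g245]

theorem vt_c34_cnt_EG_ok : okE 120 vt_c34_cnt_EG = true := (okE_cons.2 ⟨v_b_ok, (okE_cons.2 ⟨v_p0_ok, (okE_cons.2 ⟨v_p1_ok, (okE_cons.2 ⟨v_g7_ok, (okE_cons.2 ⟨v_g3_ok, (okE_cons.2 ⟨v_g4_ok, (okE_cons.2 ⟨v_g10_ok, (okE_cons.2 ⟨v_g16_ok, (okE_cons.2 ⟨v_g11_ok, (okE_cons.2 ⟨v_g12_ok, (okE_cons.2 ⟨v_g13_ok, (okE_cons.2 ⟨v_g22_ok, (okE_cons.2 ⟨v_g21_ok, (okE_cons.2 ⟨v_g26_ok, (okE_cons.2 ⟨v_g19_ok, (okE_cons.2 ⟨v_g20_ok, (okE_cons.2 ⟨v_g23_ok, (okE_cons.2 ⟨v_g30_ok, (okE_cons.2 ⟨v_g31_ok, (okE_cons.2 ⟨v_g32_ok,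 (okE_cons.2 ⟨v_g37_ok, (okE_cons.2 ⟨v_g38_ok, (okE_cons.2 ⟨v_g29_ok, (okE_cons.2 ⟨v_u_ok, (okE_cons.2 ⟨v_g115_ok, (okE_cons.2 ⟨v_g116_ok, (okE_cons.2 ⟨v_g100_ok, (okE_cons.2 ⟨v_g117_ok, (okE_cons.2 ⟨v_g118_ok, (okE_cons.2 ⟨v_g113_ok, (okE_cons.2 ⟨v_g214_ok, (okE_cons.2 ⟨v_g453_ok, (okE_cons.2 ⟨v_g245_ok, (okE_nil 120)⟩)⟩)⟩)⟩)⟩)⟩)⟩)⟩)⟩)⟩)⟩)⟩)⟩)⟩)⟩)⟩)⟩)⟩)⟩)⟩)⟩)⟩)⟩)⟩)⟩)⟩)⟩)⟩)⟩)⟩)⟩)⟩)⟩)

noncomputable def v_g463 : Net := (Net.cons (nat_lit 1) (nat_lit 0x115040150444044450515151410410) (Net.cons (nat_lit 2) (nat_lit 0x13222301201332232302122322100) (Net.cons (nat_lit 4) (nat_lit 0x1020d080102020300070e010b0b00) (Net.cons (nat_lit 8) (nat_lit 0x8600d700240085006800490041) (Net.cons (nat_lit 16) (nat_lit 0xc0000f2f70000600200001100) (Net.cons (nat_lit 32) (nat_lit 0x181a1300000000ae000000) (Net.cons (nat_lit 64) (nat_lit 0xfb682dbf6192d2) (Net.cons (nat_lit 32) (nat_lit 0xec5b810000000008acf35a)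 (Net.cons (nat_lit 16) (nat_lit 0x6100009c0600001e8500003bcc) (Net.cons (nat_lit 8) (nat_lit 0x93002c00e700db001600cd006f) (Net.cons (nat_lit 4) (nat_lit 0xd070a0900010e08060c0007030902) (Net.cons (nat_lit 2) (nat_lit 0x100212133121010121011303231131) (Net.cons (nat_lit 1) (nat_lit 0x100555145001101504555401015551) Net.nil)))))))))))))

theorem v_g463_ok : Net.ok 120 v_g463 = true := by decide +kernel

noncomputable def vt_c35_K : List Net := [v_g463, v_s]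

theorem vt_c35_K_ok : okE 120 vt_c35_K = true := (okE_cons.2 ⟨v_g463_ok, (okE_cons.2 ⟨v_s_ok, (okE_nil 120)⟩)⟩)

noncomputable def vt_c35_cnt_EG : List Net := [v_b, v_p0, v_p1, v_g7, v_g3, v_g4, v_g10, v_g16, v_g11, v_g12, v_g13, v_g22, v_g21, v_g26, v_g19, v_g20, v_g23, v_g30, v_g31, v_g32, v_g37, v_g38, v_g29, v_u, v_g214, v_g215, v_g216, v_g117, v_g217, v_g113, v_g100]

theorem vt_c35_cnt_EG_ok : okE 120 vt_c35_cnt_EG = true := (okE_cons.2 ⟨v_b_ok, (okE_cons.2 ⟨v_p0_ok, (okE_cons.2 ⟨v_p1_ok, (okE_cons.2 ⟨v_g7_ok, (okE_cons.2 ⟨v_g3_ok, (okE_cons.2 ⟨v_g4_ok, (okE_cons.2 ⟨v_g10_ok, (okE_cons.2 ⟨v_g16_ok, (okE_cons.2 ⟨v_g11_ok, (okE_cons.2 ⟨v_g12_ok, (okE_cons.2 ⟨v_g13_ok, (okE_cons.2 ⟨v_g22_ok, (okE_cons.2 ⟨v_g21_ok, (okE_cons.2 ⟨v_g26_ok, (okE_cons.2 ⟨v_g19_ok, (okE_cons.2 ⟨v_g20_ok, (okE_cons.2 ⟨v_g23_ok, (okE_cons.2 ⟨v_g30_ok, (okE_cons.2 ⟨v_g31_ok, (okE_cons.2 ⟨v_g32_ok, (okE_cons.2 ⟨v_g37_ok,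 (okE_cons.2 ⟨v_g38_ok, (okE_cons.2 ⟨v_g29_ok, (okE_cons.2 ⟨v_u_ok, (okE_cons.2 ⟨v_g214_ok, (okE_cons.2 ⟨v_g215_ok, (okE_cons.2 ⟨v_g216_ok, (okE_cons.2 ⟨v_g117_ok, (okE_cons.2 ⟨v_g217_ok, (okE_cons.2 ⟨v_g113_ok, (okE_cons.2 ⟨v_g100_ok, (okE_nil 120)⟩)⟩)⟩)⟩)⟩)⟩)⟩)⟩)⟩)⟩)⟩)⟩)⟩)⟩)⟩)⟩)⟩)⟩)⟩)⟩)⟩)⟩)⟩)⟩)⟩)⟩)⟩)⟩)⟩)⟩)⟩)

noncomputable def v_g465 : Net := (Net.cons (nat_lit 1) (nat_lit 0x115454001145545144400545041400) (Net.cons (nat_lit 2) (nat_lit 0x130131303123131211111111001000) (Net.cons (nat_lit 4) (nat_lit 0xa0007080d0c070c040b0505020800) (Net.cons (nat_lit 8) (nat_lit 0x14009f00b60073003200460071) (Net.cons (nat_lit 16) (nat_lit 0xa8000012400000aaf40000c200) (Net.cons (nat_lit 32) (nat_lit 0x84c8110000000089000000) (Net.cons (nat_lit 64) (nat_lit 0xb93e1b8f06d5e6) (Net.cons (nat_lit 32) (nat_lit 0x28737d00000000cfd70faa) (Net.cons (nat_lit 16) (nat_lit 0x79000028150000dede0000f9c2) (Net.cons (nat_lit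 8) (nat_lit 0x5c00d5004e00a2005e0091004b) (Net.cons (nat_lit 4) (nat_lit 0xd0e080d0c070f0f05070602090d05) (Net.cons (nat_lit 2) (nat_lit 0x231020012020210011013130101321) (Net.cons (nat_lit 1) (nat_lit 0x450000045145114411145445500445) Net.nil)))))))))))))

theorem v_g465_ok : Net.ok 120 v_g465 = true := by decide +kernel

noncomputable def vt_c36_K : List Net := [v_g465, v_s]

theorem vt_c36_K_ok : okE 120 vt_c36_K = true := (okE_cons.2 ⟨v_g465_ok, (okE_cons.2 ⟨v_s_ok, (okE_nil 120)⟩)⟩)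

noncomputable def vt_c36_cnt_EG : List Net := [v_b, v_p0, v_p1, v_g7, v_g3, v_g4, v_g10, v_g16, v_g11, v_g12, v_g13, v_g22, v_g21, v_g26, v_g19, v_g20, v_g23, v_g30, v_g31, v_g32, v_g37, v_g38, v_g29, v_u, v_g214, v_g215, v_g216, v_g117, v_g217, v_g113, v_g100]

theorem vt_c36_cnt_EG_ok : okE 120 vt_c36_cnt_EG = true := (okE_cons.2 ⟨v_b_ok, (okE_cons.2 ⟨v_p0_ok, (okE_cons.2 ⟨v_p1_ok, (okE_cons.2 ⟨v_g7_ok, (okE_cons.2 ⟨v_g3_ok, (okE_cons.2 ⟨v_g4_ok, (okE_cons.2 ⟨v_g10_ok, (okE_cons.2 ⟨v_g16_ok, (okE_cons.2 ⟨v_g11_ok, (okE_cons.2 ⟨v_g12_ok, (okE_cons.2 ⟨v_g13_ok, (okE_cons.2 ⟨v_g22_ok, (okE_cons.2 ⟨v_g21_ok, (okE_cons.2 ⟨v_g26_ok, (okE_cons.2 ⟨v_g19_ok, (okE_cons.2 ⟨v_g20_ok, (okE_cons.2 ⟨v_g23_ok, (okE_cons.2 ⟨v_g30_ok, (okE_cons.2 ⟨v_g31_ok, (okE_cons.2 ⟨v_g32_ok, (okE_cons.2 ⟨v_g37_ok, (okE_cons.2 ⟨v_g38_ok, (okE_cons.2 ⟨v_g29_ok, (okE_cons.2 ⟨v_u_ok, (okE_cons.2 ⟨v_g214_ok, (okE_cons.2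 ⟨v_g215_ok, (okE_cons.2 ⟨v_g216_ok, (okE_cons.2 ⟨v_g117_ok, (okE_cons.2 ⟨v_g217_ok, (okE_cons.2 ⟨v_g113_ok, (okE_cons.2 ⟨v_g100_ok, (okE_nil 120)⟩)⟩)⟩)⟩)⟩)⟩)⟩)⟩)⟩)⟩)⟩)⟩)⟩)⟩)⟩)⟩)⟩)⟩)⟩)⟩)⟩)⟩)⟩)⟩)⟩)⟩)⟩)⟩)⟩)⟩)⟩)

noncomputable def v_g467 : Net := (Net.cons (nat_lit 1) (nat_lit 0x55144114455005055004511045004) (Net.cons (nat_lit 2) (nat_lit 0x1100012320000021113231101020) (Net.cons (nat_lit 4) (nat_lit 0xd0102020f000b0a090d0a080c0000) (Net.cons (nat_lit 8) (nat_lit 0xf4004d000e001d00d000c60018) (Net.cons (nat_lit 16) (nat_lit 0xaf0000e53300000b9900004000) (Net.cons (nat_lit 32) (nat_lit 0x3347060000000068000000) (Net.cons (nat_lit 64) (nat_lit 0x242326fc1764e9) (Net.cons (nat_lit 32) (nat_lit 0x63efa800000000d04abbd3) (Net.cons (nat_lit 16) (nat_lit 0xf2000042cf0000df280000fa14) (Net.cons (nat_lit 8) (nat_lit 0xfc00f400d100e3004300fd00e1) (Net.cons (nat_lit 4) (nat_lit 0xc08040f06000d070103020d000002)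 (Net.cons (nat_lit 2) (nat_lit 0x333323303122311313221012220012) (Net.cons (nat_lit 1) (nat_lit 0x144101105444111414441010014454) Net.nil)))))))))))))

theorem v_g467_ok : Net.ok 120 v_g467 = true := by decide +kernel

noncomputable def v_g468 : Net := (Net.cons (nat_lit 1) (nat_lit 0x50000015445550445015144145050) (Net.cons (nat_lit 2) (nat_lit 0x222003132021220231122220200120) (Net.cons (nat_lit 4) (nat_lit 0x40b060d0a00000506080905080400) (Net.cons (nat_lit 8) (nat_lit 0x6003500e2003a009300e6000b) (Net.cons (nat_lit 16) (nat_lit 0x58000052120000116300005400) (Net.cons (nat_lit 32) (nat_lit 0x490a0000000002000000) (Net.cons (nat_lit 64) (nat_lit 0x24c4d686a4399d) (Net.cons (nat_lit 32) (nat_lit 0x679850000000002ba4766b) (Net.cons (nat_lit 16) (nat_lit 0xfb000060bb0000513b0000831d) (Net.cons (nat_lit 8) (nat_lit 0x6e00d3000f0078008c00f6002d) (Net.cons (nat_lit 4) (nat_lit 0xf000e0a0a0d0c05060b080509070b)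 (Net.cons (nat_lit 2) (nat_lit 0x10200000231010130313030322230) (Net.cons (nat_lit 1) (nat_lit 0x551444054045514015045414005155) Net.nil)))))))))))))

theorem v_g468_ok : Net.ok 120 v_g468 = true := by decide +kernel

noncomputable def v_g469 : Net := (Net.cons (nat_lit 1) (nat_lit 0x445400500400051110000400110400) (Net.cons (nat_lit 2) (nat_lit 0x202012033000220200000020220000) (Net.cons (nat_lit 4) (nat_lit 0x305010002080c0000000c01000400) (Net.cons (nat_lit 8) (nat_lit 0xaf009b00800000003000300000) (Net.cons (nat_lit 16) (nat_lit 0x110000004800000e0000004000) (Net.cons (nat_lit 32) (nat_lit 0x4040080000000010000000) (Net.cons (nat_lit 64) (nat_lit 0x60079c9000c100) (Net.cons (nat_lit 32) (nat_lit 0x4341280000000010002900) (Net.cons (nat_lit 16) (nat_lit 0x1900000ad800000e00000040b8) (Net.cons (nat_lit 8) (nat_lit 0xbf009b00800000003000300040) (Net.cons (nat_lit 4) (nat_lit 0x705010002080c0000000c01080408)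 (Net.cons (nat_lit 2) (nat_lit 0x202012033000220200000020220000) (Net.cons (nat_lit 1) (nat_lit 0x545400500400051110000400110400) Net.nil)))))))))))))

theorem v_g469_ok : Net.ok 120 v_g469 = true := by decide +kernel

noncomputable def vt_c37_K : List Net := [v_g467, v_g468, v_g469]

theorem vt_c37_K_ok : okE 120 vt_c37_K = true := (okE_cons.2 ⟨v_g467_ok, (okE_cons.2 ⟨v_g468_ok, (okE_cons.2 ⟨v_g469_ok, (okE_nil 120)⟩)⟩)⟩)

noncomputable def v_g471 : Net := (Net.cons (nat_lit 1) (nat_lit 0x5400000404040001400000110000) (Net.cons (nat_lit 2) (nat_lit 0x1000021012020020110000210000) (Net.cons (nat_lit 4) (nat_lit 0x509080c010600020000010c0000) (Net.cons (nat_lit 8) (nat_lit 0xc0008000010087002000500000) (Net.cons (nat_lit 16) (nat_lit 0xc0000006c50000120000000000) (Net.cons (nat_lit 32) (nat_lit 0xa00000000002000000) (Net.cons (nat_lit 64) (nat_lit 0x4000a002410004) (Net.cons (nat_lit 32) (nat_lit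 0xc004a90000000016402200) (Net.cons (nat_lit 16) (nat_lit 0xc0000086c50000930000004018) (Net.cons (nat_lit 8) (nat_lit 0xd0008000010087002000500000) (Net.cons (nat_lit 4) (nat_lit 0x80509080c010600020000010c0000) (Net.cons (nat_lit 2) (nat_lit 0x1000021012020020110000210000) (Net.cons (nat_lit 1) (nat_lit 0x105400000404040001400000110000) Net.nil)))))))))))))

theorem v_g471_ok : Net.ok 120 v_g471 = true := by decide +kernel

noncomputable def v_V472 : List Net := [v_g30, v_g471, v_g154]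

theorem v_V472_ok : okE 120 v_V472 = true := (okE_cons.2 ⟨v_g30_ok, (okE_cons.2 ⟨v_g471_ok, (okE_cons.2 ⟨v_g154_ok, (okE_nil 120)⟩)⟩)⟩)

noncomputable def v_V474 : List Net := [v_g471, v_g154]

theorem v_V474_ok : okE 120 v_V474 = true := (okE_cons.2 ⟨v_g471_ok, (okE_cons.2 ⟨v_g154_ok, (okE_nil 120)⟩)⟩)

noncomputable def v_V475 : List Net := [v_g154]

theorem v_V475_ok : okE 120 v_V475 = true := (okE_cons.2 ⟨v_g154_ok, (okE_nil 120)⟩)

noncomputable def v_V476 : List Net := []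

theorem v_V476_ok : okE 120 v_V476 = true := (okE_nil 120)

noncomputable def vt_c37_cnt_EG : List Net := [v_b, v_p0, v_p1, v_g7, v_g3, v_g4, v_g10, v_g16, v_g11, v_g12, v_g13, v_g22, v_g21, v_g26, v_g19, v_g20, v_g23, v_g30, v_g31, v_g32, v_g37, v_g38, v_g29, v_u, v_g168, v_g169, v_g92, v_g170, v_g100, v_g117, v_g171, v_g154, v_g471]

theorem vt_c37_cnt_EG_ok : okE 120 vt_c37_cnt_EG = true := (okE_cons.2 ⟨v_b_ok, (okE_cons.2 ⟨v_p0_ok, (okE_cons.2 ⟨v_p1_ok, (okE_cons.2 ⟨v_g7_ok, (okE_cons.2 ⟨v_g3_ok, (okE_cons.2 ⟨v_g4_ok, (okE_cons.2 ⟨v_g10_ok, (okE_cons.2 ⟨v_g16_ok, (okE_cons.2 ⟨v_g11_ok, (okE_cons.2 ⟨v_g12_ok, (okE_cons.2 ⟨v_g13_ok, (okE_cons.2 ⟨v_g22_ok, (okE_cons.2 ⟨v_g21_ok, (okE_cons.2 ⟨v_g26_ok, (okE_cons.2 ⟨v_g19_ok, (okE_cons.2 ⟨v_g20_ok, (okE_cons.2 ⟨v_g23_ok, (okE_cons.2 ⟨v_g30_ok, (okE_cons.2 ⟨v_g31_ok, (okE_cons.2 ⟨v_g32_ok, (okE_cons.2 ⟨v_g37_ok, (okE_cons.2 ⟨v_g38_ok, (okE_cons.2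 ⟨v_g29_ok, (okE_cons.2 ⟨v_u_ok, (okE_cons.2 ⟨v_g168_ok, (okE_cons.2 ⟨v_g169_ok, (okE_cons.2 ⟨v_g92_ok, (okE_cons.2 ⟨v_g170_ok, (okE_cons.2 ⟨v_g100_ok, (okE_cons.2 ⟨v_g117_ok, (okE_cons.2 ⟨v_g171_ok, (okE_cons.2 ⟨v_g154_ok, (okE_cons.2 ⟨v_g471_ok, (okE_nil 120)⟩)⟩)⟩)⟩)⟩)⟩)⟩)⟩)⟩)⟩)⟩)⟩)⟩)⟩)⟩)⟩)⟩)⟩)⟩)⟩)⟩)⟩)⟩)⟩)⟩)⟩)⟩)⟩)⟩)⟩)⟩)⟩)⟩)

noncomputable def v_g477 : Net := (Net.cons (nat_lit 1) (nat_lit 0x555551115501044114401045004) (Net.cons (nat_lit 2) (nat_lit 0x331301330120013332000312111110) (Net.cons (nat_lit 4) (nat_lit 0xd050705040800000e060b000a0a00) (Net.cons (nat_lit 8) (nat_lit 0x2b00ba00b5004900f500a80008) (Net.cons (nat_lit 16) (nat_lit 0x12000026140000a8aa00009400) (Net.cons (nat_lit 32) (nat_lit 0xa93250000000060000000) (Net.cons (nat_lit 64) (nat_lit 0x3c0ff6731794c3) (Net.cons (nat_lit 32) (nat_lit 0x90713f0000000027faa3c2) (Net.cons (nat_lit 16) (nat_lit 0xf60000c378000013960000b57f)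 (Net.cons (nat_lit 8) (nat_lit 0x6f00d600590028005700c800e7) (Net.cons (nat_lit 4) (nat_lit 0x30d090e0b07070e0e020c020d0500) (Net.cons (nat_lit 2) (nat_lit 0x331331111220300003210232202303) (Net.cons (nat_lit 1) (nat_lit 0x555544541554155154514411545114) Net.nil)))))))))))))

theorem v_g477_ok : Net.ok 120 v_g477 = true := by decide +kernel

noncomputable def v_g478 : Net := (Net.cons (nat_lit 1) (nat_lit 0x404405044545151414450010154404) (Net.cons (nat_lit 2) (nat_lit 0x230112200311111033031113012100) (Net.cons (nat_lit 4) (nat_lit 0x9080905080b010e090d0f02010000) (Net.cons (nat_lit 8) (nat_lit 0x1f00be00fb0002006b00c60028) (Net.cons (nat_lit 16) (nat_lit 0x290000c37000004a9400000800) (Net.cons (nat_lit 32) (nat_lit 0x20000000000050000000) (Net.cons (nat_lit 64) (nat_lit 0x4e157b74087b4b) (Net.cons (nat_lit 32) (nat_lit 0xaabf0000000052df3d60) (Net.cons (nat_lit 16) (nat_lit 0xd3000009010000252e00006d82)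 (Net.cons (nat_lit 8) (nat_lit 0xad0060008600e300cb00ce00e0) (Net.cons (nat_lit 4) (nat_lit 0x20e02030b04000c0008070c050d03) (Net.cons (nat_lit 2) (nat_lit 0x301102212032323113131331012310) (Net.cons (nat_lit 1) (nat_lit 0x141551545515404144500514155015) Net.nil)))))))))))))

theorem v_g478_ok : Net.ok 120 v_g478 = true := by decide +kernel

noncomputable def vt_c38_K : List Net := [v_g477, v_g478]

theorem vt_c38_K_ok : okE 120 vt_c38_K = true := (okE_cons.2 ⟨v_g477_ok, (okE_cons.2 ⟨v_g478_ok, (okE_nil 120)⟩)⟩)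

noncomputable def v_V480 : List Net := [v_g29, v_g352]

theorem v_V480_ok : okE 120 v_V480 = true := (okE_cons.2 ⟨v_g29_ok, (okE_cons.2 ⟨v_g352_ok, (okE_nil 120)⟩)⟩)

noncomputable def v_V482 : List Net := [v_g352]

theorem v_V482_ok : okE 120 v_V482 = true := (okE_cons.2 ⟨v_g352_ok, (okE_nil 120)⟩)

noncomputable def v_V483 : List Net := []

theorem v_V483_ok : okE 120 v_V483 = true := (okE_nil 120)

noncomputable def vt_c38_cnt_EG : List Net := [v_b, v_p0, v_p1, v_g7, v_g3, v_g4, v_g10, v_g16, v_g11, v_g12, v_g13, v_g22, v_g21, v_g26, v_g19, v_g20, v_g23, v_g30, v_g31, v_g32, v_g37, v_g38, v_g29, v_u, v_g168, v_g169, v_g92, v_g170, v_g100, v_g117, v_g171, v_g196, v_g197, v_g352]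

theorem vt_c38_cnt_EG_ok : okE 120 vt_c38_cnt_EG = true := (okE_cons.2 ⟨v_b_ok, (okE_cons.2 ⟨v_p0_ok, (okE_cons.2 ⟨v_p1_ok, (okE_cons.2 ⟨v_g7_ok, (okE_cons.2 ⟨v_g3_ok, (okE_cons.2 ⟨v_g4_ok, (okE_cons.2 ⟨v_g10_ok, (okE_cons.2 ⟨v_g16_ok, (okE_cons.2 ⟨v_g11_ok, (okE_cons.2 ⟨v_g12_ok, (okE_cons.2 ⟨v_g13_ok, (okE_cons.2 ⟨v_g22_ok, (okE_cons.2 ⟨v_g21_ok, (okE_cons.2 ⟨v_g26_ok, (okE_cons.2 ⟨v_g19_ok, (okE_cons.2 ⟨v_g20_ok, (okE_cons.2 ⟨v_g23_ok, (okE_cons.2 ⟨v_g30_ok, (okE_cons.2 ⟨v_g31_ok, (okE_cons.2 ⟨v_g32_ok, (okE_cons.2 ⟨v_g37_ok, (okE_cons.2 ⟨v_g38_ok, (okE_cons.2 ⟨v_g29_ok, (okE_cons.2 ⟨v_u_ok, (okE_cons.2 ⟨v_g168_ok, (okE_cons.2 ⟨v_g169_ok, (okE_cons.2 ⟨v_g92_ok, (okE_cons.2 ⟨v_g170_ok, (okE_cons.2 ⟨v_g100_ok, (okE_cons.2 ⟨v_g117_ok, (okE_cons.2 ⟨v_g171_ok, (okE_cons.2 ⟨v_g196_ok, (okE_cons.2 ⟨v_g197_ok, (okE_cons.2 ⟨v_g352_ok, (okE_nil 120)⟩)⟩)⟩)⟩)⟩)⟩)⟩)⟩)⟩)⟩)⟩)⟩)⟩)⟩)⟩)⟩)⟩)⟩)⟩)⟩)⟩)⟩)⟩)⟩)⟩)⟩)⟩)⟩)⟩)⟩)⟩)⟩)⟩)⟩)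

noncomputable def v_g484 : Net := (Net.cons (nat_lit 1) (nat_lit 0x4501014500050501544011511454) (Net.cons (nat_lit 2) (nat_lit 0x110110133303022312003003131330) (Net.cons (nat_lit 4) (nat_lit 0x6050901060e030a07050d01000400) (Net.cons (nat_lit 8) (nat_lit 0xf200a800b9009d00d600320096) (Net.cons (nat_lit 16) (nat_lit 0x720000822b00008ee80000c700) (Net.cons (nat_lit 32) (nat_lit 0x9e00b00000000034000000) (Net.cons (nat_lit 64) (nat_lit 0x8af767745447de) (Net.cons (nat_lit 32) (nat_lit 0xdd158000000005604ccb5) (Net.cons (nat_lit 16) (nat_lit 0x1200009a520000cc810000c1ce) (Net.cons (nat_lit 8) (nat_lit 0x1700c100840071008600dd005e) (Net.cons (nat_lit 4) (nat_lit 0xf0d0e08020d0a0e02000006040300) (Net.cons (nat_lit 2) (nat_lit 0x12222111101203001220033020031) (Net.cons (nat_lit 1) (nat_lit 0x540455504450404045440105405100) Net.nil)))))))))))))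

theorem v_g484_ok : Net.ok 120 v_g484 = true := by decide +kernel

noncomputable def vt_c39_K : List Net := [v_g484, v_g478]

theorem vt_c39_K_ok : okE 120 vt_c39_K = true := (okE_cons.2 ⟨v_g484_ok, (okE_cons.2 ⟨v_g478_ok, (okE_nil 120)⟩)⟩)

noncomputable def vt_c39_cnt_EG : List Net := [v_b, v_p0, v_p1, v_g7, v_g3, v_g4, v_g10, v_g16, v_g11, v_g12, v_g13, v_g22, v_g21, v_g26, v_g19, v_g20, v_g23, v_g30, v_g31, v_g32, v_g37, v_g38, v_g29, v_u, v_g168, v_g169, v_g92, v_g170, v_g100, v_g117, v_g171, v_g196, v_g197, v_g352]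

theorem vt_c39_cnt_EG_ok : okE 120 vt_c39_cnt_EG = true := (okE_cons.2 ⟨v_b_ok, (okE_cons.2 ⟨v_p0_ok, (okE_cons.2 ⟨v_p1_ok, (okE_cons.2 ⟨v_g7_ok, (okE_cons.2 ⟨v_g3_ok, (okE_cons.2 ⟨v_g4_ok, (okE_cons.2 ⟨v_g10_ok, (okE_cons.2 ⟨v_g16_ok, (okE_cons.2 ⟨v_g11_ok, (okE_cons.2 ⟨v_g12_ok, (okE_cons.2 ⟨v_g13_ok, (okE_cons.2 ⟨v_g22_ok, (okE_cons.2 ⟨v_g21_ok, (okE_cons.2 ⟨v_g26_ok, (okE_cons.2 ⟨v_g19_ok, (okE_cons.2 ⟨v_g20_ok, (okE_cons.2 ⟨v_g23_ok, (okE_cons.2 ⟨v_g30_ok, (okE_cons.2 ⟨v_g31_ok, (okE_cons.2 ⟨v_g32_ok, (okE_cons.2 ⟨v_g37_ok, (okE_cons.2 ⟨v_g38_ok, (okE_cons.2 ⟨v_g29_ok, (okE_cons.2 ⟨v_u_ok, (okE_cons.2 ⟨v_g168_ok, (okE_cons.2 ⟨v_g169_ok, (okE_cons.2 ⟨v_g92_ok, (okE_cons.2 ⟨v_g170_ok, (okE_cons.2 ⟨v_g100_ok, (okE_cons.2 ⟨v_g117_ok, (okE_cons.2 ⟨v_g171_ok, (okE_cons.2 ⟨v_g196_ok, (okE_cons.2 ⟨v_g197_ok, (okE_cons.2 ⟨v_g352_ok, (okE_nil 120)⟩)⟩)⟩)⟩)⟩)⟩)⟩)⟩)⟩)⟩)⟩)⟩)⟩)⟩)⟩)⟩)⟩)⟩)⟩)⟩)⟩)⟩)⟩)⟩)⟩)⟩)⟩)⟩)⟩)⟩)⟩)⟩)⟩)⟩)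

noncomputable def v_g486 : Net := (Net.cons (nat_lit 1) (nat_lit 0x51515550551000500544101510004) (Net.cons (nat_lit 2) (nat_lit 0x202300111320232003001010232100) (Net.cons (nat_lit 4) (nat_lit 0xe080b0a040a07000908080f040600) (Net.cons (nat_lit 8) (nat_lit 0xca00a0002300b8004400b90000) (Net.cons (nat_lit 16) (nat_lit 0x490000ad6a0000e31200007000) (Net.cons (nat_lit 32) (nat_lit 0x2689140000000089000000) (Net.cons (nat_lit 64) (nat_lit 0x93ee58fd2415c4) (Net.cons (nat_lit 32) (nat_lit 0x781d63000000006a6c1cda) (Net.cons (nat_lit 16) (nat_lit 0x44000022d50000213400009c4a) (Net.cons (nat_lit 8) (nat_lit 0x15001b00cc004c00e400f2009d) (Net.cons (nat_lit 4) (nat_lit 0x705020e06040c0606090104010806) (Net.cons (nat_lit 2) (nat_lit 0x113120212123133200310113001121) (Net.cons (nat_lit 1) (nat_lit 0x44500051411014041155441010155) Net.nil)))))))))))))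

theorem v_g486_ok : Net.ok 120 v_g486 = true := by decide +kernel

noncomputable def vt_c40_K : List Net := [v_g486]

theorem vt_c40_K_ok : okE 120 vt_c40_K = true := (okE_cons.2 ⟨v_g486_ok, (okE_nil 120)⟩)

noncomputable def vt_c40_cnt_EG : List Net := [v_b, v_p0, v_p1, v_g7, v_g3, v_g4, v_g10, v_g16, v_g11, v_g12, v_g13, v_g22, v_g21, v_g26, v_g19, v_g20, v_g23, v_g30, v_g31, v_g32, v_g37, v_g38, v_g29, v_u, v_g143, v_g217, v_g388, v_g216, v_g387]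

theorem vt_c40_cnt_EG_ok : okE 120 vt_c40_cnt_EG = true := (okE_cons.2 ⟨v_b_ok, (okE_cons.2 ⟨v_p0_ok, (okE_cons.2 ⟨v_p1_ok, (okE_cons.2 ⟨v_g7_ok, (okE_cons.2 ⟨v_g3_ok, (okE_cons.2 ⟨v_g4_ok, (okE_cons.2 ⟨v_g10_ok, (okE_cons.2 ⟨v_g16_ok, (okE_cons.2 ⟨v_g11_ok, (okE_cons.2 ⟨v_g12_ok, (okE_cons.2 ⟨v_g13_ok, (okE_cons.2 ⟨v_g22_ok, (okE_cons.2 ⟨v_g21_ok, (okE_cons.2 ⟨v_g26_ok, (okE_cons.2 ⟨v_g19_ok, (okE_cons.2 ⟨v_g20_ok, (okE_cons.2 ⟨v_g23_ok, (okE_cons.2 ⟨v_g30_ok, (okE_cons.2 ⟨v_g31_ok, (okE_cons.2 ⟨v_g32_ok, (okE_cons.2 ⟨v_g37_ok, (okE_cons.2 ⟨v_g38_ok, (okE_cons.2 ⟨v_g29_ok, (okE_cons.2 ⟨v_u_ok, (okE_cons.2 ⟨v_g143_ok, (okE_cons.2 ⟨v_g217_ok, (okE_cons.2 ⟨v_g388_ok, (okE_cons.2 ⟨v_g216_ok, (okE_cons.2 ⟨v_g387_ok, (okE_nil 120)⟩)⟩)⟩)⟩)⟩)⟩)⟩)⟩)⟩)⟩)⟩)⟩)⟩)⟩)⟩)⟩)⟩)⟩)⟩)⟩)⟩)⟩)⟩)⟩)⟩)⟩)⟩)⟩)⟩)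

noncomputable def v_g488 : Net := (Net.cons (nat_lit 1) (nat_lit 0x50114450454414451141150140400) (Net.cons (nat_lit 2) (nat_lit 0x23011311312323311020021022120) (Net.cons (nat_lit 4) (nat_lit 0xc04010400050d02080b0209030000) (Net.cons (nat_lit 8) (nat_lit 0x57006a00310050007e00780046) (Net.cons (nat_lit 16) (nat_lit 0x1c0000770d00001c6000001900) (Net.cons (nat_lit 32) (nat_lit 0x2b8c000000000c1000000) (Net.cons (nat_lit 64) (nat_lit 0x641c9efd16a57b) (Net.cons (nat_lit 32) (nat_lit 0xe7033900000000f7e1f25c) (Net.cons (nat_lit 16) (nat_lit 0x98000068250000290b00002026) (Net.cons (nat_lit 8) (nat_lit 0x34000b002d0070003300f90095) (Net.cons (nat_lit 4) (nat_lit 0x2000e030a040d04000a0303030f0d) (Net.cons (nat_lit 2) (nat_lit 0x311210100313311130201302231130) (Net.cons (nat_lit 1) (nat_lit 0x105550145151000000500051500544) Net.nil)))))))))))))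

theorem v_g488_ok : Net.ok 120 v_g488 = true := by decide +kernel

noncomputable def vt_c41_K : List Net := [v_g488]

theorem vt_c41_K_ok : okE 120 vt_c41_K = true := (okE_cons.2 ⟨v_g488_ok, (okE_nil 120)⟩)

noncomputable def vt_c41_cnt_EG : List Net := [v_b, v_p0, v_p1, v_g7, v_g3, v_g4, v_g10, v_g16, v_g11, v_g12, v_g13, v_g22, v_g21, v_g26, v_g19, v_g20, v_g23, v_g30, v_g31, v_g32, v_g37, v_g38, v_g29, v_u, v_g115, v_g116, v_g100, v_g117, v_g118]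

theorem vt_c41_cnt_EG_ok : okE 120 vt_c41_cnt_EG = true := (okE_cons.2 ⟨v_b_ok, (okE_cons.2 ⟨v_p0_ok, (okE_cons.2 ⟨v_p1_ok, (okE_cons.2 ⟨v_g7_ok, (okE_cons.2 ⟨v_g3_ok, (okE_cons.2 ⟨v_g4_ok, (okE_cons.2 ⟨v_g10_ok, (okE_cons.2 ⟨v_g16_ok, (okE_cons.2 ⟨v_g11_ok, (okE_cons.2 ⟨v_g12_ok, (okE_cons.2 ⟨v_g13_ok, (okE_cons.2 ⟨v_g22_ok, (okE_cons.2 ⟨v_g21_ok, (okE_cons.2 ⟨v_g26_ok, (okE_cons.2 ⟨v_g19_ok, (okE_cons.2 ⟨v_g20_ok, (okE_cons.2 ⟨v_g23_ok, (okE_cons.2 ⟨v_g30_ok, (okE_cons.2 ⟨v_g31_ok, (okE_cons.2 ⟨v_g32_ok, (okE_cons.2 ⟨v_g37_ok, (okE_cons.2 ⟨v_g38_ok, (okE_cons.2 ⟨v_g29_ok, (okE_cons.2 ⟨v_u_ok, (okE_cons.2 ⟨v_g115_ok, (okE_cons.2 ⟨v_g116_ok, (okE_cons.2 ⟨v_g100_ok, (okE_cons.2 ⟨v_g117_ok, (okE_cons.2 ⟨v_g118_ok, (okE_nil 120)⟩)⟩)⟩)⟩)⟩)⟩)⟩)⟩)⟩)⟩)⟩)⟩)⟩)⟩)⟩)⟩)⟩)⟩)⟩)⟩)⟩)⟩)⟩)⟩)⟩)⟩)⟩)⟩)⟩)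

noncomputable def vt_nc12_11_cnt_EG : List Net := [v_b, v_p0, v_p1, v_g7, v_g3, v_g4, v_g10, v_g16, v_g11, v_g12, v_g13, v_g22, v_g21, v_g26, v_g19, v_g20, v_g23, v_g30, v_g31, v_g32, v_g37, v_g38, v_g29, v_u]

theorem vt_nc12_11_cnt_EG_ok : okE 120 vt_nc12_11_cnt_EG = true := (okE_cons.2 ⟨v_b_ok, (okE_cons.2 ⟨v_p0_ok, (okE_cons.2 ⟨v_p1_ok, (okE_cons.2 ⟨v_g7_ok, (okE_cons.2 ⟨v_g3_ok, (okE_cons.2 ⟨v_g4_ok, (okE_cons.2 ⟨v_g10_ok, (okE_cons.2 ⟨v_g16_ok, (okE_cons.2 ⟨v_g11_ok, (okE_cons.2 ⟨v_g12_ok, (okE_cons.2 ⟨v_g13_ok, (okE_cons.2 ⟨v_g22_ok, (okE_cons.2 ⟨v_g21_ok, (okE_cons.2 ⟨v_g26_ok, (okE_cons.2 ⟨v_g19_ok, (okE_cons.2 ⟨v_g20_ok, (okE_cons.2 ⟨v_g23_ok, (okE_cons.2 ⟨v_g30_ok, (okE_cons.2 ⟨v_g31_ok, (okE_cons.2 ⟨v_g32_ok, (okE_cons.2 ⟨v_g37_ok, (okE_cons.2 ⟨v_g38_ok, (okE_cons.2 ⟨v_g29_ok, (okE_cons.2 ⟨v_u_ok, (okE_nil 120)⟩)⟩)⟩)⟩)⟩)⟩)⟩)⟩)⟩)⟩)⟩)⟩)⟩)⟩)⟩)⟩)⟩)⟩)⟩)⟩)⟩)⟩)⟩)⟩)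

noncomputable def vt_nc19_18_cnt_EG : List Net := [v_g7, v_g3, v_g4, v_g10, v_g16, v_g11, v_g12, v_g13, v_g22, v_g21, v_g26, v_g19, v_g20, v_g23, v_g30, v_g31, v_g32, v_g37, v_g38, v_g29, v_u, v_b, v_p0, v_p1, v_g309, v_g310, v_g311, v_g92, v_g312, v_g244, v_g245, v_g116, v_g73, v_g246]

theorem vt_nc19_18_cnt_EG_ok : okE 120 vt_nc19_18_cnt_EG = true := (okE_cons.2 ⟨v_g7_ok, (okE_cons.2 ⟨v_g3_ok, (okE_cons.2 ⟨v_g4_ok, (okE_cons.2 ⟨v_g10_ok, (okE_cons.2 ⟨v_g16_ok, (okE_cons.2 ⟨v_g11_ok, (okE_cons.2 ⟨v_g12_ok, (okE_cons.2 ⟨v_g13_ok, (okE_cons.2 ⟨v_g22_ok, (okE_cons.2 ⟨v_g21_ok, (okE_cons.2 ⟨v_g26_ok, (okE_cons.2 ⟨v_g19_ok, (okE_cons.2 ⟨v_g20_ok, (okE_cons.2 ⟨v_g23_ok, (okE_cons.2 ⟨v_g30_ok, (okE_cons.2 ⟨v_g31_ok, (okE_cons.2 ⟨v_g32_ok, (okE_cons.2 ⟨v_g37_ok, (okE_cons.2 ⟨v_g38_ok, (okE_cons.2 ⟨v_g29_ok, (okE_cons.2 ⟨v_u_ok, (okE_cons.2 ⟨v_b_ok, (okE_cons.2 ⟨v_p0_ok, (okE_cons.2 ⟨v_p1_ok, (okE_cons.2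 ⟨v_g309_ok, (okE_cons.2 ⟨v_g310_ok, (okE_cons.2 ⟨v_g311_ok, (okE_cons.2 ⟨v_g92_ok, (okE_cons.2 ⟨v_g312_ok, (okE_cons.2 ⟨v_g244_ok, (okE_cons.2 ⟨v_g245_ok, (okE_cons.2 ⟨v_g116_ok, (okE_cons.2 ⟨v_g73_ok, (okE_cons.2 ⟨v_g246_ok, (okE_nil 120)⟩)⟩)⟩)⟩)⟩)⟩)⟩)⟩)⟩)⟩)⟩)⟩)⟩)⟩)⟩)⟩)⟩)⟩)⟩)⟩)⟩)⟩)⟩)⟩)⟩)⟩)⟩)⟩)⟩)⟩)⟩)⟩)⟩)⟩)

noncomputable def vt_nc21_20_cnt_EG : List Net := [v_b, v_p0, v_p1, v_g7, v_g3, v_g4, v_g10, v_g16, v_g11, v_g12, v_g13, v_g22, v_g21, v_g26, v_g19, v_g20, v_g23, v_g30, v_g31, v_g32, v_g37, v_g38, v_g29, v_u]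

theorem vt_nc21_20_cnt_EG_ok : okE 120 vt_nc21_20_cnt_EG = true := (okE_cons.2 ⟨v_b_ok, (okE_cons.2 ⟨v_p0_ok, (okE_cons.2 ⟨v_p1_ok, (okE_cons.2 ⟨v_g7_ok, (okE_cons.2 ⟨v_g3_ok, (okE_cons.2 ⟨v_g4_ok, (okE_cons.2 ⟨v_g10_ok, (okE_cons.2 ⟨v_g16_ok, (okE_cons.2 ⟨v_g11_ok, (okE_cons.2 ⟨v_g12_ok, (okE_cons.2 ⟨v_g13_ok, (okE_cons.2 ⟨v_g22_ok, (okE_cons.2 ⟨v_g21_ok, (okE_cons.2 ⟨v_g26_ok, (okE_cons.2 ⟨v_g19_ok, (okE_cons.2 ⟨v_g20_ok, (okE_cons.2 ⟨v_g23_ok, (okE_cons.2 ⟨v_g30_ok, (okE_cons.2 ⟨v_g31_ok, (okE_cons.2 ⟨v_g32_ok, (okE_cons.2 ⟨v_g37_ok, (okE_cons.2 ⟨v_g38_ok, (okE_cons.2 ⟨v_g29_ok, (okE_cons.2 ⟨v_u_ok, (okE_nil 120)⟩)⟩)⟩)⟩)⟩)⟩)⟩)⟩)⟩)⟩)⟩)⟩)⟩)⟩)⟩)⟩)⟩)⟩)⟩)⟩)⟩)⟩)⟩)⟩)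

noncomputable def vt_nc24_23_cnt_EG : List Net := [v_b, v_p0, v_p1, v_g7, v_g3, v_g4, v_g10, v_g16, v_g11, v_g12, v_g13, v_g22, v_g21, v_g26, v_g19, v_g20, v_g23, v_g30, v_g31, v_g32, v_g37, v_g38, v_g29, v_u, v_g168, v_g169, v_g92, v_g170, v_g100, v_g117, v_g171]

theorem vt_nc24_23_cnt_EG_ok : okE 120 vt_nc24_23_cnt_EG = true := (okE_cons.2 ⟨v_b_ok, (okE_cons.2 ⟨v_p0_ok, (okE_cons.2 ⟨v_p1_ok, (okE_cons.2 ⟨v_g7_ok, (okE_cons.2 ⟨v_g3_ok, (okE_cons.2 ⟨v_g4_ok, (okE_cons.2 ⟨v_g10_ok, (okE_cons.2 ⟨v_g16_ok, (okE_cons.2 ⟨v_g11_ok, (okE_cons.2 ⟨v_g12_ok, (okE_cons.2 ⟨v_g13_ok, (okE_cons.2 ⟨v_g22_ok, (okE_cons.2 ⟨v_g21_ok, (okE_cons.2 ⟨v_g26_ok, (okE_cons.2 ⟨v_g19_ok, (okE_cons.2 ⟨v_g20_ok, (okE_cons.2 ⟨v_g23_ok, (okE_cons.2 ⟨v_g30_ok, (okE_cons.2 ⟨v_g31_ok, (okE_cons.2 ⟨v_g32_ok, (okE_cons.2 ⟨v_g37_ok, (okE_cons.2 ⟨v_g38_ok, (okE_cons.2 ⟨v_g29_ok, (okE_cons.2 ⟨v_u_ok, (okE_cons.2 ⟨v_g168_ok, (okE_cons.2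 ⟨v_g169_ok, (okE_cons.2 ⟨v_g92_ok, (okE_cons.2 ⟨v_g170_ok, (okE_cons.2 ⟨v_g100_ok, (okE_cons.2 ⟨v_g117_ok, (okE_cons.2 ⟨v_g171_ok, (okE_nil 120)⟩)⟩)⟩)⟩)⟩)⟩)⟩)⟩)⟩)⟩)⟩)⟩)⟩)⟩)⟩)⟩)⟩)⟩)⟩)⟩)⟩)⟩)⟩)⟩)⟩)⟩)⟩)⟩)⟩)⟩)⟩)

noncomputable def vt_nc31_30_cnt_EG : List Net := [v_g7, v_g3, v_g4, v_g10, v_g16, v_g11, v_g12, v_g13, v_g22, v_g21, v_g26, v_g19, v_g20, v_g23, v_g30, v_g31, v_g32, v_g37, v_g38, v_g29, v_u, v_b, v_p0, v_p1, v_g244, v_g245, v_g116, v_g73, v_g92, v_g246]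

theorem vt_nc31_30_cnt_EG_ok : okE 120 vt_nc31_30_cnt_EG = true := (okE_cons.2 ⟨v_g7_ok, (okE_cons.2 ⟨v_g3_ok, (okE_cons.2 ⟨v_g4_ok, (okE_cons.2 ⟨v_g10_ok, (okE_cons.2 ⟨v_g16_ok, (okE_cons.2 ⟨v_g11_ok, (okE_cons.2 ⟨v_g12_ok, (okE_cons.2 ⟨v_g13_ok, (okE_cons.2 ⟨v_g22_ok, (okE_cons.2 ⟨v_g21_ok, (okE_cons.2 ⟨v_g26_ok, (okE_cons.2 ⟨v_g19_ok, (okE_cons.2 ⟨v_g20_ok, (okE_cons.2 ⟨v_g23_ok, (okE_cons.2 ⟨v_g30_ok, (okE_cons.2 ⟨v_g31_ok, (okE_cons.2 ⟨v_g32_ok, (okE_cons.2 ⟨v_g37_ok, (okE_cons.2 ⟨v_g38_ok, (okE_cons.2 ⟨v_g29_ok, (okE_cons.2 ⟨v_u_ok, (okE_cons.2 ⟨v_b_ok, (okE_cons.2 ⟨v_p0_ok, (okE_cons.2 ⟨v_p1_ok, (okE_cons.2 ⟨v_g244_ok, (okE_cons.2 ⟨v_g245_ok, (okE_cons.2 ⟨v_g116_ok, (okE_cons.2 ⟨v_g73_ok, (okE_cons.2 ⟨v_g92_ok, (okE_cons.2 ⟨v_g246_ok, (okE_nil 120)⟩)⟩)⟩)⟩)⟩)⟩)⟩)⟩)⟩)⟩)⟩)⟩)⟩)⟩)⟩)⟩)⟩)⟩)⟩)⟩)⟩)⟩)⟩)⟩)⟩)⟩)⟩)⟩)⟩)⟩)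

noncomputable def vt_nc34_33_cnt_EG : List Net := [v_b, v_p0, v_p1, v_g7, v_g3, v_g4, v_g10, v_g16, v_g11, v_g12, v_g13, v_g22, v_g21, v_g26, v_g19, v_g20, v_g23, v_g30, v_g31, v_g32, v_g37, v_g38, v_g29, v_u]

theorem vt_nc34_33_cnt_EG_ok : okE 120 vt_nc34_33_cnt_EG = true := (okE_cons.2 ⟨v_b_ok, (okE_cons.2 ⟨v_p0_ok, (okE_cons.2 ⟨v_p1_ok, (okE_cons.2 ⟨v_g7_ok, (okE_cons.2 ⟨v_g3_ok, (okE_cons.2 ⟨v_g4_ok, (okE_cons.2 ⟨v_g10_ok, (okE_cons.2 ⟨v_g16_ok, (okE_cons.2 ⟨v_g11_ok, (okE_cons.2 ⟨v_g12_ok, (okE_cons.2 ⟨v_g13_ok, (okE_cons.2 ⟨v_g22_ok, (okE_cons.2 ⟨v_g21_ok, (okE_cons.2 ⟨v_g26_ok, (okE_cons.2 ⟨v_g19_ok, (okE_cons.2 ⟨v_g20_ok, (okE_cons.2 ⟨v_g23_ok, (okE_cons.2 ⟨v_g30_ok, (okE_cons.2 ⟨v_g31_ok, (okE_cons.2 ⟨v_g32_ok, (okE_cons.2 ⟨v_g37_ok, (okE_cons.2 ⟨v_g38_ok, (okE_cons.2 ⟨v_g29_ok, (okE_cons.2 ⟨v_u_ok, (okE_nil 120)⟩)⟩)⟩)⟩)⟩)⟩)⟩)⟩)⟩)⟩)⟩)⟩)⟩)⟩)⟩)⟩)⟩)⟩)⟩)⟩)⟩)⟩)⟩)⟩)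

noncomputable def vt_nc36_35_cnt_EG : List Net := [v_b, v_p0, v_p1, v_g7, v_g3, v_g4, v_g10, v_g16, v_g11, v_g12, v_g13, v_g22, v_g21, v_g26, v_g19, v_g20, v_g23, v_g30, v_g31, v_g32, v_g37, v_g38, v_g29, v_u]

theorem vt_nc36_35_cnt_EG_ok : okE 120 vt_nc36_35_cnt_EG = true := (okE_cons.2 ⟨v_b_ok, (okE_cons.2 ⟨v_p0_ok, (okE_cons.2 ⟨v_p1_ok, (okE_cons.2 ⟨v_g7_ok, (okE_cons.2 ⟨v_g3_ok, (okE_cons.2 ⟨v_g4_ok, (okE_cons.2 ⟨v_g10_ok, (okE_cons.2 ⟨v_g16_ok, (okE_cons.2 ⟨v_g11_ok, (okE_cons.2 ⟨v_g12_ok, (okE_cons.2 ⟨v_g13_ok, (okE_cons.2 ⟨v_g22_ok, (okE_cons.2 ⟨v_g21_ok, (okE_cons.2 ⟨v_g26_ok, (okE_cons.2 ⟨v_g19_ok, (okE_cons.2 ⟨v_g20_ok, (okE_cons.2 ⟨v_g23_ok, (okE_cons.2 ⟨v_g30_ok, (okE_cons.2 ⟨v_g31_ok, (okE_cons.2 ⟨v_g32_ok, (okE_cons.2 ⟨v_g37_ok, (okE_cons.2 ⟨v_g38_ok, (okE_cons.2 ⟨v_g29_ok, (okE_cons.2 ⟨v_u_ok, (okE_nil 120)⟩)⟩)⟩)⟩)⟩)⟩)⟩)⟩)⟩)⟩)⟩)⟩)⟩)⟩)⟩)⟩)⟩)⟩)⟩)⟩)⟩)⟩)⟩)⟩)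

noncomputable def vt_nc39_38_cnt_EG : List Net := [v_b, v_p0, v_p1, v_g7, v_g3, v_g4, v_g10, v_g16, v_g11, v_g12, v_g13, v_g22, v_g21, v_g26, v_g19, v_g20, v_g23, v_g30, v_g31, v_g32, v_g37, v_g38, v_g29, v_u, v_g168, v_g169, v_g92, v_g170, v_g100, v_g117, v_g171]

theorem vt_nc39_38_cnt_EG_ok : okE 120 vt_nc39_38_cnt_EG = true := (okE_cons.2 ⟨v_b_ok, (okE_cons.2 ⟨v_p0_ok, (okE_cons.2 ⟨v_p1_ok, (okE_cons.2 ⟨v_g7_ok, (okE_cons.2 ⟨v_g3_ok, (okE_cons.2 ⟨v_g4_ok, (okE_cons.2 ⟨v_g10_ok, (okE_cons.2 ⟨v_g16_ok, (okE_cons.2 ⟨v_g11_ok, (okE_cons.2 ⟨v_g12_ok, (okE_cons.2 ⟨v_g13_ok, (okE_cons.2 ⟨v_g22_ok, (okE_cons.2 ⟨v_g21_ok, (okE_cons.2 ⟨v_g26_ok, (okE_cons.2 ⟨v_g19_ok, (okE_cons.2 ⟨v_g20_ok, (okE_cons.2 ⟨v_g23_ok, (okE_cons.2 ⟨v_g30_ok, (okE_cons.2 ⟨v_g31_ok, (okE_cons.2 ⟨v_g32_ok, (okE_cons.2 ⟨v_g37_ok, (okE_cons.2 ⟨v_g38_ok, (okE_cons.2 ⟨v_g29_ok, (okE_cons.2 ⟨v_u_ok, (okE_cons.2 ⟨v_g168_ok, (okE_cons.2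 ⟨v_g169_ok, (okE_cons.2 ⟨v_g92_ok, (okE_cons.2 ⟨v_g170_ok, (okE_cons.2 ⟨v_g100_ok, (okE_cons.2 ⟨v_g117_ok, (okE_cons.2 ⟨v_g171_ok, (okE_nil 120)⟩)⟩)⟩)⟩)⟩)⟩)⟩)⟩)⟩)⟩)⟩)⟩)⟩)⟩)⟩)⟩)⟩)⟩)⟩)⟩)⟩)⟩)⟩)⟩)⟩)⟩)⟩)⟩)⟩)⟩)⟩)

noncomputable def vt_nc41_40_cnt_EG : List Net := [v_b, v_p0, v_p1, v_g7, v_g3, v_g4, v_g10, v_g16, v_g11, v_g12, v_g13, v_g22, v_g21, v_g26, v_g19, v_g20, v_g23, v_g30, v_g31, v_g32, v_g37, v_g38, v_g29, v_u]

theorem vt_nc41_40_cnt_EG_ok : okE 120 vt_nc41_40_cnt_EG = true := (okE_cons.2 ⟨v_b_ok, (okE_cons.2 ⟨v_p0_ok, (okE_cons.2 ⟨v_p1_ok, (okE_cons.2 ⟨v_g7_ok, (okE_cons.2 ⟨v_g3_ok, (okE_cons.2 ⟨v_g4_ok, (okE_cons.2 ⟨v_g10_ok, (okE_cons.2 ⟨v_g16_ok, (okE_cons.2 ⟨v_g11_ok, (okE_cons.2 ⟨v_g12_ok, (okE_cons.2 ⟨v_g13_ok, (okE_cons.2 ⟨v_g22_ok, (okE_cons.2 ⟨v_g21_ok, (okE_cons.2 ⟨v_g26_ok, (okE_cons.2 ⟨v_g19_ok, (okE_cons.2 ⟨v_g20_ok, (okE_cons.2 ⟨v_g23_ok, (okE_cons.2 ⟨v_g30_ok, (okE_cons.2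 ⟨v_g31_ok, (okE_cons.2 ⟨v_g32_ok, (okE_cons.2 ⟨v_g37_ok, (okE_cons.2 ⟨v_g38_ok, (okE_cons.2 ⟨v_g29_ok, (okE_cons.2 ⟨v_u_ok, (okE_nil 120)⟩)⟩)⟩)⟩)⟩)⟩)⟩)⟩)⟩)⟩)⟩)⟩)⟩)⟩)⟩)⟩)⟩)⟩)⟩)⟩)⟩)⟩)⟩)⟩)

noncomputable def v_a : Net := (Net.cons (nat_lit 1) (nat_lit 0x440400500500441011000100010000) (Net.cons (nat_lit 2) (nat_lit 0x30001000202133200100020000) (Net.cons (nat_lit 4) (nat_lit 0x104090808040a0802000400080000) (Net.cons (nat_lit 8) (nat_lit 0x890098000c004200b400000000) (Net.cons (nat_lit 16) (nat_lit 0x10000000040000866000004000) (Net.cons (nat_lit 32) (nat_lit 0x41820000000010000000) (Net.cons (nat_lit 64) (nat_lit 0x809210044100) (Net.cons (nat_lit 32) (nat_lit 0x8049820000000018680600) (Net.cons (nat_lit 16) (nat_lit 0x180000801c0000c66400004080) (Net.cons (nat_lit 8) (nat_lit 0x890098000c004200b400000000) (Net.cons (nat_lit 4) (nat_lit 0x104090808040a0802000400080000) (Net.cons (nat_lit 2)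 (nat_lit 0x30001100202133200100020000) (Net.cons (nat_lit 1) (nat_lit 0x440400500500441011000100010000) Net.nil)))))))))))))

theorem v_a_ok : Net.ok 120 v_a = true := by decide +kernel

noncomputable def v_g490 : Net := (Net.cons (nat_lit 1) (nat_lit 0x450410010004145001005000010400) (Net.cons (nat_lit 2) (nat_lit 0x10010000123023020000020000) (Net.cons (nat_lit 4) (nat_lit 0x90d01040000000a02020200080400) (Net.cons (nat_lit 8) (nat_lit 0x81006a00020026000000000000) (Net.cons (nat_lit 16) (nat_lit 0x44000002400000120000004000) (Net.cons (nat_lit 32) (nat_lit 0x249400000000002000000) (Net.cons (nat_lit 64) (nat_lit 0x16084012004100) (Net.cons (nat_lit 32) (nat_lit 0x4a4940000000000a081202) (Net.cons (nat_lit 16) (nat_lit 0xc4000002600000360000004080) (Net.cons (nat_lit 8) (nat_lit 0x91006a00020026000000000040) (Net.cons (nat_lit 4) (nat_lit 0x90d01040000000a02020200080400) (Net.cons (nat_lit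 2) (nat_lit 0x10010000123023020000020000) (Net.cons (nat_lit 1) (nat_lit 0x550410010004145001005000010400) Net.nil)))))))))))))

theorem v_g490_ok : Net.ok 120 v_g490 = true := by decide +kernel

noncomputable def v_g491 : Net := (Net.cons (nat_lit 1) (nat_lit 0x401000000004051101001000011000) (Net.cons (nat_lit 2) (nat_lit 0x1000000002022021000220020000) (Net.cons (nat_lit 4) (nat_lit 0x801090408000c08020002000a0000) (Net.cons (nat_lit 8) (nat_lit 0x80000800800007003800200000) (Net.cons (nat_lit 16) (nat_lit 0x5000042400000a20100000000) (Net.cons (nat_lit 32) (nat_lit 0x4000000000000002000000) (Net.cons (nat_lit 64) (nat_lit 0x44800012008000) (Net.cons (nat_lit 32) (nat_lit 0x494020000000002a001203) (Net.cons (nat_lit 16) (nat_lit 0x500004e400000a609000000a0) (Net.cons (nat_lit 8) (nat_lit 0x92000800800007003800200000) (Net.cons (nat_lit 4) (nat_lit 0x801090408000c08020002000a0000) (Net.cons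 (nat_lit 2) (nat_lit 0x1000000002022021000220020000) (Net.cons (nat_lit 1) (nat_lit 0x401000000004051101001000011000) Net.nil)))))))))))))

theorem v_g491_ok : Net.ok 120 v_g491 = true := by decide +kernel

noncomputable def vQ : List Net := [v_u, v_a, v_g490, v_g368, v_g259, v_g94, v_g214, v_g491]

theorem vQ_ok : okE 120 vQ = true := (okE_cons.2 ⟨v_u_ok, (okE_cons.2 ⟨v_a_ok, (okE_cons.2 ⟨v_g490_ok, (okE_cons.2 ⟨v_g368_ok, (okE_cons.2 ⟨v_g259_ok, (okE_cons.2 ⟨v_g94_ok, (okE_cons.2 ⟨v_g214_ok, (okE_cons.2 ⟨v_g491_ok, (okE_nil 120)⟩)⟩)⟩)⟩)⟩)⟩)⟩)⟩)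

theorem v_le2 : grp 120 v_V1 ≤ grp 120 vG :=
  grp_le_of_memB v_hn v_hk vG_ok v_V1_ok (ws := [nat_lit 5]) (by decide +kernel)

theorem v_le6 : grp 120 v_V5 ≤ grp 120 vG :=
  grp_le_of_memB v_hn v_hk vG_ok v_V5_ok (ws := [nat_lit 260, nat_lit 0x5010302050203]) (by decide +kernel)

theorem v_le9 : grp 120 v_V8 ≤ grp 120 v_V5 :=
  grp_le_of_memB v_hn v_hk v_V5_ok v_V8_ok (ws := [nat_lit 132097]) (by decide +kernel)

theorem v_le15 : grp 120 v_V14 ≤ grp 120 v_V5 :=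
  grp_le_of_memB v_hn v_hk v_V5_ok v_V14_ok (ws := [nat_lit 0x2030104040401, nat_lit 0x203020303030204010402, nat_lit 0x204020204040103020301, nat_lit 0x204020203020301040401]) (by decide +kernel)

theorem v_le18 : grp 120 v_V17 ≤ grp 120 v_V14 :=
  grp_le_of_memB v_hn v_hk v_V14_ok v_V17_ok (ws := [nat_lit 1, nat_lit 261]) (by decide +kernel)

theorem v_le25 : grp 120 v_V24 ≤ grp 120 v_V14 :=
  grp_le_of_memB v_hn v_hk v_V14_ok v_V24_ok (ws := [nat_lit 0x80505070707040507060202, nat_lit 0x6070408020805050502020603010602, nat_lit 0x401050802070503, nat_lit 0x50105080307050501060602, nat_lit 0x808020501060802]) (by decide +kernel)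

theorem v_le28 : grp 120 v_V27 ≤ grp 120 v_V24 :=
  grp_le_of_memB v_hn v_hk v_V24_ok v_V27_ok (ws := [nat_lit 7, nat_lit 5, nat_lit 775]) (by decide +kernel)

theorem v_le34 : grp 120 v_V33 ≤ grp 120 v_V24 :=
  grp_le_of_memB v_hn v_hk v_V24_ok v_V33_ok (ws := [nat_lit 0x10308040805020309, nat_lit 0xa04050104020204, nat_lit 0x908020603060205020508, nat_lit 0x5030a02020a040a01040904]) (by decide +kernel)

theorem v_le36 : grp 120 v_V35 ≤ grp 120 v_V33 :=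
  grp_le_of_memB v_hn v_hk v_V33_ok v_V35_ok (ws := [nat_lit 3]) (by decide +kernel)

theorem v_le40 : grp 120 v_V39 ≤ grp 120 v_V33 :=
  grp_le_of_memB v_hn v_hk v_V33_ok v_V39_ok (ws := [nat_lit 0x602050505020507, nat_lit 0x2070607030303, nat_lit 0x7060402020404060404]) (by decide +kernel)

theorem v_le42 : grp 120 v_V41 ≤ grp 120 v_V39 :=
  grp_le_of_memB v_hn v_hk v_V39_ok v_V41_ok (ws := [nat_lit 3]) (by decide +kernel)

theorem v_le44 : grp 120 v_V43 ≤ grp 120 v_V39 :=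
  grp_le_of_memB v_hn v_hk v_V39_ok v_V43_ok (ws := [nat_lit 0x20604050106030204, nat_lit 0x10603030601040204]) (by decide +kernel)

theorem v_le46 : grp 120 v_V45 ≤ grp 120 v_V43 :=
  grp_le_of_memB v_hn v_hk v_V43_ok v_V45_ok (ws := [nat_lit 1]) (by decide +kernel)

theorem v_le48 : grp 120 v_V47 ≤ grp 120 v_V43 :=
  grp_le_of_memB v_hn v_hk v_V43_ok v_V47_ok (ws := [nat_lit 66561, nat_lit 66562]) (by decide +kernel)

theorem v_le50 : grp 120 v_V49 ≤ grp 120 v_V47 :=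
  grp_le_of_memB v_hn v_hk v_V47_ok v_V49_ok (ws := [nat_lit 1]) (by decide +kernel)

theorem vo_card8 : Nat.card (grp 120 vo_E8) = 1 :=
  card_grp_nil 120

theorem vo_leO8 : grp 120 vo_E8 ≤ grp 120 vG :=
  grp_nil_le _

theorem vo_7_fix : grp 120 vo_E8 ≤ MulAction.stabilizer (Equiv.Perm (Fin 120)) (⟨14, by decide⟩ : Fin 120) :=
  grp_le_stab vo_E8_ok (by decide : 14 < 120) (by decide +kernel)

noncomputable def vo_7_ts : List ℕ := [nat_lit 0, nat_lit 1]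

noncomputable def vo_7_ds : List ℕ := [nat_lit 14, nat_lit 17]

theorem vo_7_dist : Dist 120 vo_E8 vo_G7 (⟨14, by decide⟩ : Fin 120) vo_7_ts vo_7_ds :=
  dist_of_distB (k := 1) v_hn vo_E8_ok vo_G7_ok (by decide : 14 < 120) (by decide +kernel)

noncomputable def vo_7_sl0 : SL := (SL.cons (nat_lit 1) (nat_lit 17) Ch.nil [] SL.nil)

theorem vo_7_sc0 : SCs 120 vo_E8 vo_G7 (⟨14, by decide⟩ : Fin 120) (SL.words vo_7_sl0) :=
  scs_of_ok v_hn (det_lab v_hk ⊤) vo_E8_ok vo_G7_ok le_top le_top (by decide : 14 < 120) vo_7_fix vo_card8.le (by decide +kernel)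

noncomputable def vo_7_l : List ℕ := (appL (SL.words vo_7_sl0) [])

theorem vo_7_scs : SCs 120 vo_E8 vo_G7 (⟨14, by decide⟩ : Fin 120) vo_7_l :=
  (SCs.append vo_7_sc0 SCs.nil)

noncomputable def vo_7_rl0_0 : RL := (RL.cons (nat_lit 0) (nat_lit 14) (nat_lit 0) (nat_lit 0) (nat_lit 1) (nat_lit 0) (RL.cons (nat_lit 1) (nat_lit 17) (nat_lit 0) (nat_lit 0) (nat_lit 0) (nat_lit 0) RL.nil))

theorem vo_7_good0_0 : GoodSet 120 vo_E8 vo_G7 (⟨14, by decide⟩ : Fin 120) vo_7_ts (nat_lit 1) (RL.pts vo_7_rl0_0) :=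
  goodSet_of_ok v_hn (det_lab v_hk ⊤) vo_E8_ok vo_G7_ok le_top le_top (by decide : 14 < 120) (sepAt_lab v_hk _) (by decide +kernel)

theorem vo_7_step0 : Step 120 vo_E8 vo_G7 vo_7_ts (2 * 0 + 1) :=
  step_of_cover vo_E8_ok vo_7_dist (by decide +kernel) vo_7_scs (by decide +kernel) vo_7_good0_0 (kw := [])
    (conj_mem_of_scs vo_E8_ok vo_G7_ok (by decide : 14 < 120) vo_7_scs (c := 0) (d := 17) (by decide +kernel)) (by decide +kernel)

theorem vo_7_lev : grp 120 vo_G7 ⊓ MulAction.stabilizer (Equiv.Perm (Fin 120)) (⟨14, by decide⟩ : Fin 120) = grp 120 vo_E8 :=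
  sims_level (gs := v_V49) rfl (by decide) vo_7_fix vo_7_dist (forall_lt_one vo_7_step0)

theorem vo_7_cardG : Nat.card (grp 120 vo_G7) = 2 :=
  card_of_level v_hn vo_G7_ok (by decide : 14 < 120) vo_7_lev vo_card8 (m := 2) (by decide +kernel)

theorem v_le51 : grp 120 vo_E7 ≤ grp 120 vo_G7 :=
  grp_le_of_memB v_hn v_hk vo_G7_ok vo_E7_ok (ws := [nat_lit 1]) (by decide +kernel)

theorem v_le52 : grp 120 vo_G7 ≤ grp 120 vo_E7 :=
  grp_le_of_memB v_hn v_hk vo_E7_ok vo_G7_ok (ws := [nat_lit 1]) (by decide +kernel)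

theorem vo_7_eq : grp 120 vo_E7 = grp 120 vo_G7 :=
  le_antisymm v_le51 v_le52

theorem vo_card7 : Nat.card (grp 120 vo_E7) = 2 :=
  by rw [vo_7_eq]; exact vo_7_cardG

theorem vo_stab7 : grp 120 vo_E7 ⊓ MulAction.stabilizer (Equiv.Perm (Fin 120)) (⟨14, by decide⟩ : Fin 120) = grp 120 vo_E8 :=
  by rw [vo_7_eq]; exact vo_7_lev

theorem vo_leO7 : grp 120 vo_E7 ≤ grp 120 vG :=
  vo_7_eq.le.trans (grp_cons_le ((v_le48.trans (v_le44.trans (v_le40.trans (v_le34.trans (v_le25.trans (v_le15.trans (v_le6.trans (le_refl (grp 120 vG))))))))) (v_le50 (toPerm_mem_grp (E := v_V49) (by simp [v_V49])))) vo_leO8)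

theorem vo_6_fix : grp 120 vo_E7 ≤ MulAction.stabilizer (Equiv.Perm (Fin 120)) (⟨3, by decide⟩ : Fin 120) :=
  grp_le_stab vo_E7_ok (by decide : 3 < 120) (by decide +kernel)

noncomputable def vo_6_ts : List ℕ := [nat_lit 0, nat_lit 1]

noncomputable def vo_6_ds : List ℕ := [nat_lit 3, nat_lit 20]

theorem vo_6_dist : Dist 120 vo_E7 vo_G6 (⟨3, by decide⟩ : Fin 120) vo_6_ts vo_6_ds :=
  dist_of_distB (k := 1) v_hn vo_E7_ok vo_G6_ok (by decide : 3 < 120) (by decide +kernel)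

noncomputable def vo_6_sl0 : SL := (SL.cons (nat_lit 1) (nat_lit 20) (Ch.cons (nat_lit 14) [nat_lit 1] Ch.nil) [nat_lit 1] SL.nil)

theorem vo_6_sc0 : SCs 120 vo_E7 vo_G6 (⟨3, by decide⟩ : Fin 120) (SL.words vo_6_sl0) :=
  scs_of_ok v_hn (det_lab v_hk ⊤) vo_E7_ok vo_G6_ok le_top le_top (by decide : 3 < 120) vo_6_fix vo_card7.le (by decide +kernel)

noncomputable def vo_6_l : List ℕ := (appL (SL.words vo_6_sl0) [])

theorem vo_6_scs : SCs 120 vo_E7 vo_G6 (⟨3, by decide⟩ : Fin 120) vo_6_l :=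
  (SCs.append vo_6_sc0 SCs.nil)

noncomputable def vo_6_rl0_0 : RL := (RL.cons (nat_lit 0) (nat_lit 3) (nat_lit 0) (nat_lit 0) (nat_lit 1) (nat_lit 0) (RL.cons (nat_lit 1) (nat_lit 20) (nat_lit 0) (nat_lit 0) (nat_lit 0) (nat_lit 0) RL.nil))

theorem vo_6_good0_0 : GoodSet 120 vo_E7 vo_G6 (⟨3, by decide⟩ : Fin 120) vo_6_ts (nat_lit 1) (RL.pts vo_6_rl0_0) :=
  goodSet_of_ok v_hn (det_lab v_hk ⊤) vo_E7_ok vo_G6_ok le_top le_top (by decide : 3 < 120) (sepAt_lab v_hk _) (by decide +kernel)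

theorem vo_6_step0 : Step 120 vo_E7 vo_G6 vo_6_ts (2 * 0 + 1) :=
  step_of_cover vo_E7_ok vo_6_dist (by decide +kernel) vo_6_scs (by decide +kernel) vo_6_good0_0 (kw := [nat_lit 1])
    (conj_mem_of_scs vo_E7_ok vo_G6_ok (by decide : 3 < 120) vo_6_scs (c := 0) (d := 20) (by decide +kernel)) (by decide +kernel)

theorem vo_6_lev : grp 120 vo_G6 ⊓ MulAction.stabilizer (Equiv.Perm (Fin 120)) (⟨3, by decide⟩ : Fin 120) = grp 120 vo_E7 :=
  sims_level (gs := v_V45) rfl (by decide) vo_6_fix vo_6_dist (forall_lt_one vo_6_step0)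

theorem vo_6_cardG : Nat.card (grp 120 vo_G6) = 4 :=
  card_of_level v_hn vo_G6_ok (by decide : 3 < 120) vo_6_lev vo_card7 (m := 2) (by decide +kernel)

theorem v_le53 : grp 120 vo_E6 ≤ grp 120 vo_G6 :=
  grp_le_of_memB v_hn v_hk vo_G6_ok vo_E6_ok (ws := [nat_lit 1, nat_lit 3]) (by decide +kernel)

theorem v_le54 : grp 120 vo_G6 ≤ grp 120 vo_E6 :=
  grp_le_of_memB v_hn v_hk vo_E6_ok vo_G6_ok (ws := [nat_lit 1, nat_lit 3]) (by decide +kernel)

theorem vo_6_eq : grp 120 vo_E6 = grp 120 vo_G6 :=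
  le_antisymm v_le53 v_le54

theorem vo_card6 : Nat.card (grp 120 vo_E6) = 4 :=
  by rw [vo_6_eq]; exact vo_6_cardG

theorem vo_stab6 : grp 120 vo_E6 ⊓ MulAction.stabilizer (Equiv.Perm (Fin 120)) (⟨3, by decide⟩ : Fin 120) = grp 120 vo_E7 :=
  by rw [vo_6_eq]; exact vo_6_lev

theorem vo_leO6 : grp 120 vo_E6 ≤ grp 120 vG :=
  vo_6_eq.le.trans (grp_cons_le ((v_le44.trans (v_le40.trans (v_le34.trans (v_le25.trans (v_le15.trans (v_le6.trans (le_refl (grp 120 vG)))))))) (v_le46 (toPerm_mem_grp (E := v_V45) (by simp [v_V45])))) vo_leO7)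

theorem vo_5_fix : grp 120 vo_E6 ≤ MulAction.stabilizer (Equiv.Perm (Fin 120)) (⟨2, by decide⟩ : Fin 120) :=
  grp_le_stab vo_E6_ok (by decide : 2 < 120) (by decide +kernel)

noncomputable def vo_5_ts : List ℕ := [nat_lit 0, nat_lit 1]

noncomputable def vo_5_ds : List ℕ := [nat_lit 2, nat_lit 84]

theorem vo_5_dist : Dist 120 vo_E6 vo_G5 (⟨2, by decide⟩ : Fin 120) vo_5_ts vo_5_ds :=
  dist_of_distB (k := 1) v_hn vo_E6_ok vo_G5_ok (by decide : 2 < 120) (by decide +kernel)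

noncomputable def vo_5_sl0 : SL := (SL.cons (nat_lit 1) (nat_lit 84) (Ch.cons (nat_lit 3) [nat_lit 1] (Ch.cons (nat_lit 14) [nat_lit 3] Ch.nil)) [nat_lit 1, nat_lit 3] SL.nil)

theorem vo_5_sc0 : SCs 120 vo_E6 vo_G5 (⟨2, by decide⟩ : Fin 120) (SL.words vo_5_sl0) :=
  scs_of_ok v_hn (det_lab v_hk ⊤) vo_E6_ok vo_G5_ok le_top le_top (by decide : 2 < 120) vo_5_fix vo_card6.le (by decide +kernel)

noncomputable def vo_5_l : List ℕ := (appL (SL.words vo_5_sl0) [])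

theorem vo_5_scs : SCs 120 vo_E6 vo_G5 (⟨2, by decide⟩ : Fin 120) vo_5_l :=
  (SCs.append vo_5_sc0 SCs.nil)

noncomputable def vo_5_rl0_0 : RL := (RL.cons (nat_lit 0) (nat_lit 2) (nat_lit 0) (nat_lit 0) (nat_lit 1) (nat_lit 0) (RL.cons (nat_lit 1) (nat_lit 84) (nat_lit 0) (nat_lit 0) (nat_lit 0) (nat_lit 0) RL.nil))

theorem vo_5_good0_0 : GoodSet 120 vo_E6 vo_G5 (⟨2, by decide⟩ : Fin 120) vo_5_ts (nat_lit 1) (RL.pts vo_5_rl0_0) :=
  goodSet_of_ok v_hn (det_lab v_hk ⊤) vo_E6_ok vo_G5_ok le_top le_top (by decide : 2 < 120) (sepAt_lab v_hk _) (by decide +kernel)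

theorem vo_5_step0 : Step 120 vo_E6 vo_G5 vo_5_ts (2 * 0 + 1) :=
  step_of_cover vo_E6_ok vo_5_dist (by decide +kernel) vo_5_scs (by decide +kernel) vo_5_good0_0 (kw := [nat_lit 1, nat_lit 3])
    (conj_mem_of_scs vo_E6_ok vo_G5_ok (by decide : 2 < 120) vo_5_scs (c := 0) (d := 84) (by decide +kernel)) (by decide +kernel)

theorem vo_5_lev : grp 120 vo_G5 ⊓ MulAction.stabilizer (Equiv.Perm (Fin 120)) (⟨2, by decide⟩ : Fin 120) = grp 120 vo_E6 :=
  sims_level (gs := v_V41) rfl (by decide) vo_5_fix vo_5_dist (forall_lt_one vo_5_step0)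

theorem vo_5_cardG : Nat.card (grp 120 vo_G5) = 8 :=
  card_of_level v_hn vo_G5_ok (by decide : 2 < 120) vo_5_lev vo_card6 (m := 2) (by decide +kernel)

theorem v_le55 : grp 120 vo_E5 ≤ grp 120 vo_G5 :=
  grp_le_of_memB v_hn v_hk vo_G5_ok vo_E5_ok (ws := [nat_lit 1, nat_lit 328449, nat_lit 3, nat_lit 5]) (by decide +kernel)

theorem v_le56 : grp 120 vo_G5 ≤ grp 120 vo_E5 :=
  grp_le_of_memB v_hn v_hk vo_E5_ok vo_G5_ok (ws := [nat_lit 1, nat_lit 5, nat_lit 7]) (by decide +kernel)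

theorem vo_5_eq : grp 120 vo_E5 = grp 120 vo_G5 :=
  le_antisymm v_le55 v_le56

theorem vo_card5 : Nat.card (grp 120 vo_E5) = 8 :=
  by rw [vo_5_eq]; exact vo_5_cardG

theorem vo_stab5 : grp 120 vo_E5 ⊓ MulAction.stabilizer (Equiv.Perm (Fin 120)) (⟨2, by decide⟩ : Fin 120) = grp 120 vo_E6 :=
  by rw [vo_5_eq]; exact vo_5_lev

theorem vo_leO5 : grp 120 vo_E5 ≤ grp 120 vG :=
  vo_5_eq.le.trans (grp_cons_le ((v_le40.trans (v_le34.trans (v_le25.trans (v_le15.trans (v_le6.trans (le_refl (grp 120 vG))))))) (v_le42 (toPerm_mem_grp (E := v_V41) (by simp [v_V41])))) vo_leO6)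

theorem vo_4_fix : grp 120 vo_E5 ≤ MulAction.stabilizer (Equiv.Perm (Fin 120)) (⟨64, by decide⟩ : Fin 120) :=
  grp_le_stab vo_E5_ok (by decide : 64 < 120) (by decide +kernel)

noncomputable def vo_4_ts : List ℕ := [nat_lit 0, nat_lit 1]

noncomputable def vo_4_ds : List ℕ := [nat_lit 64, nat_lit 15]

theorem vo_4_dist : Dist 120 vo_E5 vo_G4 (⟨64, by decide⟩ : Fin 120) vo_4_ts vo_4_ds :=
  dist_of_distB (k := 1) v_hn vo_E5_ok vo_G4_ok (by decide : 64 < 120) (by decide +kernel)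

noncomputable def vo_4_sl0 : SL := (SL.cons (nat_lit 1) (nat_lit 15) (Ch.cons (nat_lit 2) [nat_lit 1] (Ch.cons (nat_lit 3) [nat_lit 5] (Ch.cons (nat_lit 14) [nat_lit 7] Ch.nil))) [nat_lit 1, nat_lit 5, nat_lit 7] SL.nil)

theorem vo_4_sc0 : SCs 120 vo_E5 vo_G4 (⟨64, by decide⟩ : Fin 120) (SL.words vo_4_sl0) :=
  scs_of_ok v_hn (det_lab v_hk ⊤) vo_E5_ok vo_G4_ok le_top le_top (by decide : 64 < 120) vo_4_fix vo_card5.le (by decide +kernel)

noncomputable def vo_4_l : List ℕ := (appL (SL.words vo_4_sl0) [])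

theorem vo_4_scs : SCs 120 vo_E5 vo_G4 (⟨64, by decide⟩ : Fin 120) vo_4_l :=
  (SCs.append vo_4_sc0 SCs.nil)

noncomputable def vo_4_rl0_0 : RL := (RL.cons (nat_lit 0) (nat_lit 64) (nat_lit 0) (nat_lit 0) (nat_lit 1) (nat_lit 0) (RL.cons (nat_lit 1) (nat_lit 15) (nat_lit 0) (nat_lit 0) (nat_lit 0) (nat_lit 0) RL.nil))

theorem vo_4_good0_0 : GoodSet 120 vo_E5 vo_G4 (⟨64, by decide⟩ : Fin 120) vo_4_ts (nat_lit 1) (RL.pts vo_4_rl0_0) :=
  goodSet_of_ok v_hn (det_lab v_hk ⊤) vo_E5_ok vo_G4_ok le_top le_top (by decide : 64 < 120) (sepAt_lab v_hk _) (by decide +kernel)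

theorem vo_4_step0 : Step 120 vo_E5 vo_G4 vo_4_ts (2 * 0 + 1) :=
  step_of_cover vo_E5_ok vo_4_dist (by decide +kernel) vo_4_scs (by decide +kernel) vo_4_good0_0 (kw := [nat_lit 1, nat_lit 5, nat_lit 7])
    (conj_mem_of_scs vo_E5_ok vo_G4_ok (by decide : 64 < 120) vo_4_scs (c := 0) (d := 15) (by decide +kernel)) (by decide +kernel)

theorem vo_4_lev : grp 120 vo_G4 ⊓ MulAction.stabilizer (Equiv.Perm (Fin 120)) (⟨64, by decide⟩ : Fin 120) = grp 120 vo_E5 :=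
  sims_level (gs := v_V35) rfl (by decide) vo_4_fix vo_4_dist (forall_lt_one vo_4_step0)

theorem vo_4_cardG : Nat.card (grp 120 vo_G4) = 16 :=
  card_of_level v_hn vo_G4_ok (by decide : 64 < 120) vo_4_lev vo_card5 (m := 2) (by decide +kernel)

theorem v_le57 : grp 120 vo_E4 ≤ grp 120 vo_G4 :=
  grp_le_of_memB v_hn v_hk vo_G4_ok vo_E4_ok (ws := [nat_lit 1, nat_lit 459521, nat_lit 0x9070301, nat_lit 3, nat_lit 5, nat_lit 7, nat_lit 9]) (by decide +kernel)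

theorem v_le58 : grp 120 vo_G4 ≤ grp 120 vo_E4 :=
  grp_le_of_memB v_hn v_hk vo_E4_ok vo_G4_ok (ws := [nat_lit 1, nat_lit 7, nat_lit 9, nat_lit 11, nat_lit 13]) (by decide +kernel)

theorem vo_4_eq : grp 120 vo_E4 = grp 120 vo_G4 :=
  le_antisymm v_le57 v_le58

theorem vo_card4 : Nat.card (grp 120 vo_E4) = 16 :=
  by rw [vo_4_eq]; exact vo_4_cardG

theorem vo_stab4 : grp 120 vo_E4 ⊓ MulAction.stabilizer (Equiv.Perm (Fin 120)) (⟨64, by decide⟩ : Fin 120) = grp 120 vo_E5 :=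
  by rw [vo_4_eq]; exact vo_4_lev

theorem vo_leO4 : grp 120 vo_E4 ≤ grp 120 vG :=
  vo_4_eq.le.trans (grp_cons_le ((v_le34.trans (v_le25.trans (v_le15.trans (v_le6.trans (le_refl (grp 120 vG)))))) (v_le36 (toPerm_mem_grp (E := v_V35) (by simp [v_V35])))) vo_leO5)

theorem vo_3_fix : grp 120 vo_E4 ≤ MulAction.stabilizer (Equiv.Perm (Fin 120)) (⟨1, by decide⟩ : Fin 120) :=
  grp_le_stab vo_E4_ok (by decide : 1 < 120) (by decide +kernel)

noncomputable def vo_3_ts : List ℕ := [nat_lit 0, nat_lit 1, nat_lit 3, nat_lit 5, nat_lit 259, nat_lit 261]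

noncomputable def vo_3_ds : List ℕ := [nat_lit 1, nat_lit 12, nat_lit 36, nat_lit 64, nat_lit 63, nat_lit 29]

theorem vo_3_dist : Dist 120 vo_E4 vo_G3 (⟨1, by decide⟩ : Fin 120) vo_3_ts vo_3_ds :=
  dist_of_distB (k := 3) v_hn vo_E4_ok vo_G3_ok (by decide : 1 < 120) (by decide +kernel)

noncomputable def vo_3_sl0 : SL := (SL.cons (nat_lit 1) (nat_lit 12) (Ch.cons (nat_lit 2) [nat_lit 1] (Ch.cons (nat_lit 3) [nat_lit 11] (Ch.cons (nat_lit 4) [nat_lit 722689] (Ch.cons (nat_lit 14) [nat_lit 13] Ch.nil)))) [nat_lit 854785, nat_lit 11, nat_lit 853761, nat_lit 13] (SL.cons (nat_lit 3) (nat_lit 36) (Ch.cons (nat_lit 2) [nat_lit 1] (Ch.cons (nat_lit 3) [nat_lit 11] (Ch.cons (nat_lit 4) [nat_lit 722689] (Ch.cons (nat_lit 14) [nat_lit 13] Ch.nil)))) [nat_lit 1, nat_lit 11, nat_lit 722689, nat_lit 13] (SL.cons (nat_lit 5) (nat_lit 64) (Ch.cons (nat_lit 2) [nat_lit 7, nat_lit 9] (Ch.cons (nat_lit 3)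 [nat_lit 11] (Ch.cons (nat_lit 14) [nat_lit 13] Ch.nil))) [nat_lit 7, nat_lit 854791, nat_lit 11, nat_lit 13] (SL.cons (nat_lit 259) (nat_lit 63) (Ch.cons (nat_lit 2) [nat_lit 1] (Ch.cons (nat_lit 3) [nat_lit 11] (Ch.cons (nat_lit 4) [nat_lit 722689] (Ch.cons (nat_lit 14) [nat_lit 13] Ch.nil)))) [nat_lit 854785, nat_lit 11, nat_lit 853761, nat_lit 13] (SL.cons (nat_lit 261) (nat_lit 29) (Ch.cons (nat_lit 2) [nat_lit 7] (Ch.cons (nat_lit 3) [nat_lit 11] (Ch.cons (nat_lit 14) [nat_lit 13] Ch.nil))) [nat_lit 7, nat_lit 11, nat_lit 13] SL.nil)))))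

theorem vo_3_sc0 : SCs 120 vo_E4 vo_G3 (⟨1, by decide⟩ : Fin 120) (SL.words vo_3_sl0) :=
  scs_of_ok v_hn (det_lab v_hk ⊤) vo_E4_ok vo_G3_ok le_top le_top (by decide : 1 < 120) vo_3_fix vo_card4.le (by decide +kernel)

noncomputable def vo_3_l : List ℕ := (appL (SL.words vo_3_sl0) [])

theorem vo_3_scs : SCs 120 vo_E4 vo_G3 (⟨1, by decide⟩ : Fin 120) vo_3_l :=
  (SCs.append vo_3_sc0 SCs.nil)

noncomputable def vo_3_rl0_0 : RL := (RL.cons (nat_lit 0) (nat_lit 1) (nat_lit 0) (nat_lit 0) (nat_lit 1) (nat_lit 3339) (RL.cons (nat_lit 1) (nat_lit 12) (nat_lit 0) (nat_lit 0) (nat_lit 0) (nat_lit 0) (RL.cons (nat_lit 2) (nat_lit 36) (nat_lit 0) (nat_lit 0) (nat_lit 4) (nat_lit 3339) (RL.cons (nat_lit 3) (nat_lit 64) (nat_lit 0) (nat_lit 0) (nat_lit 5) (nat_lit 0) (RL.cons (nat_lit 4) (nat_lit 63) (nat_lit 0) (nat_lit 0) (nat_lit 2) (nat_lit 0) (RL.cons (nat_lit 5) (nat_lit 29) (nat_lit 0) (nat_lit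 0) (nat_lit 3) (nat_lit 3339) RL.nil))))))

theorem vo_3_good0_0 : GoodSet 120 vo_E4 vo_G3 (⟨1, by decide⟩ : Fin 120) vo_3_ts (nat_lit 1) (RL.pts vo_3_rl0_0) :=
  goodSet_of_ok v_hn (det_lab v_hk ⊤) vo_E4_ok vo_G3_ok le_top le_top (by decide : 1 < 120) (sepAt_lab v_hk _) (by decide +kernel)

theorem vo_3_step0 : Step 120 vo_E4 vo_G3 vo_3_ts (2 * 0 + 1) :=
  step_of_cover vo_E4_ok vo_3_dist (by decide +kernel) vo_3_scs (by decide +kernel) vo_3_good0_0 (kw := [nat_lit 1, nat_lit 11, nat_lit 722689, nat_lit 13])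
    (conj_mem_of_scs vo_E4_ok vo_G3_ok (by decide : 1 < 120) vo_3_scs (c := 0) (d := 12) (by decide +kernel)) (by decide +kernel)

noncomputable def vo_3_rl1_0 : RL := (RL.cons (nat_lit 0) (nat_lit 1) (nat_lit 0) (nat_lit 0) (nat_lit 2) (nat_lit 0) (RL.cons (nat_lit 1) (nat_lit 12) (nat_lit 0) (nat_lit 0) (nat_lit 4) (nat_lit 0) (RL.cons (nat_lit 2) (nat_lit 36) (nat_lit 0) (nat_lit 0) (nat_lit 0) (nat_lit 0) (RL.cons (nat_lit 3) (nat_lit 64) (nat_lit 0) (nat_lit 1) (nat_lit 3) (nat_lit 722689) (RL.cons (nat_lit 4) (nat_lit 63) (nat_lit 0) (nat_lit 0) (nat_lit 1) (nat_lit 0) (RL.cons (nat_lit 5) (nat_lit 29) (nat_lit 0) (nat_lit 1) (nat_lit 5) (nat_lit 853761) RL.nil))))))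

theorem vo_3_good1_0 : GoodSet 120 vo_E4 vo_G3 (⟨1, by decide⟩ : Fin 120) vo_3_ts (nat_lit 3) (RL.pts vo_3_rl1_0) :=
  goodSet_of_ok v_hn (det_lab v_hk ⊤) vo_E4_ok vo_G3_ok le_top le_top (by decide : 1 < 120) (sepAt_lab v_hk _) (by decide +kernel)

theorem vo_3_step1 : Step 120 vo_E4 vo_G3 vo_3_ts (2 * 1 + 1) :=
  step_of_cover vo_E4_ok vo_3_dist (by decide +kernel) vo_3_scs (by decide +kernel) vo_3_good1_0 (kw := [nat_lit 1, nat_lit 11, nat_lit 722689, nat_lit 13])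
    (conj_mem_of_scs vo_E4_ok vo_G3_ok (by decide : 1 < 120) vo_3_scs (c := 1) (d := 36) (by decide +kernel)) (by decide +kernel)

noncomputable def vo_3_rl2_0 : RL := (RL.cons (nat_lit 0) (nat_lit 1) (nat_lit 0) (nat_lit 0) (nat_lit 3) (nat_lit 0) (RL.cons (nat_lit 1) (nat_lit 12) (nat_lit 0) (nat_lit 0) (nat_lit 5) (nat_lit 0) (RL.cons (nat_lit 2) (nat_lit 36) (nat_lit 0) (nat_lit 1) (nat_lit 3) (nat_lit 722689) (RL.cons (nat_lit 3) (nat_lit 64) (nat_lit 0) (nat_lit 0) (nat_lit 0) (nat_lit 0) (RL.cons (nat_lit 3) (nat_lit 15) (nat_lit 1) (nat_lit 0) (nat_lit 2) (nat_lit 722689) (RL.cons (nat_lit 4) (nat_lit 63) (nat_lit 0) (nat_lit 1) (nat_lit 5) (nat_lit 853761) (RL.cons (nat_lit 5) (nat_lit 29) (nat_lit 0) (nat_lit 0) (nat_lit 1) (nat_lit 0) (RL.cons (nat_lit 5) (nat_lit 85) (nat_lit 1) (nat_lit 0) (nat_lit 4) (nat_lit 853761) RL.nil))))))))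

theorem vo_3_good2_0 : GoodSet 120 vo_E4 vo_G3 (⟨1, by decide⟩ : Fin 120) vo_3_ts (nat_lit 5) (RL.pts vo_3_rl2_0) :=
  goodSet_of_ok v_hn (det_lab v_hk ⊤) vo_E4_ok vo_G3_ok le_top le_top (by decide : 1 < 120) (sepAt_lab v_hk _) (by decide +kernel)

theorem vo_3_step2 : Step 120 vo_E4 vo_G3 vo_3_ts (2 * 2 + 1) :=
  step_of_cover vo_E4_ok vo_3_dist (by decide +kernel) vo_3_scs (by decide +kernel) vo_3_good2_0 (kw := [nat_lit 7, nat_lit 9, nat_lit 11, nat_lit 13])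
    (conj_mem_of_scs vo_E4_ok vo_G3_ok (by decide : 1 < 120) vo_3_scs (c := 2) (d := 64) (by decide +kernel)) (by decide +kernel)

theorem vo_3_lev : grp 120 vo_G3 ⊓ MulAction.stabilizer (Equiv.Perm (Fin 120)) (⟨1, by decide⟩ : Fin 120) = grp 120 vo_E4 :=
  sims_level (gs := v_V27) rfl (by decide) vo_3_fix vo_3_dist (forall_lt_succ' (forall_lt_succ' (forall_lt_one vo_3_step0) vo_3_step1) vo_3_step2)

theorem vo_3_cardG : Nat.card (grp 120 vo_G3) = 128 :=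
  card_of_level v_hn vo_G3_ok (by decide : 1 < 120) vo_3_lev vo_card4 (m := 8) (by decide +kernel)

theorem v_le59 : grp 120 vo_E3 ≤ grp 120 vo_G3 :=
  grp_le_of_memB v_hn v_hk vo_G3_ok vo_E3_ok (ws := [nat_lit 1, nat_lit 3, nat_lit 5, nat_lit 4359, nat_lit 261, nat_lit 0x11010305, nat_lit 7, nat_lit 9, nat_lit 11, nat_lit 13, nat_lit 15, nat_lit 17, nat_lit 19]) (by decide +kernel)

theorem v_le60 : grp 120 vo_G3 ≤ grp 120 vo_E3 :=
  grp_le_of_memB v_hn v_hk vo_E3_ok vo_G3_ok (ws := [nat_lit 1, nat_lit 3, nat_lit 5, nat_lit 13, nat_lit 15, nat_lit 17, nat_lit 19, nat_lit 21, nat_lit 23, nat_lit 25]) (by decide +kernel)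

theorem vo_3_eq : grp 120 vo_E3 = grp 120 vo_G3 :=
  le_antisymm v_le59 v_le60

theorem vo_card3 : Nat.card (grp 120 vo_E3) = 128 :=
  by rw [vo_3_eq]; exact vo_3_cardG

theorem vo_stab3 : grp 120 vo_E3 ⊓ MulAction.stabilizer (Equiv.Perm (Fin 120)) (⟨1, by decide⟩ : Fin 120) = grp 120 vo_E4 :=
  by rw [vo_3_eq]; exact vo_3_lev

theorem vo_leO3 : grp 120 vo_E3 ≤ grp 120 vG :=
  vo_3_eq.le.trans (grp_cons_le ((v_le25.trans (v_le15.trans (v_le6.trans (le_refl (grp 120 vG))))) (v_le28 (toPerm_mem_grp (E := v_V27) (by simp [v_V27])))) (grp_cons_le ((v_le25.trans (v_le15.trans (v_le6.trans (le_refl (grp 120 vG))))) (v_le28 (toPerm_mem_grp (E := v_V27) (by simp [v_V27])))) (grp_cons_le ((v_le25.trans (v_le15.trans (v_le6.trans (le_refl (grp 120 vG))))) (v_le28 (toPerm_mem_grp (E := v_V27) (by simp [v_V27])))) vo_leO4)))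

theorem vo_2_fix : grp 120 vo_E3 ≤ MulAction.stabilizer (Equiv.Perm (Fin 120)) (⟨8, by decide⟩ : Fin 120) :=
  grp_le_stab vo_E3_ok (by decide : 8 < 120) (by decide +kernel)

noncomputable def vo_2_ts : List ℕ := [nat_lit 0, nat_lit 1, nat_lit 3, nat_lit 259]

noncomputable def vo_2_ds : List ℕ := [nat_lit 8, nat_lit 21, nat_lit 102, nat_lit 47]

theorem vo_2_dist : Dist 120 vo_E3 vo_G2 (⟨8, by decide⟩ : Fin 120) vo_2_ts vo_2_ds :=
  dist_of_distB (k := 2) v_hn vo_E3_ok vo_G2_ok (by decide : 8 < 120) (by decide +kernel)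

noncomputable def vo_2_sl0 : SL := (SL.cons (nat_lit 1) (nat_lit 21) (Ch.cons (nat_lit 1) [nat_lit 3337, nat_lit 0x13010b] (Ch.cons (nat_lit 2) [nat_lit 19] (Ch.cons (nat_lit 3) [nat_lit 23] (Ch.cons (nat_lit 4) [nat_lit 0x17130d] (Ch.cons (nat_lit 14) [nat_lit 25] Ch.nil))))) [nat_lit 259, nat_lit 0x1713010b, nat_lit 6419, nat_lit 4867, nat_lit 0x170d03, nat_lit 25] (SL.cons (nat_lit 3) (nat_lit 102) (Ch.cons (nat_lit 1) [nat_lit 0x19170d03, nat_lit 0x190d05, nat_lit 1] (Ch.cons (nat_lit 2) [nat_lit 19] (Ch.cons (nat_lit 3) [nat_lit 23] (Ch.cons (nat_lit 4) [nat_lit 0x17130d] (Ch.cons (nat_lit 14) [nat_lit 25] Ch.nil))))) [nat_lit 3331, nat_lit 3333, nat_lit 4865, nat_lit 19, nat_lit 23, nat_lit 0x19130d, nat_lit 25] (SL.cons (nat_lit 259) (nat_lit 47) (Ch.cons (nat_lit 1) [nat_lit 5897, nat_lit 0x170d01] (Ch.cons (nat_lit 2) [nat_lit 19] (Ch.cons (nat_lit 3) [nat_lit 23] (Ch.cons (nat_lit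 4) [nat_lit 0x17130d] (Ch.cons (nat_lit 14) [nat_lit 25] Ch.nil))))) [nat_lit 0x17130d0103, nat_lit 9, nat_lit 6419, nat_lit 4867, nat_lit 0x1917130d, nat_lit 25] SL.nil)))

theorem vo_2_sc0 : SCs 120 vo_E3 vo_G2 (⟨8, by decide⟩ : Fin 120) (SL.words vo_2_sl0) :=
  scs_of_ok v_hn (det_lab v_hk ⊤) vo_E3_ok vo_G2_ok le_top le_top (by decide : 8 < 120) vo_2_fix vo_card3.le (by decide +kernel)

noncomputable def vo_2_l : List ℕ := (appL (SL.words vo_2_sl0) [])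

theorem vo_2_scs : SCs 120 vo_E3 vo_G2 (⟨8, by decide⟩ : Fin 120) vo_2_l :=
  (SCs.append vo_2_sc0 SCs.nil)

noncomputable def vo_2_rl0_0 : RL := (RL.cons (nat_lit 0) (nat_lit 8) (nat_lit 0) (nat_lit 0) (nat_lit 1) (nat_lit 0x190d010b) (RL.cons (nat_lit 1) (nat_lit 21) (nat_lit 0) (nat_lit 0) (nat_lit 0) (nat_lit 0) (RL.cons (nat_lit 2) (nat_lit 102) (nat_lit 0) (nat_lit 0) (nat_lit 3) (nat_lit 6403) (RL.cons (nat_lit 3) (nat_lit 47) (nat_lit 0) (nat_lit 0) (nat_lit 2) (nat_lit 3333) RL.nil))))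

theorem vo_2_good0_0 : GoodSet 120 vo_E3 vo_G2 (⟨8, by decide⟩ : Fin 120) vo_2_ts (nat_lit 1) (RL.pts vo_2_rl0_0) :=
  goodSet_of_ok v_hn (det_lab v_hk ⊤) vo_E3_ok vo_G2_ok le_top le_top (by decide : 8 < 120) (sepAt_lab v_hk _) (by decide +kernel)

theorem vo_2_step0 : Step 120 vo_E3 vo_G2 vo_2_ts (2 * 0 + 1) :=
  step_of_cover vo_E3_ok vo_2_dist (by decide +kernel) vo_2_scs (by decide +kernel) vo_2_good0_0 (kw := [nat_lit 3337, nat_lit 0x13010b, nat_lit 19, nat_lit 23, nat_lit 0x17130d, nat_lit 25])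
    (conj_mem_of_scs vo_E3_ok vo_G2_ok (by decide : 8 < 120) vo_2_scs (c := 0) (d := 21) (by decide +kernel)) (by decide +kernel)

noncomputable def vo_2_rl1_0 : RL := (RL.cons (nat_lit 0) (nat_lit 8) (nat_lit 0) (nat_lit 0) (nat_lit 2) (nat_lit 0x191713) (RL.cons (nat_lit 1) (nat_lit 21) (nat_lit 0) (nat_lit 0) (nat_lit 3) (nat_lit 3) (RL.cons (nat_lit 2) (nat_lit 102) (nat_lit 0) (nat_lit 0) (nat_lit 0) (nat_lit 0) (RL.cons (nat_lit 3) (nat_lit 47) (nat_lit 0) (nat_lit 0) (nat_lit 1) (nat_lit 0) RL.nil))))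

theorem vo_2_good1_0 : GoodSet 120 vo_E3 vo_G2 (⟨8, by decide⟩ : Fin 120) vo_2_ts (nat_lit 3) (RL.pts vo_2_rl1_0) :=
  goodSet_of_ok v_hn (det_lab v_hk ⊤) vo_E3_ok vo_G2_ok le_top le_top (by decide : 8 < 120) (sepAt_lab v_hk _) (by decide +kernel)

theorem vo_2_step1 : Step 120 vo_E3 vo_G2 vo_2_ts (2 * 1 + 1) :=
  step_of_cover vo_E3_ok vo_2_dist (by decide +kernel) vo_2_scs (by decide +kernel) vo_2_good1_0 (kw := [nat_lit 0x19170d03, nat_lit 0x190d05, nat_lit 1, nat_lit 19, nat_lit 23, nat_lit 0x17130d, nat_lit 25])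
    (conj_mem_of_scs vo_E3_ok vo_G2_ok (by decide : 8 < 120) vo_2_scs (c := 1) (d := 102) (by decide +kernel)) (by decide +kernel)

theorem vo_2_lev : grp 120 vo_G2 ⊓ MulAction.stabilizer (Equiv.Perm (Fin 120)) (⟨8, by decide⟩ : Fin 120) = grp 120 vo_E3 :=
  sims_level (gs := v_V17) rfl (by decide) vo_2_fix vo_2_dist (forall_lt_succ' (forall_lt_one vo_2_step0) vo_2_step1)

theorem vo_2_cardG : Nat.card (grp 120 vo_G2) = 512 :=
  card_of_level v_hn vo_G2_ok (by decide : 8 < 120) vo_2_lev vo_card3 (m := 4) (by decide +kernel)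

theorem v_le61 : grp 120 vo_E2 ≤ grp 120 vo_G2 :=
  grp_le_of_memB v_hn v_hk vo_G2_ok vo_E2_ok (ws := [nat_lit 1, nat_lit 3, nat_lit 0x110d01, nat_lit 0x1d11050f0103, nat_lit 0x1d11050701, nat_lit 5, nat_lit 7, nat_lit 9, nat_lit 11, nat_lit 13, nat_lit 15, nat_lit 17, nat_lit 19, nat_lit 21, nat_lit 23, nat_lit 25, nat_lit 27, nat_lit 29]) (by decide +kernel)

theorem v_le62 : grp 120 vo_G2 ≤ grp 120 vo_E2 :=
  grp_le_of_memB v_hn v_hk vo_E2_ok vo_G2_ok (ws := [nat_lit 1, nat_lit 3, nat_lit 11, nat_lit 13, nat_lit 15, nat_lit 17, nat_lit 19, nat_lit 21, nat_lit 23, nat_lit 25, nat_lit 27, nat_lit 29, nat_lit 31, nat_lit 33, nat_lit 35]) (by decide +kernel)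

theorem vo_2_eq : grp 120 vo_E2 = grp 120 vo_G2 :=
  le_antisymm v_le61 v_le62

theorem vo_card2 : Nat.card (grp 120 vo_E2) = 512 :=
  by rw [vo_2_eq]; exact vo_2_cardG

theorem vo_stab2 : grp 120 vo_E2 ⊓ MulAction.stabilizer (Equiv.Perm (Fin 120)) (⟨8, by decide⟩ : Fin 120) = grp 120 vo_E3 :=
  by rw [vo_2_eq]; exact vo_2_lev

theorem vo_leO2 : grp 120 vo_E2 ≤ grp 120 vG :=
  vo_2_eq.le.trans (grp_cons_le ((v_le15.trans (v_le6.trans (le_refl (grp 120 vG)))) (v_le18 (toPerm_mem_grp (E := v_V17) (by simp [v_V17])))) (grp_cons_le ((v_le15.trans (v_le6.trans (le_refl (grp 120 vG)))) (v_le18 (toPerm_mem_grp (E := v_V17) (by simp [v_V17])))) vo_leO3))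

theorem vo_1_fix : grp 120 vo_E2 ≤ MulAction.stabilizer (Equiv.Perm (Fin 120)) (⟨96, by decide⟩ : Fin 120) :=
  grp_le_stab vo_E2_ok (by decide : 96 < 120) (by decide +kernel)

noncomputable def vo_1_ts : List ℕ := [nat_lit 0, nat_lit 1, nat_lit 257, nat_lit 65793, nat_lit 66305]

noncomputable def vo_1_ds : List ℕ := [nat_lit 96, nat_lit 39, nat_lit 11, nat_lit 102, nat_lit 104]

theorem vo_1_dist : Dist 120 vo_E2 vo_G1 (⟨96, by decide⟩ : Fin 120) vo_1_ts vo_1_ds :=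
  dist_of_distB (k := 3) v_hn vo_E2_ok vo_G1_ok (by decide : 96 < 120) (by decide +kernel)

noncomputable def vo_1_sl0 : SL := (SL.cons (nat_lit 1) (nat_lit 39) (Ch.cons (nat_lit 1) [nat_lit 0x23210f07, nat_lit 0x23170d] (Ch.cons (nat_lit 2) [nat_lit 8989] (Ch.cons (nat_lit 4) [nat_lit 0x211d17] (Ch.cons (nat_lit 7) [nat_lit 0x1d0b0d03] (Ch.cons (nat_lit 14) [nat_lit 35] Ch.nil))))) [nat_lit 0x210b01, nat_lit 0x21170d, nat_lit 0x23211d170b03, nat_lit 0x211d0b03, nat_lit 724227, nat_lit 35] (SL.cons (nat_lit 257) (nat_lit 11) (Ch.cons (nat_lit 1) [nat_lit 8461] (Ch.cons (nat_lit 2) [nat_lit 23] (Ch.cons (nat_lit 4) [nat_lit 0x211d17] (Ch.cons (nat_lit 7) [nat_lit 0x1d0b0d03] (Ch.cons (nat_lit 14) [nat_lit 35] Ch.nil))))) [nat_lit 8461, nat_lit 8471, nat_lit 0x23210b03, nat_lit 0x211d170d, nat_lit 35] (SL.cons (nat_lit 65793) (nat_lit 102) (Ch.cons (nat_lit 1) [nat_lit 7439, nat_lit 0x23170b0d]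 (Ch.cons (nat_lit 2) [nat_lit 29] (Ch.cons (nat_lit 3) [nat_lit 33] (Ch.cons (nat_lit 4) [nat_lit 0x211d17] (Ch.cons (nat_lit 14) [nat_lit 35] Ch.nil))))) [nat_lit 0x231d15, nat_lit 0x21170b0d, nat_lit 8477, nat_lit 33, nat_lit 7447, nat_lit 35] (SL.cons (nat_lit 66305) (nat_lit 104) (Ch.cons (nat_lit 1) [nat_lit 0x171507, nat_lit 21] (Ch.cons (nat_lit 2) [nat_lit 29] (Ch.cons (nat_lit 3) [nat_lit 7447] (Ch.cons (nat_lit 4) [nat_lit 0x211d17] (Ch.cons (nat_lit 7) [nat_lit 0x1d0b0d03] (Ch.cons (nat_lit 14) [nat_lit 35] Ch.nil)))))) [nat_lit 0x231d0f01, nat_lit 0x1d170b0d, nat_lit 8989, nat_lit 5901, nat_lit 7447, nat_lit 0x230b0d03, nat_lit 35] SL.nil))))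

theorem vo_1_sc0 : SCs 120 vo_E2 vo_G1 (⟨96, by decide⟩ : Fin 120) (SL.words vo_1_sl0) :=
  scs_of_ok v_hn (det_lab v_hk ⊤) vo_E2_ok vo_G1_ok le_top le_top (by decide : 96 < 120) vo_1_fix vo_card2.le (by decide +kernel)

noncomputable def vo_1_l : List ℕ := (appL (SL.words vo_1_sl0) [])

theorem vo_1_scs : SCs 120 vo_E2 vo_G1 (⟨96, by decide⟩ : Fin 120) vo_1_l :=
  (SCs.append vo_1_sc0 SCs.nil)

noncomputable def vo_1_rl0_0 : RL := (RL.cons (nat_lit 0) (nat_lit 96) (nat_lit 0) (nat_lit 4) (nat_lit 1) (nat_lit 0x23211d03) (RL.cons (nat_lit 1) (nat_lit 39) (nat_lit 0) (nat_lit 0) (nat_lit 0) (nat_lit 0) (RL.cons (nat_lit 1) (nat_lit 58) (nat_lit 1) (nat_lit 3) (nat_lit 2) (nat_lit 0x170b01) (RL.cons (nat_lit 1) (nat_lit 97) (nat_lit 7) (nat_lit 2) (nat_lit 1) (nat_lit 0x231d171501) (RL.cons (nat_lit 1) (nat_lit 105) (nat_lit 9) (nat_lit 19) (nat_lit 1) (nat_lit 0x1d0b15) (RL.cons (nat_lit 1)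 (nat_lit 89) (nat_lit 13) (nat_lit 0) (nat_lit 4) (nat_lit 0x23211d170b07) (RL.cons (nat_lit 2) (nat_lit 11) (nat_lit 0) (nat_lit 0) (nat_lit 1) (nat_lit 0) (RL.cons (nat_lit 2) (nat_lit 33) (nat_lit 1) (nat_lit 15) (nat_lit 2) (nat_lit 0x1d1713) (RL.cons (nat_lit 2) (nat_lit 53) (nat_lit 2) (nat_lit 1) (nat_lit 3) (nat_lit 0x23170b0d03) (RL.cons (nat_lit 2) (nat_lit 25) (nat_lit 7) (nat_lit 2) (nat_lit 2) (nat_lit 0x21170d07) (RL.cons (nat_lit 3) (nat_lit 102) (nat_lit 0) (nat_lit 0) (nat_lit 2) (nat_lit 0) (RL.cons (nat_lit 4) (nat_lit 104) (nat_lit 0) (nat_lit 1) (nat_lit 1) (nat_lit 0) RL.nil))))))))))))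

theorem vo_1_good0_0 : GoodSet 120 vo_E2 vo_G1 (⟨96, by decide⟩ : Fin 120) vo_1_ts (nat_lit 1) (RL.pts vo_1_rl0_0) :=
  goodSet_of_ok v_hn (det_lab v_hk ⊤) vo_E2_ok vo_G1_ok le_top le_top (by decide : 96 < 120) (sepAt_lab v_hk _) (by decide +kernel)

theorem vo_1_step0 : Step 120 vo_E2 vo_G1 vo_1_ts (2 * 0 + 1) :=
  step_of_cover vo_E2_ok vo_1_dist (by decide +kernel) vo_1_scs (by decide +kernel) vo_1_good0_0 (kw := [nat_lit 0x23210f07, nat_lit 0x23170d, nat_lit 8989, nat_lit 0x211d17, nat_lit 0x1d0b0d03, nat_lit 35])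
    (conj_mem_of_scs vo_E2_ok vo_G1_ok (by decide : 96 < 120) vo_1_scs (c := 0) (d := 39) (by decide +kernel)) (by decide +kernel)

theorem vo_1_lev : grp 120 vo_G1 ⊓ MulAction.stabilizer (Equiv.Perm (Fin 120)) (⟨96, by decide⟩ : Fin 120) = grp 120 vo_E2 :=
  sims_level (gs := v_V8) rfl (by decide) vo_1_fix vo_1_dist (forall_lt_one vo_1_step0)

theorem vo_1_cardG : Nat.card (grp 120 vo_G1) = 15360 :=
  card_of_level v_hn vo_G1_ok (by decide : 96 < 120) vo_1_lev vo_card2 (m := 30) (by decide +kernel)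

theorem v_le63 : grp 120 vo_E1 ≤ grp 120 vo_G1 :=
  grp_le_of_memB v_hn v_hk vo_G1_ok vo_E1_ok (ws := [nat_lit 1, nat_lit 0x231f150901010f, nat_lit 0x1f0f090109, nat_lit 3, nat_lit 5, nat_lit 7, nat_lit 9, nat_lit 11, nat_lit 13, nat_lit 15, nat_lit 17, nat_lit 19, nat_lit 21, nat_lit 23, nat_lit 25, nat_lit 27, nat_lit 29, nat_lit 31, nat_lit 33, nat_lit 35, nat_lit 37]) (by decide +kernel)

theorem v_le64 : grp 120 vo_G1 ≤ grp 120 vo_E1 :=
  grp_le_of_memB v_hn v_hk vo_E1_ok vo_G1_ok (ws := [nat_lit 1, nat_lit 7, nat_lit 9, nat_lit 11, nat_lit 13, nat_lit 15, nat_lit 17, nat_lit 19, nat_lit 21, nat_lit 23, nat_lit 25, nat_lit 27, nat_lit 29, nat_lit 31, nat_lit 33, nat_lit 35, nat_lit 37, nat_lit 39, nat_lit 41]) (by decide +kernel)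

theorem vo_1_eq : grp 120 vo_E1 = grp 120 vo_G1 :=
  le_antisymm v_le63 v_le64

theorem vo_card1 : Nat.card (grp 120 vo_E1) = 15360 :=
  by rw [vo_1_eq]; exact vo_1_cardG

theorem vo_stab1 : grp 120 vo_E1 ⊓ MulAction.stabilizer (Equiv.Perm (Fin 120)) (⟨96, by decide⟩ : Fin 120) = grp 120 vo_E2 :=
  by rw [vo_1_eq]; exact vo_1_lev

theorem vo_leO1 : grp 120 vo_E1 ≤ grp 120 vG :=
  vo_1_eq.le.trans (grp_cons_le ((v_le6.trans (le_refl (grp 120 vG))) (v_le9 (toPerm_mem_grp (E := v_V8) (by simp [v_V8])))) vo_leO2)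

theorem vo_0_fix : grp 120 vo_E1 ≤ MulAction.stabilizer (Equiv.Perm (Fin 120)) (⟨0, by decide⟩ : Fin 120) :=
  grp_le_stab vo_E1_ok (by decide : 0 < 120) (by decide +kernel)

noncomputable def vo_0_ts : List ℕ := [nat_lit 0, nat_lit 1, nat_lit 66305, nat_lit 66817, nat_lit 0x1040701]

noncomputable def vo_0_ds : List ℕ := [nat_lit 0, nat_lit 96, nat_lit 73, nat_lit 17, nat_lit 57]

theorem vo_0_dist : Dist 120 vo_E1 vo_G0 (⟨0, by decide⟩ : Fin 120) vo_0_ts vo_0_ds :=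
  dist_of_distB (k := 3) v_hn vo_E1_ok vo_G0_ok (by decide : 0 < 120) (by decide +kernel)

noncomputable def vo_0_sl0 : SL := (SL.cons (nat_lit 1) (nat_lit 96) (Ch.cons (nat_lit 8) [nat_lit 7, nat_lit 9, nat_lit 11, nat_lit 13, nat_lit 15] (Ch.cons (nat_lit 1) [nat_lit 17, nat_lit 19, nat_lit 21, nat_lit 23, nat_lit 25, nat_lit 27] (Ch.cons (nat_lit 64) [nat_lit 29, nat_lit 31, nat_lit 33] (Ch.cons (nat_lit 2) [nat_lit 35, nat_lit 37] (Ch.cons (nat_lit 3) [nat_lit 39] (Ch.cons (nat_lit 14) [nat_lit 41] Ch.nil)))))) [nat_lit 0x231507, nat_lit 0x2927231d09, nat_lit 0x291d111307, nat_lit 0x29231d111b0d, nat_lit 0x1d1907, nat_lit 0x29231113, nat_lit 10531, nat_lit 0x292715, nat_lit 0x2927231d13, nat_lit 8987, nat_lit 0x29272319, nat_lit 0x29271d, nat_lit 7443, nat_lit 0x2927231d, nat_lit 0x292723, nat_lit 35, nat_lit 8979, nat_lit 0x29272313] (SL.cons (nat_lit 66305) (nat_lit 73) (Ch.cons (nat_lit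 7) [nat_lit 0x231101, nat_lit 0x231113090104] (Ch.cons (nat_lit 1) [nat_lit 7443] (Ch.cons (nat_lit 2) [nat_lit 10019] (Ch.cons (nat_lit 4) [nat_lit 0x23150205] (Ch.cons (nat_lit 5) [nat_lit 0x27231d1b090205] (Ch.cons (nat_lit 14) [nat_lit 41] Ch.nil)))))) [nat_lit 0x271d111b0906, nat_lit 0x2927130108, nat_lit 0x271d1109, nat_lit 10515, nat_lit 0x1d150205, nat_lit 0x23150205, nat_lit 0x111309] (SL.cons (nat_lit 66817) (nat_lit 17) (Ch.cons (nat_lit 1) [nat_lit 0x29190703] (Ch.cons (nat_lit 2) [nat_lit 10019] (Ch.cons (nat_lit 3) [nat_lit 39] (Ch.cons (nat_lit 4) [nat_lit 0x291b090205] (Ch.cons (nat_lit 5) [nat_lit 0x271d150205] (Ch.cons (nat_lit 7) [nat_lit 0x23111309] Ch.nil)))))) [nat_lit 0x271d150d04, nat_lit 10515, nat_lit 0x111309, nat_lit 0x231d150205, nat_lit 0x23150205, nat_lit 0x2923111309] (SL.cons (nat_lit 0x1040701) (nat_lit 57) (Ch.cons (nat_lit 14) [nat_lit 0x1d190108, nat_lit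 0x27231d1b0d030b] (Ch.cons (nat_lit 1) [nat_lit 0x271b0703] (Ch.cons (nat_lit 2) [nat_lit 10525] (Ch.cons (nat_lit 3) [nat_lit 39] (Ch.cons (nat_lit 4) [nat_lit 0x2927231d] (Ch.cons (nat_lit 5) [nat_lit 0x271d150205] (Ch.cons (nat_lit 7) [nat_lit 0x23111309] Ch.nil))))))) [nat_lit 0x292723111b0d02, nat_lit 0x11130d030d, nat_lit 0x2311070315, nat_lit 0x2927231d13, nat_lit 39, nat_lit 0x291d13, nat_lit 0x231d150205, nat_lit 0x2923111309] SL.nil))))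

theorem vo_0_sc0 : SCs 120 vo_E1 vo_G0 (⟨0, by decide⟩ : Fin 120) (SL.words vo_0_sl0) :=
  scs_of_ok v_hn (det_lab v_hk ⊤) vo_E1_ok vo_G0_ok le_top le_top (by decide : 0 < 120) vo_0_fix vo_card1.le (by decide +kernel)

noncomputable def vo_0_l : List ℕ := (appL (SL.words vo_0_sl0) [])

theorem vo_0_scs : SCs 120 vo_E1 vo_G0 (⟨0, by decide⟩ : Fin 120) vo_0_l :=
  (SCs.append vo_0_sc0 SCs.nil)

noncomputable def vo_0_rl0_0 : RL := (RL.cons (nat_lit 0) (nat_lit 0) (nat_lit 0) (nat_lit 0) (nat_lit 1) (nat_lit 0) (RL.cons (nat_lit 1) (nat_lit 96) (nat_lit 0) (nat_lit 0) (nat_lit 0) (nat_lit 0) (RL.cons (nat_lit 1) (nat_lit 39) (nat_lit 1) (nat_lit 0) (nat_lit 2) (nat_lit 0) (RL.cons (nat_lit 1) (nat_lit 6) (nat_lit 3) (nat_lit 0) (nat_lit 3) (nat_lit 0) (RL.cons (nat_lit 1) (nat_lit 102) (nat_lit 515) (nat_lit 771) (nat_lit 1) (nat_lit 0x231d0204) (RL.cons (nat_lit 1) (nat_lit 104) (nat_lit 517)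 (nat_lit 0) (nat_lit 4) (nat_lit 0) (RL.cons (nat_lit 2) (nat_lit 73) (nat_lit 0) (nat_lit 1) (nat_lit 1) (nat_lit 0) (RL.cons (nat_lit 2) (nat_lit 59) (nat_lit 1) (nat_lit 265) (nat_lit 2) (nat_lit 0x2927231d110d0113) (RL.cons (nat_lit 2) (nat_lit 3) (nat_lit 257) (nat_lit 521) (nat_lit 3) (nat_lit 0x271d111b070106) (RL.cons (nat_lit 2) (nat_lit 92) (nat_lit 262) (nat_lit 5377) (nat_lit 2) (nat_lit 0x29231113070104) (RL.cons (nat_lit 3) (nat_lit 17) (nat_lit 0) (nat_lit 3) (nat_lit 1) (nat_lit 0) (RL.cons (nat_lit 3) (nat_lit 41) (nat_lit 1) (nat_lit 1284) (nat_lit 3) (nat_lit 0x27231d1b0905) (RL.cons (nat_lit 3) (nat_lit 69) (nat_lit 2) (nat_lit 1028) (nat_lit 2) (nat_lit 0x292723110d0402) (RL.cons (nat_lit 4) (nat_lit 57) (nat_lit 0) (nat_lit 517) (nat_lit 1) (nat_lit 0) RL.nil))))))))))))))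

theorem vo_0_good0_0 : GoodSet 120 vo_E1 vo_G0 (⟨0, by decide⟩ : Fin 120) vo_0_ts (nat_lit 1) (RL.pts vo_0_rl0_0) :=
  goodSet_of_ok v_hn (det_lab v_hk ⊤) vo_E1_ok vo_G0_ok le_top le_top (by decide : 0 < 120) (sepAt_lab v_hk _) (by decide +kernel)

theorem vo_0_step0 : Step 120 vo_E1 vo_G0 vo_0_ts (2 * 0 + 1) :=
  step_of_cover vo_E1_ok vo_0_dist (by decide +kernel) vo_0_scs (by decide +kernel) vo_0_good0_0 (kw := [nat_lit 7, nat_lit 9, nat_lit 11, nat_lit 13, nat_lit 15, nat_lit 17, nat_lit 19, nat_lit 21, nat_lit 23, nat_lit 25, nat_lit 27, nat_lit 29, nat_lit 31, nat_lit 33, nat_lit 35, nat_lit 37, nat_lit 39, nat_lit 41])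
    (conj_mem_of_scs vo_E1_ok vo_G0_ok (by decide : 0 < 120) vo_0_scs (c := 0) (d := 96) (by decide +kernel)) (by decide +kernel)

theorem vo_0_lev : grp 120 vo_G0 ⊓ MulAction.stabilizer (Equiv.Perm (Fin 120)) (⟨0, by decide⟩ : Fin 120) = grp 120 vo_E1 :=
  sims_level (gs := v_V1) rfl (by decide) vo_0_fix vo_0_dist (forall_lt_one vo_0_step0)

theorem vo_0_cardG : Nat.card (grp 120 vo_G0) = 1843200 :=
  card_of_level v_hn vo_G0_ok (by decide : 0 < 120) vo_0_lev vo_card1 (m := 120) (by decide +kernel)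

theorem v_le65 : grp 120 vo_E0 ≤ grp 120 vo_G0 :=
  grp_le_of_memB v_hn v_hk vo_G0_ok vo_E0_ok (ws := [nat_lit 1, nat_lit 0x1f131505, nat_lit 0x291f0308, nat_lit 3, nat_lit 5, nat_lit 7, nat_lit 9, nat_lit 11, nat_lit 13, nat_lit 15, nat_lit 17, nat_lit 19, nat_lit 21, nat_lit 23, nat_lit 25, nat_lit 27, nat_lit 29, nat_lit 31, nat_lit 33, nat_lit 35, nat_lit 37, nat_lit 39, nat_lit 41, nat_lit 43]) (by decide +kernel)

theorem v_le66 : grp 120 vo_G0 ≤ grp 120 vo_E0 :=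
  grp_le_of_memB v_hn v_hk vo_E0_ok vo_G0_ok (ws := [nat_lit 1, nat_lit 7, nat_lit 9, nat_lit 11, nat_lit 13, nat_lit 15, nat_lit 17, nat_lit 19, nat_lit 21, nat_lit 23, nat_lit 25, nat_lit 27, nat_lit 29, nat_lit 31, nat_lit 33, nat_lit 35, nat_lit 37, nat_lit 39, nat_lit 41, nat_lit 43, nat_lit 45, nat_lit 47]) (by decide +kernel)

theorem vo_0_eq : grp 120 vo_E0 = grp 120 vo_G0 :=
  le_antisymm v_le65 v_le66

theorem vo_card0 : Nat.card (grp 120 vo_E0) = 1843200 :=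
  by rw [vo_0_eq]; exact vo_0_cardG

theorem vo_stab0 : grp 120 vo_E0 ⊓ MulAction.stabilizer (Equiv.Perm (Fin 120)) (⟨0, by decide⟩ : Fin 120) = grp 120 vo_E1 :=
  by rw [vo_0_eq]; exact vo_0_lev

theorem vo_leO0 : grp 120 vo_E0 ≤ grp 120 vG :=
  vo_0_eq.le.trans (grp_cons_le ((le_refl (grp 120 vG)) (v_le2 (toPerm_mem_grp (E := v_V1) (by simp [v_V1])))) vo_leO1)

theorem v_le67 : grp 120 vG ≤ grp 120 vo_E0 :=
  grp_le_of_memB v_hn v_hk vo_E0_ok vG_ok (ws := [nat_lit 3, nat_lit 5, nat_lit 1]) (by decide +kernel)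

theorem vo_eq : grp 120 vG = grp 120 vo_E0 :=
  le_antisymm v_le67 vo_leO0

theorem vo_card : Nat.card (grp 120 vG) = 1843200 :=
  by rw [vo_eq]; exact vo_card0

noncomputable def vo_ch : Ch := (Ch.cons (nat_lit 0) [nat_lit 1, nat_lit 3, nat_lit 5] (Ch.cons (nat_lit 96) [nat_lit 7, nat_lit 9, nat_lit 11] (Ch.cons (nat_lit 8) [nat_lit 13, nat_lit 15, nat_lit 17, nat_lit 19, nat_lit 21] (Ch.cons (nat_lit 1) [nat_lit 23, nat_lit 25, nat_lit 27, nat_lit 29, nat_lit 31, nat_lit 33] (Ch.cons (nat_lit 64) [nat_lit 35, nat_lit 37, nat_lit 39] (Ch.cons (nat_lit 2) [nat_lit 41, nat_lit 43] (Ch.cons (nat_lit 3) [nat_lit 45] (Ch.cons (nat_lit 14) [nat_lit 47] Ch.nil))))))))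

theorem vo_exact : Ch.Exact 120 vo_E0 vo_ch (grp 120 vo_E0) :=
  Ch.exact (k := 7) (L := (lab 120 7)) v_hn vo_E0_ok (by decide +kernel) (wgrp_le_grp _ _ _) vo_card0.le

theorem vT_s0 : Stab 120 (grp 120 vG) [] vo_E0 1843200 :=
  Stab.root' vo_E0_ok vo_eq vo_card

theorem v_le76 : grp 120 vt_c1_K ≤ grp 120 vo_E0 :=
  grp_le_of_memB v_hn v_hk vo_E0_ok vt_c1_K_ok (ws := [nat_lit 0x2f2d231713090e, nat_lit 0x2f2d17210f0a0801080b01, nat_lit 0x2f2d292317190f080b01080b01, nat_lit 0x291f0f080b, nat_lit 0x2d2923210f080b, nat_lit 0x2d29231721080b, nat_lit 0x2f2923210f01080b01, nat_lit 0x2d172101080b01]) (by decide +kernel)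

theorem vt_c1_le : grp 120 vt_c1_K ≤ (grp 120 vG) :=
  (v_le76.trans vT_s0.le)

theorem vt_c1_mem : Net.toPerm 120 v_u ∈ (grp 120 vG) :=
  vt_c1_le (mem_grp_of_memB v_hn v_hk vt_c1_K_ok v_u_ok (w := (nat_lit 0x903010301)) (by decide +kernel))

theorem vt_c1_sym : Sym 120 (grp 120 vG) [v_u] vt_c1_K 0 :=
  Sym.of_lab v_hn v_hk (okE_cons.2 ⟨v_u_ok, okE_nil _⟩) vt_c1_K_ok vt_c1_le (kT := 0) (by decide +kernel)

theorem vT_s1 : Stab 120 (grp 120 vG) [nat_lit 0] v_V77 15360 :=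
  Stab.step (k := 7) (L := (lab 120 7)) v_hn vT_s0 v_V77_ok (grp_mono (List.subset_append_right [v_b, v_p0, v_p1] _)) (c := (Ch.cons (nat_lit 96) [nat_lit 1, nat_lit 3, nat_lit 5] (Ch.cons (nat_lit 8) [nat_lit 7, nat_lit 9, nat_lit 11, nat_lit 13, nat_lit 15] (Ch.cons (nat_lit 1) [nat_lit 17, nat_lit 19, nat_lit 21, nat_lit 23, nat_lit 25, nat_lit 27] (Ch.cons (nat_lit 64) [nat_lit 29, nat_lit 31, nat_lit 33] (Ch.cons (nat_lit 2) [nat_lit 35, nat_lit 37] (Ch.cons (nat_lit 3) [nat_lit 39] (Ch.cons (nat_lit 14) [nat_lit 41] Ch.nil)))))))) (by decide +kernel)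

theorem vT_s2 : Stab 120 (grp 120 vG) [nat_lit 96, nat_lit 0] v_V78 512 :=
  Stab.step (k := 7) (L := (lab 120 7)) v_hn vT_s1 v_V78_ok (grp_mono (List.subset_append_right [v_g7, v_g3, v_g4] _)) (c := (Ch.cons (nat_lit 8) [nat_lit 1, nat_lit 3, nat_lit 5, nat_lit 7, nat_lit 9] (Ch.cons (nat_lit 1) [nat_lit 11, nat_lit 13, nat_lit 15, nat_lit 17, nat_lit 19, nat_lit 21] (Ch.cons (nat_lit 64) [nat_lit 23, nat_lit 25, nat_lit 27] (Ch.cons (nat_lit 2) [nat_lit 29, nat_lit 31] (Ch.cons (nat_lit 3) [nat_lit 33] (Ch.cons (nat_lit 14) [nat_lit 35] Ch.nil))))))) (by decide +kernel)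

theorem v_le83 : grp 120 v_V82 ≤ grp 120 v_V78 :=
  grp_le_of_memB v_hn v_hk v_V78_ok v_V82_ok (ws := [nat_lit 0x230b0d03, nat_lit 0x211d0d, nat_lit 8471, nat_lit 29, nat_lit 0x211d170d]) (by decide +kernel)

theorem vT_s3 : Stab 120 (grp 120 vG) [nat_lit 61, nat_lit 96, nat_lit 0] v_V82 32 :=
  Stab.step (k := 7) (L := (lab 120 7)) v_hn vT_s2 v_V82_ok v_le83 (c := (Ch.cons (nat_lit 110) [nat_lit 1] (Ch.cons (nat_lit 3) [nat_lit 3] (Ch.cons (nat_lit 58) [nat_lit 5] (Ch.cons (nat_lit 16) [nat_lit 7] (Ch.cons (nat_lit 48) [nat_lit 9] Ch.nil)))))) (by decide +kernel)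

theorem vT_s4 : Stab 120 (grp 120 vG) [nat_lit 110, nat_lit 61, nat_lit 96, nat_lit 0] v_V84 16 :=
  Stab.step (k := 7) (L := (lab 120 7)) v_hn vT_s3 v_V84_ok (grp_mono (List.subset_append_right [v_g79] _)) (c := (Ch.cons (nat_lit 3) [nat_lit 1] (Ch.cons (nat_lit 58) [nat_lit 3] (Ch.cons (nat_lit 16) [nat_lit 5] (Ch.cons (nat_lit 48) [nat_lit 7] Ch.nil))))) (by decide +kernel)

theorem vT_s5 : Stab 120 (grp 120 vG) [nat_lit 3, nat_lit 110, nat_lit 61, nat_lit 96, nat_lit 0] v_V85 8 :=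
  Stab.step (k := 7) (L := (lab 120 7)) v_hn vT_s4 v_V85_ok (grp_mono (List.subset_append_right [v_g80] _)) (c := (Ch.cons (nat_lit 58) [nat_lit 1] (Ch.cons (nat_lit 16) [nat_lit 3] (Ch.cons (nat_lit 48) [nat_lit 5] Ch.nil)))) (by decide +kernel)

theorem vT_s6 : Stab 120 (grp 120 vG) [nat_lit 58, nat_lit 3, nat_lit 110, nat_lit 61, nat_lit 96, nat_lit 0] v_V86 4 :=
  Stab.step (k := 7) (L := (lab 120 7)) v_hn vT_s5 v_V86_ok (grp_mono (List.subset_append_right [v_g19] _)) (c := (Ch.cons (nat_lit 16) [nat_lit 1] (Ch.cons (nat_lit 48) [nat_lit 3] Ch.nil))) (by decide +kernel)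

theorem vT_s7 : Stab 120 (grp 120 vG) [nat_lit 16, nat_lit 58, nat_lit 3, nat_lit 110, nat_lit 61, nat_lit 96, nat_lit 0] v_V87 2 :=
  Stab.step (k := 7) (L := (lab 120 7)) v_hn vT_s6 v_V87_ok (grp_mono (List.subset_append_right [v_g37] _)) (c := (Ch.cons (nat_lit 48) [nat_lit 1] Ch.nil)) (by decide +kernel)

theorem vT_s8 : Stab 120 (grp 120 vG) [nat_lit 48, nat_lit 16, nat_lit 58, nat_lit 3, nat_lit 110, nat_lit 61, nat_lit 96, nat_lit 0] v_V88 1 :=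
  Stab.step (k := 7) (L := (lab 120 7)) v_hn vT_s7 v_V88_ok (grp_mono (List.subset_append_right [v_g81] _)) (c := Ch.nil) (by decide +kernel)

theorem v_b_vT : Net.toPerm 120 v_b ∈ (grp 120 vG) :=
  vT_s0.le (toPerm_mem_grp (E := vo_E0) (List.Mem.head _))

theorem v_p0_vT : Net.toPerm 120 v_p0 ∈ (grp 120 vG) :=
  vT_s0.le (toPerm_mem_grp (E := vo_E0) (List.Mem.tail _ (List.Mem.head _)))

theorem v_p1_vT : Net.toPerm 120 v_p1 ∈ (grp 120 vG) :=
  vT_s0.le (toPerm_mem_grp (E := vo_E0) (List.Mem.tail _ (List.Mem.tail _ (List.Mem.head _))))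

theorem v_g7_vT : Net.toPerm 120 v_g7 ∈ (grp 120 vG) :=
  vT_s0.le (toPerm_mem_grp (E := vo_E0) (List.Mem.tail _ (List.Mem.tail _ (List.Mem.tail _ (List.Mem.head _)))))

theorem v_g3_vT : Net.toPerm 120 v_g3 ∈ (grp 120 vG) :=
  vT_s0.le (toPerm_mem_grp (E := vo_E0) (List.Mem.tail _ (List.Mem.tail _ (List.Mem.tail _ (List.Mem.tail _ (List.Mem.head _))))))

theorem v_g4_vT : Net.toPerm 120 v_g4 ∈ (grp 120 vG) :=
  vT_s0.le (toPerm_mem_grp (E := vo_E0) (List.Mem.tail _ (List.Mem.tail _ (List.Mem.tail _ (List.Mem.tail _ (List.Mem.tail _ (List.Mem.head _)))))))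

theorem v_g10_vT : Net.toPerm 120 v_g10 ∈ (grp 120 vG) :=
  vT_s0.le (toPerm_mem_grp (E := vo_E0) (List.Mem.tail _ (List.Mem.tail _ (List.Mem.tail _ (List.Mem.tail _ (List.Mem.tail _ (List.Mem.tail _ (List.Mem.head _))))))))

theorem v_g16_vT : Net.toPerm 120 v_g16 ∈ (grp 120 vG) :=
  vT_s0.le (toPerm_mem_grp (E := vo_E0) (List.Mem.tail _ (List.Mem.tail _ (List.Mem.tail _ (List.Mem.tail _ (List.Mem.tail _ (List.Mem.tail _ (List.Mem.tail _ (List.Mem.head _)))))))))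

theorem v_g11_vT : Net.toPerm 120 v_g11 ∈ (grp 120 vG) :=
  vT_s0.le (toPerm_mem_grp (E := vo_E0) (List.Mem.tail _ (List.Mem.tail _ (List.Mem.tail _ (List.Mem.tail _ (List.Mem.tail _ (List.Mem.tail _ (List.Mem.tail _ (List.Mem.tail _ (List.Mem.head _))))))))))

theorem v_g12_vT : Net.toPerm 120 v_g12 ∈ (grp 120 vG) :=
  vT_s0.le (toPerm_mem_grp (E := vo_E0) (List.Mem.tail _ (List.Mem.tail _ (List.Mem.tail _ (List.Mem.tail _ (List.Mem.tail _ (List.Mem.tail _ (List.Mem.tail _ (List.Mem.tail _ (List.Mem.tail _ (List.Mem.head _)))))))))))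

theorem v_g13_vT : Net.toPerm 120 v_g13 ∈ (grp 120 vG) :=
  vT_s0.le (toPerm_mem_grp (E := vo_E0) (List.Mem.tail _ (List.Mem.tail _ (List.Mem.tail _ (List.Mem.tail _ (List.Mem.tail _ (List.Mem.tail _ (List.Mem.tail _ (List.Mem.tail _ (List.Mem.tail _ (List.Mem.tail _ (List.Mem.head _))))))))))))

theorem v_g22_vT : Net.toPerm 120 v_g22 ∈ (grp 120 vG) :=
  vT_s0.le (toPerm_mem_grp (E := vo_E0) (List.Mem.tail _ (List.Mem.tail _ (List.Mem.tail _ (List.Mem.tail _ (List.Mem.tail _ (List.Mem.tail _ (List.Mem.tail _ (List.Mem.tail _ (List.Mem.tail _ (List.Mem.tail _ (List.Mem.tail _ (List.Mem.head _)))))))))))))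

theorem v_g21_vT : Net.toPerm 120 v_g21 ∈ (grp 120 vG) :=
  vT_s0.le (toPerm_mem_grp (E := vo_E0) (List.Mem.tail _ (List.Mem.tail _ (List.Mem.tail _ (List.Mem.tail _ (List.Mem.tail _ (List.Mem.tail _ (List.Mem.tail _ (List.Mem.tail _ (List.Mem.tail _ (List.Mem.tail _ (List.Mem.tail _ (List.Mem.tail _ (List.Mem.head _))))))))))))))

theorem v_g26_vT : Net.toPerm 120 v_g26 ∈ (grp 120 vG) :=
  vT_s0.le (toPerm_mem_grp (E := vo_E0) (List.Mem.tail _ (List.Mem.tail _ (List.Mem.tail _ (List.Mem.tail _ (List.Mem.tail _ (List.Mem.tail _ (List.Mem.tail _ (List.Mem.tail _ (List.Mem.tail _ (List.Mem.tail _ (List.Mem.tail _ (List.Mem.tail _ (List.Mem.tail _ (List.Mem.head _)))))))))))))))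

theorem v_g19_vT : Net.toPerm 120 v_g19 ∈ (grp 120 vG) :=
  vT_s0.le (toPerm_mem_grp (E := vo_E0) (List.Mem.tail _ (List.Mem.tail _ (List.Mem.tail _ (List.Mem.tail _ (List.Mem.tail _ (List.Mem.tail _ (List.Mem.tail _ (List.Mem.tail _ (List.Mem.tail _ (List.Mem.tail _ (List.Mem.tail _ (List.Mem.tail _ (List.Mem.tail _ (List.Mem.tail _ (List.Mem.head _))))))))))))))))

theorem v_g20_vT : Net.toPerm 120 v_g20 ∈ (grp 120 vG) :=
  vT_s0.le (toPerm_mem_grp (E := vo_E0) (List.Mem.tail _ (List.Mem.tail _ (List.Mem.tail _ (List.Mem.tail _ (List.Mem.tail _ (List.Mem.tail _ (List.Mem.tail _ (List.Mem.tail _ (List.Mem.tail _ (List.Mem.tail _ (List.Mem.tail _ (List.Mem.tail _ (List.Mem.tail _ (List.Mem.tail _ (List.Mem.tail _ (List.Mem.head _)))))))))))))))))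

theorem v_g23_vT : Net.toPerm 120 v_g23 ∈ (grp 120 vG) :=
  vT_s0.le (toPerm_mem_grp (E := vo_E0) (List.Mem.tail _ (List.Mem.tail _ (List.Mem.tail _ (List.Mem.tail _ (List.Mem.tail _ (List.Mem.tail _ (List.Mem.tail _ (List.Mem.tail _ (List.Mem.tail _ (List.Mem.tail _ (List.Mem.tail _ (List.Mem.tail _ (List.Mem.tail _ (List.Mem.tail _ (List.Mem.tail _ (List.Mem.tail _ (List.Mem.head _))))))))))))))))))

theorem v_g30_vT : Net.toPerm 120 v_g30 ∈ (grp 120 vG) :=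
  vT_s0.le (toPerm_mem_grp (E := vo_E0) (List.Mem.tail _ (List.Mem.tail _ (List.Mem.tail _ (List.Mem.tail _ (List.Mem.tail _ (List.Mem.tail _ (List.Mem.tail _ (List.Mem.tail _ (List.Mem.tail _ (List.Mem.tail _ (List.Mem.tail _ (List.Mem.tail _ (List.Mem.tail _ (List.Mem.tail _ (List.Mem.tail _ (List.Mem.tail _ (List.Mem.tail _ (List.Mem.head _)))))))))))))))))))

theorem v_g31_vT : Net.toPerm 120 v_g31 ∈ (grp 120 vG) :=
  vT_s0.le (toPerm_mem_grp (E := vo_E0) (List.Mem.tail _ (List.Mem.tail _ (List.Mem.tail _ (List.Mem.tail _ (List.Mem.tail _ (List.Mem.tail _ (List.Mem.tail _ (List.Mem.tail _ (List.Mem.tail _ (List.Mem.tail _ (List.Mem.tail _ (List.Mem.tail _ (List.Mem.tail _ (List.Mem.tail _ (List.Mem.tail _ (List.Mem.tail _ (List.Mem.tail _ (List.Mem.tail _ (List.Mem.head _))))))))))))))))))))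

theorem v_g32_vT : Net.toPerm 120 v_g32 ∈ (grp 120 vG) :=
  vT_s0.le (toPerm_mem_grp (E := vo_E0) (List.Mem.tail _ (List.Mem.tail _ (List.Mem.tail _ (List.Mem.tail _ (List.Mem.tail _ (List.Mem.tail _ (List.Mem.tail _ (List.Mem.tail _ (List.Mem.tail _ (List.Mem.tail _ (List.Mem.tail _ (List.Mem.tail _ (List.Mem.tail _ (List.Mem.tail _ (List.Mem.tail _ (List.Mem.tail _ (List.Mem.tail _ (List.Mem.tail _ (List.Mem.tail _ (List.Mem.head _)))))))))))))))))))))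

theorem v_g37_vT : Net.toPerm 120 v_g37 ∈ (grp 120 vG) :=
  vT_s0.le (toPerm_mem_grp (E := vo_E0) (List.Mem.tail _ (List.Mem.tail _ (List.Mem.tail _ (List.Mem.tail _ (List.Mem.tail _ (List.Mem.tail _ (List.Mem.tail _ (List.Mem.tail _ (List.Mem.tail _ (List.Mem.tail _ (List.Mem.tail _ (List.Mem.tail _ (List.Mem.tail _ (List.Mem.tail _ (List.Mem.tail _ (List.Mem.tail _ (List.Mem.tail _ (List.Mem.tail _ (List.Mem.tail _ (List.Mem.tail _ (List.Mem.head _))))))))))))))))))))))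

theorem v_g38_vT : Net.toPerm 120 v_g38 ∈ (grp 120 vG) :=
  vT_s0.le (toPerm_mem_grp (E := vo_E0) (List.Mem.tail _ (List.Mem.tail _ (List.Mem.tail _ (List.Mem.tail _ (List.Mem.tail _ (List.Mem.tail _ (List.Mem.tail _ (List.Mem.tail _ (List.Mem.tail _ (List.Mem.tail _ (List.Mem.tail _ (List.Mem.tail _ (List.Mem.tail _ (List.Mem.tail _ (List.Mem.tail _ (List.Mem.tail _ (List.Mem.tail _ (List.Mem.tail _ (List.Mem.tail _ (List.Mem.tail _ (List.Mem.tail _ (List.Mem.head _)))))))))))))))))))))))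

theorem v_g29_vT : Net.toPerm 120 v_g29 ∈ (grp 120 vG) :=
  vT_s0.le (toPerm_mem_grp (E := vo_E0) (List.Mem.tail _ (List.Mem.tail _ (List.Mem.tail _ (List.Mem.tail _ (List.Mem.tail _ (List.Mem.tail _ (List.Mem.tail _ (List.Mem.tail _ (List.Mem.tail _ (List.Mem.tail _ (List.Mem.tail _ (List.Mem.tail _ (List.Mem.tail _ (List.Mem.tail _ (List.Mem.tail _ (List.Mem.tail _ (List.Mem.tail _ (List.Mem.tail _ (List.Mem.tail _ (List.Mem.tail _ (List.Mem.tail _ (List.Mem.tail _ (List.Mem.head _))))))))))))))))))))))))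

theorem v_u_vT : Net.toPerm 120 v_u ∈ (grp 120 vG) :=
  vT_s0.le (toPerm_mem_grp (E := vo_E0) (List.Mem.tail _ (List.Mem.tail _ (List.Mem.tail _ (List.Mem.tail _ (List.Mem.tail _ (List.Mem.tail _ (List.Mem.tail _ (List.Mem.tail _ (List.Mem.tail _ (List.Mem.tail _ (List.Mem.tail _ (List.Mem.tail _ (List.Mem.tail _ (List.Mem.tail _ (List.Mem.tail _ (List.Mem.tail _ (List.Mem.tail _ (List.Mem.tail _ (List.Mem.tail _ (List.Mem.tail _ (List.Mem.tail _ (List.Mem.tail _ (List.Mem.tail _ (List.Mem.head _)))))))))))))))))))))))))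

theorem v_g81_vT : Net.toPerm 120 v_g81 ∈ (grp 120 vG) :=
  vT_s7.le (toPerm_mem_grp (E := v_V87) (List.Mem.head _))

theorem v_g80_vT : Net.toPerm 120 v_g80 ∈ (grp 120 vG) :=
  vT_s4.le (toPerm_mem_grp (E := v_V84) (List.Mem.head _))

theorem v_g79_vT : Net.toPerm 120 v_g79 ∈ (grp 120 vG) :=
  vT_s3.le (toPerm_mem_grp (E := v_V82) (List.Mem.head _))

noncomputable def vT_s8_O : ℕ := (nat_lit 0xffffffffffffff0000000000000000ffffff00000000ffffffff00000000ff0000ffff0000ffff0000ffff000000ff00ff00ff00ff00ff00ff00ff00f0f0f0f0f0f0f0f0f0f0f0f0f0f0f0ccccccccccccccccccccccccccccccaaaaaaaaaaaaaaaaaaaaaaaaaaaaaa000000000000000000000000000001000001000000000000000000000000000000000000002000000000000000004000000000000000000000000000000000000000000000000000000008000000000000000400000000000000000000000000000000000000010000000000000000000001000000000000)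

theorem vT_s8_F : Frame 120 (grp 120 vG) 8 15 vT_s8_O 1 1 :=
  IsBase.frame vT_s8.isBase (by decide +kernel)

noncomputable def vT_s3_O : ℕ := (nat_lit 0xff67be6dcfbabe4e78780000000000fcbf129e6f8540120787c77ee0000030d9a063c07ff3c38207ed400ef600ce464e5aa07f891c560788bc0fc9e08cb56cf46a7c348c23666c339d319889a3fa84b1336b1b62556b2b48ad54000000000000000000000000000001000001000000000000000000000000000000000000002000000000000000)

theorem vT_s3_F : Frame 120 (grp 120 vG) 3 9 vT_s3_O 0 1 :=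
  Stab.frame v_hn vT_s3 (by decide +kernel)

noncomputable def vT_s2_O : ℕ := (nat_lit 0x10000000000000000000000000000000000000000020000000000000000004000000000000080000020010001000040800b000000110000000000000286020000020400008000000000000000100000040100202010002400000008010000004880000001000210044c0000403480300402004c000000ca00300805c0200018080000040000301000200000580043040500824000000000801a00000020400a024908c4000000000000000000000000000001000001000000000000000000000000)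

theorem vT_s2_F : Frame 120 (grp 120 vG) 2 13 vT_s2_O 0 1 :=
  Stab.frame v_hn vT_s2 (by decide +kernel)

noncomputable def vT_s1_O : ℕ := (nat_lit 0x2000000000000000003c7821a00020420c08a026909c401a00855a00b05c9803170b110b63a000000000000000000000000000001)

theorem vT_s1_F : Frame 120 (grp 120 vG) 1 4 vT_s1_O 0 1 :=
  Stab.frame v_hn vT_s1 (by decide +kernel)

noncomputable def vt_c1_cnt_L : List ℕ := [1, 4, vT_s1_O, 0, 0, 2, 13, vT_s2_O, 0, 0, 3, 9, vT_s3_O, 0, 0, 8, 15, vT_s8_O, 1, 0]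

theorem vt_c1_cnt_P : Prob 120 7 (grp 120 vG) vt_c1_cnt_EG [v_u] [v_u] vt_c1_K vt_c1_cnt_L 0 0 :=
  Sym.prob v_hn v_hk vt_c1_sym vt_c1_cnt_EG_ok (grp_cons_le v_b_vT (grp_cons_le v_p0_vT (grp_cons_le v_p1_vT (grp_cons_le v_g7_vT (grp_cons_le v_g3_vT (grp_cons_le v_g4_vT (grp_cons_le v_g10_vT (grp_cons_le v_g16_vT (grp_cons_le v_g11_vT (grp_cons_le v_g12_vT (grp_cons_le v_g13_vT (grp_cons_le v_g22_vT (grp_cons_le v_g21_vT (grp_cons_le v_g26_vT (grp_cons_le v_g19_vT (grp_cons_le v_g20_vT (grp_cons_le v_g23_vT (grp_cons_le v_g30_vT (grp_cons_le v_g31_vT (grp_cons_le v_g32_vT (grp_cons_le v_g37_vT (grp_cons_le v_g38_vT (grp_cons_le v_g29_vT (grp_cons_le v_u_vT (grp_cons_le v_g81_vT (grp_cons_le v_g80_vT (grp_cons_le v_g79_vT (grp_nil_le _)))))))))))))))))))))))))))) (Frames.cons vT_s1_F (Frames.cons vT_s2_F (Frames.cons vT_s3_F (Frames.cons vT_s8_F Frames.nil)))) (okE_cons.2 ⟨v_u_ok, okE_nil _⟩)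 _

noncomputable def vt_c1_cnt_t : BT := (BT.fix (nat_lit 1) (BT.dif (nat_lit 3) (nat_lit 0) (BT.br (nat_lit 0) (nat_lit 14) [nat_lit 1, nat_lit 3] (BT.kid (nat_lit 14) (nat_lit 640) (BT.frm (nat_lit 0) (nat_lit 0x1030119) (nat_lit 0x1030119) [nat_lit 0] (BT.pln (nat_lit 0) (nat_lit 2) (BT.and (nat_lit 3) (nat_lit 0) (BT.br (nat_lit 0) (nat_lit 43) [nat_lit 3] (BT.kid (nat_lit 43) (nat_lit 64) (BT.frm (nat_lit 1) (nat_lit 0x701030119) (nat_lit 0x701030119) [nat_lit 0, nat_lit 4] (BT.pln (nat_lit 0) (nat_lit 5) (BT.and (nat_lit 7) (nat_lit 0) (BT.br (nat_lit 0) (nat_lit 42) [nat_lit 5, nat_lit 7] (BT.dead (nat_lit 106) (BT.frm (nat_lit 2) (nat_lit 0xd170701030119) (nat_lit 0x140701030119) [nat_lit 0, nat_lit 4, nat_lit 8] (BT.pln (nat_lit 0) (nat_lit 3) (BT.pln (nat_lit 5) (nat_lit 3) (BT.and (nat_lit 1) (nat_lit 0) (BT.and (nat_lit 0) (nat_lit 14) (BT.cnt (nat_lit 0))))))) (BT.kid (nat_lit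 42) (nat_lit 32) (BT.dif (nat_lit 2) (nat_lit 10) (BT.dif (nat_lit 0) (nat_lit 1) (BT.img (nat_lit 1) (nat_lit 2) (BT.dif (nat_lit 1) (nat_lit 0) (BT.br (nat_lit 0) (nat_lit 106) [nat_lit 7] (BT.kid (nat_lit 106) (nat_lit 16) (BT.pln (nat_lit 12) (nat_lit 1) (BT.and (nat_lit 15) (nat_lit 0) (BT.frm (nat_lit 2) (nat_lit 0xd170701030119) (nat_lit 0xd170701030119) [nat_lit 7, nat_lit 11, nat_lit 15] (BT.pln (nat_lit 0) (nat_lit 3) (BT.dif (nat_lit 2) (nat_lit 0) (BT.pln (nat_lit 2) (nat_lit 6) (BT.dif (nat_lit 1) (nat_lit 0) (BT.pln (nat_lit 4) (nat_lit 8) (BT.dif (nat_lit 1) (nat_lit 0) (BT.br (nat_lit 0) (nat_lit 82) [nat_lit 9] (BT.kid (nat_lit 82) (nat_lit 8) (BT.dif (nat_lit 21) (nat_lit 25) (BT.dif (nat_lit 0) (nat_lit 7) (BT.and (nat_lit 0) (nat_lit 4) (BT.br (nat_lit 0) (nat_lit 115) [nat_lit 11] (BT.kid (nat_lit 115) (nat_lit 4) (BT.dif (nat_lit 2) (nat_lit 6) (BT.dif (nat_lit 0) (nat_lit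 24) (BT.br (nat_lit 0) (nat_lit 86) [nat_lit 13] (BT.kid (nat_lit 86) (nat_lit 2) (BT.dif (nat_lit 31) (nat_lit 9) (BT.pln (nat_lit 15) (nat_lit 7) (BT.and (nat_lit 1) (nat_lit 0) (BT.dif (nat_lit 0) (nat_lit 19) (BT.dif (nat_lit 0) (nat_lit 15) (BT.br (nat_lit 0) (nat_lit 107) [nat_lit 15] (BT.kid (nat_lit 107) (nat_lit 1) (BT.one (nat_lit 3) (nat_lit 0x3129330d170701030119) (nat_lit 0x3129330d170701030119) [nat_lit 0, nat_lit 6, nat_lit 9, nat_lit 13, nat_lit 23, nat_lit 28, nat_lit 32, nat_lit 36]) BT.nil))))))) BT.nil)))) BT.nil))))) BT.nil))))))))))) BT.nil)))))) BT.nil)))))) BT.nil))))) BT.nil))))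

theorem vt_c1_cnt : Cnt 120 (grp 120 vG) [v_u] [v_u] 0 0 0 0 30720 :=
  BT.sound vt_c1_cnt_P Known.nil (t := vt_c1_cnt_t) (d := 0) (by decide +kernel)

theorem vt_c1_ge : 30720 ≤ Nat.card (grp 120 vt_c1_K) :=
  Ch.le_card_grp (k := 7) (L := (lab 120 7)) v_hn vt_c1_K_ok (c := (Ch.cons (nat_lit 14) [nat_lit 1] (Ch.cons (nat_lit 43) [nat_lit 3] (Ch.cons (nat_lit 42) [nat_lit 5] (Ch.cons (nat_lit 106) [nat_lit 7] (Ch.cons (nat_lit 82) [nat_lit 9] (Ch.cons (nat_lit 115) [nat_lit 11] (Ch.cons (nat_lit 86) [nat_lit 13] (Ch.cons (nat_lit 107) [nat_lit 15] Ch.nil))))))))) (by decide +kernel)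

theorem vt_c1_eq : (grp 120 vG) ⊓ Subgroup.centralizer {Net.toPerm 120 v_u} = grp 120 vt_c1_K :=
  cent_eq vt_c1_sym vt_c1_cnt vt_c1_ge

theorem vt_c1_card : Nat.card ↥((grp 120 vG) ⊓ Subgroup.centralizer {Net.toPerm 120 v_u}) = 30720 :=
  card_cent vt_c1_sym vt_c1_cnt vt_c1_ge

theorem vt_c1_ord : orderOf (Net.toPerm 120 v_u) = 2 :=
  orderOf_net v_hn v_hk v_u_ok (by decide) (ps := [2]) (by set_option linter.unusedSimpArgs false in simp [Nat.primeFactorsList_ofNat]) (by decide +kernel)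

theorem v_le97 : grp 120 vt_c2_K ≤ grp 120 vo_E0 :=
  grp_le_of_memB v_hn v_hk vo_E0_ok vt_c2_K_ok (ws := [nat_lit 0x2d17210719010c010a, nat_lit 0x2f29231719070901050123, nat_lit 0x2f29170f, nat_lit 0x29210f080b, nat_lit 0x2f2d231b01080b01, nat_lit 0x2f2d29231b01080b01, nat_lit 10521, nat_lit 0x2f29231f0f080b]) (by decide +kernel)

theorem vt_c2_le : grp 120 vt_c2_K ≤ (grp 120 vG) :=
  (v_le97.trans vT_s0.le)

theorem vt_c2_mem : Net.toPerm 120 v_e ∈ (grp 120 vG) :=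
  vt_c2_le (mem_grp_of_memB v_hn v_hk vt_c2_K_ok v_e_ok (w := (nat_lit 0xd0b09030504010502)) (by decide +kernel))

theorem vt_c2_sym : Sym 120 (grp 120 vG) [v_e] vt_c2_K 0 :=
  Sym.of_lab v_hn v_hk (okE_cons.2 ⟨v_e_ok, okE_nil _⟩) vt_c2_K_ok vt_c2_le (kT := 0) (by decide +kernel)

theorem vT_s9 : Stab 120 (grp 120 vG) [nat_lit 8, nat_lit 96, nat_lit 0] v_V98 128 :=
  Stab.step (k := 7) (L := (lab 120 7)) v_hn vT_s2 v_V98_ok (grp_mono (List.subset_append_right [v_g10, v_g16, v_g11, v_g12, v_g13] _)) (c := (Ch.cons (nat_lit 1) [nat_lit 1, nat_lit 3, nat_lit 5, nat_lit 7, nat_lit 9, nat_lit 11] (Ch.cons (nat_lit 64) [nat_lit 13, nat_lit 15, nat_lit 17] (Ch.cons (nat_lit 2) [nat_lit 19, nat_lit 21] (Ch.cons (nat_lit 3) [nat_lit 23] (Ch.cons (nat_lit 14) [nat_lit 25] Ch.nil)))))) (by decide +kernel)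

theorem vT_s10 : Stab 120 (grp 120 vG) [nat_lit 1, nat_lit 8, nat_lit 96, nat_lit 0] v_V99 16 :=
  Stab.step (k := 7) (L := (lab 120 7)) v_hn vT_s9 v_V99_ok (grp_mono (List.subset_append_right [v_g22, v_g21, v_g26, v_g19, v_g20, v_g23] _)) (c := (Ch.cons (nat_lit 64) [nat_lit 1, nat_lit 3, nat_lit 5] (Ch.cons (nat_lit 2) [nat_lit 7, nat_lit 9] (Ch.cons (nat_lit 3) [nat_lit 11] (Ch.cons (nat_lit 14) [nat_lit 13] Ch.nil))))) (by decide +kernel)

theorem v_le103 : grp 120 v_V102 ≤ grp 120 v_V99 :=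
  grp_le_of_memB v_hn v_hk v_V99_ok v_V102_ok (ws := [nat_lit 3329, nat_lit 11, nat_lit 2823]) (by decide +kernel)

theorem vT_s11 : Stab 120 (grp 120 vG) [nat_lit 41, nat_lit 1, nat_lit 8, nat_lit 96, nat_lit 0] v_V102 8 :=
  Stab.step (k := 7) (L := (lab 120 7)) v_hn vT_s10 v_V102_ok v_le103 (c := (Ch.cons (nat_lit 85) [nat_lit 1] (Ch.cons (nat_lit 7) [nat_lit 3] (Ch.cons (nat_lit 119) [nat_lit 5] Ch.nil)))) (by decide +kernel)

theorem vT_s12 : Stab 120 (grp 120 vG) [nat_lit 85, nat_lit 41, nat_lit 1, nat_lit 8, nat_lit 96, nat_lit 0] v_V104 4 :=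
  Stab.step (k := 7) (L := (lab 120 7)) v_hn vT_s11 v_V104_ok (grp_mono (List.subset_append_right [v_g100] _)) (c := (Ch.cons (nat_lit 7) [nat_lit 1] (Ch.cons (nat_lit 119) [nat_lit 3] Ch.nil))) (by decide +kernel)

theorem vT_s13 : Stab 120 (grp 120 vG) [nat_lit 7, nat_lit 85, nat_lit 41, nat_lit 1, nat_lit 8, nat_lit 96, nat_lit 0] v_V105 2 :=
  Stab.step (k := 7) (L := (lab 120 7)) v_hn vT_s12 v_V105_ok (grp_mono (List.subset_append_right [v_g29] _)) (c := (Ch.cons (nat_lit 119) [nat_lit 1] Ch.nil)) (by decide +kernel)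

theorem vT_s14 : Stab 120 (grp 120 vG) [nat_lit 119, nat_lit 7, nat_lit 85, nat_lit 41, nat_lit 1, nat_lit 8, nat_lit 96, nat_lit 0] v_V106 1 :=
  Stab.step (k := 7) (L := (lab 120 7)) v_hn vT_s13 v_V106_ok (grp_mono (List.subset_append_right [v_g101] _)) (c := Ch.nil) (by decide +kernel)

theorem v_g101_vT : Net.toPerm 120 v_g101 ∈ (grp 120 vG) :=
  vT_s13.le (toPerm_mem_grp (E := v_V105) (List.Mem.head _))

theorem v_g100_vT : Net.toPerm 120 v_g100 ∈ (grp 120 vG) :=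
  vT_s11.le (toPerm_mem_grp (E := v_V102) (List.Mem.head _))

noncomputable def vT_s14_O : ℕ := (nat_lit 0xffffffffffffff0000000000000000ffffff00000000ffffffff00000000ff0000ffff0000ffff0000ffff000000ff00ff00ff00ff00ff00ff00ff00f0f0f0f0f0f0f0f0f0f0f0f0f0f0f0ccccccccccccccccccccccccccccccaaaaaaaaaaaaaaaaaaaaaaaaaaaaaa000000000000000000000000000001000001000000000000000000000000000000000000000000000000000100000000000000000000000000000002000000000000000000020000000000000000002000000000000000000000000000000000000000000000000080800000000000000000000000000000)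

theorem vT_s14_F : Frame 120 (grp 120 vG) 8 15 vT_s14_O 1 1 :=
  IsBase.frame vT_s14.isBase (by decide +kernel)

noncomputable def vT_s10_O : ℕ := (nat_lit 0xfe67fe6dcfbabaee50801000201000fdbf421e200544922effd57c201000014170c28fffa5822bffba02cee000b999d0a14fb05661a9784f42e91ec004969ef0ab4e178fa36644b3a4963075c508e92ec9d8d962d543aa7744a8000000000000000000000000000001000001000000000000000000000000000000000000000000000000000100000000000000000000000000000002)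

theorem vT_s10_F : Frame 120 (grp 120 vG) 4 10 vT_s10_O 0 1 :=
  Stab.frame v_hn vT_s10 (by decide +kernel)

noncomputable def vT_s9_O : ℕ := (nat_lit 0x10000000000000000000000000000004000000000000000000000000000000000000000020000000000000000000000000000000080000000000000000000000000000000000020000088002000048020000808000000000001000040800b000000110000000000000286020000020400008000000000004000004004803000020008000000040c00000030000004000044000000001000000000080043040400800000420010080140000010000000040000300000200000500000000100024000000000100000040100202010002400000000000a000000000008000908c000000801000000488000000100021000a000040000000000004080100028000000801000000020400202400004000000000000000000000000000001000001000000000000000000000000000000000000000000000000000100)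

theorem vT_s9_F : Frame 120 (grp 120 vG) 3 21 vT_s9_O 0 1 :=
  Stab.frame v_hn vT_s9 (by decide +kernel)

noncomputable def vt_c2_cnt_L : List ℕ := [1, 4, vT_s1_O, 0, 0, 2, 13, vT_s2_O, 0, 0, 3, 21, vT_s9_O, 0, 0, 4, 10, vT_s10_O, 0, 0, 8, 15, vT_s14_O, 1, 0]

theorem vt_c2_cnt_P : Prob 120 7 (grp 120 vG) vt_c2_cnt_EG [v_e] [v_e] vt_c2_K vt_c2_cnt_L 0 0 :=
  Sym.prob v_hn v_hk vt_c2_sym vt_c2_cnt_EG_ok (grp_cons_le v_b_vT (grp_cons_le v_p0_vT (grp_cons_le v_p1_vT (grp_cons_le v_g7_vT (grp_cons_le v_g3_vT (grp_cons_le v_g4_vT (grp_cons_le v_g10_vT (grp_cons_le v_g16_vT (grp_cons_le v_g11_vT (grp_cons_le v_g12_vT (grp_cons_le v_g13_vT (grp_cons_le v_g22_vT (grp_cons_le v_g21_vT (grp_cons_le v_g26_vT (grp_cons_le v_g19_vT (grp_cons_le v_g20_vT (grp_cons_le v_g23_vT (grp_cons_le v_g30_vT (grp_cons_le v_g31_vT (grp_cons_le v_g32_vT (grp_cons_le v_g37_vT (grp_cons_le v_g38_vT (grp_cons_le v_g29_vT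 (grp_cons_le v_u_vT (grp_cons_le v_g101_vT (grp_cons_le v_g100_vT (grp_nil_le _))))))))))))))))))))))))))) (Frames.cons vT_s1_F (Frames.cons vT_s2_F (Frames.cons vT_s9_F (Frames.cons vT_s10_F (Frames.cons vT_s14_F Frames.nil))))) (okE_cons.2 ⟨v_e_ok, okE_nil _⟩) _

noncomputable def vt_c2_cnt_t : BT := (BT.fix (nat_lit 1) (BT.dif (nat_lit 3) (nat_lit 0) (BT.br (nat_lit 0) (nat_lit 3) [nat_lit 1, nat_lit 3] (BT.kid (nat_lit 3) (nat_lit 384) (BT.frm (nat_lit 0) (nat_lit 0x10b0103) (nat_lit 0x10b0103) [nat_lit 0] (BT.pln (nat_lit 0) (nat_lit 2) (BT.and (nat_lit 3) (nat_lit 0) (BT.br (nat_lit 0) (nat_lit 60) [nat_lit 3, nat_lit 5] (BT.dead (nat_lit 93) (BT.frm (nat_lit 1) (nat_lit 0x91b010b0103) (nat_lit 0x907010b0103) [nat_lit 0, nat_lit 4] (BT.pln (nat_lit 0) (nat_lit 6) (BT.and (nat_lit 0) (nat_lit 8) (BT.cnt (nat_lit 0))))) (BT.dead (nat_lit 73) (BT.frm (nat_lit 1) (nat_lit 0x91b010b0103)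 (nat_lit 0x719010b0103) [nat_lit 0, nat_lit 4] (BT.pln (nat_lit 0) (nat_lit 2) (BT.and (nat_lit 0) (nat_lit 8) (BT.cnt (nat_lit 0))))) (BT.kid (nat_lit 60) (nat_lit 64) (BT.frm (nat_lit 1) (nat_lit 0x91b010b0103) (nat_lit 0x91b010b0103) [nat_lit 0, nat_lit 4] (BT.pln (nat_lit 0) (nat_lit 10) (BT.and (nat_lit 4) (nat_lit 0) (BT.br (nat_lit 0) (nat_lit 100) [nat_lit 5] (BT.dead (nat_lit 102) (BT.pln (nat_lit 7) (nat_lit 1) (BT.and (nat_lit 10) (nat_lit 0) (BT.pln (nat_lit 5) (nat_lit 7) (BT.dif (nat_lit 1) (nat_lit 0) (BT.pln (nat_lit 7) (nat_lit 9) (BT.dif (nat_lit 1) (nat_lit 0) (BT.frm (nat_lit 2) (nat_lit 0xf091b010b0103) (nat_lit 0xd091b010b0103) [nat_lit 6, nat_lit 10, nat_lit 14] (BT.pln (nat_lit 0) (nat_lit 4) (BT.dif (nat_lit 2) (nat_lit 0) (BT.br (nat_lit 0) (nat_lit 61) [nat_lit 13] (BT.dead (nat_lit 65) (BT.frm (nat_lit 3) (nat_lit 0xf091b010b0103) (nat_lit 0x17210d091b010b0103)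 [nat_lit 0, nat_lit 10, nat_lit 14, nat_lit 18] (BT.pln (nat_lit 0) (nat_lit 4) (BT.and (nat_lit 0) (nat_lit 22) (BT.cnt (nat_lit 0))))) (BT.dead (nat_lit 39) (BT.frm (nat_lit 3) (nat_lit 0xf091b010b0103) (nat_lit 0xd091b010b0103) [nat_lit 0, nat_lit 10, nat_lit 14, nat_lit 18] (BT.pln (nat_lit 0) (nat_lit 4) (BT.and (nat_lit 0) (nat_lit 11) (BT.dif (nat_lit 0) (nat_lit 23) (BT.and (nat_lit 0) (nat_lit 9) (BT.cnt (nat_lit 0))))))) BT.nil)))))))))))) (BT.kid (nat_lit 100) (nat_lit 32) (BT.pln (nat_lit 7) (nat_lit 1) (BT.and (nat_lit 10) (nat_lit 0) (BT.pln (nat_lit 5) (nat_lit 7) (BT.dif (nat_lit 1) (nat_lit 0) (BT.pln (nat_lit 7) (nat_lit 9) (BT.dif (nat_lit 1) (nat_lit 0) (BT.frm (nat_lit 2) (nat_lit 0xf091b010b0103) (nat_lit 0xf091b010b0103) [nat_lit 6, nat_lit 10, nat_lit 14] (BT.pln (nat_lit 0) (nat_lit 4) (BT.dif (nat_lit 2) (nat_lit 0) (BT.br (nat_lit 0) (nat_lit 61) [nat_lit 7, nat_lit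 9] (BT.dead (nat_lit 90) (BT.frm (nat_lit 3) (nat_lit 0xf091b010b0103) (nat_lit 0x210f091b010b0103) [nat_lit 0, nat_lit 10, nat_lit 14, nat_lit 18] (BT.pln (nat_lit 0) (nat_lit 4) (BT.and (nat_lit 0) (nat_lit 22) (BT.cnt (nat_lit 0))))) (BT.kid (nat_lit 61) (nat_lit 16) (BT.pln (nat_lit 13) (nat_lit 5) (BT.and (nat_lit 20) (nat_lit 0) (BT.frm (nat_lit 3) (nat_lit 0xf091b010b0103) (nat_lit 0xf091b010b0103) [nat_lit 2, nat_lit 12, nat_lit 16, nat_lit 20] (BT.pln (nat_lit 0) (nat_lit 5) (BT.and (nat_lit 2) (nat_lit 0) (BT.br (nat_lit 0) (nat_lit 62) [nat_lit 9] (BT.kid (nat_lit 62) (nat_lit 8) (BT.dif (nat_lit 15) (nat_lit 26) (BT.dif (nat_lit 0) (nat_lit 14) (BT.dif (nat_lit 0) (nat_lit 13) (BT.dif (nat_lit 0) (nat_lit 11) (BT.and (nat_lit 0) (nat_lit 6) (BT.br (nat_lit 0) (nat_lit 90) [nat_lit 11] (BT.kid (nat_lit 90) (nat_lit 4) (BT.dif (nat_lit 28) (nat_lit 8) (BT.pln (nat_lit 10) (nat_lit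 4) (BT.and (nat_lit 1) (nat_lit 0) (BT.pln (nat_lit 12) (nat_lit 7) (BT.dif (nat_lit 1) (nat_lit 0) (BT.br (nat_lit 0) (nat_lit 82) [nat_lit 13] (BT.kid (nat_lit 82) (nat_lit 2) (BT.dif (nat_lit 41) (nat_lit 4) (BT.pln (nat_lit 16) (nat_lit 8) (BT.and (nat_lit 1) (nat_lit 0) (BT.pln (nat_lit 18) (nat_lit 9) (BT.and (nat_lit 1) (nat_lit 0) (BT.pln (nat_lit 20) (nat_lit 6) (BT.and (nat_lit 1) (nat_lit 0) (BT.pln (nat_lit 38) (nat_lit 4) (BT.and (nat_lit 1) (nat_lit 0) (BT.br (nat_lit 0) (nat_lit 41) [nat_lit 15] (BT.kid (nat_lit 41) (nat_lit 1) (BT.one (nat_lit 4) (nat_lit 0x310f091b010b0103) (nat_lit 0x310f091b010b0103) [nat_lit 0, nat_lit 10, nat_lit 16, nat_lit 22, nat_lit 28, nat_lit 38, nat_lit 42, nat_lit 46]) BT.nil))))))))))) BT.nil))))))) BT.nil))))))) BT.nil))))))) BT.nil)))))))))))) BT.nil)))))) BT.nil))))))) BT.nil))))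

theorem vt_c2_cnt : Cnt 120 (grp 120 vG) [v_e] [v_e] 0 0 0 0 24576 :=
  BT.sound vt_c2_cnt_P Known.nil (t := vt_c2_cnt_t) (d := 0) (by decide +kernel)

theorem vt_c2_ge : 24576 ≤ Nat.card (grp 120 vt_c2_K) :=
  Ch.le_card_grp (k := 7) (L := (lab 120 7)) v_hn vt_c2_K_ok (c := (Ch.cons (nat_lit 3) [nat_lit 1] (Ch.cons (nat_lit 60) [nat_lit 3] (Ch.cons (nat_lit 100) [nat_lit 5] (Ch.cons (nat_lit 61) [nat_lit 7] (Ch.cons (nat_lit 62) [nat_lit 9] (Ch.cons (nat_lit 90) [nat_lit 11] (Ch.cons (nat_lit 82) [nat_lit 13] (Ch.cons (nat_lit 41) [nat_lit 15] Ch.nil))))))))) (by decide +kernel)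

theorem vt_c2_eq : (grp 120 vG) ⊓ Subgroup.centralizer {Net.toPerm 120 v_e} = grp 120 vt_c2_K :=
  cent_eq vt_c2_sym vt_c2_cnt vt_c2_ge

theorem vt_c2_card : Nat.card ↥((grp 120 vG) ⊓ Subgroup.centralizer {Net.toPerm 120 v_e}) = 24576 :=
  card_cent vt_c2_sym vt_c2_cnt vt_c2_ge

theorem vt_c2_ord : orderOf (Net.toPerm 120 v_e) = 2 :=
  orderOf_net v_hn v_hk v_e_ok (by decide) (ps := [2]) (by set_option linter.unusedSimpArgs false in simp [Nat.primeFactorsList_ofNat]) (by decide +kernel)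

theorem v_le114 : grp 120 vt_c3_K ≤ grp 120 vo_E0 :=
  grp_le_of_memB v_hn v_hk vo_E0_ok vt_c3_K_ok (ws := [nat_lit 0x2317190d0701080b01, nat_lit 0x2f2917210d07070c, nat_lit 0x2f2d23172101080b01, nat_lit 0x2f2d2923080b01080b01, nat_lit 0x2f29172101080b01, nat_lit 0x29080b01080b01, nat_lit 0x292317190f, nat_lit 0x2d2923210f080b]) (by decide +kernel)

theorem vt_c3_le : grp 120 vt_c3_K ≤ (grp 120 vG) :=
  (v_le114.trans vT_s0.le)

theorem vt_c3_mem : Net.toPerm 120 v_x ∈ (grp 120 vG) :=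
  vt_c3_le (mem_grp_of_memB v_hn v_hk vt_c3_K_ok v_x_ok (w := (nat_lit 0xf0b0705030303010502)) (by decide +kernel))

theorem vt_c3_sym : Sym 120 (grp 120 vG) [v_x] vt_c3_K 0 :=
  Sym.of_lab v_hn v_hk (okE_cons.2 ⟨v_x_ok, okE_nil _⟩) vt_c3_K_ok vt_c3_le (kT := 0) (by decide +kernel)

theorem v_le120 : grp 120 v_V119 ≤ grp 120 v_V78 :=
  grp_le_of_memB v_hn v_hk v_V78_ok v_V119_ok (ws := [nat_lit 0x23211d0b03, nat_lit 0x230b03, nat_lit 8983, nat_lit 0x231d0b0d03, nat_lit 724227]) (by decide +kernel)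

theorem vT_s15 : Stab 120 (grp 120 vG) [nat_lit 49, nat_lit 96, nat_lit 0] v_V119 32 :=
  Stab.step (k := 7) (L := (lab 120 7)) v_hn vT_s2 v_V119_ok v_le120 (c := (Ch.cons (nat_lit 30) [nat_lit 1] (Ch.cons (nat_lit 1) [nat_lit 3] (Ch.cons (nat_lit 39) [nat_lit 5] (Ch.cons (nat_lit 53) [nat_lit 7] (Ch.cons (nat_lit 67) [nat_lit 9] Ch.nil)))))) (by decide +kernel)

theorem vT_s16 : Stab 120 (grp 120 vG) [nat_lit 30, nat_lit 49, nat_lit 96, nat_lit 0] v_V121 16 :=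
  Stab.step (k := 7) (L := (lab 120 7)) v_hn vT_s15 v_V121_ok (grp_mono (List.subset_append_right [v_g115] _)) (c := (Ch.cons (nat_lit 1) [nat_lit 1] (Ch.cons (nat_lit 39) [nat_lit 3] (Ch.cons (nat_lit 53) [nat_lit 5] (Ch.cons (nat_lit 67) [nat_lit 7] Ch.nil))))) (by decide +kernel)

theorem vT_s17 : Stab 120 (grp 120 vG) [nat_lit 1, nat_lit 30, nat_lit 49, nat_lit 96, nat_lit 0] v_V122 8 :=
  Stab.step (k := 7) (L := (lab 120 7)) v_hn vT_s16 v_V122_ok (grp_mono (List.subset_append_right [v_g116] _)) (c := (Ch.cons (nat_lit 39) [nat_lit 1] (Ch.cons (nat_lit 53) [nat_lit 3] (Ch.cons (nat_lit 67) [nat_lit 5] Ch.nil)))) (by decide +kernel)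

theorem vT_s18 : Stab 120 (grp 120 vG) [nat_lit 39, nat_lit 1, nat_lit 30, nat_lit 49, nat_lit 96, nat_lit 0] v_V123 4 :=
  Stab.step (k := 7) (L := (lab 120 7)) v_hn vT_s17 v_V123_ok (grp_mono (List.subset_append_right [v_g100] _)) (c := (Ch.cons (nat_lit 53) [nat_lit 1] (Ch.cons (nat_lit 67) [nat_lit 3] Ch.nil))) (by decide +kernel)

theorem vT_s19 : Stab 120 (grp 120 vG) [nat_lit 53, nat_lit 39, nat_lit 1, nat_lit 30, nat_lit 49, nat_lit 96, nat_lit 0] v_V124 2 :=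
  Stab.step (k := 7) (L := (lab 120 7)) v_hn vT_s18 v_V124_ok (grp_mono (List.subset_append_right [v_g117] _)) (c := (Ch.cons (nat_lit 67) [nat_lit 1] Ch.nil)) (by decide +kernel)

theorem vT_s20 : Stab 120 (grp 120 vG) [nat_lit 67, nat_lit 53, nat_lit 39, nat_lit 1, nat_lit 30, nat_lit 49, nat_lit 96, nat_lit 0] v_V125 1 :=
  Stab.step (k := 7) (L := (lab 120 7)) v_hn vT_s19 v_V125_ok (grp_mono (List.subset_append_right [v_g118] _)) (c := Ch.nil) (by decide +kernel)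

theorem v_g118_vT : Net.toPerm 120 v_g118 ∈ (grp 120 vG) :=
  vT_s19.le (toPerm_mem_grp (E := v_V124) (List.Mem.head _))

theorem v_g117_vT : Net.toPerm 120 v_g117 ∈ (grp 120 vG) :=
  vT_s18.le (toPerm_mem_grp (E := v_V123) (List.Mem.head _))

theorem v_g116_vT : Net.toPerm 120 v_g116 ∈ (grp 120 vG) :=
  vT_s16.le (toPerm_mem_grp (E := v_V121) (List.Mem.head _))

theorem v_g115_vT : Net.toPerm 120 v_g115 ∈ (grp 120 vG) :=
  vT_s15.le (toPerm_mem_grp (E := v_V119) (List.Mem.head _))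

noncomputable def vT_s20_O : ℕ := (nat_lit 0xffffffffffffff0000000000000000ffffff00000000ffffffff00000000ff0000ffff0000ffff0000ffff000000ff00ff00ff00ff00ff00ff00ff00f0f0f0f0f0f0f0f0f0f0f0f0f0f0f0ccccccccccccccccccccccccccccccaaaaaaaaaaaaaaaaaaaaaaaaaaaaaa000000000000000000000000000001000001000000000000000000000000000000000000000002000000000000000000000000000000000040000000000000000000000000000000000002000000000000000000008000000000000000000000000020000000000000000000000000080000000000000000)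

theorem vT_s20_F : Frame 120 (grp 120 vG) 8 15 vT_s20_O 1 1 :=
  IsBase.frame vT_s20.isBase (by decide +kernel)

noncomputable def vT_s15_O : ℕ := (nat_lit 0xff67be6dcfbabe6e70740000000000fcbf129e2f8540120d8fc77ee0000030d9a063807ff3c3880fed400ef600cc464e5ae07f893c4c0b88bc0fc9e08eb568f46a7c30aa394a6c339d31988aa3f684f1336735182d6b2b48ad54000000000000000000000000000001000001000000000000000000000000000000000000000002000000000000)

theorem vT_s15_F : Frame 120 (grp 120 vG) 3 9 vT_s15_O 0 1 :=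
  Stab.frame v_hn vT_s15 (by decide +kernel)

noncomputable def vt_c3_cnt_L : List ℕ := [1, 4, vT_s1_O, 0, 0, 2, 13, vT_s2_O, 0, 0, 3, 9, vT_s15_O, 0, 0, 8, 15, vT_s20_O, 1, 0]

theorem vt_c3_cnt_P : Prob 120 7 (grp 120 vG) vt_c3_cnt_EG [v_x] [v_x] vt_c3_K vt_c3_cnt_L 0 0 :=
  Sym.prob v_hn v_hk vt_c3_sym vt_c3_cnt_EG_ok (grp_cons_le v_b_vT (grp_cons_le v_p0_vT (grp_cons_le v_p1_vT (grp_cons_le v_g7_vT (grp_cons_le v_g3_vT (grp_cons_le v_g4_vT (grp_cons_le v_g10_vT (grp_cons_le v_g16_vT (grp_cons_le v_g11_vT (grp_cons_le v_g12_vT (grp_cons_le v_g13_vT (grp_cons_le v_g22_vT (grp_cons_le v_g21_vT (grp_cons_le v_g26_vT (grp_cons_le v_g19_vT (grp_cons_le v_g20_vT (grp_cons_le v_g23_vT (grp_cons_le v_g30_vT (grp_cons_le v_g31_vT (grp_cons_le v_g32_vT (grp_cons_le v_g37_vT (grp_cons_le v_g38_vT (grp_cons_le v_g29_vT (grp_cons_le v_u_vT (grp_cons_le v_g118_vT (grp_cons_le v_g117_vT (grp_cons_le v_g100_vT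 (grp_cons_le v_g116_vT (grp_cons_le v_g115_vT (grp_nil_le _)))))))))))))))))))))))))))))) (Frames.cons vT_s1_F (Frames.cons vT_s2_F (Frames.cons vT_s15_F (Frames.cons vT_s20_F Frames.nil)))) (okE_cons.2 ⟨v_x_ok, okE_nil _⟩) _

noncomputable def vt_c3_cnt_t : BT := (BT.fix (nat_lit 1) (BT.dif (nat_lit 3) (nat_lit 0) (BT.br (nat_lit 0) (nat_lit 1) [nat_lit 1, nat_lit 3] (BT.dead (nat_lit 23) (BT.frm (nat_lit 0) (nat_lit 0x105010309) (nat_lit 0x1031301) [nat_lit 0] (BT.pln (nat_lit 0) (nat_lit 2) (BT.and (nat_lit 0) (nat_lit 4) (BT.cnt (nat_lit 0))))) (BT.kid (nat_lit 1) (nat_lit 384) (BT.frm (nat_lit 0) (nat_lit 0x105010309) (nat_lit 0x105010309) [nat_lit 0] (BT.pln (nat_lit 0) (nat_lit 2) (BT.and (nat_lit 3) (nat_lit 0) (BT.br (nat_lit 0) (nat_lit 69) [nat_lit 3, nat_lit 5] (BT.dead (nat_lit 20) (BT.frm (nat_lit 1) (nat_lit 0x9090105010309) (nat_lit 0x8080105010309) [nat_lit 0, nat_lit 4] (BT.pln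 (nat_lit 0) (nat_lit 2) (BT.and (nat_lit 0) (nat_lit 8) (BT.cnt (nat_lit 0))))) (BT.dead (nat_lit 40) (BT.frm (nat_lit 1) (nat_lit 0x9090105010309) (nat_lit 0x90d0105010309) [nat_lit 0, nat_lit 4] (BT.pln (nat_lit 0) (nat_lit 2) (BT.and (nat_lit 0) (nat_lit 8) (BT.cnt (nat_lit 0))))) (BT.kid (nat_lit 69) (nat_lit 64) (BT.frm (nat_lit 1) (nat_lit 0x9090105010309) (nat_lit 0x9090105010309) [nat_lit 0, nat_lit 4] (BT.pln (nat_lit 0) (nat_lit 3) (BT.and (nat_lit 7) (nat_lit 0) (BT.br (nat_lit 0) (nat_lit 4) [nat_lit 5, nat_lit 7] (BT.dead (nat_lit 56) (BT.frm (nat_lit 2) (nat_lit 0x1f09090105010309) (nat_lit 0xd0d09090105010309) [nat_lit 0, nat_lit 4, nat_lit 8] (BT.pln (nat_lit 0) (nat_lit 3) (BT.pln (nat_lit 5) (nat_lit 8) (BT.and (nat_lit 1) (nat_lit 0) (BT.and (nat_lit 0) (nat_lit 14) (BT.cnt (nat_lit 0))))))) (BT.kid (nat_lit 4) (nat_lit 32) (BT.pln (nat_lit 3) (nat_lit 5) (BT.and (nat_lit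 10) (nat_lit 0) (BT.frm (nat_lit 2) (nat_lit 0x1f09090105010309) (nat_lit 0x1f09090105010309) [nat_lit 2, nat_lit 6, nat_lit 10] (BT.pln (nat_lit 0) (nat_lit 5) (BT.dif (nat_lit 2) (nat_lit 0) (BT.br (nat_lit 0) (nat_lit 71) [nat_lit 7] (BT.kid (nat_lit 71) (nat_lit 16) (BT.dif (nat_lit 15) (nat_lit 2) (BT.pln (nat_lit 4) (nat_lit 3) (BT.dif (nat_lit 1) (nat_lit 0) (BT.pln (nat_lit 6) (nat_lit 8) (BT.dif (nat_lit 1) (nat_lit 0) (BT.pln (nat_lit 18) (nat_lit 1) (BT.and (nat_lit 1) (nat_lit 0) (BT.pln (nat_lit 10) (nat_lit 4) (BT.dif (nat_lit 1) (nat_lit 0) (BT.br (nat_lit 0) (nat_lit 44) [nat_lit 9] (BT.kid (nat_lit 44) (nat_lit 8) (BT.dif (nat_lit 22) (nat_lit 8) (BT.pln (nat_lit 14) (nat_lit 6) (BT.and (nat_lit 1) (nat_lit 0) (BT.br (nat_lit 0) (nat_lit 75) [nat_lit 11] (BT.kid (nat_lit 75) (nat_lit 4) (BT.and (nat_lit 3) (nat_lit 10) (BT.dif (nat_lit 0) (nat_lit 31) (BT.br (nat_lit 0) (nat_lit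 20) [nat_lit 13] (BT.kid (nat_lit 20) (nat_lit 2) (BT.dif (nat_lit 25) (nat_lit 33) (BT.and (nat_lit 0) (nat_lit 20) (BT.br (nat_lit 0) (nat_lit 56) [nat_lit 15] (BT.kid (nat_lit 56) (nat_lit 1) (BT.one (nat_lit 3) (nat_lit 0x371f09090105010309) (nat_lit 0x371f09090105010309) [nat_lit 0, nat_lit 3, nat_lit 6, nat_lit 10, nat_lit 20, nat_lit 26, nat_lit 30, nat_lit 34]) BT.nil)))) BT.nil)))) BT.nil))))) BT.nil))))))))))) BT.nil))))))) BT.nil)))))) BT.nil))))))) BT.nil)))))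

theorem vt_c3_cnt : Cnt 120 (grp 120 vG) [v_x] [v_x] 0 0 0 0 15360 :=
  BT.sound vt_c3_cnt_P Known.nil (t := vt_c3_cnt_t) (d := 0) (by decide +kernel)

theorem vt_c3_ge : 15360 ≤ Nat.card (grp 120 vt_c3_K) :=
  Ch.le_card_grp (k := 7) (L := (lab 120 7)) v_hn vt_c3_K_ok (c := (Ch.cons (nat_lit 1) [nat_lit 1] (Ch.cons (nat_lit 69) [nat_lit 3] (Ch.cons (nat_lit 4) [nat_lit 5] (Ch.cons (nat_lit 71) [nat_lit 7] (Ch.cons (nat_lit 44) [nat_lit 9] (Ch.cons (nat_lit 75) [nat_lit 11] (Ch.cons (nat_lit 20) [nat_lit 13] (Ch.cons (nat_lit 56) [nat_lit 15] Ch.nil))))))))) (by decide +kernel)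

theorem vt_c3_eq : (grp 120 vG) ⊓ Subgroup.centralizer {Net.toPerm 120 v_x} = grp 120 vt_c3_K :=
  cent_eq vt_c3_sym vt_c3_cnt vt_c3_ge

theorem vt_c3_card : Nat.card ↥((grp 120 vG) ⊓ Subgroup.centralizer {Net.toPerm 120 v_x}) = 15360 :=
  card_cent vt_c3_sym vt_c3_cnt vt_c3_ge

theorem vt_c3_ord : orderOf (Net.toPerm 120 v_x) = 2 :=
  orderOf_net v_hn v_hk v_x_ok (by decide) (ps := [2]) (by set_option linter.unusedSimpArgs false in simp [Nat.primeFactorsList_ofNat]) (by decide +kernel)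

theorem v_le132 : grp 120 vt_c4_K ≤ grp 120 vo_E0 :=
  grp_le_of_memB v_hn v_hk vo_E0_ok vt_c4_K_ok (ws := [nat_lit 0x2d29230f09010a, nat_lit 0x2f292317210f090d01030113, nat_lit 0x2f2d29231721, nat_lit 0x2f2321, nat_lit 12077, nat_lit 10531]) (by decide +kernel)

theorem vt_c4_le : grp 120 vt_c4_K ≤ (grp 120 vG) :=
  (v_le132.trans vT_s0.le)

theorem vt_c4_mem : Net.toPerm 120 v_b ∈ (grp 120 vG) :=
  vt_c4_le (mem_grp_of_memB v_hn v_hk vt_c4_K_ok v_b_ok (w := (nat_lit 0xb0906010604)) (by decide +kernel))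

theorem vt_c4_sym : Sym 120 (grp 120 vG) [v_b] vt_c4_K 0 :=
  Sym.of_lab v_hn v_hk (okE_cons.2 ⟨v_b_ok, okE_nil _⟩) vt_c4_K_ok vt_c4_le (kT := 0) (by decide +kernel)

theorem v_le134 : grp 120 v_V133 ≤ grp 120 v_V99 :=
  grp_le_of_memB v_hn v_hk v_V99_ok v_V133_ok (ws := [nat_lit 3339, nat_lit 1, nat_lit 1793]) (by decide +kernel)

theorem vT_s21 : Stab 120 (grp 120 vG) [nat_lit 113, nat_lit 1, nat_lit 8, nat_lit 96, nat_lit 0] v_V133 8 :=
  Stab.step (k := 7) (L := (lab 120 7)) v_hn vT_s10 v_V133_ok v_le134 (c := (Ch.cons (nat_lit 86) [nat_lit 1] (Ch.cons (nat_lit 50) [nat_lit 3] (Ch.cons (nat_lit 11) [nat_lit 5] Ch.nil)))) (by decide +kernel)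

theorem vT_s22 : Stab 120 (grp 120 vG) [nat_lit 86, nat_lit 113, nat_lit 1, nat_lit 8, nat_lit 96, nat_lit 0] v_V135 4 :=
  Stab.step (k := 7) (L := (lab 120 7)) v_hn vT_s21 v_V135_ok (grp_mono (List.subset_append_right [v_g130] _)) (c := (Ch.cons (nat_lit 50) [nat_lit 1] (Ch.cons (nat_lit 11) [nat_lit 3] Ch.nil))) (by decide +kernel)

theorem vT_s23 : Stab 120 (grp 120 vG) [nat_lit 50, nat_lit 86, nat_lit 113, nat_lit 1, nat_lit 8, nat_lit 96, nat_lit 0] v_V136 2 :=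
  Stab.step (k := 7) (L := (lab 120 7)) v_hn vT_s22 v_V136_ok (grp_mono (List.subset_append_right [v_g30] _)) (c := (Ch.cons (nat_lit 11) [nat_lit 1] Ch.nil)) (by decide +kernel)

theorem vT_s24 : Stab 120 (grp 120 vG) [nat_lit 11, nat_lit 50, nat_lit 86, nat_lit 113, nat_lit 1, nat_lit 8, nat_lit 96, nat_lit 0] v_V137 1 :=
  Stab.step (k := 7) (L := (lab 120 7)) v_hn vT_s23 v_V137_ok (grp_mono (List.subset_append_right [v_g131] _)) (c := Ch.nil) (by decide +kernel)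

theorem v_g131_vT : Net.toPerm 120 v_g131 ∈ (grp 120 vG) :=
  vT_s23.le (toPerm_mem_grp (E := v_V136) (List.Mem.head _))

theorem v_g130_vT : Net.toPerm 120 v_g130 ∈ (grp 120 vG) :=
  vT_s21.le (toPerm_mem_grp (E := v_V133) (List.Mem.head _))

noncomputable def vT_s24_O : ℕ := (nat_lit 0xffffffffffffff0000000000000000ffffff00000000ffffffff00000000ff0000ffff0000ffff0000ffff000000ff00ff00ff00ff00ff00ff00ff00f0f0f0f0f0f0f0f0f0f0f0f0f0f0f0ccccccccccccccccccccccccccccccaaaaaaaaaaaaaaaaaaaaaaaaaaaaaa000000000000000000000000000001000001000000000000000000000000000000000000000000000000000100000000000000000000000000000002020000000000000000000000000000000000004000000000000000000000000000000000000004000000000000000000000000000000000000000800)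

theorem vT_s24_F : Frame 120 (grp 120 vG) 8 15 vT_s24_O 1 1 :=
  IsBase.frame vT_s24.isBase (by decide +kernel)

noncomputable def vt_c4_cnt_L : List ℕ := [1, 4, vT_s1_O, 0, 0, 2, 13, vT_s2_O, 0, 0, 3, 21, vT_s9_O, 0, 0, 4, 10, vT_s10_O, 0, 0, 8, 15, vT_s24_O, 1, 0]

theorem vt_c4_cnt_P : Prob 120 7 (grp 120 vG) vt_c4_cnt_EG [v_b] [v_b] vt_c4_K vt_c4_cnt_L 0 0 :=
  Sym.prob v_hn v_hk vt_c4_sym vt_c4_cnt_EG_ok (grp_cons_le v_b_vT (grp_cons_le v_p0_vT (grp_cons_le v_p1_vT (grp_cons_le v_g7_vT (grp_cons_le v_g3_vT (grp_cons_le v_g4_vT (grp_cons_le v_g10_vT (grp_cons_le v_g16_vT (grp_cons_le v_g11_vT (grp_cons_le v_g12_vT (grp_cons_le v_g13_vT (grp_cons_le v_g22_vT (grp_cons_le v_g21_vT (grp_cons_le v_g26_vT (grp_cons_le v_g19_vT (grp_cons_le v_g20_vT (grp_cons_le v_g23_vT (grp_cons_le v_g30_vT (grp_cons_le v_g31_vT (grp_cons_le v_g32_vT (grp_cons_le v_g37_vT (grp_cons_le v_g38_vT (grp_cons_le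 v_g29_vT (grp_cons_le v_u_vT (grp_cons_le v_g131_vT (grp_cons_le v_g130_vT (grp_nil_le _))))))))))))))))))))))))))) (Frames.cons vT_s1_F (Frames.cons vT_s2_F (Frames.cons vT_s9_F (Frames.cons vT_s10_F (Frames.cons vT_s24_F Frames.nil))))) (okE_cons.2 ⟨v_b_ok, okE_nil _⟩) _

noncomputable def vt_c4_cnt_t : BT := (BT.br (nat_lit 2) (nat_lit 0) [nat_lit 1, nat_lit 3] (BT.kid (nat_lit 0) (nat_lit 32) (BT.img (nat_lit 1) (nat_lit 0) (BT.frm (nat_lit 1) (nat_lit 0) (nat_lit 0) [nat_lit 0, nat_lit 1] (BT.pln (nat_lit 0) (nat_lit 10) (BT.br (nat_lit 0) (nat_lit 102) [] (BT.dead (nat_lit 8) (BT.frm (nat_lit 0) (nat_lit 0) (nat_lit 0) [nat_lit 4] (BT.pln (nat_lit 0) (nat_lit 1) (BT.pln (nat_lit 4) (nat_lit 6) (BT.dif (nat_lit 1) (nat_lit 0) (BT.pln (nat_lit 6) (nat_lit 7) (BT.dif (nat_lit 1) (nat_lit 0) (BT.pln (nat_lit 8) (nat_lit 9) (BT.dif (nat_lit 1) (nat_lit 0) (BT.frm (nat_lit 2) (nat_lit 15)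 (nat_lit 0) [nat_lit 8, nat_lit 11, nat_lit 12] (BT.pln (nat_lit 0) (nat_lit 4) (BT.dif (nat_lit 2) (nat_lit 0) (BT.br (nat_lit 0) (nat_lit 1) [nat_lit 5, nat_lit 7] (BT.dead (nat_lit 1) (BT.pln (nat_lit 14) (nat_lit 5) (BT.frm (nat_lit 3) (nat_lit 0x17190f) (nat_lit 0) [nat_lit 1, nat_lit 13, nat_lit 16, nat_lit 17] (BT.pln (nat_lit 0) (nat_lit 6) (BT.and (nat_lit 2) (nat_lit 0) (BT.pln (nat_lit 2) (nat_lit 7) (BT.dif (nat_lit 1) (nat_lit 0) (BT.pln (nat_lit 4) (nat_lit 8) (BT.dif (nat_lit 1) (nat_lit 0) (BT.br (nat_lit 0) (nat_lit 61) [nat_lit 9] (BT.dead (nat_lit 61) (BT.pln (nat_lit 7) (nat_lit 4) (BT.dif (nat_lit 7) (nat_lit 0) (BT.pln (nat_lit 9) (nat_lit 5) (BT.dif (nat_lit 1) (nat_lit 0) (BT.dif (nat_lit 0) (nat_lit 8) (BT.pln (nat_lit 25) (nat_lit 2) (BT.and (nat_lit 1) (nat_lit 0) (BT.br (nat_lit 0) (nat_lit 11) [nat_lit 11] (BT.dead (nat_lit 11) (BT.img (nat_lit 1) (nat_lit 8) (BT.img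 (nat_lit 1) (nat_lit 18) (BT.frm (nat_lit 4) (nat_lit 0x3117190f) (nat_lit 12595) [nat_lit 2, nat_lit 1, nat_lit 10, nat_lit 0, nat_lit 19, nat_lit 31, nat_lit 34, nat_lit 35] (BT.pln (nat_lit 0) (nat_lit 8) (BT.img (nat_lit 1) (nat_lit 4) (BT.and (nat_lit 1) (nat_lit 0) (BT.cnt (nat_lit 0)))))))) BT.nil))))))))) BT.nil)))))))))) BT.nil))))))))))))) (BT.dead (nat_lit 47) (BT.frm (nat_lit 0) (nat_lit 0) (nat_lit 0) [nat_lit 4] (BT.pln (nat_lit 0) (nat_lit 1) (BT.pln (nat_lit 4) (nat_lit 6) (BT.dif (nat_lit 1) (nat_lit 0) (BT.pln (nat_lit 6) (nat_lit 7) (BT.dif (nat_lit 1) (nat_lit 0) (BT.pln (nat_lit 8) (nat_lit 9) (BT.dif (nat_lit 1) (nat_lit 0) (BT.frm (nat_lit 2) (nat_lit 15) (nat_lit 19) [nat_lit 8, nat_lit 11, nat_lit 12] (BT.pln (nat_lit 0) (nat_lit 4) (BT.dif (nat_lit 2) (nat_lit 0) (BT.br (nat_lit 0) (nat_lit 1) [nat_lit 5, nat_lit 7] (BT.dead (nat_lit 109) (BT.frm (nat_lit 3) (nat_lit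 0x17190f) (nat_lit 8467) [nat_lit 0, nat_lit 12, nat_lit 15, nat_lit 16] (BT.pln (nat_lit 0) (nat_lit 4) (BT.img (nat_lit 1) (nat_lit 2) (BT.and (nat_lit 1) (nat_lit 0) (BT.cnt (nat_lit 0)))))) BT.nil))))))))))))) (BT.dead (nat_lit 21) (BT.frm (nat_lit 0) (nat_lit 0) (nat_lit 0) [nat_lit 4] (BT.pln (nat_lit 0) (nat_lit 1) (BT.pln (nat_lit 4) (nat_lit 6) (BT.dif (nat_lit 1) (nat_lit 0) (BT.pln (nat_lit 6) (nat_lit 7) (BT.dif (nat_lit 1) (nat_lit 0) (BT.pln (nat_lit 8) (nat_lit 9) (BT.dif (nat_lit 1) (nat_lit 0) (BT.frm (nat_lit 2) (nat_lit 15) (nat_lit 13) [nat_lit 8, nat_lit 11, nat_lit 12] (BT.pln (nat_lit 0) (nat_lit 4) (BT.dif (nat_lit 2) (nat_lit 0) (BT.br (nat_lit 0) (nat_lit 1) [nat_lit 5, nat_lit 7] (BT.dead (nat_lit 109) (BT.frm (nat_lit 3) (nat_lit 0x17190f) (nat_lit 6925) [nat_lit 0, nat_lit 12, nat_lit 15, nat_lit 16] (BT.pln (nat_lit 0) (nat_lit 4) (BT.img (nat_lit 1) (nat_lit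 2) (BT.and (nat_lit 1) (nat_lit 0) (BT.cnt (nat_lit 0)))))) BT.nil))))))))))))) (BT.kid (nat_lit 102) (nat_lit 32) (BT.frm (nat_lit 0) (nat_lit 0) (nat_lit 0) [nat_lit 4] (BT.pln (nat_lit 0) (nat_lit 1) (BT.pln (nat_lit 4) (nat_lit 6) (BT.dif (nat_lit 1) (nat_lit 0) (BT.pln (nat_lit 6) (nat_lit 7) (BT.dif (nat_lit 1) (nat_lit 0) (BT.pln (nat_lit 8) (nat_lit 9) (BT.dif (nat_lit 1) (nat_lit 0) (BT.frm (nat_lit 2) (nat_lit 15) (nat_lit 15) [nat_lit 8, nat_lit 11, nat_lit 12] (BT.pln (nat_lit 0) (nat_lit 4) (BT.dif (nat_lit 2) (nat_lit 0) (BT.br (nat_lit 0) (nat_lit 1) [nat_lit 5, nat_lit 7] (BT.kid (nat_lit 1) (nat_lit 4) (BT.pln (nat_lit 14) (nat_lit 5) (BT.frm (nat_lit 3) (nat_lit 0x17190f) (nat_lit 0x17190f) [nat_lit 1, nat_lit 13, nat_lit 16, nat_lit 17] (BT.pln (nat_lit 0) (nat_lit 6) (BT.and (nat_lit 2) (nat_lit 0) (BT.pln (nat_lit 2) (nat_lit 7) (BT.dif (nat_lit 1) (nat_lit 0) (BT.pln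 (nat_lit 4) (nat_lit 8) (BT.dif (nat_lit 1) (nat_lit 0) (BT.br (nat_lit 0) (nat_lit 61) [nat_lit 9] (BT.kid (nat_lit 61) (nat_lit 2) (BT.pln (nat_lit 7) (nat_lit 4) (BT.dif (nat_lit 7) (nat_lit 0) (BT.pln (nat_lit 9) (nat_lit 5) (BT.dif (nat_lit 1) (nat_lit 0) (BT.dif (nat_lit 0) (nat_lit 8) (BT.pln (nat_lit 25) (nat_lit 2) (BT.and (nat_lit 1) (nat_lit 0) (BT.br (nat_lit 0) (nat_lit 11) [nat_lit 11] (BT.kid (nat_lit 11) (nat_lit 1) (BT.img (nat_lit 1) (nat_lit 8) (BT.img (nat_lit 1) (nat_lit 18) (BT.one (nat_lit 4) (nat_lit 0x3117190f) (nat_lit 0x3117190f) [nat_lit 2, nat_lit 1, nat_lit 10, nat_lit 0, nat_lit 19, nat_lit 31, nat_lit 34, nat_lit 35]))) BT.nil))))))))) BT.nil)))))))))) BT.nil))))))))))))) BT.nil)))))))) BT.nil))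

theorem vt_c4_cnt : Cnt 120 (grp 120 vG) [v_b] [v_b] 0 0 0 0 3840 :=
  BT.sound vt_c4_cnt_P Known.nil (t := vt_c4_cnt_t) (d := 0) (by decide +kernel)

theorem vt_c4_ge : 3840 ≤ Nat.card (grp 120 vt_c4_K) :=
  Ch.le_card_grp (k := 7) (L := (lab 120 7)) v_hn vt_c4_K_ok (c := (Ch.cons (nat_lit 0) [nat_lit 1, nat_lit 3] (Ch.cons (nat_lit 1) [nat_lit 5, nat_lit 7] (Ch.cons (nat_lit 61) [nat_lit 9] (Ch.cons (nat_lit 11) [nat_lit 11] Ch.nil))))) (by decide +kernel)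

theorem vt_c4_eq : (grp 120 vG) ⊓ Subgroup.centralizer {Net.toPerm 120 v_b} = grp 120 vt_c4_K :=
  cent_eq vt_c4_sym vt_c4_cnt vt_c4_ge

theorem vt_c4_card : Nat.card ↥((grp 120 vG) ⊓ Subgroup.centralizer {Net.toPerm 120 v_b}) = 3840 :=
  card_cent vt_c4_sym vt_c4_cnt vt_c4_ge

theorem vt_c4_ord : orderOf (Net.toPerm 120 v_b) = 2 :=
  orderOf_net v_hn v_hk v_b_ok (by decide) (ps := [2]) (by set_option linter.unusedSimpArgs false in simp [Nat.primeFactorsList_ofNat]) (by decide +kernel)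

theorem v_le142 : grp 120 vt_c5_K ≤ grp 120 vo_E0 :=
  grp_le_of_memB v_hn v_hk vo_E0_ok vt_c5_K_ok (ws := [nat_lit 0x2f2d29231b0f0b0107, nat_lit 0x2f2d2917210f0719, nat_lit 0x2d2923170719, nat_lit 0x2d2919, nat_lit 0x2f2d291719130719, nat_lit 47, nat_lit 0x17190f]) (by decide +kernel)

theorem vt_c5_le : grp 120 vt_c5_K ≤ (grp 120 vG) :=
  (v_le142.trans vT_s0.le)

theorem vt_c5_mem : Net.toPerm 120 v_s ∈ (grp 120 vG) :=
  vt_c5_le (mem_grp_of_memB v_hn v_hk vt_c5_K_ok v_s_ok (w := (nat_lit 656647)) (by decide +kernel))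

theorem vt_c5_sym : Sym 120 (grp 120 vG) [v_s] vt_c5_K 0 :=
  Sym.of_lab v_hn v_hk (okE_cons.2 ⟨v_s_ok, okE_nil _⟩) vt_c5_K_ok vt_c5_le (kT := 0) (by decide +kernel)

theorem v_le145 : grp 120 v_V144 ≤ grp 120 v_V99 :=
  grp_le_of_memB v_hn v_hk v_V99_ok v_V144_ok (ws := [nat_lit 3335, nat_lit 7, nat_lit 2817]) (by decide +kernel)

theorem vT_s25 : Stab 120 (grp 120 vG) [nat_lit 20, nat_lit 1, nat_lit 8, nat_lit 96, nat_lit 0] v_V144 8 :=
  Stab.step (k := 7) (L := (lab 120 7)) v_hn vT_s10 v_V144_ok v_le145 (c := (Ch.cons (nat_lit 61) [nat_lit 1] (Ch.cons (nat_lit 76) [nat_lit 3] (Ch.cons (nat_lit 6) [nat_lit 5] Ch.nil)))) (by decide +kernel)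

theorem vT_s26 : Stab 120 (grp 120 vG) [nat_lit 61, nat_lit 20, nat_lit 1, nat_lit 8, nat_lit 96, nat_lit 0] v_V146 4 :=
  Stab.step (k := 7) (L := (lab 120 7)) v_hn vT_s25 v_V146_ok (grp_mono (List.subset_append_right [v_g143] _)) (c := (Ch.cons (nat_lit 76) [nat_lit 1] (Ch.cons (nat_lit 6) [nat_lit 3] Ch.nil))) (by decide +kernel)

theorem vT_s27 : Stab 120 (grp 120 vG) [nat_lit 76, nat_lit 61, nat_lit 20, nat_lit 1, nat_lit 8, nat_lit 96, nat_lit 0] v_V147 2 :=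
  Stab.step (k := 7) (L := (lab 120 7)) v_hn vT_s26 v_V147_ok (grp_mono (List.subset_append_right [v_g37] _)) (c := (Ch.cons (nat_lit 6) [nat_lit 1] Ch.nil)) (by decide +kernel)

theorem vT_s28 : Stab 120 (grp 120 vG) [nat_lit 6, nat_lit 76, nat_lit 61, nat_lit 20, nat_lit 1, nat_lit 8, nat_lit 96, nat_lit 0] v_V148 1 :=
  Stab.step (k := 7) (L := (lab 120 7)) v_hn vT_s27 v_V148_ok (grp_mono (List.subset_append_right [v_g19] _)) (c := Ch.nil) (by decide +kernel)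

theorem v_g143_vT : Net.toPerm 120 v_g143 ∈ (grp 120 vG) :=
  vT_s25.le (toPerm_mem_grp (E := v_V144) (List.Mem.head _))

noncomputable def vT_s28_O : ℕ := (nat_lit 0xffffffffffffff0000000000000000ffffff00000000ffffffff00000000ff0000ffff0000ffff0000ffff000000ff00ff00ff00ff00ff00ff00ff00f0f0f0f0f0f0f0f0f0f0f0f0f0f0f0ccccccccccccccccccccccccccccccaaaaaaaaaaaaaaaaaaaaaaaaaaaaaa000000000000000000000000000001000001000000000000000000000000000000000000000000000000000100000000000000000000000000000002000000000000000000000000100000000000000000002000000000000000000000000010000000000000000000000000000000000000000000000040)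

theorem vT_s28_F : Frame 120 (grp 120 vG) 8 15 vT_s28_O 1 1 :=
  IsBase.frame vT_s28.isBase (by decide +kernel)

noncomputable def vt_c5_cnt_L : List ℕ := [1, 4, vT_s1_O, 0, 0, 2, 13, vT_s2_O, 0, 0, 3, 21, vT_s9_O, 0, 0, 4, 10, vT_s10_O, 0, 0, 8, 15, vT_s28_O, 1, 0]

theorem vt_c5_cnt_P : Prob 120 7 (grp 120 vG) vt_c5_cnt_EG [v_s] [v_s] vt_c5_K vt_c5_cnt_L 0 0 :=
  Sym.prob v_hn v_hk vt_c5_sym vt_c5_cnt_EG_ok (grp_cons_le v_b_vT (grp_cons_le v_p0_vT (grp_cons_le v_p1_vT (grp_cons_le v_g7_vT (grp_cons_le v_g3_vT (grp_cons_le v_g4_vT (grp_cons_le v_g10_vT (grp_cons_le v_g16_vT (grp_cons_le v_g11_vT (grp_cons_le v_g12_vT (grp_cons_le v_g13_vT (grp_cons_le v_g22_vT (grp_cons_le v_g21_vT (grp_cons_le v_g26_vT (grp_cons_le v_g19_vT (grp_cons_le v_g20_vT (grp_cons_le v_g23_vT (grp_cons_le v_g30_vT (grp_cons_le v_g31_vT (grp_cons_le v_g32_vT (grp_cons_le v_g37_vT (grp_cons_le v_g38_vT (grp_cons_le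 v_g29_vT (grp_cons_le v_u_vT (grp_cons_le v_g143_vT (grp_nil_le _)))))))))))))))))))))))))) (Frames.cons vT_s1_F (Frames.cons vT_s2_F (Frames.cons vT_s9_F (Frames.cons vT_s10_F (Frames.cons vT_s28_F Frames.nil))))) (okE_cons.2 ⟨v_s_ok, okE_nil _⟩) _

noncomputable def vt_c5_cnt_t : BT := (BT.fix (nat_lit 1) (BT.br (nat_lit 0) (nat_lit 0) [nat_lit 1, nat_lit 3] (BT.dead (nat_lit 9) (BT.frm (nat_lit 0) (nat_lit 0) (nat_lit 0x107010a) [nat_lit 0] (BT.pln (nat_lit 0) (nat_lit 2) (BT.and (nat_lit 3) (nat_lit 0) (BT.br (nat_lit 0) (nat_lit 97) [nat_lit 0xa07010103, nat_lit 0xd040104] (BT.dead (nat_lit 99) (BT.frm (nat_lit 1) (nat_lit 11) (nat_lit 0x80c0107010a) [nat_lit 0, nat_lit 4] (BT.pln (nat_lit 0) (nat_lit 10) (BT.and (nat_lit 4) (nat_lit 0) (BT.br (nat_lit 0) (nat_lit 83) [nat_lit 0xd0b0a05, nat_lit 723209] (BT.dead (nat_lit 4) (BT.pln (nat_lit 7) (nat_lit 1) (BT.dif (nat_lit 0) (nat_lit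 10) (BT.frm (nat_lit 2) (nat_lit 11) (nat_lit 0xf080c0107010a) [nat_lit 2, nat_lit 6, nat_lit 10] (BT.pln (nat_lit 0) (nat_lit 4) (BT.dif (nat_lit 2) (nat_lit 0) (BT.pln (nat_lit 2) (nat_lit 5) (BT.dif (nat_lit 1) (nat_lit 0) (BT.pln (nat_lit 4) (nat_lit 7) (BT.dif (nat_lit 1) (nat_lit 0) (BT.pln (nat_lit 6) (nat_lit 14) (BT.dif (nat_lit 1) (nat_lit 0) (BT.br (nat_lit 0) (nat_lit 1) [nat_lit 262404] (BT.dead (nat_lit 53) (BT.pln (nat_lit 15) (nat_lit 5) (BT.frm (nat_lit 3) (nat_lit 8459) (nat_lit 0x1f0f080c0107010a) [nat_lit 1, nat_lit 13, nat_lit 17, nat_lit 21] (BT.pln (nat_lit 0) (nat_lit 6) (BT.and (nat_lit 2) (nat_lit 0) (BT.pln (nat_lit 2) (nat_lit 7) (BT.dif (nat_lit 1) (nat_lit 0) (BT.pln (nat_lit 4) (nat_lit 8) (BT.dif (nat_lit 1) (nat_lit 0) (BT.br (nat_lit 0) (nat_lit 30) [nat_lit 0xd090907] (BT.dead (nat_lit 58) (BT.dif (nat_lit 27) (nat_lit 4) (BT.and (nat_lit 0) (nat_lit 7) (BT.pln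 (nat_lit 9) (nat_lit 4) (BT.dif (nat_lit 1) (nat_lit 0) (BT.pln (nat_lit 11) (nat_lit 5) (BT.dif (nat_lit 1) (nat_lit 0) (BT.br (nat_lit 0) (nat_lit 11) [nat_lit 11] (BT.dead (nat_lit 32) (BT.img (nat_lit 1) (nat_lit 7) (BT.img (nat_lit 1) (nat_lit 17) (BT.frm (nat_lit 4) (nat_lit 0x3123210b) (nat_lit 0x29231f0f080c0107010a) [nat_lit 2, nat_lit 1, nat_lit 9, nat_lit 0, nat_lit 18, nat_lit 30, nat_lit 34, nat_lit 38] (BT.pln (nat_lit 0) (nat_lit 9) (BT.img (nat_lit 1) (nat_lit 4) (BT.and (nat_lit 1) (nat_lit 0) (BT.cnt (nat_lit 0)))))))) BT.nil)))))))) BT.nil)))))))))) (BT.dead (nat_lit 1) (BT.frm (nat_lit 3) (nat_lit 8459) (nat_lit 0x1b0f080c0107010a) [nat_lit 0, nat_lit 12, nat_lit 16, nat_lit 20] (BT.pln (nat_lit 0) (nat_lit 4) (BT.and (nat_lit 0) (nat_lit 23) (BT.cnt (nat_lit 0))))) BT.nil)))))))))))))) BT.nil))))) (BT.dead (nat_lit 59) (BT.frm (nat_lit 1) (nat_lit 11) (nat_lit 0x90d0107010a)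 [nat_lit 0, nat_lit 4] (BT.pln (nat_lit 0) (nat_lit 10) (BT.and (nat_lit 4) (nat_lit 0) (BT.br (nat_lit 0) (nat_lit 83) [nat_lit 0x905040104, nat_lit 13] (BT.dead (nat_lit 4) (BT.frm (nat_lit 2) (nat_lit 11) (nat_lit 0xf090d0107010a) [nat_lit 0, nat_lit 4, nat_lit 8] (BT.pln (nat_lit 0) (nat_lit 16) (BT.img (nat_lit 1) (nat_lit 2) (BT.and (nat_lit 1) (nat_lit 0) (BT.cnt (nat_lit 0)))))) BT.nil))))) BT.nil)))))) (BT.kid (nat_lit 0) (nat_lit 192) (BT.frm (nat_lit 0) (nat_lit 0) (nat_lit 0) [nat_lit 0] (BT.pln (nat_lit 0) (nat_lit 2) (BT.and (nat_lit 3) (nat_lit 0) (BT.br (nat_lit 0) (nat_lit 97) [nat_lit 3] (BT.dead (nat_lit 39) (BT.frm (nat_lit 1) (nat_lit 11) (nat_lit 7) [nat_lit 0, nat_lit 4] (BT.pln (nat_lit 0) (nat_lit 10) (BT.and (nat_lit 4) (nat_lit 0) (BT.br (nat_lit 0) (nat_lit 83) [nat_lit 723461, nat_lit 656647] (BT.dead (nat_lit 7) (BT.frm (nat_lit 2) (nat_lit 11) (nat_lit 7) [nat_lit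 0, nat_lit 4, nat_lit 8] (BT.pln (nat_lit 0) (nat_lit 16) (BT.img (nat_lit 1) (nat_lit 2) (BT.and (nat_lit 1) (nat_lit 0) (BT.cnt (nat_lit 0)))))) BT.nil))))) (BT.kid (nat_lit 97) (nat_lit 64) (BT.frm (nat_lit 1) (nat_lit 11) (nat_lit 11) [nat_lit 0, nat_lit 4] (BT.pln (nat_lit 0) (nat_lit 10) (BT.and (nat_lit 4) (nat_lit 0) (BT.br (nat_lit 0) (nat_lit 83) [nat_lit 5, nat_lit 7] (BT.kid (nat_lit 83) (nat_lit 16) (BT.pln (nat_lit 7) (nat_lit 1) (BT.dif (nat_lit 0) (nat_lit 10) (BT.frm (nat_lit 2) (nat_lit 11) (nat_lit 11) [nat_lit 2, nat_lit 6, nat_lit 10] (BT.pln (nat_lit 0) (nat_lit 4) (BT.dif (nat_lit 2) (nat_lit 0) (BT.pln (nat_lit 2) (nat_lit 5) (BT.dif (nat_lit 1) (nat_lit 0) (BT.pln (nat_lit 4) (nat_lit 7) (BT.dif (nat_lit 1) (nat_lit 0) (BT.pln (nat_lit 6) (nat_lit 14) (BT.dif (nat_lit 1) (nat_lit 0) (BT.br (nat_lit 0) (nat_lit 1) [nat_lit 9] (BT.dead (nat_lit 12) (BT.frm (nat_lit 3)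 (nat_lit 8459) (nat_lit 0x17210b) [nat_lit 0, nat_lit 12, nat_lit 16, nat_lit 20] (BT.pln (nat_lit 0) (nat_lit 4) (BT.and (nat_lit 0) (nat_lit 23) (BT.cnt (nat_lit 0))))) (BT.kid (nat_lit 1) (nat_lit 4) (BT.pln (nat_lit 15) (nat_lit 5) (BT.frm (nat_lit 3) (nat_lit 8459) (nat_lit 8459) [nat_lit 1, nat_lit 13, nat_lit 17, nat_lit 21] (BT.pln (nat_lit 0) (nat_lit 6) (BT.and (nat_lit 2) (nat_lit 0) (BT.pln (nat_lit 2) (nat_lit 7) (BT.dif (nat_lit 1) (nat_lit 0) (BT.pln (nat_lit 4) (nat_lit 8) (BT.dif (nat_lit 1) (nat_lit 0) (BT.br (nat_lit 0) (nat_lit 30) [nat_lit 11] (BT.kid (nat_lit 30) (nat_lit 2) (BT.dif (nat_lit 27) (nat_lit 4) (BT.and (nat_lit 0) (nat_lit 7) (BT.pln (nat_lit 9) (nat_lit 4) (BT.dif (nat_lit 1) (nat_lit 0) (BT.pln (nat_lit 11) (nat_lit 5) (BT.dif (nat_lit 1) (nat_lit 0) (BT.br (nat_lit 0) (nat_lit 11) [nat_lit 13] (BT.kid (nat_lit 11) (nat_lit 1) (BT.img (nat_lit 1) (nat_lit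 7) (BT.img (nat_lit 1) (nat_lit 17) (BT.one (nat_lit 4) (nat_lit 0x3123210b) (nat_lit 0x3123210b) [nat_lit 2, nat_lit 1, nat_lit 9, nat_lit 0, nat_lit 18, nat_lit 30, nat_lit 34, nat_lit 38]))) BT.nil)))))))) BT.nil)))))))))) BT.nil)))))))))))))) BT.nil))))) BT.nil)))))) BT.nil))))

theorem vt_c5_cnt : Cnt 120 (grp 120 vG) [v_s] [v_s] 0 0 0 0 1920 :=
  BT.sound vt_c5_cnt_P Known.nil (t := vt_c5_cnt_t) (d := 0) (by decide +kernel)

theorem vt_c5_ge : 1920 ≤ Nat.card (grp 120 vt_c5_K) :=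
  Ch.le_card_grp (k := 7) (L := (lab 120 7)) v_hn vt_c5_K_ok (c := (Ch.cons (nat_lit 0) [nat_lit 1] (Ch.cons (nat_lit 97) [nat_lit 3] (Ch.cons (nat_lit 83) [nat_lit 5, nat_lit 7] (Ch.cons (nat_lit 1) [nat_lit 9] (Ch.cons (nat_lit 30) [nat_lit 11] (Ch.cons (nat_lit 11) [nat_lit 13] Ch.nil))))))) (by decide +kernel)

theorem vt_c5_eq : (grp 120 vG) ⊓ Subgroup.centralizer {Net.toPerm 120 v_s} = grp 120 vt_c5_K :=
  cent_eq vt_c5_sym vt_c5_cnt vt_c5_ge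

theorem vt_c5_card : Nat.card ↥((grp 120 vG) ⊓ Subgroup.centralizer {Net.toPerm 120 v_s}) = 1920 :=
  card_cent vt_c5_sym vt_c5_cnt vt_c5_ge

theorem vt_c5_ord : orderOf (Net.toPerm 120 v_s) = 2 :=
  orderOf_net v_hn v_hk v_s_ok (by decide) (ps := [2]) (by set_option linter.unusedSimpArgs false in simp [Nat.primeFactorsList_ofNat]) (by decide +kernel)

theorem v_le155 : grp 120 vt_c6_K ≤ grp 120 vo_E0 :=
  grp_le_of_memB v_hn v_hk vo_E0_ok vt_c6_K_ok (ws := [nat_lit 0x1721080c010319, nat_lit 0x2f19130913010313, nat_lit 0x2f2d172113080b, nat_lit 0x292317190f, nat_lit 0x2f2319070c, nat_lit 0x2f2d2923170f, nat_lit 0x2f29231b080b, nat_lit 47]) (by decide +kernel)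

theorem vt_c6_le : grp 120 vt_c6_K ≤ (grp 120 vG) :=
  (v_le155.trans vT_s0.le)

theorem vt_c6_mem : Net.toPerm 120 v_p1 ∈ (grp 120 vG) :=
  vt_c6_le (mem_grp_of_memB v_hn v_hk vt_c6_K_ok v_p1_ok (w := (nat_lit 722697)) (by decide +kernel))

theorem vt_c6_sym : Sym 120 (grp 120 vG) [v_p1] vt_c6_K 0 :=
  Sym.of_lab v_hn v_hk (okE_cons.2 ⟨v_p1_ok, okE_nil _⟩) vt_c6_K_ok vt_c6_le (kT := 0) (by decide +kernel)

theorem vT_s29 : Stab 120 (grp 120 vG) [nat_lit 64, nat_lit 1, nat_lit 8, nat_lit 96, nat_lit 0] v_V156 8 :=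
  Stab.step (k := 7) (L := (lab 120 7)) v_hn vT_s10 v_V156_ok (grp_mono (List.subset_append_right [v_g30, v_g31, v_g32] _)) (c := (Ch.cons (nat_lit 2) [nat_lit 1, nat_lit 3] (Ch.cons (nat_lit 3) [nat_lit 5] (Ch.cons (nat_lit 14) [nat_lit 7] Ch.nil)))) (by decide +kernel)

theorem vT_s30 : Stab 120 (grp 120 vG) [nat_lit 2, nat_lit 64, nat_lit 1, nat_lit 8, nat_lit 96, nat_lit 0] v_V157 4 :=
  Stab.step (k := 7) (L := (lab 120 7)) v_hn vT_s29 v_V157_ok (grp_mono (List.subset_append_right [v_g37, v_g38] _)) (c := (Ch.cons (nat_lit 3) [nat_lit 1] (Ch.cons (nat_lit 14) [nat_lit 3] Ch.nil))) (by decide +kernel)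

theorem vT_s31 : Stab 120 (grp 120 vG) [nat_lit 3, nat_lit 2, nat_lit 64, nat_lit 1, nat_lit 8, nat_lit 96, nat_lit 0] v_V158 2 :=
  Stab.step (k := 7) (L := (lab 120 7)) v_hn vT_s30 v_V158_ok (grp_mono (List.subset_append_right [v_g29] _)) (c := (Ch.cons (nat_lit 14) [nat_lit 1] Ch.nil)) (by decide +kernel)

theorem vT_s32 : Stab 120 (grp 120 vG) [nat_lit 14, nat_lit 3, nat_lit 2, nat_lit 64, nat_lit 1, nat_lit 8, nat_lit 96, nat_lit 0] v_V159 1 :=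
  Stab.step (k := 7) (L := (lab 120 7)) v_hn vT_s31 v_V159_ok (grp_mono (List.subset_append_right [v_u] _)) (c := Ch.nil) (by decide +kernel)

noncomputable def vT_s32_O : ℕ := (nat_lit 0xffffffffffffff0000000000000000ffffff00000000ffffffff00000000ff0000ffff0000ffff0000ffff000000ff00ff00ff00ff00ff00ff00ff00f0f0f0f0f0f0f0f0f0f0f0f0f0f0f0ccccccccccccccccccccccccccccccaaaaaaaaaaaaaaaaaaaaaaaaaaaaaa000000000000000000000000000001000001000000000000000000000000000000000000000000000000000100000000000000000000000000000002000000000000010000000000000000000000000000000000000000000004000000000000000000000000000008000000000000000000000000004000)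

theorem vT_s32_F : Frame 120 (grp 120 vG) 8 15 vT_s32_O 1 1 :=
  IsBase.frame vT_s32.isBase (by decide +kernel)

noncomputable def vT_s31_O : ℕ := (nat_lit 0x1a3ced7ba0b04000000000000000000000000000002cfa0f1fab379a000fde7dc0805b082cfa0f1c000001ef0030022f7c0043aefda0e3ab2001ef0fcbf22f87a007af860e03f49701e00bab0f2a6358a72863d9935a5c918c0369eba45697922653654acd52c94a0000000000000000000000000000001000001000000000000000000000000000000000000000000000000000100000000000000000000000000000002000000000000010000000000000000000000000000000000000000000004000000000000000000000000000008)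

theorem vT_s31_F : Frame 120 (grp 120 vG) 7 14 vT_s31_O 0 1 :=
  Stab.frame v_hn vT_s31 (by decide +kernel)

noncomputable def vT_s30_O : ℕ := (nat_lit 0x148913000048000000000000000fc26120c0b00004ba0e0323360b6100340a460c4beba6ffafe323300000000d9e06284bbf25ba4c1c54c60b610be960ed3c4fb086f5121fe00eee000f9682c8e74b1e06ca939a970e91cc075c508786ec9dc72c3b551aac592a0000000000000000000000000000001000001000000000000000000000000000000000000000000000000000100000000000000000000000000000002000000000000010000000000000000000000000000000000000000000004)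

theorem vT_s30_F : Frame 120 (grp 120 vG) 6 13 vT_s30_O 0 1 :=
  Stab.frame v_hn vT_s30 (by decide +kernel)

noncomputable def vt_c6_cnt_L : List ℕ := [1, 4, vT_s1_O, 0, 0, 2, 13, vT_s2_O, 0, 0, 3, 21, vT_s9_O, 0, 0, 4, 10, vT_s10_O, 0, 0, 6, 13, vT_s30_O, 0, 0, 7, 14, vT_s31_O, 0, 0, 8, 15, vT_s32_O, 1, 0]

theorem vt_c6_cnt_P : Prob 120 7 (grp 120 vG) vt_c6_cnt_EG [v_p1] [v_p1] vt_c6_K vt_c6_cnt_L 0 0 :=
  Sym.prob v_hn v_hk vt_c6_sym vt_c6_cnt_EG_ok (grp_cons_le v_b_vT (grp_cons_le v_p0_vT (grp_cons_le v_p1_vT (grp_cons_le v_g7_vT (grp_cons_le v_g3_vT (grp_cons_le v_g4_vT (grp_cons_le v_g10_vT (grp_cons_le v_g16_vT (grp_cons_le v_g11_vT (grp_cons_le v_g12_vT (grp_cons_le v_g13_vT (grp_cons_le v_g22_vT (grp_cons_le v_g21_vT (grp_cons_le v_g26_vT (grp_cons_le v_g19_vT (grp_cons_le v_g20_vT (grp_cons_le v_g23_vT (grp_cons_le v_g30_vT (grp_cons_le v_g31_vT (grp_cons_le v_g32_vT (grp_cons_le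 v_g37_vT (grp_cons_le v_g38_vT (grp_cons_le v_g29_vT (grp_cons_le v_u_vT (grp_nil_le _))))))))))))))))))))))))) (Frames.cons vT_s1_F (Frames.cons vT_s2_F (Frames.cons vT_s9_F (Frames.cons vT_s10_F (Frames.cons vT_s30_F (Frames.cons vT_s31_F (Frames.cons vT_s32_F Frames.nil))))))) (okE_cons.2 ⟨v_p1_ok, okE_nil _⟩) _

noncomputable def vt_c6_cnt_t : BT := (BT.fix (nat_lit 1) (BT.br (nat_lit 0) (nat_lit 0) [nat_lit 1, nat_lit 3] (BT.kid (nat_lit 0) (nat_lit 64) (BT.frm (nat_lit 0) (nat_lit 0) (nat_lit 0) [nat_lit 0] (BT.pln (nat_lit 0) (nat_lit 2) (BT.and (nat_lit 3) (nat_lit 0) (BT.br (nat_lit 0) (nat_lit 11) [nat_lit 5] (BT.dead (nat_lit 95) (BT.frm (nat_lit 1) (nat_lit 1799) (nat_lit 2323) [nat_lit 0, nat_lit 4] (BT.pln (nat_lit 0) (nat_lit 10) (BT.and (nat_lit 7) (nat_lit 0) (BT.br (nat_lit 0) (nat_lit 98) [] (BT.dead (nat_lit 98) (BT.pln (nat_lit 7) (nat_lit 1) (BT.pln (nat_lit 4) (nat_lit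 6) (BT.dif (nat_lit 1) (nat_lit 0) (BT.pln (nat_lit 6) (nat_lit 7) (BT.dif (nat_lit 1) (nat_lit 0) (BT.pln (nat_lit 8) (nat_lit 9) (BT.dif (nat_lit 1) (nat_lit 0) (BT.frm (nat_lit 2) (nat_lit 984839) (nat_lit 0x130913) [nat_lit 7, nat_lit 11, nat_lit 15] (BT.pln (nat_lit 0) (nat_lit 4) (BT.dif (nat_lit 2) (nat_lit 0) (BT.br (nat_lit 0) (nat_lit 15) [nat_lit 3847, nat_lit 854793] (BT.dead (nat_lit 109) (BT.dif (nat_lit 17) (nat_lit 20) (BT.pln (nat_lit 4) (nat_lit 3) (BT.and (nat_lit 1) (nat_lit 0) (BT.frm (nat_lit 3) (nat_lit 0x1f0f0707) (nat_lit 0x1721130913) [nat_lit 3, nat_lit 14, nat_lit 18, nat_lit 22] (BT.pln (nat_lit 0) (nat_lit 4) (BT.dif (nat_lit 2) (nat_lit 0) (BT.br (nat_lit 0) (nat_lit 46) [nat_lit 3851] (BT.dead (nat_lit 102) (BT.and (nat_lit 9) (nat_lit 2) (BT.pln (nat_lit 4) (nat_lit 5) (BT.dif (nat_lit 1) (nat_lit 0) (BT.br (nat_lit 0) (nat_lit 112) [nat_lit 3335] (BT.dead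 (nat_lit 37) (BT.pln (nat_lit 7) (nat_lit 9) (BT.and (nat_lit 22) (nat_lit 0) (BT.pln (nat_lit 9) (nat_lit 8) (BT.and (nat_lit 1) (nat_lit 0) (BT.and (nat_lit 0) (nat_lit 10) (BT.img (nat_lit 1) (nat_lit 0) (BT.and (nat_lit 27) (nat_lit 0) (BT.frm (nat_lit 5) (nat_lit 0x1f0f0707) (nat_lit 0x2d291721130913) [nat_lit 7, nat_lit 11, nat_lit 0, nat_lit 18, nat_lit 29, nat_lit 33, nat_lit 37] (BT.pln (nat_lit 0) (nat_lit 7) (BT.img (nat_lit 1) (nat_lit 9) (BT.and (nat_lit 1) (nat_lit 0) (BT.cnt (nat_lit 0))))))))))))) BT.nil))))) BT.nil)))))))) (BT.dead (nat_lit 20) (BT.dif (nat_lit 17) (nat_lit 20) (BT.pln (nat_lit 4) (nat_lit 3) (BT.and (nat_lit 1) (nat_lit 0) (BT.frm (nat_lit 3) (nat_lit 0x1f0f0707) (nat_lit 0x21130913) [nat_lit 3, nat_lit 14, nat_lit 18, nat_lit 22] (BT.pln (nat_lit 0) (nat_lit 4) (BT.dif (nat_lit 2) (nat_lit 0) (BT.br (nat_lit 0) (nat_lit 46) [nat_lit 11] (BT.dead (nat_lit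 81) (BT.and (nat_lit 9) (nat_lit 2) (BT.pln (nat_lit 4) (nat_lit 5) (BT.dif (nat_lit 1) (nat_lit 0) (BT.br (nat_lit 0) (nat_lit 112) [nat_lit 3335] (BT.dead (nat_lit 94) (BT.pln (nat_lit 7) (nat_lit 7) (BT.and (nat_lit 7) (nat_lit 0) (BT.dif (nat_lit 0) (nat_lit 4) (BT.pln (nat_lit 28) (nat_lit 3) (BT.and (nat_lit 1) (nat_lit 0) (BT.br (nat_lit 0) (nat_lit 106) [nat_lit 15] (BT.dead (nat_lit 86) (BT.pln (nat_lit 13) (nat_lit 9) (BT.and (nat_lit 28) (nat_lit 0) (BT.pln (nat_lit 15) (nat_lit 8) (BT.and (nat_lit 1) (nat_lit 0) (BT.and (nat_lit 0) (nat_lit 16) (BT.img (nat_lit 1) (nat_lit 0) (BT.and (nat_lit 33) (nat_lit 0) (BT.frm (nat_lit 6) (nat_lit 0x1f0f0707) (nat_lit 0x2f21130913) [nat_lit 7, nat_lit 13, nat_lit 17, nat_lit 0, nat_lit 24, nat_lit 35, nat_lit 39, nat_lit 43] (BT.pln (nat_lit 0) (nat_lit 9) (BT.img (nat_lit 1) (nat_lit 9) (BT.and (nat_lit 1) (nat_lit 0) (BT.cnt (nat_lit 0)))))))))))))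 BT.nil))))))) BT.nil))))) BT.nil)))))))) BT.nil))))))))))))) (BT.dead (nat_lit 58) (BT.pln (nat_lit 7) (nat_lit 1) (BT.pln (nat_lit 4) (nat_lit 6) (BT.dif (nat_lit 1) (nat_lit 0) (BT.pln (nat_lit 6) (nat_lit 7) (BT.dif (nat_lit 1) (nat_lit 0) (BT.pln (nat_lit 8) (nat_lit 9) (BT.dif (nat_lit 1) (nat_lit 0) (BT.frm (nat_lit 2) (nat_lit 984839) (nat_lit 854291) [nat_lit 7, nat_lit 11, nat_lit 15] (BT.pln (nat_lit 0) (nat_lit 4) (BT.dif (nat_lit 2) (nat_lit 0) (BT.br (nat_lit 0) (nat_lit 15) [nat_lit 1801, nat_lit 2825] (BT.dead (nat_lit 20) (BT.dif (nat_lit 17) (nat_lit 20) (BT.pln (nat_lit 4) (nat_lit 3) (BT.and (nat_lit 1) (nat_lit 0) (BT.frm (nat_lit 3) (nat_lit 0x1f0f0707) (nat_lit 0x1b0d0913) [nat_lit 3, nat_lit 14, nat_lit 18, nat_lit 22] (BT.pln (nat_lit 0) (nat_lit 4) (BT.dif (nat_lit 2) (nat_lit 0) (BT.br (nat_lit 0) (nat_lit 46) [nat_lit 11] (BT.dead (nat_lit 83) (BT.pln (nat_lit 3)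 (nat_lit 9) (BT.and (nat_lit 18) (nat_lit 0) (BT.pln (nat_lit 5) (nat_lit 8) (BT.and (nat_lit 1) (nat_lit 0) (BT.and (nat_lit 0) (nat_lit 6) (BT.img (nat_lit 1) (nat_lit 0) (BT.and (nat_lit 23) (nat_lit 0) (BT.frm (nat_lit 4) (nat_lit 0x1f0f0707) (nat_lit 0x291b0d0913) [nat_lit 7, nat_lit 0, nat_lit 14, nat_lit 25, nat_lit 29, nat_lit 33] (BT.pln (nat_lit 0) (nat_lit 7) (BT.img (nat_lit 1) (nat_lit 9) (BT.and (nat_lit 1) (nat_lit 0) (BT.cnt (nat_lit 0))))))))))))) BT.nil)))))))) (BT.dead (nat_lit 109) (BT.dif (nat_lit 17) (nat_lit 20) (BT.pln (nat_lit 4) (nat_lit 3) (BT.and (nat_lit 1) (nat_lit 0) (BT.frm (nat_lit 3) (nat_lit 0x1f0f0707) (nat_lit 0x1f0d0913) [nat_lit 3, nat_lit 14, nat_lit 18, nat_lit 22] (BT.pln (nat_lit 0) (nat_lit 4) (BT.dif (nat_lit 2) (nat_lit 0) (BT.br (nat_lit 0) (nat_lit 46) [nat_lit 11] (BT.dead (nat_lit 8) (BT.pln (nat_lit 3) (nat_lit 9) (BT.and (nat_lit 18) (nat_lit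 0) (BT.pln (nat_lit 5) (nat_lit 8) (BT.and (nat_lit 1) (nat_lit 0) (BT.and (nat_lit 0) (nat_lit 6) (BT.img (nat_lit 1) (nat_lit 0) (BT.and (nat_lit 23) (nat_lit 0) (BT.frm (nat_lit 4) (nat_lit 0x1f0f0707) (nat_lit 0x291f0d0913) [nat_lit 7, nat_lit 0, nat_lit 14, nat_lit 25, nat_lit 29, nat_lit 33] (BT.pln (nat_lit 0) (nat_lit 7) (BT.img (nat_lit 1) (nat_lit 9) (BT.and (nat_lit 1) (nat_lit 0) (BT.cnt (nat_lit 0))))))))))))) BT.nil)))))))) BT.nil))))))))))))) (BT.dead (nat_lit 11) (BT.pln (nat_lit 7) (nat_lit 1) (BT.pln (nat_lit 4) (nat_lit 6) (BT.dif (nat_lit 1) (nat_lit 0) (BT.pln (nat_lit 6) (nat_lit 7) (BT.dif (nat_lit 1) (nat_lit 0) (BT.pln (nat_lit 8) (nat_lit 9) (BT.dif (nat_lit 1) (nat_lit 0) (BT.frm (nat_lit 2) (nat_lit 984839) (nat_lit 2323) [nat_lit 7, nat_lit 11, nat_lit 15] (BT.pln (nat_lit 0) (nat_lit 4) (BT.dif (nat_lit 2) (nat_lit 0) (BT.br (nat_lit 0) (nat_lit 15) [nat_lit 0xd0b0709,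 nat_lit 13] (BT.dead (nat_lit 4) (BT.frm (nat_lit 3) (nat_lit 0x1f0f0707) (nat_lit 0x170913) [nat_lit 0, nat_lit 11, nat_lit 15, nat_lit 19] (BT.pln (nat_lit 0) (nat_lit 7) (BT.img (nat_lit 1) (nat_lit 2) (BT.and (nat_lit 1) (nat_lit 0) (BT.cnt (nat_lit 0)))))) (BT.dead (nat_lit 112) (BT.frm (nat_lit 3) (nat_lit 0x1f0f0707) (nat_lit 0x1b0913) [nat_lit 0, nat_lit 11, nat_lit 15, nat_lit 19] (BT.pln (nat_lit 0) (nat_lit 4) (BT.img (nat_lit 1) (nat_lit 2) (BT.and (nat_lit 1) (nat_lit 0) (BT.cnt (nat_lit 0)))))) BT.nil))))))))))))) (BT.dead (nat_lit 6) (BT.pln (nat_lit 7) (nat_lit 1) (BT.pln (nat_lit 4) (nat_lit 6) (BT.dif (nat_lit 1) (nat_lit 0) (BT.pln (nat_lit 6) (nat_lit 7) (BT.dif (nat_lit 1) (nat_lit 0) (BT.pln (nat_lit 8) (nat_lit 9) (BT.dif (nat_lit 1) (nat_lit 0) (BT.frm (nat_lit 2) (nat_lit 984839) (nat_lit 985363) [nat_lit 7, nat_lit 11, nat_lit 15] (BT.pln (nat_lit 0) (nat_lit 4) (BT.dif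 (nat_lit 2) (nat_lit 0) (BT.br (nat_lit 0) (nat_lit 15) [nat_lit 853769, nat_lit 9] (BT.dead (nat_lit 4) (BT.frm (nat_lit 3) (nat_lit 0x1f0f0707) (nat_lit 0x190f0913) [nat_lit 0, nat_lit 11, nat_lit 15, nat_lit 19] (BT.pln (nat_lit 0) (nat_lit 7) (BT.img (nat_lit 1) (nat_lit 2) (BT.and (nat_lit 1) (nat_lit 0) (BT.cnt (nat_lit 0)))))) (BT.dead (nat_lit 112) (BT.frm (nat_lit 3) (nat_lit 0x1f0f0707) (nat_lit 0x210f0913) [nat_lit 0, nat_lit 11, nat_lit 15, nat_lit 19] (BT.pln (nat_lit 0) (nat_lit 4) (BT.img (nat_lit 1) (nat_lit 2) (BT.and (nat_lit 1) (nat_lit 0) (BT.cnt (nat_lit 0)))))) BT.nil))))))))))))) BT.nil)))))))) (BT.dead (nat_lit 98) (BT.frm (nat_lit 1) (nat_lit 1799) (nat_lit 8) [nat_lit 0, nat_lit 4] (BT.pln (nat_lit 0) (nat_lit 10) (BT.and (nat_lit 7) (nat_lit 0) (BT.br (nat_lit 0) (nat_lit 98) [nat_lit 5] (BT.dead (nat_lit 6) (BT.pln (nat_lit 7) (nat_lit 1) (BT.pln (nat_lit 4) (nat_lit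 6) (BT.dif (nat_lit 1) (nat_lit 0) (BT.pln (nat_lit 6) (nat_lit 7) (BT.dif (nat_lit 1) (nat_lit 0) (BT.pln (nat_lit 8) (nat_lit 9) (BT.dif (nat_lit 1) (nat_lit 0) (BT.frm (nat_lit 2) (nat_lit 984839) (nat_lit 8) [nat_lit 7, nat_lit 11, nat_lit 15] (BT.pln (nat_lit 0) (nat_lit 4) (BT.dif (nat_lit 2) (nat_lit 0) (BT.br (nat_lit 0) (nat_lit 15) [nat_lit 3337, nat_lit 0xf0d0709] (BT.dead (nat_lit 85) (BT.frm (nat_lit 3) (nat_lit 0x1f0f0707) (nat_lit 6920) [nat_lit 0, nat_lit 11, nat_lit 15, nat_lit 19] (BT.pln (nat_lit 0) (nat_lit 4) (BT.img (nat_lit 1) (nat_lit 2) (BT.and (nat_lit 1) (nat_lit 0) (BT.cnt (nat_lit 0)))))) (BT.dead (nat_lit 15) (BT.frm (nat_lit 3) (nat_lit 0x1f0f0707) (nat_lit 7944) [nat_lit 0, nat_lit 11, nat_lit 15, nat_lit 19] (BT.pln (nat_lit 0) (nat_lit 4) (BT.img (nat_lit 1) (nat_lit 2) (BT.and (nat_lit 1) (nat_lit 0) (BT.cnt (nat_lit 0)))))) BT.nil))))))))))))) (BT.dead (nat_lit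 11) (BT.pln (nat_lit 7) (nat_lit 1) (BT.pln (nat_lit 4) (nat_lit 6) (BT.dif (nat_lit 1) (nat_lit 0) (BT.pln (nat_lit 6) (nat_lit 7) (BT.dif (nat_lit 1) (nat_lit 0) (BT.pln (nat_lit 8) (nat_lit 9) (BT.dif (nat_lit 1) (nat_lit 0) (BT.frm (nat_lit 2) (nat_lit 984839) (nat_lit 3848) [nat_lit 7, nat_lit 11, nat_lit 15] (BT.pln (nat_lit 0) (nat_lit 4) (BT.dif (nat_lit 2) (nat_lit 0) (BT.br (nat_lit 0) (nat_lit 15) [nat_lit 7, nat_lit 9] (BT.dead (nat_lit 15) (BT.frm (nat_lit 3) (nat_lit 0x1f0f0707) (nat_lit 0x17210f08) [nat_lit 0, nat_lit 11, nat_lit 15, nat_lit 19] (BT.pln (nat_lit 0) (nat_lit 4) (BT.img (nat_lit 1) (nat_lit 2) (BT.and (nat_lit 1) (nat_lit 0) (BT.cnt (nat_lit 0)))))) (BT.dead (nat_lit 85) (BT.frm (nat_lit 3) (nat_lit 0x1f0f0707) (nat_lit 0x210f08) [nat_lit 0, nat_lit 11, nat_lit 15, nat_lit 19] (BT.pln (nat_lit 0) (nat_lit 4) (BT.img (nat_lit 1) (nat_lit 2) (BT.and (nat_lit 1)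 (nat_lit 0) (BT.cnt (nat_lit 0)))))) BT.nil))))))))))))) BT.nil)))))) (BT.dead (nat_lit 58) (BT.frm (nat_lit 1) (nat_lit 1799) (nat_lit 12) [nat_lit 0, nat_lit 4] (BT.pln (nat_lit 0) (nat_lit 10) (BT.and (nat_lit 7) (nat_lit 0) (BT.br (nat_lit 0) (nat_lit 98) [nat_lit 5] (BT.dead (nat_lit 6) (BT.pln (nat_lit 7) (nat_lit 1) (BT.pln (nat_lit 4) (nat_lit 6) (BT.dif (nat_lit 1) (nat_lit 0) (BT.pln (nat_lit 6) (nat_lit 7) (BT.dif (nat_lit 1) (nat_lit 0) (BT.pln (nat_lit 8) (nat_lit 9) (BT.dif (nat_lit 1) (nat_lit 0) (BT.frm (nat_lit 2) (nat_lit 984839) (nat_lit 3852) [nat_lit 7, nat_lit 11, nat_lit 15] (BT.pln (nat_lit 0) (nat_lit 4) (BT.dif (nat_lit 2) (nat_lit 0) (BT.br (nat_lit 0) (nat_lit 15) [nat_lit 3337, nat_lit 1801] (BT.dead (nat_lit 85) (BT.frm (nat_lit 3) (nat_lit 0x1f0f0707) (nat_lit 0x17190f0c) [nat_lit 0, nat_lit 11, nat_lit 15, nat_lit 19] (BT.pln (nat_lit 0) (nat_lit 4) (BT.img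 (nat_lit 1) (nat_lit 2) (BT.and (nat_lit 1) (nat_lit 0) (BT.cnt (nat_lit 0)))))) (BT.dead (nat_lit 15) (BT.frm (nat_lit 3) (nat_lit 0x1f0f0707) (nat_lit 0x190f0c) [nat_lit 0, nat_lit 11, nat_lit 15, nat_lit 19] (BT.pln (nat_lit 0) (nat_lit 4) (BT.img (nat_lit 1) (nat_lit 2) (BT.and (nat_lit 1) (nat_lit 0) (BT.cnt (nat_lit 0)))))) BT.nil))))))))))))) (BT.dead (nat_lit 11) (BT.pln (nat_lit 7) (nat_lit 1) (BT.pln (nat_lit 4) (nat_lit 6) (BT.dif (nat_lit 1) (nat_lit 0) (BT.pln (nat_lit 6) (nat_lit 7) (BT.dif (nat_lit 1) (nat_lit 0) (BT.pln (nat_lit 8) (nat_lit 9) (BT.dif (nat_lit 1) (nat_lit 0) (BT.frm (nat_lit 2) (nat_lit 984839) (nat_lit 12) [nat_lit 7, nat_lit 11, nat_lit 15] (BT.pln (nat_lit 0) (nat_lit 4) (BT.dif (nat_lit 2) (nat_lit 0) (BT.br (nat_lit 0) (nat_lit 15) [nat_lit 7, nat_lit 9] (BT.dead (nat_lit 15) (BT.frm (nat_lit 3) (nat_lit 0x1f0f0707) (nat_lit 5900) [nat_lit 0, nat_lit 11,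 nat_lit 15, nat_lit 19] (BT.pln (nat_lit 0) (nat_lit 4) (BT.img (nat_lit 1) (nat_lit 2) (BT.and (nat_lit 1) (nat_lit 0) (BT.cnt (nat_lit 0)))))) (BT.dead (nat_lit 85) (BT.frm (nat_lit 3) (nat_lit 0x1f0f0707) (nat_lit 12) [nat_lit 0, nat_lit 11, nat_lit 15, nat_lit 19] (BT.pln (nat_lit 0) (nat_lit 4) (BT.img (nat_lit 1) (nat_lit 2) (BT.and (nat_lit 1) (nat_lit 0) (BT.cnt (nat_lit 0)))))) BT.nil))))))))))))) BT.nil)))))) (BT.kid (nat_lit 11) (nat_lit 32) (BT.frm (nat_lit 1) (nat_lit 1799) (nat_lit 1799) [nat_lit 0, nat_lit 4] (BT.pln (nat_lit 0) (nat_lit 10) (BT.and (nat_lit 7) (nat_lit 0) (BT.br (nat_lit 0) (nat_lit 98) [] (BT.dead (nat_lit 58) (BT.pln (nat_lit 7) (nat_lit 1) (BT.pln (nat_lit 4) (nat_lit 6) (BT.dif (nat_lit 1) (nat_lit 0) (BT.pln (nat_lit 6) (nat_lit 7) (BT.dif (nat_lit 1) (nat_lit 0) (BT.pln (nat_lit 8) (nat_lit 9) (BT.dif (nat_lit 1) (nat_lit 0) (BT.frm (nat_lit 2) (nat_lit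 984839) (nat_lit 1799) [nat_lit 7, nat_lit 11, nat_lit 15] (BT.pln (nat_lit 0) (nat_lit 4) (BT.dif (nat_lit 2) (nat_lit 0) (BT.br (nat_lit 0) (nat_lit 15) [nat_lit 7, nat_lit 9] (BT.dead (nat_lit 15) (BT.dif (nat_lit 17) (nat_lit 20) (BT.pln (nat_lit 4) (nat_lit 3) (BT.and (nat_lit 1) (nat_lit 0) (BT.frm (nat_lit 3) (nat_lit 0x1f0f0707) (nat_lit 0x17210707) [nat_lit 3, nat_lit 14, nat_lit 18, nat_lit 22] (BT.pln (nat_lit 0) (nat_lit 4) (BT.dif (nat_lit 2) (nat_lit 0) (BT.br (nat_lit 0) (nat_lit 46) [nat_lit 11] (BT.dead (nat_lit 46) (BT.pln (nat_lit 3) (nat_lit 9) (BT.and (nat_lit 18) (nat_lit 0) (BT.pln (nat_lit 5) (nat_lit 8) (BT.and (nat_lit 1) (nat_lit 0) (BT.and (nat_lit 0) (nat_lit 6) (BT.img (nat_lit 1) (nat_lit 0) (BT.and (nat_lit 23) (nat_lit 0) (BT.frm (nat_lit 4) (nat_lit 0x1f0f0707) (nat_lit 0x2917210707) [nat_lit 7, nat_lit 0, nat_lit 14, nat_lit 25, nat_lit 29, nat_lit 33] (BT.pln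 (nat_lit 0) (nat_lit 7) (BT.img (nat_lit 1) (nat_lit 9) (BT.and (nat_lit 1) (nat_lit 0) (BT.cnt (nat_lit 0))))))))))))) BT.nil)))))))) (BT.dead (nat_lit 85) (BT.dif (nat_lit 17) (nat_lit 20) (BT.pln (nat_lit 4) (nat_lit 3) (BT.and (nat_lit 1) (nat_lit 0) (BT.frm (nat_lit 3) (nat_lit 0x1f0f0707) (nat_lit 0x210707) [nat_lit 3, nat_lit 14, nat_lit 18, nat_lit 22] (BT.pln (nat_lit 0) (nat_lit 4) (BT.dif (nat_lit 2) (nat_lit 0) (BT.br (nat_lit 0) (nat_lit 46) [nat_lit 11] (BT.dead (nat_lit 21) (BT.pln (nat_lit 3) (nat_lit 9) (BT.and (nat_lit 18) (nat_lit 0) (BT.pln (nat_lit 5) (nat_lit 8) (BT.and (nat_lit 1) (nat_lit 0) (BT.and (nat_lit 0) (nat_lit 6) (BT.img (nat_lit 1) (nat_lit 0) (BT.and (nat_lit 23) (nat_lit 0) (BT.frm (nat_lit 4) (nat_lit 0x1f0f0707) (nat_lit 0x210707) [nat_lit 7, nat_lit 0, nat_lit 14, nat_lit 25, nat_lit 29, nat_lit 33] (BT.pln (nat_lit 0) (nat_lit 7) (BT.img (nat_lit 1)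 (nat_lit 9) (BT.and (nat_lit 1) (nat_lit 0) (BT.cnt (nat_lit 0))))))))))))) BT.nil)))))))) BT.nil))))))))))))) (BT.dead (nat_lit 95) (BT.pln (nat_lit 7) (nat_lit 1) (BT.pln (nat_lit 4) (nat_lit 6) (BT.dif (nat_lit 1) (nat_lit 0) (BT.pln (nat_lit 6) (nat_lit 7) (BT.dif (nat_lit 1) (nat_lit 0) (BT.pln (nat_lit 8) (nat_lit 9) (BT.dif (nat_lit 1) (nat_lit 0) (BT.frm (nat_lit 2) (nat_lit 984839) (nat_lit 853767) [nat_lit 7, nat_lit 11, nat_lit 15] (BT.pln (nat_lit 0) (nat_lit 4) (BT.dif (nat_lit 2) (nat_lit 0) (BT.br (nat_lit 0) (nat_lit 15) [nat_lit 9, nat_lit 11] (BT.dead (nat_lit 112) (BT.frm (nat_lit 3) (nat_lit 0x1f0f0707) (nat_lit 0x17190d0707) [nat_lit 0, nat_lit 11, nat_lit 15, nat_lit 19] (BT.pln (nat_lit 0) (nat_lit 4) (BT.img (nat_lit 1) (nat_lit 2) (BT.and (nat_lit 1) (nat_lit 0) (BT.cnt (nat_lit 0)))))) (BT.dead (nat_lit 4) (BT.frm (nat_lit 3) (nat_lit 0x1f0f0707) (nat_lit 0x210d0707)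 [nat_lit 0, nat_lit 11, nat_lit 15, nat_lit 19] (BT.pln (nat_lit 0) (nat_lit 7) (BT.img (nat_lit 1) (nat_lit 2) (BT.and (nat_lit 1) (nat_lit 0) (BT.cnt (nat_lit 0)))))) BT.nil))))))))))))) (BT.dead (nat_lit 25) (BT.pln (nat_lit 7) (nat_lit 1) (BT.pln (nat_lit 4) (nat_lit 6) (BT.dif (nat_lit 1) (nat_lit 0) (BT.pln (nat_lit 6) (nat_lit 7) (BT.dif (nat_lit 1) (nat_lit 0) (BT.pln (nat_lit 8) (nat_lit 9) (BT.dif (nat_lit 1) (nat_lit 0) (BT.frm (nat_lit 2) (nat_lit 984839) (nat_lit 0x130707) [nat_lit 7, nat_lit 11, nat_lit 15] (BT.pln (nat_lit 0) (nat_lit 4) (BT.dif (nat_lit 2) (nat_lit 0) (BT.br (nat_lit 0) (nat_lit 15) [nat_lit 9, nat_lit 11] (BT.dead (nat_lit 4) (BT.frm (nat_lit 3) (nat_lit 0x1f0f0707) (nat_lit 0x1b130707) [nat_lit 0, nat_lit 11, nat_lit 15, nat_lit 19] (BT.pln (nat_lit 0) (nat_lit 7) (BT.img (nat_lit 1) (nat_lit 2) (BT.and (nat_lit 1) (nat_lit 0) (BT.cnt (nat_lit 0)))))) (BT.dead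 (nat_lit 112) (BT.frm (nat_lit 3) (nat_lit 0x1f0f0707) (nat_lit 0x130707) [nat_lit 0, nat_lit 11, nat_lit 15, nat_lit 19] (BT.pln (nat_lit 0) (nat_lit 4) (BT.img (nat_lit 1) (nat_lit 2) (BT.and (nat_lit 1) (nat_lit 0) (BT.cnt (nat_lit 0)))))) BT.nil))))))))))))) (BT.kid (nat_lit 98) (nat_lit 32) (BT.pln (nat_lit 7) (nat_lit 1) (BT.pln (nat_lit 4) (nat_lit 6) (BT.dif (nat_lit 1) (nat_lit 0) (BT.pln (nat_lit 6) (nat_lit 7) (BT.dif (nat_lit 1) (nat_lit 0) (BT.pln (nat_lit 8) (nat_lit 9) (BT.dif (nat_lit 1) (nat_lit 0) (BT.frm (nat_lit 2) (nat_lit 984839) (nat_lit 984839) [nat_lit 7, nat_lit 11, nat_lit 15] (BT.pln (nat_lit 0) (nat_lit 4) (BT.dif (nat_lit 2) (nat_lit 0) (BT.br (nat_lit 0) (nat_lit 15) [nat_lit 7, nat_lit 9] (BT.dead (nat_lit 85) (BT.dif (nat_lit 17) (nat_lit 20) (BT.pln (nat_lit 4) (nat_lit 3) (BT.and (nat_lit 1) (nat_lit 0) (BT.frm (nat_lit 3) (nat_lit 0x1f0f0707) (nat_lit 0x1b0f0707)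 [nat_lit 3, nat_lit 14, nat_lit 18, nat_lit 22] (BT.pln (nat_lit 0) (nat_lit 4) (BT.dif (nat_lit 2) (nat_lit 0) (BT.br (nat_lit 0) (nat_lit 46) [nat_lit 3339] (BT.dead (nat_lit 47) (BT.and (nat_lit 9) (nat_lit 2) (BT.pln (nat_lit 4) (nat_lit 5) (BT.dif (nat_lit 1) (nat_lit 0) (BT.br (nat_lit 0) (nat_lit 112) [nat_lit 13] (BT.dead (nat_lit 37) (BT.pln (nat_lit 7) (nat_lit 9) (BT.and (nat_lit 22) (nat_lit 0) (BT.pln (nat_lit 9) (nat_lit 8) (BT.and (nat_lit 1) (nat_lit 0) (BT.and (nat_lit 0) (nat_lit 10) (BT.img (nat_lit 1) (nat_lit 0) (BT.and (nat_lit 27) (nat_lit 0) (BT.frm (nat_lit 5) (nat_lit 0x1f0f0707) (nat_lit 0x291b0f0707) [nat_lit 7, nat_lit 11, nat_lit 0, nat_lit 18, nat_lit 29, nat_lit 33, nat_lit 37] (BT.pln (nat_lit 0) (nat_lit 7) (BT.img (nat_lit 1) (nat_lit 9) (BT.and (nat_lit 1) (nat_lit 0) (BT.cnt (nat_lit 0))))))))))))) BT.nil))))) BT.nil)))))))) (BT.kid (nat_lit 15) (nat_lit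 8) (BT.dif (nat_lit 17) (nat_lit 20) (BT.pln (nat_lit 4) (nat_lit 3) (BT.and (nat_lit 1) (nat_lit 0) (BT.frm (nat_lit 3) (nat_lit 0x1f0f0707) (nat_lit 0x1f0f0707) [nat_lit 3, nat_lit 14, nat_lit 18, nat_lit 22] (BT.pln (nat_lit 0) (nat_lit 4) (BT.dif (nat_lit 2) (nat_lit 0) (BT.br (nat_lit 0) (nat_lit 46) [nat_lit 11] (BT.kid (nat_lit 46) (nat_lit 4) (BT.and (nat_lit 9) (nat_lit 2) (BT.pln (nat_lit 4) (nat_lit 5) (BT.dif (nat_lit 1) (nat_lit 0) (BT.br (nat_lit 0) (nat_lit 112) [nat_lit 13] (BT.kid (nat_lit 112) (nat_lit 2) (BT.pln (nat_lit 7) (nat_lit 7) (BT.and (nat_lit 7) (nat_lit 0) (BT.dif (nat_lit 0) (nat_lit 4) (BT.pln (nat_lit 28) (nat_lit 3) (BT.and (nat_lit 1) (nat_lit 0) (BT.br (nat_lit 0) (nat_lit 106) [nat_lit 15] (BT.kid (nat_lit 106) (nat_lit 1) (BT.pln (nat_lit 13) (nat_lit 9) (BT.and (nat_lit 28) (nat_lit 0) (BT.pln (nat_lit 15) (nat_lit 8) (BT.and (nat_lit 1) (nat_lit 0) (BT.and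 (nat_lit 0) (nat_lit 16) (BT.img (nat_lit 1) (nat_lit 0) (BT.and (nat_lit 33) (nat_lit 0) (BT.one (nat_lit 6) (nat_lit 0x1f0f0707) (nat_lit 0x1f0f0707) [nat_lit 7, nat_lit 13, nat_lit 17, nat_lit 0, nat_lit 24, nat_lit 35, nat_lit 39, nat_lit 43])))))))) BT.nil))))))) BT.nil))))) BT.nil)))))))) BT.nil))))))))))))) BT.nil)))))))) BT.nil)))))))) BT.nil)))

theorem vt_c6_cnt : Cnt 120 (grp 120 vG) [v_p1] [v_p1] 0 0 0 0 512 :=
  BT.sound vt_c6_cnt_P Known.nil (t := vt_c6_cnt_t) (d := 0) (by decide +kernel)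

theorem vt_c6_ge : 512 ≤ Nat.card (grp 120 vt_c6_K) :=
  Ch.le_card_grp (k := 7) (L := (lab 120 7)) v_hn vt_c6_K_ok (c := (Ch.cons (nat_lit 0) [nat_lit 1, nat_lit 3] (Ch.cons (nat_lit 11) [nat_lit 5] (Ch.cons (nat_lit 15) [nat_lit 7, nat_lit 9] (Ch.cons (nat_lit 46) [nat_lit 11] (Ch.cons (nat_lit 112) [nat_lit 13] (Ch.cons (nat_lit 106) [nat_lit 15] Ch.nil))))))) (by decide +kernel)

theorem vt_c6_eq : (grp 120 vG) ⊓ Subgroup.centralizer {Net.toPerm 120 v_p1} = grp 120 vt_c6_K :=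
  cent_eq vt_c6_sym vt_c6_cnt vt_c6_ge

theorem vt_c6_card : Nat.card ↥((grp 120 vG) ⊓ Subgroup.centralizer {Net.toPerm 120 v_p1}) = 512 :=
  card_cent vt_c6_sym vt_c6_cnt vt_c6_ge

theorem vt_c6_ord : orderOf (Net.toPerm 120 v_p1) = 2 :=
  orderOf_net v_hn v_hk v_p1_ok (by decide) (ps := [2]) (by set_option linter.unusedSimpArgs false in simp [Nat.primeFactorsList_ofNat]) (by decide +kernel)

theorem v_le167 : grp 120 vt_c7_K ≤ grp 120 vo_E0 :=
  grp_le_of_memB v_hn v_hk vo_E0_ok vt_c7_K_ok (ws := [nat_lit 0x2917091801070103, nat_lit 0x29190d01030801, nat_lit 0x2d231f130a08010804, nat_lit 0x2917070103010f, nat_lit 0x2917190f080b01080b01, nat_lit 0x2f2d291f0f080b]) (by decide +kernel)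

theorem vt_c7_le : grp 120 vt_c7_K ≤ (grp 120 vG) :=
  (v_le167.trans vT_s0.le)

theorem vt_c7_mem : Net.toPerm 120 v_g160 ∈ (grp 120 vG) :=
  vt_c7_le (mem_grp_of_memB v_hn v_hk vt_c7_K_ok v_g160_ok (w := (nat_lit 2824)) (by decide +kernel))

theorem vt_c7_sym : Sym 120 (grp 120 vG) [v_g160] vt_c7_K 0 :=
  Sym.of_lab v_hn v_hk (okE_cons.2 ⟨v_g160_ok, okE_nil _⟩) vt_c7_K_ok vt_c7_le (kT := 0) (by decide +kernel)

theorem v_le173 : grp 120 v_V172 ≤ grp 120 v_V77 :=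
  grp_le_of_memB v_hn v_hk v_V77_ok v_V172_ok (ws := [nat_lit 0x29231d150905, nat_lit 0x2723111b0d0108, nat_lit 0x231b090205, nat_lit 0x1b090205, nat_lit 10525, nat_lit 0x2923111309, nat_lit 0x23150205]) (by decide +kernel)

theorem vT_s33 : Stab 120 (grp 120 vG) [nat_lit 63, nat_lit 0] v_V172 384 :=
  Stab.step (k := 7) (L := (lab 120 7)) v_hn vT_s1 v_V172_ok v_le173 (c := (Ch.cons (nat_lit 38) [nat_lit 1] (Ch.cons (nat_lit 87) [nat_lit 3, nat_lit 5] (Ch.cons (nat_lit 82) [nat_lit 7] (Ch.cons (nat_lit 61) [nat_lit 9] (Ch.cons (nat_lit 110) [nat_lit 11] (Ch.cons (nat_lit 59) [nat_lit 13] Ch.nil))))))) (by decide +kernel)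

theorem vT_s34 : Stab 120 (grp 120 vG) [nat_lit 38, nat_lit 63, nat_lit 0] v_V174 64 :=
  Stab.step (k := 7) (L := (lab 120 7)) v_hn vT_s33 v_V174_ok (grp_mono (List.subset_append_right [v_g168] _)) (c := (Ch.cons (nat_lit 87) [nat_lit 1, nat_lit 3] (Ch.cons (nat_lit 82) [nat_lit 5] (Ch.cons (nat_lit 61) [nat_lit 7] (Ch.cons (nat_lit 110) [nat_lit 9] (Ch.cons (nat_lit 59) [nat_lit 11] Ch.nil)))))) (by decide +kernel)

theorem vT_s35 : Stab 120 (grp 120 vG) [nat_lit 87, nat_lit 38, nat_lit 63, nat_lit 0] v_V175 16 :=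
  Stab.step (k := 7) (L := (lab 120 7)) v_hn vT_s34 v_V175_ok (grp_mono (List.subset_append_right [v_g169, v_g92] _)) (c := (Ch.cons (nat_lit 82) [nat_lit 1] (Ch.cons (nat_lit 61) [nat_lit 3] (Ch.cons (nat_lit 110) [nat_lit 5] (Ch.cons (nat_lit 59) [nat_lit 7] Ch.nil))))) (by decide +kernel)

theorem vT_s36 : Stab 120 (grp 120 vG) [nat_lit 82, nat_lit 87, nat_lit 38, nat_lit 63, nat_lit 0] v_V176 8 :=
  Stab.step (k := 7) (L := (lab 120 7)) v_hn vT_s35 v_V176_ok (grp_mono (List.subset_append_right [v_g170] _)) (c := (Ch.cons (nat_lit 61) [nat_lit 1] (Ch.cons (nat_lit 110) [nat_lit 3] (Ch.cons (nat_lit 59) [nat_lit 5] Ch.nil)))) (by decide +kernel)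

theorem vT_s37 : Stab 120 (grp 120 vG) [nat_lit 61, nat_lit 82, nat_lit 87, nat_lit 38, nat_lit 63, nat_lit 0] v_V177 4 :=
  Stab.step (k := 7) (L := (lab 120 7)) v_hn vT_s36 v_V177_ok (grp_mono (List.subset_append_right [v_g100] _)) (c := (Ch.cons (nat_lit 110) [nat_lit 1] (Ch.cons (nat_lit 59) [nat_lit 3] Ch.nil))) (by decide +kernel)

theorem vT_s38 : Stab 120 (grp 120 vG) [nat_lit 110, nat_lit 61, nat_lit 82, nat_lit 87, nat_lit 38, nat_lit 63, nat_lit 0] v_V178 2 :=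
  Stab.step (k := 7) (L := (lab 120 7)) v_hn vT_s37 v_V178_ok (grp_mono (List.subset_append_right [v_g117] _)) (c := (Ch.cons (nat_lit 59) [nat_lit 1] Ch.nil)) (by decide +kernel)

theorem vT_s39 : Stab 120 (grp 120 vG) [nat_lit 59, nat_lit 110, nat_lit 61, nat_lit 82, nat_lit 87, nat_lit 38, nat_lit 63, nat_lit 0] v_V179 1 :=
  Stab.step (k := 7) (L := (lab 120 7)) v_hn vT_s38 v_V179_ok (grp_mono (List.subset_append_right [v_g171] _)) (c := Ch.nil) (by decide +kernel)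

theorem v_g168_vT : Net.toPerm 120 v_g168 ∈ (grp 120 vG) :=
  vT_s33.le (toPerm_mem_grp (E := v_V172) (List.Mem.head _))

theorem v_g169_vT : Net.toPerm 120 v_g169 ∈ (grp 120 vG) :=
  vT_s33.le (toPerm_mem_grp (E := v_V172) (List.Mem.tail _ (List.Mem.head _)))

theorem v_g92_vT : Net.toPerm 120 v_g92 ∈ (grp 120 vG) :=
  vT_s33.le (toPerm_mem_grp (E := v_V172) (List.Mem.tail _ (List.Mem.tail _ (List.Mem.head _))))

theorem v_g170_vT : Net.toPerm 120 v_g170 ∈ (grp 120 vG) :=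
  vT_s33.le (toPerm_mem_grp (E := v_V172) (List.Mem.tail _ (List.Mem.tail _ (List.Mem.tail _ (List.Mem.head _)))))

theorem v_g171_vT : Net.toPerm 120 v_g171 ∈ (grp 120 vG) :=
  vT_s33.le (toPerm_mem_grp (E := v_V172) (List.Mem.tail _ (List.Mem.tail _ (List.Mem.tail _ (List.Mem.tail _ (List.Mem.tail _ (List.Mem.tail _ (List.Mem.head _))))))))

noncomputable def vT_s39_O : ℕ := (nat_lit 0xffffffffffffff0000000000000000ffffff00000000ffffffff00000000ff0000ffff0000ffff0000ffff000000ff00ff00ff00ff00ff00ff00ff00f0f0f0f0f0f0f0f0f0f0f0f0f0f0f0ccccccccccccccccccccccccccccccaaaaaaaaaaaaaaaaaaaaaaaaaaaaaa000000000000000000000000000001000000000000008000000000000000000000000000000000004000000000000000008000000000000000000000000000000400000000000000000000000000000000002000000000000000004000000000000000000000000000000000000000000800000000000000)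

theorem vT_s39_F : Frame 120 (grp 120 vG) 8 15 vT_s39_O 1 1 :=
  IsBase.frame vT_s39.isBase (by decide +kernel)

noncomputable def vT_s35_O : ℕ := (nat_lit 0x8004900000000000000000000000fc67b36d0fbbb246000110920018620318080360074c7e7a7f95fa001862ff270b0d4a430d6e7df91a04eec000be165a4345bf0869d786a696e03700f8c93d0945c6e42f276629d58d2cd035e511a76131d924e655aba659aaa8000000000000000000000000000001000000000000008000000000000000000000000000000000004000000000000000008000000000000000000000)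

theorem vT_s35_F : Frame 120 (grp 120 vG) 4 11 vT_s35_O 0 1 :=
  Stab.frame v_hn vT_s35 (by decide +kernel)

noncomputable def vT_s34_O : ℕ := (nat_lit 0x8000000000000000000000000000000004000000000000000000000000000000000000000400000000000000000000000000000200000000000000000000000000000000001000000000000000000000000000000080000000000000000000000000000000001000000000000000000000000000000020000000000000000000000000000002000000400008000000000000000000010000000000000000100000000000000000000000000000000200400000000000000000000000000000010080000202000a000000000000000000003000000004800000000000000000000001810000000200000000000000000000002040001020000000000000000200200000002000100000000000000000100001000000020400000000000000000100010040000100000000000000000200000000204080000000004010000800000000000004000000000000000000004000080801000000000048000000008000000000400000000000080020000008000000200000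00000000108002000000000010000000000000000030001000000008000000000000000000080044000004000000040400000000000001000000800000880000000040000000000000040000000000000004000000020000024000000000000000010100000000008400002000040000000080000000000200000040000000000000000800080100000000800000000000000002000840000000000000000000002001002010000000000000040000200000100008000000000000000000000000000001000000000000008000000000000000000000000000000000004000000000)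

theorem vT_s34_F : Frame 120 (grp 120 vG) 3 40 vT_s34_O 0 1 :=
  Stab.frame v_hn vT_s34 (by decide +kernel)

noncomputable def vT_s33_O : ℕ := (nat_lit 0x2000000000000000000000000000000000010000000000000000000000000000000000010000000000000000000000000000000020080001080020000000040100000000120000400000000801000000002000000000200000000204080000100800000048000000004000000020008400000000100010040000100800000200000004000080400002000001000080000000010000000008002006000043048002044809020000000400000004210200800002800540004040000008c04100001400000030400008400000000000000344010080a01080240000003c3000a00020000000800080100000000000000000000000000000001000000000000008000000000000000)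

theorem vT_s33_F : Frame 120 (grp 120 vG) 2 18 vT_s33_O 0 1 :=
  Stab.frame v_hn vT_s33 (by decide +kernel)

noncomputable def vt_c7_cnt_L : List ℕ := [1, 4, vT_s1_O, 0, 0, 2, 18, vT_s33_O, 0, 0, 3, 40, vT_s34_O, 0, 0, 4, 11, vT_s35_O, 0, 0, 8, 15, vT_s39_O, 1, 0]

theorem vt_c7_cnt_P : Prob 120 7 (grp 120 vG) vt_c7_cnt_EG [v_g160] [v_g160] vt_c7_K vt_c7_cnt_L 0 0 :=
  Sym.prob v_hn v_hk vt_c7_sym vt_c7_cnt_EG_ok (grp_cons_le v_b_vT (grp_cons_le v_p0_vT (grp_cons_le v_p1_vT (grp_cons_le v_g7_vT (grp_cons_le v_g3_vT (grp_cons_le v_g4_vT (grp_cons_le v_g10_vT (grp_cons_le v_g16_vT (grp_cons_le v_g11_vT (grp_cons_le v_g12_vT (grp_cons_le v_g13_vT (grp_cons_le v_g22_vT (grp_cons_le v_g21_vT (grp_cons_le v_g26_vT (grp_cons_le v_g19_vT (grp_cons_le v_g20_vT (grp_cons_le v_g23_vT (grp_cons_le v_g30_vT (grp_cons_le v_g31_vT (grp_cons_le v_g32_vT (grp_cons_le v_g37_vT (grp_cons_le v_g38_vT (grp_cons_le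 v_g29_vT (grp_cons_le v_u_vT (grp_cons_le v_g168_vT (grp_cons_le v_g169_vT (grp_cons_le v_g92_vT (grp_cons_le v_g170_vT (grp_cons_le v_g100_vT (grp_cons_le v_g117_vT (grp_cons_le v_g171_vT (grp_nil_le _)))))))))))))))))))))))))))))))) (Frames.cons vT_s1_F (Frames.cons vT_s33_F (Frames.cons vT_s34_F (Frames.cons vT_s35_F (Frames.cons vT_s39_F Frames.nil))))) (okE_cons.2 ⟨v_g160_ok, okE_nil _⟩) _

noncomputable def vt_c7_cnt_t : BT := (BT.fix (nat_lit 1) (BT.br (nat_lit 0) (nat_lit 18) [nat_lit 1, nat_lit 3] (BT.kid (nat_lit 18) (nat_lit 48) (BT.frm (nat_lit 0) (nat_lit 0x10a0104) (nat_lit 0x10a0104) [nat_lit 0] (BT.pln (nat_lit 0) (nat_lit 1) (BT.and (nat_lit 3) (nat_lit 0) (BT.br (nat_lit 0) (nat_lit 83) [nat_lit 3, nat_lit 5] (BT.kid (nat_lit 83) (nat_lit 12) (BT.frm (nat_lit 1) (nat_lit 0x709010a0104) (nat_lit 0x709010a0104) [nat_lit 0, nat_lit 4] (BT.pln (nat_lit 0) (nat_lit 13) (BT.and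 (nat_lit 4) (nat_lit 0) (BT.br (nat_lit 0) (nat_lit 92) [nat_lit 7] (BT.dead (nat_lit 30) (BT.img (nat_lit 1) (nat_lit 0) (BT.frm (nat_lit 3) (nat_lit 0x3531350709010a0104) (nat_lit 0x33353135310709010a0104) [nat_lit 0, nat_lit 1, nat_lit 5, nat_lit 9] (BT.pln (nat_lit 0) (nat_lit 4) (BT.frm (nat_lit 2) (nat_lit 0x31350709010a0104) (nat_lit 0x3135310709010a0104) [nat_lit 3, nat_lit 7, nat_lit 11] (BT.pln (nat_lit 0) (nat_lit 32) (BT.img (nat_lit 1) (nat_lit 0) (BT.img (nat_lit 1) (nat_lit 0) (BT.and (nat_lit 4) (nat_lit 0) (BT.cnt (nat_lit 0)))))))))) (BT.kid (nat_lit 92) (nat_lit 4) (BT.frm (nat_lit 2) (nat_lit 0x31350709010a0104) (nat_lit 0x31350709010a0104) [nat_lit 0, nat_lit 4, nat_lit 8] (BT.pln (nat_lit 0) (nat_lit 25) (BT.pln (nat_lit 1) (nat_lit 23) (BT.img (nat_lit 1) (nat_lit 0) (BT.dif (nat_lit 2) (nat_lit 0) (BT.br (nat_lit 0) (nat_lit 15) [nat_lit 9] (BT.kid (nat_lit 15) (nat_lit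 2) (BT.pln (nat_lit 5) (nat_lit 15) (BT.and (nat_lit 13) (nat_lit 0) (BT.pln (nat_lit 7) (nat_lit 8) (BT.img (nat_lit 1) (nat_lit 0) (BT.dif (nat_lit 2) (nat_lit 0) (BT.br (nat_lit 0) (nat_lit 79) [nat_lit 11] (BT.kid (nat_lit 79) (nat_lit 1) (BT.img (nat_lit 1) (nat_lit 6) (BT.img (nat_lit 1) (nat_lit 0) (BT.img (nat_lit 1) (nat_lit 14) (BT.one (nat_lit 4) (nat_lit 0x3d3b39373531350709010a0104) (nat_lit 0x3d3b39373531350709010a0104) [nat_lit 3, nat_lit 1, nat_lit 2, nat_lit 9, nat_lit 0, nat_lit 15, nat_lit 19, nat_lit 23])))) BT.nil))))))) BT.nil))))))) BT.nil)))))) BT.nil))))) BT.nil)))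

theorem vt_c7_cnt : Cnt 120 (grp 120 vG) [v_g160] [v_g160] 0 0 0 0 288 :=
  BT.sound vt_c7_cnt_P Known.nil (t := vt_c7_cnt_t) (d := 0) (by decide +kernel)

theorem vt_c7_ge : 288 ≤ Nat.card (grp 120 vt_c7_K) :=
  Ch.le_card_grp (k := 7) (L := (lab 120 7)) v_hn vt_c7_K_ok (c := (Ch.cons (nat_lit 18) [nat_lit 1] (Ch.cons (nat_lit 83) [nat_lit 3, nat_lit 5] (Ch.cons (nat_lit 92) [nat_lit 7] (Ch.cons (nat_lit 15) [nat_lit 9] (Ch.cons (nat_lit 79) [nat_lit 11] Ch.nil)))))) (by decide +kernel)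

theorem vt_c7_eq : (grp 120 vG) ⊓ Subgroup.centralizer {Net.toPerm 120 v_g160} = grp 120 vt_c7_K :=
  cent_eq vt_c7_sym vt_c7_cnt vt_c7_ge

theorem vt_c7_card : Nat.card ↥((grp 120 vG) ⊓ Subgroup.centralizer {Net.toPerm 120 v_g160}) = 288 :=
  card_cent vt_c7_sym vt_c7_cnt vt_c7_ge

theorem vt_c7_ord : orderOf (Net.toPerm 120 v_g160) = 3 :=
  orderOf_net v_hn v_hk v_g160_ok (by decide) (ps := [3]) (by set_option linter.unusedSimpArgs false in simp [Nat.primeFactorsList_ofNat]) (by decide +kernel)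

theorem v_le183 : grp 120 vt_c8_K ≤ grp 120 vo_E0 :=
  grp_le_of_memB v_hn v_hk vo_E0_ok vt_c8_K_ok (ws := [nat_lit 0x2f2d17190f07070c0103010704, nat_lit 0x2f2317190907]) (by decide +kernel)

theorem vt_c8_le : grp 120 vt_c8_K ≤ (grp 120 vG) :=
  (v_le183.trans vT_s0.le)

theorem vt_c8_mem : Net.toPerm 120 v_g180 ∈ (grp 120 vG) :=
  vt_c8_le (mem_grp_of_memB v_hn v_hk vt_c8_K_ok v_g180_ok (w := (nat_lit 0x40202040202)) (by decide +kernel))

theorem vt_c8_sym : Sym 120 (grp 120 vG) [v_g180] vt_c8_K 0 :=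
  Sym.of_lab v_hn v_hk (okE_cons.2 ⟨v_g180_ok, okE_nil _⟩) vt_c8_K_ok vt_c8_le (kT := 0) (by decide +kernel)

theorem v_le185 : grp 120 v_V184 ≤ grp 120 v_V175 :=
  grp_le_of_memB v_hn v_hk v_V175_ok v_V184_ok (ws := [nat_lit 1, nat_lit 1283, nat_lit 0x7050301]) (by decide +kernel)

theorem vT_s40 : Stab 120 (grp 120 vG) [nat_lit 116, nat_lit 87, nat_lit 38, nat_lit 63, nat_lit 0] v_V184 8 :=
  Stab.step (k := 7) (L := (lab 120 7)) v_hn vT_s35 v_V184_ok v_le185 (c := (Ch.cons (nat_lit 51) [nat_lit 1] (Ch.cons (nat_lit 99) [nat_lit 3] (Ch.cons (nat_lit 30) [nat_lit 5] Ch.nil)))) (by decide +kernel)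

theorem vT_s41 : Stab 120 (grp 120 vG) [nat_lit 51, nat_lit 116, nat_lit 87, nat_lit 38, nat_lit 63, nat_lit 0] v_V186 4 :=
  Stab.step (k := 7) (L := (lab 120 7)) v_hn vT_s40 v_V186_ok (grp_mono (List.subset_append_right [v_g170] _)) (c := (Ch.cons (nat_lit 99) [nat_lit 1] (Ch.cons (nat_lit 30) [nat_lit 3] Ch.nil))) (by decide +kernel)

theorem vT_s42 : Stab 120 (grp 120 vG) [nat_lit 99, nat_lit 51, nat_lit 116, nat_lit 87, nat_lit 38, nat_lit 63, nat_lit 0] v_V187 2 :=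
  Stab.step (k := 7) (L := (lab 120 7)) v_hn vT_s41 v_V187_ok (grp_mono (List.subset_append_right [v_g113] _)) (c := (Ch.cons (nat_lit 30) [nat_lit 1] Ch.nil)) (by decide +kernel)

theorem vT_s43 : Stab 120 (grp 120 vG) [nat_lit 30, nat_lit 99, nat_lit 51, nat_lit 116, nat_lit 87, nat_lit 38, nat_lit 63, nat_lit 0] v_V188 1 :=
  Stab.step (k := 7) (L := (lab 120 7)) v_hn vT_s42 v_V188_ok (grp_mono (List.subset_append_right [v_g30] _)) (c := Ch.nil) (by decide +kernel)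

theorem v_g113_vT : Net.toPerm 120 v_g113 ∈ (grp 120 vG) :=
  vT_s40.le (toPerm_mem_grp (E := v_V184) (List.Mem.tail _ (List.Mem.head _)))

noncomputable def vT_s43_O : ℕ := (nat_lit 0xffffffffffffff0000000000000000ffffff00000000ffffffff00000000ff0000ffff0000ffff0000ffff000000ff00ff00ff00ff00ff00ff00ff00f0f0f0f0f0f0f0f0f0f0f0f0f0f0f0ccccccccccccccccccccccccccccccaaaaaaaaaaaaaaaaaaaaaaaaaaaaaa000000000000000000000000000001000000000000008000000000000000000000000000000000004000000000000000008000000000000000000000100000000000000000000000000000000000000000000008000000000000000008000000000000000000000000000000000000000000000040000000)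

theorem vT_s43_F : Frame 120 (grp 120 vG) 8 15 vT_s43_O 1 1 :=
  IsBase.frame vT_s43.isBase (by decide +kernel)

noncomputable def vT_s41_O : ℕ := (nat_lit 0xaad1959000000000000000000000004426020d0133824610093493003872010828634fbffe6e727fb140000000aac028616ffbba3845800ebfec3800a111b0412fb82557b77404be82c6720e1747236f87157420eb86a963e1e0cd94cce92a2ed14b245a2f35589558000000000000000000000000000001000000000000008000000000000000000000000000000000004000000000000000008000000000000000000000100000000000000000000000000000000000000000000008000000000000)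

theorem vT_s41_F : Frame 120 (grp 120 vG) 6 13 vT_s41_O 0 1 :=
  Stab.frame v_hn vT_s41 (by decide +kernel)

noncomputable def vt_c8_cnt_L : List ℕ := [2, 18, vT_s33_O, 0, 0, 3, 40, vT_s34_O, 0, 0, 4, 11, vT_s35_O, 0, 0, 6, 13, vT_s41_O, 0, 0, 8, 15, vT_s43_O, 1, 0]

theorem vt_c8_cnt_P : Prob 120 7 (grp 120 vG) vt_c8_cnt_EG [v_g180] [v_g180] vt_c8_K vt_c8_cnt_L 0 0 :=
  Sym.prob v_hn v_hk vt_c8_sym vt_c8_cnt_EG_ok (grp_cons_le v_g7_vT (grp_cons_le v_g3_vT (grp_cons_le v_g4_vT (grp_cons_le v_g10_vT (grp_cons_le v_g16_vT (grp_cons_le v_g11_vT (grp_cons_le v_g12_vT (grp_cons_le v_g13_vT (grp_cons_le v_g22_vT (grp_cons_le v_g21_vT (grp_cons_le v_g26_vT (grp_cons_le v_g19_vT (grp_cons_le v_g20_vT (grp_cons_le v_g23_vT (grp_cons_le v_g30_vT (grp_cons_le v_g31_vT (grp_cons_le v_g32_vT (grp_cons_le v_g37_vT (grp_cons_le v_g38_vT (grp_cons_le v_g29_vT (grp_cons_le v_u_vT (grp_cons_le v_b_vT (grp_cons_le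 v_p0_vT (grp_cons_le v_p1_vT (grp_cons_le v_g168_vT (grp_cons_le v_g169_vT (grp_cons_le v_g92_vT (grp_cons_le v_g170_vT (grp_cons_le v_g100_vT (grp_cons_le v_g117_vT (grp_cons_le v_g171_vT (grp_cons_le v_g113_vT (grp_nil_le _))))))))))))))))))))))))))))))))) (Frames.cons vT_s33_F (Frames.cons vT_s34_F (Frames.cons vT_s35_F (Frames.cons vT_s41_F (Frames.cons vT_s43_F Frames.nil))))) (okE_cons.2 ⟨v_g180_ok, okE_nil _⟩) _

noncomputable def vt_c8_cnt_t : BT := (BT.br (nat_lit 2) (nat_lit 0) [nat_lit 1, nat_lit 3] (BT.dead (nat_lit 1) (BT.img (nat_lit 1) (nat_lit 0) (BT.frm (nat_lit 0) (nat_lit 531) (nat_lit 0x112b2f2b2d03) [nat_lit 0, nat_lit 1] (BT.pln (nat_lit 0) (nat_lit 14) (BT.img (nat_lit 1) (nat_lit 2) (BT.and (nat_lit 1) (nat_lit 0) (BT.cnt (nat_lit 0))))))) (BT.kid (nat_lit 0) (nat_lit 3) (BT.img (nat_lit 1) (nat_lit 0) (BT.frm (nat_lit 0) (nat_lit 531) (nat_lit 531) [nat_lit 0, nat_lit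 1] (BT.pln (nat_lit 0) (nat_lit 13) (BT.br (nat_lit 0) (nat_lit 1) [nat_lit 3] (BT.dead (nat_lit 36) (BT.frm (nat_lit 1) (nat_lit 0x310213) (nat_lit 0x31350213) [nat_lit 0, nat_lit 3, nat_lit 4] (BT.pln (nat_lit 0) (nat_lit 37) (BT.img (nat_lit 1) (nat_lit 0) (BT.frm (nat_lit 2) (nat_lit 0x33310213) (nat_lit 0x333531350213) [nat_lit 0, nat_lit 3, nat_lit 6, nat_lit 7] (BT.pln (nat_lit 0) (nat_lit 4) (BT.img (nat_lit 1) (nat_lit 2) (BT.and (nat_lit 1) (nat_lit 0) (BT.cnt (nat_lit 0))))))))) (BT.kid (nat_lit 1) (nat_lit 1) (BT.frm (nat_lit 1) (nat_lit 0x310213) (nat_lit 0x310213) [nat_lit 0, nat_lit 3, nat_lit 4] (BT.pln (nat_lit 0) (nat_lit 25) (BT.pln (nat_lit 1) (nat_lit 37) (BT.img (nat_lit 1) (nat_lit 0) (BT.frm (nat_lit 2) (nat_lit 0x33310213) (nat_lit 0x33310213) [nat_lit 0, nat_lit 4, nat_lit 7, nat_lit 8] (BT.pln (nat_lit 0) (nat_lit 4) (BT.and (nat_lit 4) (nat_lit 0) (BT.br (nat_lit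 0) (nat_lit 115) [] (BT.dead (nat_lit 119) (BT.img (nat_lit 1) (nat_lit 0) (BT.frm (nat_lit 3) (nat_lit 0x3733310213) (nat_lit 0x373933310213) [nat_lit 0, nat_lit 1, nat_lit 5, nat_lit 9, nat_lit 12, nat_lit 13] (BT.pln (nat_lit 0) (nat_lit 6) (BT.img (nat_lit 1) (nat_lit 2) (BT.and (nat_lit 1) (nat_lit 0) (BT.cnt (nat_lit 0))))))) (BT.kid (nat_lit 115) (nat_lit 1) (BT.dif (nat_lit 15) (nat_lit 2) (BT.pln (nat_lit 4) (nat_lit 8) (BT.and (nat_lit 1) (nat_lit 0) (BT.pln (nat_lit 6) (nat_lit 5) (BT.and (nat_lit 1) (nat_lit 0) (BT.pln (nat_lit 8) (nat_lit 6) (BT.and (nat_lit 1) (nat_lit 0) (BT.pln (nat_lit 10) (nat_lit 7) (BT.and (nat_lit 1) (nat_lit 0) (BT.dif (nat_lit 0) (nat_lit 18) (BT.br (nat_lit 0) (nat_lit 5) [] (BT.dead (nat_lit 31) (BT.img (nat_lit 1) (nat_lit 0) (BT.img (nat_lit 1) (nat_lit 12) (BT.frm (nat_lit 4) (nat_lit 0x3733310213) (nat_lit 0x1d3f3733310213) [nat_lit 1, nat_lit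 2, nat_lit 0, nat_lit 13, nat_lit 17, nat_lit 21, nat_lit 24, nat_lit 25] (BT.pln (nat_lit 0) (nat_lit 8) (BT.img (nat_lit 1) (nat_lit 3) (BT.and (nat_lit 1) (nat_lit 0) (BT.cnt (nat_lit 0)))))))) (BT.kid (nat_lit 5) (nat_lit 1) (BT.img (nat_lit 1) (nat_lit 0) (BT.img (nat_lit 1) (nat_lit 12) (BT.one (nat_lit 4) (nat_lit 0x3733310213) (nat_lit 0x3733310213) [nat_lit 1, nat_lit 2, nat_lit 0, nat_lit 13, nat_lit 17, nat_lit 21, nat_lit 24, nat_lit 25]))) BT.nil))))))))))))) BT.nil)))))))))) BT.nil)))))) BT.nil)))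

theorem vt_c8_cnt : Cnt 120 (grp 120 vG) [v_g180] [v_g180] 0 0 0 0 180 :=
  BT.sound vt_c8_cnt_P Known.nil (t := vt_c8_cnt_t) (d := 0) (by decide +kernel)

theorem vt_c8_ge : 180 ≤ Nat.card (grp 120 vt_c8_K) :=
  Ch.le_card_grp (k := 7) (L := (lab 120 7)) v_hn vt_c8_K_ok (c := (Ch.cons (nat_lit 0) [nat_lit 1] (Ch.cons (nat_lit 1) [nat_lit 3] Ch.nil))) (by decide +kernel)

theorem vt_c8_eq : (grp 120 vG) ⊓ Subgroup.centralizer {Net.toPerm 120 v_g180} = grp 120 vt_c8_K :=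
  cent_eq vt_c8_sym vt_c8_cnt vt_c8_ge

theorem vt_c8_card : Nat.card ↥((grp 120 vG) ⊓ Subgroup.centralizer {Net.toPerm 120 v_g180}) = 180 :=
  card_cent vt_c8_sym vt_c8_cnt vt_c8_ge

theorem vt_c8_ord : orderOf (Net.toPerm 120 v_g180) = 3 :=
  orderOf_net v_hn v_hk v_g180_ok (by decide) (ps := [3]) (by set_option linter.unusedSimpArgs false in simp [Nat.primeFactorsList_ofNat]) (by decide +kernel)

theorem v_le195 : grp 120 vt_c9_K ≤ grp 120 vo_E0 :=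
  grp_le_of_memB v_hn v_hk vo_E0_ok vt_c9_K_ok (ws := [nat_lit 0x2f2317090105010313, nat_lit 0x2f2d2917190d080a0104010b01, nat_lit 0x2d2921130707010313, nat_lit 0x2d231721080b, nat_lit 0x2f2d291f0f080b, nat_lit 0x2f2d1721080b]) (by decide +kernel)

theorem vt_c9_le : grp 120 vt_c9_K ≤ (grp 120 vG) :=
  (v_le195.trans vT_s0.le)

theorem vt_c9_mem : Net.toPerm 120 v_g189 ∈ (grp 120 vG) :=
  vt_c9_le (mem_grp_of_memB v_hn v_hk vt_c9_K_ok v_g189_ok (w := (nat_lit 0xb070303)) (by decide +kernel))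

theorem vt_c9_sym : Sym 120 (grp 120 vG) [v_g189] vt_c9_K 0 :=
  Sym.of_lab v_hn v_hk (okE_cons.2 ⟨v_g189_ok, okE_nil _⟩) vt_c9_K_ok vt_c9_le (kT := 0) (by decide +kernel)

theorem v_le199 : grp 120 v_V198 ≤ grp 120 v_V172 :=
  grp_le_of_memB v_hn v_hk v_V172_ok v_V198_ok (ws := [nat_lit 2821, nat_lit 0xd0b0907, nat_lit 0x7010501, nat_lit 5, nat_lit 0xb0907010501]) (by decide +kernel)

theorem vT_s44 : Stab 120 (grp 120 vG) [nat_lit 37, nat_lit 63, nat_lit 0] v_V198 32 :=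
  Stab.step (k := 7) (L := (lab 120 7)) v_hn vT_s33 v_V198_ok v_le199 (c := (Ch.cons (nat_lit 71) [nat_lit 1] (Ch.cons (nat_lit 60) [nat_lit 3] (Ch.cons (nat_lit 46) [nat_lit 5] (Ch.cons (nat_lit 14) [nat_lit 7] (Ch.cons (nat_lit 118) [nat_lit 9] Ch.nil)))))) (by decide +kernel)

theorem vT_s45 : Stab 120 (grp 120 vG) [nat_lit 71, nat_lit 37, nat_lit 63, nat_lit 0] v_V200 16 :=
  Stab.step (k := 7) (L := (lab 120 7)) v_hn vT_s44 v_V200_ok (grp_mono (List.subset_append_right [v_g196] _)) (c := (Ch.cons (nat_lit 60) [nat_lit 1] (Ch.cons (nat_lit 46) [nat_lit 3] (Ch.cons (nat_lit 14) [nat_lit 5] (Ch.cons (nat_lit 118) [nat_lit 7] Ch.nil))))) (by decide +kernel)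

theorem vT_s46 : Stab 120 (grp 120 vG) [nat_lit 60, nat_lit 71, nat_lit 37, nat_lit 63, nat_lit 0] v_V201 8 :=
  Stab.step (k := 7) (L := (lab 120 7)) v_hn vT_s45 v_V201_ok (grp_mono (List.subset_append_right [v_g30] _)) (c := (Ch.cons (nat_lit 46) [nat_lit 1] (Ch.cons (nat_lit 14) [nat_lit 3] (Ch.cons (nat_lit 118) [nat_lit 5] Ch.nil)))) (by decide +kernel)

theorem vT_s47 : Stab 120 (grp 120 vG) [nat_lit 46, nat_lit 60, nat_lit 71, nat_lit 37, nat_lit 63, nat_lit 0] v_V202 4 :=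
  Stab.step (k := 7) (L := (lab 120 7)) v_hn vT_s46 v_V202_ok (grp_mono (List.subset_append_right [v_g197] _)) (c := (Ch.cons (nat_lit 14) [nat_lit 1] (Ch.cons (nat_lit 118) [nat_lit 3] Ch.nil))) (by decide +kernel)

theorem vT_s48 : Stab 120 (grp 120 vG) [nat_lit 14, nat_lit 46, nat_lit 60, nat_lit 71, nat_lit 37, nat_lit 63, nat_lit 0] v_V203 2 :=
  Stab.step (k := 7) (L := (lab 120 7)) v_hn vT_s47 v_V203_ok (grp_mono (List.subset_append_right [v_g92] _)) (c := (Ch.cons (nat_lit 118) [nat_lit 1] Ch.nil)) (by decide +kernel)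

theorem vT_s49 : Stab 120 (grp 120 vG) [nat_lit 118, nat_lit 14, nat_lit 46, nat_lit 60, nat_lit 71, nat_lit 37, nat_lit 63, nat_lit 0] v_V204 1 :=
  Stab.step (k := 7) (L := (lab 120 7)) v_hn vT_s48 v_V204_ok (grp_mono (List.subset_append_right [v_g29] _)) (c := Ch.nil) (by decide +kernel)

theorem v_g197_vT : Net.toPerm 120 v_g197 ∈ (grp 120 vG) :=
  vT_s46.le (toPerm_mem_grp (E := v_V201) (List.Mem.head _))

theorem v_g196_vT : Net.toPerm 120 v_g196 ∈ (grp 120 vG) :=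
  vT_s44.le (toPerm_mem_grp (E := v_V198) (List.Mem.head _))

noncomputable def vT_s49_O : ℕ := (nat_lit 0xffffffffffffff0000000000000000ffffff00000000ffffffff00000000ff0000ffff0000ffff0000ffff000000ff00ff00ff00ff00ff00ff00ff00f0f0f0f0f0f0f0f0f0f0f0f0f0f0f0ccccccccccccccccccccccccccccccaaaaaaaaaaaaaaaaaaaaaaaaaaaaaa000000000000000000000000000001000000000000008000000000000000000000000000000000002000000000000000000000800000000000000000000000000000001000000000000000000000000000000000400000000000000000000000000000000000004000400000000000000000000000000000)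

theorem vT_s49_F : Frame 120 (grp 120 vG) 8 15 vT_s49_O 1 1 :=
  IsBase.frame vT_s49.isBase (by decide +kernel)

noncomputable def vT_s47_O : ℕ := (nat_lit 0x344c400004a0000000000000000000c823134c0b184402ac28134d4033120380ac23c0177e6efe3fd34c0000003010acb1e052766ead800c33ec3312cf5fa3b8a0127f03523c163343f4808e726205ee176960f1ab05e1e2cb60ad39593781961d49c9329d1998ae58000000000000000000000000000001000000000000008000000000000000000000000000000000002000000000000000000000800000000000000000000000000000001000000000000000000000000000000000400000000000)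

theorem vT_s47_F : Frame 120 (grp 120 vG) 6 13 vT_s47_O 0 1 :=
  Stab.frame v_hn vT_s47 (by decide +kernel)

noncomputable def vT_s44_O : ℕ := (nat_lit 0xfe67bf6dcfbaba6e50001001003012fdbf031e200544122e7fd57d003012014030c28fffa5022bff9a03eef010bd9cd0a14fb05663a9f85742e1078230939ff0ab4e160da3664cb38c2e62c9c24ae92e89d95b62554b2b589d4a000000000000000000000000000001000000000000008000000000000000000000000000000000002000000000)

theorem vT_s44_F : Frame 120 (grp 120 vG) 3 9 vT_s44_O 0 1 :=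
  Stab.frame v_hn vT_s44 (by decide +kernel)

noncomputable def vt_c9_cnt_L : List ℕ := [1, 4, vT_s1_O, 0, 0, 2, 18, vT_s33_O, 0, 0, 3, 9, vT_s44_O, 0, 0, 6, 13, vT_s47_O, 0, 0, 8, 15, vT_s49_O, 1, 0]

theorem vt_c9_cnt_P : Prob 120 7 (grp 120 vG) vt_c9_cnt_EG [v_g189] [v_g189] vt_c9_K vt_c9_cnt_L 0 0 :=
  Sym.prob v_hn v_hk vt_c9_sym vt_c9_cnt_EG_ok (grp_cons_le v_b_vT (grp_cons_le v_p0_vT (grp_cons_le v_p1_vT (grp_cons_le v_g7_vT (grp_cons_le v_g3_vT (grp_cons_le v_g4_vT (grp_cons_le v_g10_vT (grp_cons_le v_g16_vT (grp_cons_le v_g11_vT (grp_cons_le v_g12_vT (grp_cons_le v_g13_vT (grp_cons_le v_g22_vT (grp_cons_le v_g21_vT (grp_cons_le v_g26_vT (grp_cons_le v_g19_vT (grp_cons_le v_g20_vT (grp_cons_le v_g23_vT (grp_cons_le v_g30_vT (grp_cons_le v_g31_vT (grp_cons_le v_g32_vT (grp_cons_le v_g37_vT (grp_cons_le v_g38_vT (grp_cons_le v_g29_vT (grp_cons_le v_u_vT (grp_cons_le v_g168_vT (grp_cons_le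 v_g169_vT (grp_cons_le v_g92_vT (grp_cons_le v_g170_vT (grp_cons_le v_g100_vT (grp_cons_le v_g117_vT (grp_cons_le v_g171_vT (grp_cons_le v_g197_vT (grp_cons_le v_g196_vT (grp_nil_le _)))))))))))))))))))))))))))))))))) (Frames.cons vT_s1_F (Frames.cons vT_s33_F (Frames.cons vT_s44_F (Frames.cons vT_s47_F (Frames.cons vT_s49_F Frames.nil))))) (okE_cons.2 ⟨v_g189_ok, okE_nil _⟩) _

noncomputable def vt_c9_cnt_t : BT := (BT.fix (nat_lit 1) (BT.br (nat_lit 0) (nat_lit 28) [nat_lit 1] (BT.dead (nat_lit 30) (BT.frm (nat_lit 0) (nat_lit 0x1070105) (nat_lit 0x1040108) [nat_lit 0] (BT.pln (nat_lit 0) (nat_lit 1) (BT.fix (nat_lit 257) (BT.dif (nat_lit 1) (nat_lit 0) (BT.br (nat_lit 0) (nat_lit 69) [nat_lit 722692, nat_lit 6] (BT.dead (nat_lit 100) (BT.dif (nat_lit 9) (nat_lit 2) (BT.frm (nat_lit 1) (nat_lit 0xb01070105) (nat_lit 0x80e01040108) [nat_lit 1, nat_lit 6] (BT.pln (nat_lit 0) (nat_lit 6) (BT.and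 (nat_lit 2) (nat_lit 0) (BT.img (nat_lit 1) (nat_lit 4) (BT.frm (nat_lit 2) (nat_lit 0x33370b01070105) (nat_lit 0x31080e01040108) [nat_lit 0, nat_lit 5, nat_lit 10] (BT.pln (nat_lit 0) (nat_lit 5) (BT.dif (nat_lit 3) (nat_lit 0) (BT.br (nat_lit 0) (nat_lit 75) [nat_lit 2825] (BT.dead (nat_lit 14) (BT.pln (nat_lit 3) (nat_lit 7) (BT.and (nat_lit 3) (nat_lit 0) (BT.pln (nat_lit 15) (nat_lit 2) (BT.and (nat_lit 1) (nat_lit 0) (BT.br (nat_lit 0) (nat_lit 17) [nat_lit 7] (BT.dead (nat_lit 94) (BT.img (nat_lit 1) (nat_lit 5) (BT.frm (nat_lit 3) (nat_lit 0x3f2333370b01070105) (nat_lit 0x3f4131080e01040108) [nat_lit 1, nat_lit 0, nat_lit 6, nat_lit 10, nat_lit 15, nat_lit 20] (BT.pln (nat_lit 0) (nat_lit 6) (BT.img (nat_lit 1) (nat_lit 3) (BT.and (nat_lit 1) (nat_lit 0) (BT.cnt (nat_lit 0))))))) BT.nil)))))) BT.nil)))))))))) BT.nil)))))) (BT.kid (nat_lit 28) (nat_lit 128) (BT.frm (nat_lit 0) (nat_lit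 0x1070105) (nat_lit 0x1070105) [nat_lit 0] (BT.pln (nat_lit 0) (nat_lit 1) (BT.fix (nat_lit 257) (BT.dif (nat_lit 1) (nat_lit 0) (BT.br (nat_lit 0) (nat_lit 69) [nat_lit 3, nat_lit 5] (BT.kid (nat_lit 69) (nat_lit 8) (BT.dif (nat_lit 9) (nat_lit 2) (BT.frm (nat_lit 1) (nat_lit 0xb01070105) (nat_lit 0xb01070105) [nat_lit 1, nat_lit 6] (BT.pln (nat_lit 0) (nat_lit 6) (BT.and (nat_lit 2) (nat_lit 0) (BT.img (nat_lit 1) (nat_lit 4) (BT.frm (nat_lit 2) (nat_lit 0x33370b01070105) (nat_lit 0x33370b01070105) [nat_lit 0, nat_lit 5, nat_lit 10] (BT.pln (nat_lit 0) (nat_lit 5) (BT.dif (nat_lit 3) (nat_lit 0) (BT.br (nat_lit 0) (nat_lit 75) [nat_lit 7] (BT.kid (nat_lit 75) (nat_lit 4) (BT.pln (nat_lit 3) (nat_lit 7) (BT.and (nat_lit 3) (nat_lit 0) (BT.pln (nat_lit 15) (nat_lit 2) (BT.and (nat_lit 1) (nat_lit 0) (BT.br (nat_lit 0) (nat_lit 17) [nat_lit 9] (BT.kid (nat_lit 17) (nat_lit 2) (BT.dif (nat_lit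 23) (nat_lit 7) (BT.pln (nat_lit 9) (nat_lit 6) (BT.and (nat_lit 1) (nat_lit 0) (BT.dif (nat_lit 0) (nat_lit 19) (BT.pln (nat_lit 12) (nat_lit 8) (BT.dif (nat_lit 1) (nat_lit 0) (BT.pln (nat_lit 14) (nat_lit 4) (BT.dif (nat_lit 1) (nat_lit 0) (BT.br (nat_lit 0) (nat_lit 33) [nat_lit 11] (BT.kid (nat_lit 33) (nat_lit 1) (BT.img (nat_lit 1) (nat_lit 0) (BT.img (nat_lit 1) (nat_lit 15) (BT.one (nat_lit 4) (nat_lit 0x2d353f2333370b01070105) (nat_lit 0x2d353f2333370b01070105) [nat_lit 1, nat_lit 2, nat_lit 11, nat_lit 0, nat_lit 16, nat_lit 20, nat_lit 25, nat_lit 30]))) BT.nil)))))))))) BT.nil)))))) BT.nil)))))))))) BT.nil)))))) BT.nil))))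

theorem vt_c9_cnt : Cnt 120 (grp 120 vG) [v_g189] [v_g189] 0 0 0 0 512 :=
  BT.sound vt_c9_cnt_P Known.nil (t := vt_c9_cnt_t) (d := 0) (by decide +kernel)

theorem vt_c9_ge : 512 ≤ Nat.card (grp 120 vt_c9_K) :=
  Ch.le_card_grp (k := 7) (L := (lab 120 7)) v_hn vt_c9_K_ok (c := (Ch.cons (nat_lit 28) [nat_lit 1] (Ch.cons (nat_lit 69) [nat_lit 3, nat_lit 5] (Ch.cons (nat_lit 75) [nat_lit 7] (Ch.cons (nat_lit 17) [nat_lit 9] (Ch.cons (nat_lit 33) [nat_lit 11] Ch.nil)))))) (by decide +kernel)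

theorem vt_c9_eq : (grp 120 vG) ⊓ Subgroup.centralizer {Net.toPerm 120 v_g189} = grp 120 vt_c9_K :=
  cent_eq vt_c9_sym vt_c9_cnt vt_c9_ge

theorem vt_c9_card : Nat.card ↥((grp 120 vG) ⊓ Subgroup.centralizer {Net.toPerm 120 v_g189}) = 512 :=
  card_cent vt_c9_sym vt_c9_cnt vt_c9_ge

theorem vt_c9_ord : orderOf (Net.toPerm 120 v_g189) = 4 :=
  orderOf_net v_hn v_hk v_g189_ok (by decide) (ps := [2]) (by set_option linter.unusedSimpArgs false in simp [Nat.primeFactorsList_ofNat]) (by decide +kernel)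

theorem v_le213 : grp 120 vt_c10_K ≤ grp 120 vo_E0 :=
  grp_le_of_memB v_hn v_hk vo_E0_ok vt_c10_K_ok (ws := [nat_lit 0x1b0d090e0103010801, nat_lit 0x2f2d292317210f07010507, nat_lit 0x2f29210f070a010b, nat_lit 0x2d230f0719, nat_lit 0x2f29171907, nat_lit 0x2f2d29190f0719, nat_lit 0x291721080b]) (by decide +kernel)

theorem vt_c10_le : grp 120 vt_c10_K ≤ (grp 120 vG) :=
  (v_le213.trans vT_s0.le)

theorem vt_c10_mem : Net.toPerm 120 v_g205 ∈ (grp 120 vG) :=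
  vt_c10_le (mem_grp_of_memB v_hn v_hk vt_c10_K_ok v_g205_ok (w := (nat_lit 3333)) (by decide +kernel))

theorem vt_c10_sym : Sym 120 (grp 120 vG) [v_g205] vt_c10_K 0 :=
  Sym.of_lab v_hn v_hk (okE_cons.2 ⟨v_g205_ok, okE_nil _⟩) vt_c10_K_ok vt_c10_le (kT := 0) (by decide +kernel)

theorem v_le219 : grp 120 v_V218 ≤ grp 120 v_V78 :=
  grp_le_of_memB v_hn v_hk v_V78_ok v_V218_ok (ws := [nat_lit 0x231d170d, nat_lit 0x21170d07, nat_lit 0x23211d170d, nat_lit 0x231d0b0d03, nat_lit 0x2321170b03, nat_lit 0x1d170b0d03]) (by decide +kernel)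

theorem vT_s50 : Stab 120 (grp 120 vG) [nat_lit 37, nat_lit 96, nat_lit 0] v_V218 64 :=
  Stab.step (k := 7) (L := (lab 120 7)) v_hn vT_s2 v_V218_ok v_le219 (c := (Ch.cons (nat_lit 58) [nat_lit 1] (Ch.cons (nat_lit 82) [nat_lit 3, nat_lit 5] (Ch.cons (nat_lit 113) [nat_lit 7] (Ch.cons (nat_lit 36) [nat_lit 9] (Ch.cons (nat_lit 3) [nat_lit 11] Ch.nil)))))) (by decide +kernel)

theorem vT_s51 : Stab 120 (grp 120 vG) [nat_lit 58, nat_lit 37, nat_lit 96, nat_lit 0] v_V220 32 :=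
  Stab.step (k := 7) (L := (lab 120 7)) v_hn vT_s50 v_V220_ok (grp_mono (List.subset_append_right [v_g214] _)) (c := (Ch.cons (nat_lit 82) [nat_lit 1, nat_lit 3] (Ch.cons (nat_lit 113) [nat_lit 5] (Ch.cons (nat_lit 36) [nat_lit 7] (Ch.cons (nat_lit 3) [nat_lit 9] Ch.nil))))) (by decide +kernel)

theorem vT_s52 : Stab 120 (grp 120 vG) [nat_lit 82, nat_lit 58, nat_lit 37, nat_lit 96, nat_lit 0] v_V221 8 :=
  Stab.step (k := 7) (L := (lab 120 7)) v_hn vT_s51 v_V221_ok (grp_mono (List.subset_append_right [v_g215, v_g216] _)) (c := (Ch.cons (nat_lit 113) [nat_lit 1] (Ch.cons (nat_lit 36) [nat_lit 3] (Ch.cons (nat_lit 3) [nat_lit 5] Ch.nil)))) (by decide +kernel)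

theorem vT_s53 : Stab 120 (grp 120 vG) [nat_lit 113, nat_lit 82, nat_lit 58, nat_lit 37, nat_lit 96, nat_lit 0] v_V222 4 :=
  Stab.step (k := 7) (L := (lab 120 7)) v_hn vT_s52 v_V222_ok (grp_mono (List.subset_append_right [v_g117] _)) (c := (Ch.cons (nat_lit 36) [nat_lit 1] (Ch.cons (nat_lit 3) [nat_lit 3] Ch.nil))) (by decide +kernel)

theorem vT_s54 : Stab 120 (grp 120 vG) [nat_lit 36, nat_lit 113, nat_lit 82, nat_lit 58, nat_lit 37, nat_lit 96, nat_lit 0] v_V223 2 :=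
  Stab.step (k := 7) (L := (lab 120 7)) v_hn vT_s53 v_V223_ok (grp_mono (List.subset_append_right [v_g217] _)) (c := (Ch.cons (nat_lit 3) [nat_lit 1] Ch.nil)) (by decide +kernel)

theorem vT_s55 : Stab 120 (grp 120 vG) [nat_lit 3, nat_lit 36, nat_lit 113, nat_lit 82, nat_lit 58, nat_lit 37, nat_lit 96, nat_lit 0] v_V224 1 :=
  Stab.step (k := 7) (L := (lab 120 7)) v_hn vT_s54 v_V224_ok (grp_mono (List.subset_append_right [v_g113] _)) (c := Ch.nil) (by decide +kernel)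

theorem v_g214_vT : Net.toPerm 120 v_g214 ∈ (grp 120 vG) :=
  vT_s50.le (toPerm_mem_grp (E := v_V218) (List.Mem.head _))

theorem v_g215_vT : Net.toPerm 120 v_g215 ∈ (grp 120 vG) :=
  vT_s50.le (toPerm_mem_grp (E := v_V218) (List.Mem.tail _ (List.Mem.head _)))

theorem v_g216_vT : Net.toPerm 120 v_g216 ∈ (grp 120 vG) :=
  vT_s50.le (toPerm_mem_grp (E := v_V218) (List.Mem.tail _ (List.Mem.tail _ (List.Mem.head _))))

theorem v_g217_vT : Net.toPerm 120 v_g217 ∈ (grp 120 vG) :=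
  vT_s50.le (toPerm_mem_grp (E := v_V218) (List.Mem.tail _ (List.Mem.tail _ (List.Mem.tail _ (List.Mem.tail _ (List.Mem.head _))))))

noncomputable def vT_s55_O : ℕ := (nat_lit 0xffffffffffffff0000000000000000ffffff00000000ffffffff00000000ff0000ffff0000ffff0000ffff000000ff00ff00ff00ff00ff00ff00ff00f0f0f0f0f0f0f0f0f0f0f0f0f0f0f0ccccccccccccccccccccccccccccccaaaaaaaaaaaaaaaaaaaaaaaaaaaaaa000000000000000000000000000001000001000000000000000000000000000000000000000000002000000000000000000000000400000000000000000000000400000000000000000000020000000000000000000000000000000000000000000000001000000000000000000000000000000000000008)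

theorem vT_s55_F : Frame 120 (grp 120 vG) 8 15 vT_s55_O 1 1 :=
  IsBase.frame vT_s55.isBase (by decide +kernel)

noncomputable def vT_s52_O : ℕ := (nat_lit 0x4001a4180000000000000000000000bc661265cbfbf2620205011104201003980883a0c76e5a7e7fc57e000000bf060a0180c76d8979fa0a01eef41042b9d8078bf00a4af3c0ce41ed2bd0f9e06c47aa0b8f58c135c2a9d6c32836353877318a578a9dac85a5a1b2a4000000000000000000000000000001000001000000000000000000000000000000000000000000002000000000000000000000000400000000000000000000000400000000000000000000)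

theorem vT_s52_F : Frame 120 (grp 120 vG) 5 12 vT_s52_O 0 1 :=
  Stab.frame v_hn vT_s52 (by decide +kernel)

noncomputable def vT_s51_O : ℕ := (nat_lit 0x1000000000000000000000000000000800000000000000000000000000000040000000000000000000000000000001000000000000000000000000000000100000000000000000000000000000080000000000000000000000000000000020000000000000000000000000000010000000000000000000000000000000200000000000000000000000000000040000000000000000000000000000002000000000000000000000000000000000100000000000000000000000000000000100000000000000000000000000000010000000000000000000000000000000020000000000000000000000000000000104000000804800000000000000000000040000000308000000000000000000404000040000020000000000000008a0000000000000010000000000000000000000a0000002040000000000001000040000800000010000000000000001000010000000808000000000000020202000000000000800000000030100000000000000000040000000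0000000000000400002040100000000002000042000000000000020000000000800000000001000000048000000000000000004000004020004000000000000200000100001000000800000000020000040200000000000040000000000000000080040000000024000008000000000008000004000001000000000000000040100200000000400000008000000000880000000000200000040000000000000800000200100000000000000000000000200410080000000800000000000000002000840000000000000010000000000108008000000001000000000000800080004000000000000000000000000000001000001000000000000000000000000000000000000000000002000000000000000000000000400000000000000)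

theorem vT_s51_F : Frame 120 (grp 120 vG) 4 44 vT_s51_O 0 1 :=
  Stab.frame v_hn vT_s51 (by decide +kernel)

noncomputable def vT_s50_O : ℕ := (nat_lit 0x1000000000000000000000000000000001000000000000000000000000000000100000000000000000000000000000000000040000000000000000000000000000002000000000000000000000000000000000000100000000000000000000000000000010000000000000000000000000000000020000000000000000000000000000000100000000080020000000000000000000000800000000200000000000000000000040000000004000000000000000000000000010000000100000000004000000804800000000000000000000040000000308000000000000000000404000040000020000000000000008a0000000000000010000000000000000000000a0000002040000000000001000040000800000010000000000000001000010000000808000000000000020202000000000000800000000030100000000000000000040000000000000000000040000204010000000000200004200000000000002000000000080000000000100000004800000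0000000000004000004020004000000000000200000100001000000800000000020000040200000000000040000000000000000080040000000024000008000000000008000004000001000000000000000040100200000000400000008000000000880000000000200000040000000000000800000200100000000000000000000000200410080000000800000000000000002000840000000000000010000000000108008000000001000000000000800080004000000000000000000000000000001000001000000000000000000000000000000000000000000002000000000)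

theorem vT_s50_F : Frame 120 (grp 120 vG) 3 40 vT_s50_O 0 1 :=
  Stab.frame v_hn vT_s50 (by decide +kernel)

noncomputable def vt_c10_cnt_L : List ℕ := [1, 4, vT_s1_O, 0, 0, 2, 13, vT_s2_O, 0, 0, 3, 40, vT_s50_O, 0, 0, 4, 44, vT_s51_O, 0, 0, 5, 12, vT_s52_O, 0, 0, 8, 15, vT_s55_O, 1, 0]

theorem vt_c10_cnt_P : Prob 120 7 (grp 120 vG) vt_c10_cnt_EG [v_g205] [v_g205] vt_c10_K vt_c10_cnt_L 0 0 :=
  Sym.prob v_hn v_hk vt_c10_sym vt_c10_cnt_EG_ok (grp_cons_le v_b_vT (grp_cons_le v_p0_vT (grp_cons_le v_p1_vT (grp_cons_le v_g7_vT (grp_cons_le v_g3_vT (grp_cons_le v_g4_vT (grp_cons_le v_g10_vT (grp_cons_le v_g16_vT (grp_cons_le v_g11_vT (grp_cons_le v_g12_vT (grp_cons_le v_g13_vT (grp_cons_le v_g22_vT (grp_cons_le v_g21_vT (grp_cons_le v_g26_vT (grp_cons_le v_g19_vT (grp_cons_le v_g20_vT (grp_cons_le v_g23_vT (grp_cons_le v_g30_vT (grp_cons_le v_g31_vT (grp_cons_le v_g32_vT (grp_cons_le v_g37_vT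 (grp_cons_le v_g38_vT (grp_cons_le v_g29_vT (grp_cons_le v_u_vT (grp_cons_le v_g214_vT (grp_cons_le v_g215_vT (grp_cons_le v_g216_vT (grp_cons_le v_g117_vT (grp_cons_le v_g217_vT (grp_cons_le v_g113_vT (grp_nil_le _))))))))))))))))))))))))))))))) (Frames.cons vT_s1_F (Frames.cons vT_s2_F (Frames.cons vT_s50_F (Frames.cons vT_s51_F (Frames.cons vT_s52_F (Frames.cons vT_s55_F Frames.nil)))))) (okE_cons.2 ⟨v_g205_ok, okE_nil _⟩) _

noncomputable def vt_c10_cnt_t : BT := (BT.fix (nat_lit 1) (BT.br (nat_lit 0) (nat_lit 5) [nat_lit 1, nat_lit 3] (BT.dead (nat_lit 31) (BT.frm (nat_lit 0) (nat_lit 0x104010501) (nat_lit 0x105010809) [nat_lit 0] (BT.pln (nat_lit 0) (nat_lit 2) (BT.and (nat_lit 3) (nat_lit 0) (BT.br (nat_lit 0) (nat_lit 64) [] (BT.dead (nat_lit 15) (BT.frm (nat_lit 1) (nat_lit 0x8090104010501) (nat_lit 0x90e0105010809) [nat_lit 0, nat_lit 4] (BT.pln (nat_lit 0) (nat_lit 7) (BT.dif (nat_lit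 0) (nat_lit 7) (BT.br (nat_lit 0) (nat_lit 0) [nat_lit 459525, nat_lit 592645] (BT.dead (nat_lit 57) (BT.frm (nat_lit 2) (nat_lit 0xd08090104010501) (nat_lit 0x21090e0105010809) [nat_lit 0, nat_lit 4, nat_lit 8] (BT.pln (nat_lit 0) (nat_lit 28) (BT.and (nat_lit 8) (nat_lit 0) (BT.br (nat_lit 0) (nat_lit 35) [nat_lit 2311] (BT.dead (nat_lit 19) (BT.frm (nat_lit 3) (nat_lit 0xd08090104010501) (nat_lit 0x3121090e0105010809) [nat_lit 0, nat_lit 4, nat_lit 8, nat_lit 12] (BT.pln (nat_lit 0) (nat_lit 35) (BT.img (nat_lit 1) (nat_lit 2) (BT.and (nat_lit 1) (nat_lit 0) (BT.cnt (nat_lit 0)))))) BT.nil))))) BT.nil))))) (BT.dead (nat_lit 64) (BT.frm (nat_lit 1) (nat_lit 0x8090104010501) (nat_lit 0xa080105010809) [nat_lit 0, nat_lit 4] (BT.pln (nat_lit 0) (nat_lit 7) (BT.dif (nat_lit 0) (nat_lit 7) (BT.br (nat_lit 0) (nat_lit 0) [nat_lit 722693, nat_lit 591619] (BT.dead (nat_lit 105) (BT.frm (nat_lit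 2) (nat_lit 0xd08090104010501) (nat_lit 0x210a080105010809) [nat_lit 0, nat_lit 4, nat_lit 8] (BT.pln (nat_lit 0) (nat_lit 34) (BT.img (nat_lit 1) (nat_lit 2) (BT.and (nat_lit 1) (nat_lit 0) (BT.cnt (nat_lit 0)))))) BT.nil))))) BT.nil)))))) (BT.kid (nat_lit 5) (nat_lit 64) (BT.frm (nat_lit 0) (nat_lit 0x104010501) (nat_lit 0x104010501) [nat_lit 0] (BT.pln (nat_lit 0) (nat_lit 2) (BT.and (nat_lit 3) (nat_lit 0) (BT.br (nat_lit 0) (nat_lit 64) [] (BT.dead (nat_lit 15) (BT.frm (nat_lit 1) (nat_lit 0x8090104010501) (nat_lit 0x9070104010501) [nat_lit 0, nat_lit 4] (BT.pln (nat_lit 0) (nat_lit 7) (BT.dif (nat_lit 0) (nat_lit 7) (BT.br (nat_lit 0) (nat_lit 0) [nat_lit 3, nat_lit 5] (BT.dead (nat_lit 0) (BT.frm (nat_lit 2) (nat_lit 0xd08090104010501) (nat_lit 0x1009070104010501) [nat_lit 0, nat_lit 4, nat_lit 8] (BT.pln (nat_lit 0) (nat_lit 34) (BT.img (nat_lit 1) (nat_lit 2) (BT.and (nat_lit 1) (nat_lit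 0) (BT.cnt (nat_lit 0)))))) BT.nil))))) (BT.kid (nat_lit 64) (nat_lit 64) (BT.frm (nat_lit 1) (nat_lit 0x8090104010501) (nat_lit 0x8090104010501) [nat_lit 0, nat_lit 4] (BT.pln (nat_lit 0) (nat_lit 7) (BT.dif (nat_lit 0) (nat_lit 7) (BT.br (nat_lit 0) (nat_lit 0) [nat_lit 3, nat_lit 5] (BT.kid (nat_lit 0) (nat_lit 16) (BT.frm (nat_lit 2) (nat_lit 0xd08090104010501) (nat_lit 0xd08090104010501) [nat_lit 0, nat_lit 4, nat_lit 8] (BT.pln (nat_lit 0) (nat_lit 28) (BT.and (nat_lit 8) (nat_lit 0) (BT.br (nat_lit 0) (nat_lit 35) [nat_lit 7] (BT.kid (nat_lit 35) (nat_lit 8) (BT.pln (nat_lit 3) (nat_lit 26) (BT.br (nat_lit 0) (nat_lit 27) [nat_lit 9, nat_lit 11] (BT.kid (nat_lit 27) (nat_lit 2) (BT.pln (nat_lit 13) (nat_lit 1) (BT.fix (nat_lit 257) (BT.dif (nat_lit 1) (nat_lit 0) (BT.frm (nat_lit 4) (nat_lit 0x330d08090104010501) (nat_lit 0x330d08090104010501) [nat_lit 3, nat_lit 5, nat_lit 9, nat_lit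 13, nat_lit 17] (BT.pln (nat_lit 0) (nat_lit 6) (BT.dif (nat_lit 2) (nat_lit 0) (BT.pln (nat_lit 2) (nat_lit 5) (BT.dif (nat_lit 1) (nat_lit 0) (BT.br (nat_lit 0) (nat_lit 67) [nat_lit 13] (BT.kid (nat_lit 67) (nat_lit 1) (BT.img (nat_lit 1) (nat_lit 0) (BT.img (nat_lit 1) (nat_lit 10) (BT.one (nat_lit 5) (nat_lit 0x3937330d08090104010501) (nat_lit 0x3937330d08090104010501) [nat_lit 1, nat_lit 2, nat_lit 0, nat_lit 11, nat_lit 13, nat_lit 17, nat_lit 21, nat_lit 25]))) BT.nil)))))))))) BT.nil))) BT.nil))))) BT.nil))))) BT.nil)))))) BT.nil))))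

theorem vt_c10_cnt : Cnt 120 (grp 120 vG) [v_g205] [v_g205] 0 0 0 0 384 :=
  BT.sound vt_c10_cnt_P Known.nil (t := vt_c10_cnt_t) (d := 0) (by decide +kernel)

theorem vt_c10_ge : 384 ≤ Nat.card (grp 120 vt_c10_K) :=
  Ch.le_card_grp (k := 7) (L := (lab 120 7)) v_hn vt_c10_K_ok (c := (Ch.cons (nat_lit 5) [nat_lit 1] (Ch.cons (nat_lit 0) [nat_lit 3, nat_lit 5] (Ch.cons (nat_lit 35) [nat_lit 7] (Ch.cons (nat_lit 27) [nat_lit 9, nat_lit 11] (Ch.cons (nat_lit 67) [nat_lit 13] Ch.nil)))))) (by decide +kernel)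

theorem vt_c10_eq : (grp 120 vG) ⊓ Subgroup.centralizer {Net.toPerm 120 v_g205} = grp 120 vt_c10_K :=
  cent_eq vt_c10_sym vt_c10_cnt vt_c10_ge

theorem vt_c10_card : Nat.card ↥((grp 120 vG) ⊓ Subgroup.centralizer {Net.toPerm 120 v_g205}) = 384 :=
  card_cent vt_c10_sym vt_c10_cnt vt_c10_ge

theorem vt_c10_ord : orderOf (Net.toPerm 120 v_g205) = 4 :=
  orderOf_net v_hn v_hk v_g205_ok (by decide) (ps := [2]) (by set_option linter.unusedSimpArgs false in simp [Nat.primeFactorsList_ofNat]) (by decide +kernel)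

theorem v_le232 : grp 120 vt_c11_K ≤ grp 120 vo_E0 :=
  grp_le_of_memB v_hn v_hk vo_E0_ok vt_c11_K_ok (ws := [nat_lit 0x23190a010319, nat_lit 0x2d19070108, nat_lit 0x2d1f0c0108, nat_lit 0x2f2d1b0d070b010a, nat_lit 0x2f2d291721080b, nat_lit 0x17190f080b01080b01, nat_lit 0x2f2d231b01080b01]) (by decide +kernel)

theorem vt_c11_le : grp 120 vt_c11_K ≤ (grp 120 vG) :=
  (v_le232.trans vT_s0.le)

theorem vt_c11_mem : Net.toPerm 120 v_g225 ∈ (grp 120 vG) :=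
  vt_c11_le (mem_grp_of_memB v_hn v_hk vt_c11_K_ok v_g225_ok (w := (nat_lit 0xb0901030508)) (by decide +kernel))

theorem vt_c11_sym : Sym 120 (grp 120 vG) [v_g225] vt_c11_K 0 :=
  Sym.of_lab v_hn v_hk (okE_cons.2 ⟨v_g225_ok, okE_nil _⟩) vt_c11_K_ok vt_c11_le (kT := 0) (by decide +kernel)

theorem v_le234 : grp 120 v_V233 ≤ grp 120 v_V133 :=
  grp_le_of_memB v_hn v_hk v_V133_ok v_V233_ok (ws := [nat_lit 1283, nat_lit 1281]) (by decide +kernel)

theorem vT_s56 : Stab 120 (grp 120 vG) [nat_lit 27, nat_lit 113, nat_lit 1, nat_lit 8, nat_lit 96, nat_lit 0] v_V233 4 :=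
  Stab.step (k := 7) (L := (lab 120 7)) v_hn vT_s21 v_V233_ok v_le234 (c := (Ch.cons (nat_lit 106) [nat_lit 1] (Ch.cons (nat_lit 15) [nat_lit 3] Ch.nil))) (by decide +kernel)

theorem vT_s57 : Stab 120 (grp 120 vG) [nat_lit 106, nat_lit 27, nat_lit 113, nat_lit 1, nat_lit 8, nat_lit 96, nat_lit 0] v_V235 2 :=
  Stab.step (k := 7) (L := (lab 120 7)) v_hn vT_s56 v_V235_ok (grp_mono (List.subset_append_right [v_g37] _)) (c := (Ch.cons (nat_lit 15) [nat_lit 1] Ch.nil)) (by decide +kernel)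

theorem vT_s58 : Stab 120 (grp 120 vG) [nat_lit 15, nat_lit 106, nat_lit 27, nat_lit 113, nat_lit 1, nat_lit 8, nat_lit 96, nat_lit 0] v_V236 1 :=
  Stab.step (k := 7) (L := (lab 120 7)) v_hn vT_s57 v_V236_ok (grp_mono (List.subset_append_right [v_g32] _)) (c := Ch.nil) (by decide +kernel)

noncomputable def vT_s58_O : ℕ := (nat_lit 0xffffffffffffff0000000000000000ffffff00000000ffffffff00000000ff0000ffff0000ffff0000ffff000000ff00ff00ff00ff00ff00ff00ff00f0f0f0f0f0f0f0f0f0f0f0f0f0f0f0ccccccccccccccccccccccccccccccaaaaaaaaaaaaaaaaaaaaaaaaaaaaaa000000000000000000000000000001000001000000000000000000000000000000000000000000000000000100000000000000000000000000000002020000000000000000000000000000000000000000000000000008000000000400000000000000000000000000000000000000000000000000008000)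

theorem vT_s58_F : Frame 120 (grp 120 vG) 8 15 vT_s58_O 1 1 :=
  IsBase.frame vT_s58.isBase (by decide +kernel)

noncomputable def vt_c11_cnt_L : List ℕ := [1, 4, vT_s1_O, 0, 0, 2, 13, vT_s2_O, 0, 0, 3, 21, vT_s9_O, 0, 0, 4, 10, vT_s10_O, 0, 0, 8, 15, vT_s58_O, 1, 0]

theorem vt_c11_cnt_P : Prob 120 7 (grp 120 vG) vt_c11_cnt_EG [v_g225] [v_g225] vt_c11_K vt_c11_cnt_L 0 0 :=
  Sym.prob v_hn v_hk vt_c11_sym vt_c11_cnt_EG_ok (grp_cons_le v_b_vT (grp_cons_le v_p0_vT (grp_cons_le v_p1_vT (grp_cons_le v_g7_vT (grp_cons_le v_g3_vT (grp_cons_le v_g4_vT (grp_cons_le v_g10_vT (grp_cons_le v_g16_vT (grp_cons_le v_g11_vT (grp_cons_le v_g12_vT (grp_cons_le v_g13_vT (grp_cons_le v_g22_vT (grp_cons_le v_g21_vT (grp_cons_le v_g26_vT (grp_cons_le v_g19_vT (grp_cons_le v_g20_vT (grp_cons_le v_g23_vT (grp_cons_le v_g30_vT (grp_cons_le v_g31_vT (grp_cons_le v_g32_vT (grp_cons_le v_g37_vT (grp_cons_le v_g38_vT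 (grp_cons_le v_g29_vT (grp_cons_le v_u_vT (grp_cons_le v_g130_vT (grp_cons_le v_g131_vT (grp_nil_le _))))))))))))))))))))))))))) (Frames.cons vT_s1_F (Frames.cons vT_s2_F (Frames.cons vT_s9_F (Frames.cons vT_s10_F (Frames.cons vT_s58_F Frames.nil))))) (okE_cons.2 ⟨v_g225_ok, okE_nil _⟩) _

noncomputable def vt_c11_cnt_t : BT := (BT.fix (nat_lit 257) (BT.dif (nat_lit 3) (nat_lit 0) (BT.br (nat_lit 0) (nat_lit 4) [nat_lit 1, nat_lit 3, nat_lit 5, nat_lit 7] (BT.dead (nat_lit 9) (BT.img (nat_lit 1) (nat_lit 0) (BT.frm (nat_lit 1) (nat_lit 0x70e0105010c) (nat_lit 0x70b0107010a) [nat_lit 0, nat_lit 1] (BT.pln (nat_lit 0) (nat_lit 6) (BT.and (nat_lit 0) (nat_lit 5) (BT.cnt (nat_lit 0)))))) (BT.kid (nat_lit 4) (nat_lit 8) (BT.img (nat_lit 1) (nat_lit 0) (BT.frm (nat_lit 1) (nat_lit 0x70e0105010c) (nat_lit 0x70e0105010c) [nat_lit 0, nat_lit 1] (BT.pln (nat_lit 0) (nat_lit 10) (BT.br (nat_lit 0) (nat_lit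 17) [] (BT.dead (nat_lit 14) (BT.frm (nat_lit 0) (nat_lit 0x105010c) (nat_lit 0x105010c) [nat_lit 4] (BT.pln (nat_lit 0) (nat_lit 1) (BT.and (nat_lit 7) (nat_lit 0) (BT.pln (nat_lit 5) (nat_lit 6) (BT.dif (nat_lit 1) (nat_lit 0) (BT.pln (nat_lit 7) (nat_lit 9) (BT.dif (nat_lit 1) (nat_lit 0) (BT.frm (nat_lit 2) (nat_lit 0xd070e0105010c) (nat_lit 0x13070e0105010c) [nat_lit 7, nat_lit 10, nat_lit 11] (BT.pln (nat_lit 0) (nat_lit 4) (BT.dif (nat_lit 2) (nat_lit 0) (BT.br (nat_lit 0) (nat_lit 45) [nat_lit 9] (BT.dead (nat_lit 45) (BT.pln (nat_lit 13) (nat_lit 5) (BT.and (nat_lit 17) (nat_lit 0) (BT.pln (nat_lit 5) (nat_lit 11) (BT.dif (nat_lit 1) (nat_lit 0) (BT.frm (nat_lit 3) (nat_lit 0x210d070e0105010c) (nat_lit 0x1b13070e0105010c) [nat_lit 4, nat_lit 15, nat_lit 18, nat_lit 19] (BT.pln (nat_lit 0) (nat_lit 7) (BT.dif (nat_lit 2) (nat_lit 0) (BT.br (nat_lit 0) (nat_lit 46) [nat_lit 11] (BT.dead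 (nat_lit 46) (BT.and (nat_lit 17) (nat_lit 2) (BT.dif (nat_lit 0) (nat_lit 26) (BT.dif (nat_lit 0) (nat_lit 15) (BT.pln (nat_lit 6) (nat_lit 5) (BT.and (nat_lit 1) (nat_lit 0) (BT.br (nat_lit 0) (nat_lit 65) [nat_lit 13] (BT.dead (nat_lit 65) (BT.img (nat_lit 1) (nat_lit 6) (BT.img (nat_lit 1) (nat_lit 15) (BT.frm (nat_lit 4) (nat_lit 0x2925210d070e0105010c) (nat_lit 0x27311b13070e0105010c) [nat_lit 2, nat_lit 1, nat_lit 8, nat_lit 0, nat_lit 16, nat_lit 27, nat_lit 30, nat_lit 31] (BT.pln (nat_lit 0) (nat_lit 8) (BT.img (nat_lit 1) (nat_lit 4) (BT.and (nat_lit 1) (nat_lit 0) (BT.cnt (nat_lit 0)))))))) BT.nil))))))) BT.nil))))))))) (BT.dead (nat_lit 65) (BT.frm (nat_lit 3) (nat_lit 0x210d070e0105010c) (nat_lit 0x13070e0105010c) [nat_lit 0, nat_lit 11, nat_lit 14, nat_lit 15] (BT.pln (nat_lit 0) (nat_lit 4) (BT.and (nat_lit 0) (nat_lit 19) (BT.cnt (nat_lit 0))))) BT.nil))))))))))))) (BT.dead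 (nat_lit 61) (BT.frm (nat_lit 2) (nat_lit 0xd070e0105010c) (nat_lit 0xf070e0105010c) [nat_lit 0, nat_lit 3, nat_lit 4] (BT.pln (nat_lit 0) (nat_lit 16) (BT.img (nat_lit 1) (nat_lit 2) (BT.and (nat_lit 1) (nat_lit 0) (BT.cnt (nat_lit 0)))))) (BT.dead (nat_lit 86) (BT.frm (nat_lit 2) (nat_lit 0xd070e0105010c) (nat_lit 0x70e0105010c) [nat_lit 0, nat_lit 3, nat_lit 4] (BT.pln (nat_lit 0) (nat_lit 16) (BT.img (nat_lit 1) (nat_lit 2) (BT.and (nat_lit 1) (nat_lit 0) (BT.cnt (nat_lit 0)))))) (BT.kid (nat_lit 17) (nat_lit 8) (BT.frm (nat_lit 0) (nat_lit 0x105010c) (nat_lit 0x105010c) [nat_lit 4] (BT.pln (nat_lit 0) (nat_lit 1) (BT.and (nat_lit 7) (nat_lit 0) (BT.pln (nat_lit 5) (nat_lit 6) (BT.dif (nat_lit 1) (nat_lit 0) (BT.pln (nat_lit 7) (nat_lit 9) (BT.dif (nat_lit 1) (nat_lit 0) (BT.frm (nat_lit 2) (nat_lit 0xd070e0105010c) (nat_lit 0xd070e0105010c) [nat_lit 7, nat_lit 10, nat_lit 11] (BT.pln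 (nat_lit 0) (nat_lit 4) (BT.dif (nat_lit 2) (nat_lit 0) (BT.br (nat_lit 0) (nat_lit 45) [nat_lit 9] (BT.dead (nat_lit 65) (BT.frm (nat_lit 3) (nat_lit 0x210d070e0105010c) (nat_lit 0x17190d070e0105010c) [nat_lit 0, nat_lit 11, nat_lit 14, nat_lit 15] (BT.pln (nat_lit 0) (nat_lit 4) (BT.and (nat_lit 0) (nat_lit 19) (BT.cnt (nat_lit 0))))) (BT.kid (nat_lit 45) (nat_lit 4) (BT.pln (nat_lit 13) (nat_lit 5) (BT.and (nat_lit 17) (nat_lit 0) (BT.pln (nat_lit 5) (nat_lit 11) (BT.dif (nat_lit 1) (nat_lit 0) (BT.frm (nat_lit 3) (nat_lit 0x210d070e0105010c) (nat_lit 0x210d070e0105010c) [nat_lit 4, nat_lit 15, nat_lit 18, nat_lit 19] (BT.pln (nat_lit 0) (nat_lit 7) (BT.dif (nat_lit 2) (nat_lit 0) (BT.br (nat_lit 0) (nat_lit 46) [nat_lit 11] (BT.kid (nat_lit 46) (nat_lit 2) (BT.and (nat_lit 17) (nat_lit 2) (BT.dif (nat_lit 0) (nat_lit 26) (BT.dif (nat_lit 0) (nat_lit 15) (BT.pln (nat_lit 6) (nat_lit 5)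 (BT.and (nat_lit 1) (nat_lit 0) (BT.br (nat_lit 0) (nat_lit 65) [nat_lit 13] (BT.kid (nat_lit 65) (nat_lit 1) (BT.img (nat_lit 1) (nat_lit 6) (BT.img (nat_lit 1) (nat_lit 15) (BT.one (nat_lit 4) (nat_lit 0x2925210d070e0105010c) (nat_lit 0x2925210d070e0105010c) [nat_lit 2, nat_lit 1, nat_lit 8, nat_lit 0, nat_lit 16, nat_lit 27, nat_lit 30, nat_lit 31]))) BT.nil))))))) BT.nil))))))))) BT.nil))))))))))))) BT.nil)))))))) BT.nil)))))

theorem vt_c11_cnt : Cnt 120 (grp 120 vG) [v_g225] [v_g225] 0 0 0 0 256 :=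
  BT.sound vt_c11_cnt_P Known.nil (t := vt_c11_cnt_t) (d := 0) (by decide +kernel)

theorem vt_c11_ge : 256 ≤ Nat.card (grp 120 vt_c11_K) :=
  Ch.le_card_grp (k := 7) (L := (lab 120 7)) v_hn vt_c11_K_ok (c := (Ch.cons (nat_lit 4) [nat_lit 1, nat_lit 3, nat_lit 5, nat_lit 7] (Ch.cons (nat_lit 45) [nat_lit 9] (Ch.cons (nat_lit 46) [nat_lit 11] (Ch.cons (nat_lit 65) [nat_lit 13] Ch.nil))))) (by decide +kernel)

theorem vt_c11_eq : (grp 120 vG) ⊓ Subgroup.centralizer {Net.toPerm 120 v_g225} = grp 120 vt_c11_K :=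
  cent_eq vt_c11_sym vt_c11_cnt vt_c11_ge

theorem vt_c11_card : Nat.card ↥((grp 120 vG) ⊓ Subgroup.centralizer {Net.toPerm 120 v_g225}) = 256 :=
  card_cent vt_c11_sym vt_c11_cnt vt_c11_ge

theorem vt_c11_ord : orderOf (Net.toPerm 120 v_g225) = 4 :=
  orderOf_net v_hn v_hk v_g225_ok (by decide) (ps := [2]) (by set_option linter.unusedSimpArgs false in simp [Nat.primeFactorsList_ofNat]) (by decide +kernel)

theorem v_le243 : grp 120 vt_c12_K ≤ grp 120 vo_E0 :=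
  grp_le_of_memB v_hn v_hk vo_E0_ok vt_c12_K_ok (ws := [nat_lit 0x2f2d190f0a0801080b01, nat_lit 0x2f2d0a010319, nat_lit 0x2d2107070c010a, nat_lit 0x2f231b0d0c01080b01, nat_lit 0x1f0f080b, nat_lit 0x2f2d19, nat_lit 47]) (by decide +kernel)

theorem vt_c12_le : grp 120 vt_c12_K ≤ (grp 120 vG) :=
  (v_le243.trans vT_s0.le)

theorem vt_c12_mem : Net.toPerm 120 v_g237 ∈ (grp 120 vG) :=
  vt_c12_le (mem_grp_of_memB v_hn v_hk vt_c12_K_ok v_g237_ok (w := (nat_lit 2823)) (by decide +kernel))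

theorem vt_c12_sym : Sym 120 (grp 120 vG) [v_g237] vt_c12_K 0 :=
  Sym.of_lab v_hn v_hk (okE_cons.2 ⟨v_g237_ok, okE_nil _⟩) vt_c12_K_ok vt_c12_le (kT := 0) (by decide +kernel)

theorem v_le248 : grp 120 v_V247 ≤ grp 120 v_V77 :=
  grp_le_of_memB v_hn v_hk v_V77_ok v_V247_ok (ws := [nat_lit 0x27231d150103, nat_lit 0x2927231d111309, nat_lit 0x291109, nat_lit 0x27231d111b0205, nat_lit 0x231b090205, nat_lit 0x29271109]) (by decide +kernel)

theorem vT_s59 : Stab 120 (grp 120 vG) [nat_lit 114, nat_lit 0] v_V247 320 :=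
  Stab.step (k := 7) (L := (lab 120 7)) v_hn vT_s1 v_V247_ok v_le248 (c := (Ch.cons (nat_lit 13) [nat_lit 1] (Ch.cons (nat_lit 117) [nat_lit 3] (Ch.cons (nat_lit 80) [nat_lit 5] (Ch.cons (nat_lit 107) [nat_lit 7] (Ch.cons (nat_lit 96) [nat_lit 9] (Ch.cons (nat_lit 74) [nat_lit 11] Ch.nil))))))) (by decide +kernel)

theorem vT_s60 : Stab 120 (grp 120 vG) [nat_lit 13, nat_lit 114, nat_lit 0] v_V249 32 :=
  Stab.step (k := 7) (L := (lab 120 7)) v_hn vT_s59 v_V249_ok (grp_mono (List.subset_append_right [v_g244] _)) (c := (Ch.cons (nat_lit 117) [nat_lit 1] (Ch.cons (nat_lit 80) [nat_lit 3] (Ch.cons (nat_lit 107) [nat_lit 5] (Ch.cons (nat_lit 96) [nat_lit 7] (Ch.cons (nat_lit 74) [nat_lit 9] Ch.nil)))))) (by decide +kernel)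

theorem vT_s61 : Stab 120 (grp 120 vG) [nat_lit 117, nat_lit 13, nat_lit 114, nat_lit 0] v_V250 16 :=
  Stab.step (k := 7) (L := (lab 120 7)) v_hn vT_s60 v_V250_ok (grp_mono (List.subset_append_right [v_g245] _)) (c := (Ch.cons (nat_lit 80) [nat_lit 1] (Ch.cons (nat_lit 107) [nat_lit 3] (Ch.cons (nat_lit 96) [nat_lit 5] (Ch.cons (nat_lit 74) [nat_lit 7] Ch.nil))))) (by decide +kernel)

theorem vT_s62 : Stab 120 (grp 120 vG) [nat_lit 80, nat_lit 117, nat_lit 13, nat_lit 114, nat_lit 0] v_V251 8 :=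
  Stab.step (k := 7) (L := (lab 120 7)) v_hn vT_s61 v_V251_ok (grp_mono (List.subset_append_right [v_g116] _)) (c := (Ch.cons (nat_lit 107) [nat_lit 1] (Ch.cons (nat_lit 96) [nat_lit 3] (Ch.cons (nat_lit 74) [nat_lit 5] Ch.nil)))) (by decide +kernel)

theorem vT_s63 : Stab 120 (grp 120 vG) [nat_lit 107, nat_lit 80, nat_lit 117, nat_lit 13, nat_lit 114, nat_lit 0] v_V252 4 :=
  Stab.step (k := 7) (L := (lab 120 7)) v_hn vT_s62 v_V252_ok (grp_mono (List.subset_append_right [v_g73] _)) (c := (Ch.cons (nat_lit 96) [nat_lit 1] (Ch.cons (nat_lit 74) [nat_lit 3] Ch.nil))) (by decide +kernel)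

theorem vT_s64 : Stab 120 (grp 120 vG) [nat_lit 96, nat_lit 107, nat_lit 80, nat_lit 117, nat_lit 13, nat_lit 114, nat_lit 0] v_V253 2 :=
  Stab.step (k := 7) (L := (lab 120 7)) v_hn vT_s63 v_V253_ok (grp_mono (List.subset_append_right [v_g92] _)) (c := (Ch.cons (nat_lit 74) [nat_lit 1] Ch.nil)) (by decide +kernel)

theorem vT_s65 : Stab 120 (grp 120 vG) [nat_lit 74, nat_lit 96, nat_lit 107, nat_lit 80, nat_lit 117, nat_lit 13, nat_lit 114, nat_lit 0] v_V254 1 :=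
  Stab.step (k := 7) (L := (lab 120 7)) v_hn vT_s64 v_V254_ok (grp_mono (List.subset_append_right [v_g246] _)) (c := Ch.nil) (by decide +kernel)

theorem v_g244_vT : Net.toPerm 120 v_g244 ∈ (grp 120 vG) :=
  vT_s59.le (toPerm_mem_grp (E := v_V247) (List.Mem.head _))

theorem v_g245_vT : Net.toPerm 120 v_g245 ∈ (grp 120 vG) :=
  vT_s59.le (toPerm_mem_grp (E := v_V247) (List.Mem.tail _ (List.Mem.head _)))

theorem v_g73_vT : Net.toPerm 120 v_g73 ∈ (grp 120 vG) :=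
  vT_s59.le (toPerm_mem_grp (E := v_V247) (List.Mem.tail _ (List.Mem.tail _ (List.Mem.tail _ (List.Mem.head _)))))

theorem v_g246_vT : Net.toPerm 120 v_g246 ∈ (grp 120 vG) :=
  vT_s59.le (toPerm_mem_grp (E := v_V247) (List.Mem.tail _ (List.Mem.tail _ (List.Mem.tail _ (List.Mem.tail _ (List.Mem.tail _ (List.Mem.head _)))))))

noncomputable def vT_s65_O : ℕ := (nat_lit 0xffffffffffffff0000000000000000ffffff00000000ffffffff00000000ff0000ffff0000ffff0000ffff000000ff00ff00ff00ff00ff00ff00ff00f0f0f0f0f0f0f0f0f0f0f0f0f0f0f0ccccccccccccccccccccccccccccccaaaaaaaaaaaaaaaaaaaaaaaaaaaaaa000000000000000000000000000001040000000000000000000000000000000000000000000000000000002000200000000000000000000000000000000000000100000000000000000000000800000000000000000000000000000001000000000000000000000000000000000004000000000000000000)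

theorem vT_s65_F : Frame 120 (grp 120 vG) 8 15 vT_s65_O 1 1 :=
  IsBase.frame vT_s65.isBase (by decide +kernel)

noncomputable def vT_s60_O : ℕ := (nat_lit 0xfa67bf6dcfbabe6e70602001000010f9bf139e2b0540120f1fe57f80001001d4a06284ffb3830a9fee016ed410b90f4f51e4fe406c8a9e0b706d0bc0fb68600f44b1e972dc99a3cc72c32871c20ae93e89d9dae2554bab4992a4000000000000000000000000000001040000000000000000000000000000000000000000000000000000002000)

theorem vT_s60_F : Frame 120 (grp 120 vG) 3 9 vT_s60_O 0 1 :=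
  Stab.frame v_hn vT_s60 (by decide +kernel)

noncomputable def vT_s59_O : ℕ := (nat_lit 0x400000000000000000000000000000000000000000200000000000000000000000480000000000000000000000000000000000008080000000000000000000000000004000004000000720000280030100010000000000000881000000004081040020408000000004020004000a0200304000080000000a000050000054000204000008000000810000140400000000140064000000040800a000000204008020801000002820000000200008000002108c00000004000090081000100010014100000001020000000800000b0100228000105021000000400008200400004000000000000000000000000000001040000000000000000000000000000)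

theorem vT_s59_F : Frame 120 (grp 120 vG) 2 17 vT_s59_O 0 1 :=
  Stab.frame v_hn vT_s59 (by decide +kernel)

noncomputable def vt_c12_cnt_L : List ℕ := [1, 4, vT_s1_O, 0, 0, 2, 17, vT_s59_O, 0, 0, 3, 9, vT_s60_O, 0, 0, 8, 15, vT_s65_O, 1, 0]

theorem vt_c12_cnt_P : Prob 120 7 (grp 120 vG) vt_c12_cnt_EG [v_g237] [v_g237] vt_c12_K vt_c12_cnt_L 0 0 :=
  Sym.prob v_hn v_hk vt_c12_sym vt_c12_cnt_EG_ok (grp_cons_le v_b_vT (grp_cons_le v_p0_vT (grp_cons_le v_p1_vT (grp_cons_le v_g7_vT (grp_cons_le v_g3_vT (grp_cons_le v_g4_vT (grp_cons_le v_g10_vT (grp_cons_le v_g16_vT (grp_cons_le v_g11_vT (grp_cons_le v_g12_vT (grp_cons_le v_g13_vT (grp_cons_le v_g22_vT (grp_cons_le v_g21_vT (grp_cons_le v_g26_vT (grp_cons_le v_g19_vT (grp_cons_le v_g20_vT (grp_cons_le v_g23_vT (grp_cons_le v_g30_vT (grp_cons_le v_g31_vT (grp_cons_le v_g32_vT (grp_cons_le v_g37_vT (grp_cons_le v_g38_vT (grp_cons_le v_g29_vT (grp_cons_le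 v_u_vT (grp_cons_le v_g244_vT (grp_cons_le v_g245_vT (grp_cons_le v_g116_vT (grp_cons_le v_g73_vT (grp_cons_le v_g92_vT (grp_cons_le v_g246_vT (grp_nil_le _))))))))))))))))))))))))))))))) (Frames.cons vT_s1_F (Frames.cons vT_s59_F (Frames.cons vT_s60_F (Frames.cons vT_s65_F Frames.nil)))) (okE_cons.2 ⟨v_g237_ok, okE_nil _⟩) _

noncomputable def vt_c12_cnt_t : BT := (BT.fix (nat_lit 257) (BT.dif (nat_lit 3) (nat_lit 0) (BT.br (nat_lit 0) (nat_lit 2) [nat_lit 1, nat_lit 3, nat_lit 5, nat_lit 7] (BT.dead (nat_lit 4) (BT.frm (nat_lit 0) (nat_lit 66571) (nat_lit 0x105010c) [nat_lit 0] (BT.pln (nat_lit 0) (nat_lit 1) (BT.img (nat_lit 1) (nat_lit 2) (BT.and (nat_lit 1) (nat_lit 0) (BT.cnt (nat_lit 0)))))) (BT.kid (nat_lit 2) (nat_lit 8) (BT.frm (nat_lit 0) (nat_lit 66571) (nat_lit 66571) [nat_lit 0] (BT.pln (nat_lit 0) (nat_lit 1) (BT.and (nat_lit 3) (nat_lit 0) (BT.img (nat_lit 1) (nat_lit 3) (BT.frm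 (nat_lit 1) (nat_lit 0xa0e01040b) (nat_lit 0xa0e01040b) [nat_lit 0, nat_lit 4] (BT.pln (nat_lit 0) (nat_lit 4) (BT.dif (nat_lit 3) (nat_lit 0) (BT.pln (nat_lit 2) (nat_lit 3) (BT.dif (nat_lit 1) (nat_lit 0) (BT.pln (nat_lit 4) (nat_lit 8) (BT.dif (nat_lit 1) (nat_lit 0) (BT.br (nat_lit 0) (nat_lit 33) [nat_lit 9] (BT.kid (nat_lit 33) (nat_lit 4) (BT.pln (nat_lit 7) (nat_lit 7) (BT.and (nat_lit 14) (nat_lit 0) (BT.frm (nat_lit 2) (nat_lit 0x32330a0e01040b) (nat_lit 0x32330a0e01040b) [nat_lit 2, nat_lit 10, nat_lit 14] (BT.pln (nat_lit 0) (nat_lit 8) (BT.and (nat_lit 2) (nat_lit 0) (BT.br (nat_lit 0) (nat_lit 75) [nat_lit 11] (BT.kid (nat_lit 75) (nat_lit 2) (BT.pln (nat_lit 3) (nat_lit 7) (BT.and (nat_lit 3) (nat_lit 0) (BT.pln (nat_lit 5) (nat_lit 5) (BT.and (nat_lit 1) (nat_lit 0) (BT.pln (nat_lit 7) (nat_lit 3) (BT.dif (nat_lit 1) (nat_lit 0) (BT.pln (nat_lit 23) (nat_lit 2) (BT.and (nat_lit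 1) (nat_lit 0) (BT.br (nat_lit 0) (nat_lit 116) [nat_lit 13] (BT.kid (nat_lit 116) (nat_lit 1) (BT.img (nat_lit 1) (nat_lit 0) (BT.img (nat_lit 1) (nat_lit 10) (BT.img (nat_lit 1) (nat_lit 17) (BT.one (nat_lit 3) (nat_lit 0x3b3932330a0e01040b) (nat_lit 0x3b3932330a0e01040b) [nat_lit 2, nat_lit 3, nat_lit 1, nat_lit 12, nat_lit 0, nat_lit 18, nat_lit 26, nat_lit 30])))) BT.nil)))))))))) BT.nil))))))) BT.nil))))))))))))) BT.nil)))))

theorem vt_c12_cnt : Cnt 120 (grp 120 vG) [v_g237] [v_g237] 0 0 0 0 256 :=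
  BT.sound vt_c12_cnt_P Known.nil (t := vt_c12_cnt_t) (d := 0) (by decide +kernel)

theorem vt_c12_ge : 256 ≤ Nat.card (grp 120 vt_c12_K) :=
  Ch.le_card_grp (k := 7) (L := (lab 120 7)) v_hn vt_c12_K_ok (c := (Ch.cons (nat_lit 2) [nat_lit 1, nat_lit 3, nat_lit 5, nat_lit 7] (Ch.cons (nat_lit 33) [nat_lit 9] (Ch.cons (nat_lit 75) [nat_lit 11] (Ch.cons (nat_lit 116) [nat_lit 13] Ch.nil))))) (by decide +kernel)

theorem vt_c12_eq : (grp 120 vG) ⊓ Subgroup.centralizer {Net.toPerm 120 v_g237} = grp 120 vt_c12_K :=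
  cent_eq vt_c12_sym vt_c12_cnt vt_c12_ge

theorem vt_c12_card : Nat.card ↥((grp 120 vG) ⊓ Subgroup.centralizer {Net.toPerm 120 v_g237}) = 256 :=
  card_cent vt_c12_sym vt_c12_cnt vt_c12_ge

theorem vt_c12_ord : orderOf (Net.toPerm 120 v_g237) = 4 :=
  orderOf_net v_hn v_hk v_g237_ok (by decide) (ps := [2]) (by set_option linter.unusedSimpArgs false in simp [Nat.primeFactorsList_ofNat]) (by decide +kernel)

theorem v_le260 : grp 120 vt_c13_K ≤ grp 120 vo_E0 :=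
  grp_le_of_memB v_hn v_hk vo_E0_ok vt_c13_K_ok (ws := [nat_lit 0x2f2d23190809010a0104, nat_lit 0x231f0d090c010b010a, nat_lit 0x2f2d1f0d090c010b010a, nat_lit 0x292317190f0909010301050d, nat_lit 0x2d231f0f01080b01, nat_lit 0x2917190f080b01080b01]) (by decide +kernel)

theorem vt_c13_le : grp 120 vt_c13_K ≤ (grp 120 vG) :=
  (v_le260.trans vT_s0.le)

theorem vt_c13_mem : Net.toPerm 120 v_g255 ∈ (grp 120 vG) :=
  vt_c13_le (toPerm_mem_grp (E := vt_c13_K) (List.Mem.tail _ (List.Mem.head _)))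

theorem vt_c13_sym : Sym 120 (grp 120 vG) [v_g255] vt_c13_K 0 :=
  Sym.of_lab v_hn v_hk (okE_cons.2 ⟨v_g255_ok, okE_nil _⟩) vt_c13_K_ok vt_c13_le (kT := 0) (by decide +kernel)

noncomputable def vt_c13_cnt_L : List ℕ := [1, 4, vT_s1_O, 0, 0, 2, 13, vT_s2_O, 0, 0, 3, 21, vT_s9_O, 0, 0, 4, 10, vT_s10_O, 0, 0, 8, 15, vT_s28_O, 1, 0]

theorem vt_c13_cnt_P : Prob 120 7 (grp 120 vG) vt_c13_cnt_EG [v_g255] [v_g255] vt_c13_K vt_c13_cnt_L 0 0 :=
  Sym.prob v_hn v_hk vt_c13_sym vt_c13_cnt_EG_ok (grp_cons_le v_b_vT (grp_cons_le v_p0_vT (grp_cons_le v_p1_vT (grp_cons_le v_g7_vT (grp_cons_le v_g3_vT (grp_cons_le v_g4_vT (grp_cons_le v_g10_vT (grp_cons_le v_g16_vT (grp_cons_le v_g11_vT (grp_cons_le v_g12_vT (grp_cons_le v_g13_vT (grp_cons_le v_g22_vT (grp_cons_le v_g21_vT (grp_cons_le v_g26_vT (grp_cons_le v_g19_vT (grp_cons_le v_g20_vT (grp_cons_le v_g23_vT (grp_cons_le v_g30_vT (grp_cons_le v_g31_vT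 (grp_cons_le v_g32_vT (grp_cons_le v_g37_vT (grp_cons_le v_g38_vT (grp_cons_le v_g29_vT (grp_cons_le v_u_vT (grp_cons_le v_g143_vT (grp_nil_le _)))))))))))))))))))))))))) (Frames.cons vT_s1_F (Frames.cons vT_s2_F (Frames.cons vT_s9_F (Frames.cons vT_s10_F (Frames.cons vT_s28_F Frames.nil))))) (okE_cons.2 ⟨v_g255_ok, okE_nil _⟩) _

noncomputable def vt_c13_cnt_t : BT := (BT.fix (nat_lit 1) (BT.br (nat_lit 0) (nat_lit 25) [nat_lit 1] (BT.dead (nat_lit 60) (BT.frm (nat_lit 0) (nat_lit 266) (nat_lit 0x103010b) [nat_lit 0] (BT.pln (nat_lit 0) (nat_lit 2) (BT.and (nat_lit 3) (nat_lit 0) (BT.br (nat_lit 0) (nat_lit 80) [] (BT.dead (nat_lit 100) (BT.frm (nat_lit 1) (nat_lit 0x709010a) (nat_lit 0x70103010b) [nat_lit 0, nat_lit 4] (BT.pln (nat_lit 0) (nat_lit 10) (BT.and (nat_lit 4) (nat_lit 0) (BT.br (nat_lit 0) (nat_lit 29) [nat_lit 9, nat_lit 2819] (BT.dead (nat_lit 3) (BT.pln (nat_lit 7) (nat_lit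 1) (BT.fix (nat_lit 257) (BT.dif (nat_lit 1) (nat_lit 0) (BT.frm (nat_lit 2) (nat_lit 0x130709010a) (nat_lit 0xf070103010b) [nat_lit 3, nat_lit 7, nat_lit 11] (BT.pln (nat_lit 0) (nat_lit 4) (BT.dif (nat_lit 2) (nat_lit 0) (BT.br (nat_lit 0) (nat_lit 1) [nat_lit 0xb08030501] (BT.dead (nat_lit 41) (BT.dif (nat_lit 19) (nat_lit 5) (BT.dif (nat_lit 0) (nat_lit 7) (BT.dif (nat_lit 0) (nat_lit 15) (BT.frm (nat_lit 3) (nat_lit 0x21130709010a) (nat_lit 0x1b0f070103010b) [nat_lit 3, nat_lit 10, nat_lit 14, nat_lit 18] (BT.pln (nat_lit 0) (nat_lit 6) (BT.and (nat_lit 2) (nat_lit 0) (BT.pln (nat_lit 2) (nat_lit 7) (BT.dif (nat_lit 1) (nat_lit 0) (BT.pln (nat_lit 4) (nat_lit 8) (BT.dif (nat_lit 1) (nat_lit 0) (BT.br (nat_lit 0) (nat_lit 59) [nat_lit 11] (BT.dead (nat_lit 4) (BT.dif (nat_lit 24) (nat_lit 4) (BT.dif (nat_lit 0) (nat_lit 17) (BT.pln (nat_lit 9) (nat_lit 4) (BT.dif (nat_lit 1) (nat_lit 0)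 (BT.and (nat_lit 0) (nat_lit 10) (BT.br (nat_lit 0) (nat_lit 0) [nat_lit 0xb0907070305] (BT.dead (nat_lit 84) (BT.img (nat_lit 1) (nat_lit 6) (BT.img (nat_lit 1) (nat_lit 18) (BT.frm (nat_lit 4) (nat_lit 0x312321130709010a) (nat_lit 0x231b0f070103010b) [nat_lit 2, nat_lit 1, nat_lit 8, nat_lit 0, nat_lit 19, nat_lit 26, nat_lit 30, nat_lit 34] (BT.pln (nat_lit 0) (nat_lit 9) (BT.img (nat_lit 1) (nat_lit 4) (BT.and (nat_lit 1) (nat_lit 0) (BT.cnt (nat_lit 0)))))))) BT.nil))))))) BT.nil)))))))))))) (BT.dead (nat_lit 21) (BT.frm (nat_lit 3) (nat_lit 0x21130709010a) (nat_lit 0x1f0f070103010b) [nat_lit 0, nat_lit 7, nat_lit 11, nat_lit 15] (BT.pln (nat_lit 0) (nat_lit 4) (BT.and (nat_lit 0) (nat_lit 18) (BT.cnt (nat_lit 0))))) BT.nil))))))))) BT.nil))))) (BT.dead (nat_lit 80) (BT.frm (nat_lit 1) (nat_lit 0x709010a) (nat_lit 0x7190103010b) [nat_lit 0, nat_lit 4] (BT.pln (nat_lit 0) (nat_lit 10)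 (BT.and (nat_lit 4) (nat_lit 0) (BT.br (nat_lit 0) (nat_lit 29) [nat_lit 459521, nat_lit 2821] (BT.dead (nat_lit 3) (BT.frm (nat_lit 2) (nat_lit 0x130709010a) (nat_lit 0x7190103010b) [nat_lit 0, nat_lit 4, nat_lit 8] (BT.pln (nat_lit 0) (nat_lit 16) (BT.img (nat_lit 1) (nat_lit 2) (BT.and (nat_lit 1) (nat_lit 0) (BT.cnt (nat_lit 0)))))) BT.nil))))) BT.nil)))))) (BT.dead (nat_lit 100) (BT.frm (nat_lit 0) (nat_lit 266) (nat_lit 0x103010307) [nat_lit 0] (BT.pln (nat_lit 0) (nat_lit 1) (BT.and (nat_lit 0) (nat_lit 3) (BT.cnt (nat_lit 0))))) (BT.dead (nat_lit 80) (BT.frm (nat_lit 0) (nat_lit 266) (nat_lit 0x103010704) [nat_lit 0] (BT.pln (nat_lit 0) (nat_lit 1) (BT.and (nat_lit 0) (nat_lit 3) (BT.cnt (nat_lit 0))))) (BT.kid (nat_lit 25) (nat_lit 64) (BT.frm (nat_lit 0) (nat_lit 266) (nat_lit 266) [nat_lit 0] (BT.pln (nat_lit 0) (nat_lit 2) (BT.and (nat_lit 3) (nat_lit 0) (BT.br (nat_lit 0) (nat_lit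 80) [] (BT.dead (nat_lit 100) (BT.frm (nat_lit 1) (nat_lit 0x709010a) (nat_lit 0x911010a) [nat_lit 0, nat_lit 4] (BT.pln (nat_lit 0) (nat_lit 10) (BT.and (nat_lit 4) (nat_lit 0) (BT.br (nat_lit 0) (nat_lit 29) [nat_lit 3, nat_lit 5] (BT.dead (nat_lit 29) (BT.frm (nat_lit 2) (nat_lit 0x130709010a) (nat_lit 0x130911010a) [nat_lit 0, nat_lit 4, nat_lit 8] (BT.pln (nat_lit 0) (nat_lit 16) (BT.img (nat_lit 1) (nat_lit 2) (BT.and (nat_lit 1) (nat_lit 0) (BT.cnt (nat_lit 0)))))) BT.nil))))) (BT.kid (nat_lit 80) (nat_lit 64) (BT.frm (nat_lit 1) (nat_lit 0x709010a) (nat_lit 0x709010a) [nat_lit 0, nat_lit 4] (BT.pln (nat_lit 0) (nat_lit 10) (BT.and (nat_lit 4) (nat_lit 0) (BT.br (nat_lit 0) (nat_lit 29) [nat_lit 3, nat_lit 5] (BT.kid (nat_lit 29) (nat_lit 16) (BT.pln (nat_lit 7) (nat_lit 1) (BT.fix (nat_lit 257) (BT.dif (nat_lit 1) (nat_lit 0) (BT.frm (nat_lit 2) (nat_lit 0x130709010a) (nat_lit 0x130709010a)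 [nat_lit 3, nat_lit 7, nat_lit 11] (BT.pln (nat_lit 0) (nat_lit 4) (BT.dif (nat_lit 2) (nat_lit 0) (BT.br (nat_lit 0) (nat_lit 1) [nat_lit 7] (BT.dead (nat_lit 28) (BT.frm (nat_lit 3) (nat_lit 0x21130709010a) (nat_lit 0x1721130709010a) [nat_lit 0, nat_lit 7, nat_lit 11, nat_lit 15] (BT.pln (nat_lit 0) (nat_lit 4) (BT.and (nat_lit 0) (nat_lit 18) (BT.cnt (nat_lit 0))))) (BT.kid (nat_lit 1) (nat_lit 4) (BT.dif (nat_lit 19) (nat_lit 5) (BT.dif (nat_lit 0) (nat_lit 7) (BT.dif (nat_lit 0) (nat_lit 15) (BT.frm (nat_lit 3) (nat_lit 0x21130709010a) (nat_lit 0x21130709010a) [nat_lit 3, nat_lit 10, nat_lit 14, nat_lit 18] (BT.pln (nat_lit 0) (nat_lit 6) (BT.and (nat_lit 2) (nat_lit 0) (BT.pln (nat_lit 2) (nat_lit 7) (BT.dif (nat_lit 1) (nat_lit 0) (BT.pln (nat_lit 4) (nat_lit 8) (BT.dif (nat_lit 1) (nat_lit 0) (BT.br (nat_lit 0) (nat_lit 59) [nat_lit 9] (BT.kid (nat_lit 59) (nat_lit 2) (BT.dif (nat_lit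 24) (nat_lit 4) (BT.dif (nat_lit 0) (nat_lit 17) (BT.pln (nat_lit 9) (nat_lit 4) (BT.dif (nat_lit 1) (nat_lit 0) (BT.and (nat_lit 0) (nat_lit 10) (BT.br (nat_lit 0) (nat_lit 0) [nat_lit 11] (BT.kid (nat_lit 0) (nat_lit 1) (BT.img (nat_lit 1) (nat_lit 6) (BT.img (nat_lit 1) (nat_lit 18) (BT.one (nat_lit 4) (nat_lit 0x312321130709010a) (nat_lit 0x312321130709010a) [nat_lit 2, nat_lit 1, nat_lit 8, nat_lit 0, nat_lit 19, nat_lit 26, nat_lit 30, nat_lit 34]))) BT.nil))))))) BT.nil)))))))))))) BT.nil))))))))) BT.nil))))) BT.nil)))))) BT.nil))))))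

theorem vt_c13_cnt : Cnt 120 (grp 120 vG) [v_g255] [v_g255] 0 0 0 0 192 :=
  BT.sound vt_c13_cnt_P Known.nil (t := vt_c13_cnt_t) (d := 0) (by decide +kernel)

theorem vt_c13_ge : 192 ≤ Nat.card (grp 120 vt_c13_K) :=
  Ch.le_card_grp (k := 7) (L := (lab 120 7)) v_hn vt_c13_K_ok (c := (Ch.cons (nat_lit 25) [nat_lit 1] (Ch.cons (nat_lit 29) [nat_lit 3, nat_lit 5] (Ch.cons (nat_lit 1) [nat_lit 7] (Ch.cons (nat_lit 59) [nat_lit 9] (Ch.cons (nat_lit 0) [nat_lit 11] Ch.nil)))))) (by decide +kernel)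

theorem vt_c13_eq : (grp 120 vG) ⊓ Subgroup.centralizer {Net.toPerm 120 v_g255} = grp 120 vt_c13_K :=
  cent_eq vt_c13_sym vt_c13_cnt vt_c13_ge

theorem vt_c13_card : Nat.card ↥((grp 120 vG) ⊓ Subgroup.centralizer {Net.toPerm 120 v_g255}) = 192 :=
  card_cent vt_c13_sym vt_c13_cnt vt_c13_ge

theorem vt_c13_ord : orderOf (Net.toPerm 120 v_g255) = 4 :=
  orderOf_net v_hn v_hk v_g255_ok (by decide) (ps := [2]) (by set_option linter.unusedSimpArgs false in simp [Nat.primeFactorsList_ofNat]) (by decide +kernel)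

theorem v_le268 : grp 120 vt_c14_K ≤ grp 120 vo_E0 :=
  grp_le_of_memB v_hn v_hk vo_E0_ok vt_c14_K_ok (ws := [nat_lit 0x2f291719130719010301050d, nat_lit 0x2d210709010c0103, nat_lit 0x2f2d210d01050123, nat_lit 0x2f29231721080b, nat_lit 0x2f291f0f080b, nat_lit 0x2f2d2923210f01080b01, nat_lit 0x2f1f0f01080b01]) (by decide +kernel)

theorem vt_c14_le : grp 120 vt_c14_K ≤ (grp 120 vG) :=
  (v_le268.trans vT_s0.le)

theorem vt_c14_mem : Net.toPerm 120 v_g261 ∈ (grp 120 vG) :=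
  vt_c14_le (toPerm_mem_grp (E := vt_c14_K) (List.Mem.tail _ (List.Mem.head _)))

theorem vt_c14_sym : Sym 120 (grp 120 vG) [v_g261] vt_c14_K 0 :=
  Sym.of_lab v_hn v_hk (okE_cons.2 ⟨v_g261_ok, okE_nil _⟩) vt_c14_K_ok vt_c14_le (kT := 0) (by decide +kernel)

theorem v_le270 : grp 120 v_V269 ≤ grp 120 v_V158 :=
  grp_le_of_memB v_hn v_hk v_V158_ok v_V269_ok (ws := []) (by decide +kernel)

theorem vT_s66 : Stab 120 (grp 120 vG) [nat_lit 86, nat_lit 3, nat_lit 2, nat_lit 64, nat_lit 1, nat_lit 8, nat_lit 96, nat_lit 0] v_V269 1 :=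
  Stab.step (k := 7) (L := (lab 120 7)) v_hn vT_s31 v_V269_ok v_le270 (c := Ch.nil) (by decide +kernel)

noncomputable def vT_s66_O : ℕ := (nat_lit 0xffffffffffffff0000000000000000ffffff00000000ffffffff00000000ff0000ffff0000ffff0000ffff000000ff00ff00ff00ff00ff00ff00ff00f0f0f0f0f0f0f0f0f0f0f0f0f0f0f0ccccccccccccccccccccccccccccccaaaaaaaaaaaaaaaaaaaaaaaaaaaaaa000000000000000000000000000001000001000000000000000000000000000000000000000000000000000100000000000000000000000000000002000000000000010000000000000000000000000000000000000000000004000000000000000000000000000008000000004000000000000000000000)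

theorem vT_s66_F : Frame 120 (grp 120 vG) 8 15 vT_s66_O 1 1 :=
  IsBase.frame vT_s66.isBase (by decide +kernel)

noncomputable def vt_c14_cnt_L : List ℕ := [1, 4, vT_s1_O, 0, 0, 2, 13, vT_s2_O, 0, 0, 3, 21, vT_s9_O, 0, 0, 4, 10, vT_s10_O, 0, 0, 6, 13, vT_s30_O, 0, 0, 7, 14, vT_s31_O, 0, 0, 8, 15, vT_s66_O, 1, 0]

theorem vt_c14_cnt_P : Prob 120 7 (grp 120 vG) vt_c14_cnt_EG [v_g261] [v_g261] vt_c14_K vt_c14_cnt_L 0 0 :=
  Sym.prob v_hn v_hk vt_c14_sym vt_c14_cnt_EG_ok (grp_cons_le v_b_vT (grp_cons_le v_p0_vT (grp_cons_le v_p1_vT (grp_cons_le v_g7_vT (grp_cons_le v_g3_vT (grp_cons_le v_g4_vT (grp_cons_le v_g10_vT (grp_cons_le v_g16_vT (grp_cons_le v_g11_vT (grp_cons_le v_g12_vT (grp_cons_le v_g13_vT (grp_cons_le v_g22_vT (grp_cons_le v_g21_vT (grp_cons_le v_g26_vT (grp_cons_le v_g19_vT (grp_cons_le v_g20_vT (grp_cons_le v_g23_vT (grp_cons_le v_g30_vT (grp_cons_le v_g31_vT (grp_cons_le v_g32_vT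 (grp_cons_le v_g37_vT (grp_cons_le v_g38_vT (grp_cons_le v_g29_vT (grp_cons_le v_u_vT (grp_nil_le _))))))))))))))))))))))))) (Frames.cons vT_s1_F (Frames.cons vT_s2_F (Frames.cons vT_s9_F (Frames.cons vT_s10_F (Frames.cons vT_s30_F (Frames.cons vT_s31_F (Frames.cons vT_s66_F Frames.nil))))))) (okE_cons.2 ⟨v_g261_ok, okE_nil _⟩) _

noncomputable def vt_c14_cnt_t : BT := (BT.fix (nat_lit 1) (BT.br (nat_lit 0) (nat_lit 69) [nat_lit 1] (BT.dead (nat_lit 100) (BT.frm (nat_lit 0) (nat_lit 0x1030108) (nat_lit 0x103010307) [nat_lit 0] (BT.pln (nat_lit 0) (nat_lit 1) (BT.fix (nat_lit 257) (BT.and (nat_lit 1) (nat_lit 0) (BT.cnt (nat_lit 0)))))) (BT.dead (nat_lit 80) (BT.frm (nat_lit 0) (nat_lit 0x1030108) (nat_lit 0x103010704) [nat_lit 0] (BT.pln (nat_lit 0) (nat_lit 1) (BT.fix (nat_lit 257) (BT.and (nat_lit 1) (nat_lit 0) (BT.cnt (nat_lit 0)))))) (BT.kid (nat_lit 69) (nat_lit 64) (BT.frm (nat_lit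 0) (nat_lit 0x1030108) (nat_lit 0x1030108) [nat_lit 0] (BT.pln (nat_lit 0) (nat_lit 2) (BT.and (nat_lit 3) (nat_lit 0) (BT.br (nat_lit 0) (nat_lit 80) [] (BT.dead (nat_lit 100) (BT.frm (nat_lit 1) (nat_lit 0x701030108) (nat_lit 0x71901030108) [nat_lit 0, nat_lit 4] (BT.pln (nat_lit 0) (nat_lit 10) (BT.and (nat_lit 4) (nat_lit 0) (BT.br (nat_lit 0) (nat_lit 39) [nat_lit 3, nat_lit 5] (BT.dead (nat_lit 39) (BT.pln (nat_lit 7) (nat_lit 1) (BT.fix (nat_lit 257) (BT.dif (nat_lit 1) (nat_lit 0) (BT.frm (nat_lit 2) (nat_lit 0x130701030108) (nat_lit 0x13071901030108) [nat_lit 3, nat_lit 7, nat_lit 11] (BT.pln (nat_lit 0) (nat_lit 4) (BT.dif (nat_lit 2) (nat_lit 0) (BT.br (nat_lit 0) (nat_lit 64) [nat_lit 7] (BT.dead (nat_lit 114) (BT.dif (nat_lit 13) (nat_lit 5) (BT.frm (nat_lit 3) (nat_lit 0x1721130701030108) (nat_lit 0x2113071901030108) [nat_lit 1, nat_lit 8, nat_lit 12, nat_lit 16] (BT.pln (nat_lit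 0) (nat_lit 6) (BT.dif (nat_lit 2) (nat_lit 0) (BT.br (nat_lit 0) (nat_lit 24) [nat_lit 3337] (BT.dead (nat_lit 47) (BT.dif (nat_lit 7) (nat_lit 2) (BT.pln (nat_lit 4) (nat_lit 4) (BT.and (nat_lit 1) (nat_lit 0) (BT.pln (nat_lit 6) (nat_lit 5) (BT.dif (nat_lit 1) (nat_lit 0) (BT.br (nat_lit 0) (nat_lit 118) [nat_lit 11] (BT.dead (nat_lit 41) (BT.img (nat_lit 1) (nat_lit 11) (BT.frm (nat_lit 5) (nat_lit 0x2d291721130701030108) (nat_lit 0x29232113071901030108) [nat_lit 1, nat_lit 7, nat_lit 0, nat_lit 12, nat_lit 19, nat_lit 23, nat_lit 27] (BT.pln (nat_lit 0) (nat_lit 8) (BT.img (nat_lit 1) (nat_lit 3) (BT.and (nat_lit 1) (nat_lit 0) (BT.cnt (nat_lit 0))))))) BT.nil))))))) BT.nil)))))) (BT.dead (nat_lit 32) (BT.dif (nat_lit 13) (nat_lit 5) (BT.frm (nat_lit 3) (nat_lit 0x1721130701030108) (nat_lit 0x171913071901030108) [nat_lit 1, nat_lit 8, nat_lit 12, nat_lit 16] (BT.pln (nat_lit 0) (nat_lit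 6) (BT.dif (nat_lit 2) (nat_lit 0) (BT.br (nat_lit 0) (nat_lit 24) [nat_lit 9] (BT.dead (nat_lit 38) (BT.dif (nat_lit 7) (nat_lit 2) (BT.pln (nat_lit 4) (nat_lit 4) (BT.and (nat_lit 1) (nat_lit 0) (BT.pln (nat_lit 6) (nat_lit 5) (BT.dif (nat_lit 1) (nat_lit 0) (BT.br (nat_lit 0) (nat_lit 118) [nat_lit 11] (BT.dead (nat_lit 72) (BT.img (nat_lit 1) (nat_lit 11) (BT.frm (nat_lit 5) (nat_lit 0x2d291721130701030108) (nat_lit 0x171913071901030108) [nat_lit 1, nat_lit 7, nat_lit 0, nat_lit 12, nat_lit 19, nat_lit 23, nat_lit 27] (BT.pln (nat_lit 0) (nat_lit 8) (BT.img (nat_lit 1) (nat_lit 3) (BT.and (nat_lit 1) (nat_lit 0) (BT.cnt (nat_lit 0))))))) BT.nil))))))) BT.nil)))))) (BT.dead (nat_lit 92) (BT.dif (nat_lit 13) (nat_lit 5) (BT.frm (nat_lit 3) (nat_lit 0x1721130701030108) (nat_lit 0x1913071901030108) [nat_lit 1, nat_lit 8, nat_lit 12, nat_lit 16] (BT.pln (nat_lit 0) (nat_lit 6) (BT.dif (nat_lit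 2) (nat_lit 0) (BT.br (nat_lit 0) (nat_lit 24) [nat_lit 2825] (BT.dead (nat_lit 81) (BT.img (nat_lit 1) (nat_lit 5) (BT.frm (nat_lit 4) (nat_lit 0x291721130701030108) (nat_lit 0x291913071901030108) [nat_lit 1, nat_lit 0, nat_lit 6, nat_lit 13, nat_lit 17, nat_lit 21] (BT.pln (nat_lit 0) (nat_lit 6) (BT.img (nat_lit 1) (nat_lit 3) (BT.and (nat_lit 1) (nat_lit 0) (BT.cnt (nat_lit 0))))))) BT.nil)))))) (BT.dead (nat_lit 64) (BT.dif (nat_lit 13) (nat_lit 5) (BT.frm (nat_lit 3) (nat_lit 0x1721130701030108) (nat_lit 0x172113071901030108) [nat_lit 1, nat_lit 8, nat_lit 12, nat_lit 16] (BT.pln (nat_lit 0) (nat_lit 6) (BT.dif (nat_lit 2) (nat_lit 0) (BT.br (nat_lit 0) (nat_lit 24) [nat_lit 9] (BT.dead (nat_lit 24) (BT.img (nat_lit 1) (nat_lit 5) (BT.frm (nat_lit 4) (nat_lit 0x291721130701030108) (nat_lit 0x23172113071901030108) [nat_lit 1, nat_lit 0, nat_lit 6, nat_lit 13, nat_lit 17, nat_lit 21] (BT.pln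 (nat_lit 0) (nat_lit 6) (BT.img (nat_lit 1) (nat_lit 3) (BT.and (nat_lit 1) (nat_lit 0) (BT.cnt (nat_lit 0))))))) BT.nil)))))) BT.nil))))))))))) BT.nil))))) (BT.kid (nat_lit 80) (nat_lit 64) (BT.frm (nat_lit 1) (nat_lit 0x701030108) (nat_lit 0x701030108) [nat_lit 0, nat_lit 4] (BT.pln (nat_lit 0) (nat_lit 10) (BT.and (nat_lit 4) (nat_lit 0) (BT.br (nat_lit 0) (nat_lit 39) [nat_lit 3, nat_lit 5] (BT.kid (nat_lit 39) (nat_lit 16) (BT.pln (nat_lit 7) (nat_lit 1) (BT.fix (nat_lit 257) (BT.dif (nat_lit 1) (nat_lit 0) (BT.frm (nat_lit 2) (nat_lit 0x130701030108) (nat_lit 0x130701030108) [nat_lit 3, nat_lit 7, nat_lit 11] (BT.pln (nat_lit 0) (nat_lit 4) (BT.dif (nat_lit 2) (nat_lit 0) (BT.br (nat_lit 0) (nat_lit 64) [nat_lit 7] (BT.dead (nat_lit 92) (BT.dif (nat_lit 13) (nat_lit 5) (BT.frm (nat_lit 3) (nat_lit 0x1721130701030108) (nat_lit 0x130701030108) [nat_lit 1, nat_lit 8, nat_lit 12, nat_lit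 16] (BT.pln (nat_lit 0) (nat_lit 6) (BT.dif (nat_lit 2) (nat_lit 0) (BT.br (nat_lit 0) (nat_lit 24) [nat_lit 2825] (BT.dead (nat_lit 83) (BT.dif (nat_lit 7) (nat_lit 2) (BT.pln (nat_lit 4) (nat_lit 4) (BT.and (nat_lit 1) (nat_lit 0) (BT.pln (nat_lit 6) (nat_lit 5) (BT.dif (nat_lit 1) (nat_lit 0) (BT.br (nat_lit 0) (nat_lit 118) [nat_lit 11] (BT.dead (nat_lit 53) (BT.dif (nat_lit 30) (nat_lit 16) (BT.dif (nat_lit 0) (nat_lit 5) (BT.pln (nat_lit 11) (nat_lit 9) (BT.and (nat_lit 1) (nat_lit 0) (BT.dif (nat_lit 0) (nat_lit 21) (BT.pln (nat_lit 14) (nat_lit 7) (BT.dif (nat_lit 1) (nat_lit 0) (BT.br (nat_lit 0) (nat_lit 76) [nat_lit 13] (BT.dead (nat_lit 61) (BT.img (nat_lit 1) (nat_lit 19) (BT.frm (nat_lit 6) (nat_lit 0x2d291721130701030108) (nat_lit 0x2d2923130701030108) [nat_lit 1, nat_lit 9, nat_lit 15, nat_lit 0, nat_lit 20, nat_lit 27, nat_lit 31, nat_lit 35] (BT.pln (nat_lit 0) (nat_lit 8)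 (BT.img (nat_lit 1) (nat_lit 3) (BT.and (nat_lit 1) (nat_lit 0) (BT.cnt (nat_lit 0))))))) BT.nil))))))))) BT.nil))))))) BT.nil)))))) (BT.dead (nat_lit 32) (BT.dif (nat_lit 13) (nat_lit 5) (BT.frm (nat_lit 3) (nat_lit 0x1721130701030108) (nat_lit 0x17130701030108) [nat_lit 1, nat_lit 8, nat_lit 12, nat_lit 16] (BT.pln (nat_lit 0) (nat_lit 6) (BT.dif (nat_lit 2) (nat_lit 0) (BT.br (nat_lit 0) (nat_lit 24) [nat_lit 3337] (BT.dead (nat_lit 38) (BT.img (nat_lit 1) (nat_lit 5) (BT.frm (nat_lit 4) (nat_lit 0x291721130701030108) (nat_lit 0x2317130701030108) [nat_lit 1, nat_lit 0, nat_lit 6, nat_lit 13, nat_lit 17, nat_lit 21] (BT.pln (nat_lit 0) (nat_lit 6) (BT.img (nat_lit 1) (nat_lit 3) (BT.and (nat_lit 1) (nat_lit 0) (BT.cnt (nat_lit 0))))))) BT.nil)))))) (BT.dead (nat_lit 114) (BT.dif (nat_lit 13) (nat_lit 5) (BT.frm (nat_lit 3) (nat_lit 0x1721130701030108) (nat_lit 0x21130701030108) [nat_lit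 1, nat_lit 8, nat_lit 12, nat_lit 16] (BT.pln (nat_lit 0) (nat_lit 6) (BT.dif (nat_lit 2) (nat_lit 0) (BT.br (nat_lit 0) (nat_lit 24) [nat_lit 9] (BT.dead (nat_lit 47) (BT.img (nat_lit 1) (nat_lit 5) (BT.frm (nat_lit 4) (nat_lit 0x291721130701030108) (nat_lit 0x2921130701030108) [nat_lit 1, nat_lit 0, nat_lit 6, nat_lit 13, nat_lit 17, nat_lit 21] (BT.pln (nat_lit 0) (nat_lit 6) (BT.img (nat_lit 1) (nat_lit 3) (BT.and (nat_lit 1) (nat_lit 0) (BT.cnt (nat_lit 0))))))) BT.nil)))))) (BT.kid (nat_lit 64) (nat_lit 8) (BT.dif (nat_lit 13) (nat_lit 5) (BT.frm (nat_lit 3) (nat_lit 0x1721130701030108) (nat_lit 0x1721130701030108) [nat_lit 1, nat_lit 8, nat_lit 12, nat_lit 16] (BT.pln (nat_lit 0) (nat_lit 6) (BT.dif (nat_lit 2) (nat_lit 0) (BT.br (nat_lit 0) (nat_lit 24) [nat_lit 9] (BT.kid (nat_lit 24) (nat_lit 4) (BT.dif (nat_lit 7) (nat_lit 2) (BT.pln (nat_lit 4) (nat_lit 4) (BT.and (nat_lit 1) (nat_lit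 0) (BT.pln (nat_lit 6) (nat_lit 5) (BT.dif (nat_lit 1) (nat_lit 0) (BT.br (nat_lit 0) (nat_lit 118) [nat_lit 11] (BT.kid (nat_lit 118) (nat_lit 2) (BT.dif (nat_lit 30) (nat_lit 16) (BT.dif (nat_lit 0) (nat_lit 5) (BT.pln (nat_lit 11) (nat_lit 9) (BT.and (nat_lit 1) (nat_lit 0) (BT.dif (nat_lit 0) (nat_lit 21) (BT.pln (nat_lit 14) (nat_lit 7) (BT.dif (nat_lit 1) (nat_lit 0) (BT.br (nat_lit 0) (nat_lit 76) [nat_lit 13] (BT.kid (nat_lit 76) (nat_lit 1) (BT.img (nat_lit 1) (nat_lit 19) (BT.one (nat_lit 6) (nat_lit 0x2d291721130701030108) (nat_lit 0x2d291721130701030108) [nat_lit 1, nat_lit 9, nat_lit 15, nat_lit 0, nat_lit 20, nat_lit 27, nat_lit 31, nat_lit 35])) BT.nil))))))))) BT.nil))))))) BT.nil)))))) BT.nil))))))))))) BT.nil))))) BT.nil)))))) BT.nil)))))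

theorem vt_c14_cnt : Cnt 120 (grp 120 vG) [v_g261] [v_g261] 0 0 0 0 128 :=
  BT.sound vt_c14_cnt_P Known.nil (t := vt_c14_cnt_t) (d := 0) (by decide +kernel)

theorem vt_c14_ge : 128 ≤ Nat.card (grp 120 vt_c14_K) :=
  Ch.le_card_grp (k := 7) (L := (lab 120 7)) v_hn vt_c14_K_ok (c := (Ch.cons (nat_lit 69) [nat_lit 1] (Ch.cons (nat_lit 39) [nat_lit 3, nat_lit 5] (Ch.cons (nat_lit 64) [nat_lit 7] (Ch.cons (nat_lit 24) [nat_lit 9] (Ch.cons (nat_lit 118) [nat_lit 11] (Ch.cons (nat_lit 76) [nat_lit 13] Ch.nil))))))) (by decide +kernel)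

theorem vt_c14_eq : (grp 120 vG) ⊓ Subgroup.centralizer {Net.toPerm 120 v_g261} = grp 120 vt_c14_K :=
  cent_eq vt_c14_sym vt_c14_cnt vt_c14_ge

theorem vt_c14_card : Nat.card ↥((grp 120 vG) ⊓ Subgroup.centralizer {Net.toPerm 120 v_g261}) = 128 :=
  card_cent vt_c14_sym vt_c14_cnt vt_c14_ge

theorem vt_c14_ord : orderOf (Net.toPerm 120 v_g261) = 4 :=
  orderOf_net v_hn v_hk v_g261_ok (by decide) (ps := [2]) (by set_option linter.unusedSimpArgs false in simp [Nat.primeFactorsList_ofNat]) (by decide +kernel)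

theorem v_le276 : grp 120 vt_c15_K ≤ grp 120 vo_E0 :=
  grp_le_of_memB v_hn v_hk vo_E0_ok vt_c15_K_ok (ws := [nat_lit 0x70b010501030b, nat_lit 0x2d23190f080c01030103, nat_lit 0x231721080b, nat_lit 0x80b01080b01, nat_lit 0x2f170f080b01080b01]) (by decide +kernel)

theorem vt_c15_le : grp 120 vt_c15_K ≤ (grp 120 vG) :=
  (v_le276.trans vT_s0.le)

theorem vt_c15_mem : Net.toPerm 120 v_g271 ∈ (grp 120 vG) :=
  vt_c15_le (toPerm_mem_grp (E := vt_c15_K) (List.Mem.tail _ (List.Mem.head _)))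

theorem vt_c15_sym : Sym 120 (grp 120 vG) [v_g271] vt_c15_K 0 :=
  Sym.of_lab v_hn v_hk (okE_cons.2 ⟨v_g271_ok, okE_nil _⟩) vt_c15_K_ok vt_c15_le (kT := 0) (by decide +kernel)

theorem v_le280 : grp 120 v_V279 ≤ grp 120 v_V82 :=
  grp_le_of_memB v_hn v_hk v_V82_ok v_V279_ok (ws := [nat_lit 328449, nat_lit 1795, nat_lit 591621, nat_lit 0x9070503]) (by decide +kernel)

theorem vT_s67 : Stab 120 (grp 120 vG) [nat_lit 41, nat_lit 61, nat_lit 96, nat_lit 0] v_V279 16 :=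
  Stab.step (k := 7) (L := (lab 120 7)) v_hn vT_s3 v_V279_ok v_le280 (c := (Ch.cons (nat_lit 110) [nat_lit 1] (Ch.cons (nat_lit 94) [nat_lit 3] (Ch.cons (nat_lit 83) [nat_lit 5] (Ch.cons (nat_lit 113) [nat_lit 7] Ch.nil))))) (by decide +kernel)

theorem vT_s68 : Stab 120 (grp 120 vG) [nat_lit 110, nat_lit 41, nat_lit 61, nat_lit 96, nat_lit 0] v_V281 8 :=
  Stab.step (k := 7) (L := (lab 120 7)) v_hn vT_s67 v_V281_ok (grp_mono (List.subset_append_right [v_g277] _)) (c := (Ch.cons (nat_lit 94) [nat_lit 1] (Ch.cons (nat_lit 83) [nat_lit 3] (Ch.cons (nat_lit 113) [nat_lit 5] Ch.nil)))) (by decide +kernel)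

theorem vT_s69 : Stab 120 (grp 120 vG) [nat_lit 94, nat_lit 110, nat_lit 41, nat_lit 61, nat_lit 96, nat_lit 0] v_V282 4 :=
  Stab.step (k := 7) (L := (lab 120 7)) v_hn vT_s68 v_V282_ok (grp_mono (List.subset_append_right [v_g278] _)) (c := (Ch.cons (nat_lit 83) [nat_lit 1] (Ch.cons (nat_lit 113) [nat_lit 3] Ch.nil))) (by decide +kernel)

theorem vT_s70 : Stab 120 (grp 120 vG) [nat_lit 83, nat_lit 94, nat_lit 110, nat_lit 41, nat_lit 61, nat_lit 96, nat_lit 0] v_V283 2 :=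
  Stab.step (k := 7) (L := (lab 120 7)) v_hn vT_s69 v_V283_ok (grp_mono (List.subset_append_right [v_g21] _)) (c := (Ch.cons (nat_lit 113) [nat_lit 1] Ch.nil)) (by decide +kernel)

theorem vT_s71 : Stab 120 (grp 120 vG) [nat_lit 113, nat_lit 83, nat_lit 94, nat_lit 110, nat_lit 41, nat_lit 61, nat_lit 96, nat_lit 0] v_V284 1 :=
  Stab.step (k := 7) (L := (lab 120 7)) v_hn vT_s70 v_V284_ok (grp_mono (List.subset_append_right [v_g101] _)) (c := Ch.nil) (by decide +kernel)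

theorem v_g278_vT : Net.toPerm 120 v_g278 ∈ (grp 120 vG) :=
  vT_s68.le (toPerm_mem_grp (E := v_V281) (List.Mem.head _))

theorem v_g277_vT : Net.toPerm 120 v_g277 ∈ (grp 120 vG) :=
  vT_s67.le (toPerm_mem_grp (E := v_V279) (List.Mem.head _))

noncomputable def vT_s71_O : ℕ := (nat_lit 0xffffffffffffff0000000000000000ffffff00000000ffffffff00000000ff0000ffff0000ffff0000ffff000000ff00ff00ff00ff00ff00ff00ff00f0f0f0f0f0f0f0f0f0f0f0f0f0f0f0ccccccccccccccccccccccccccccccaaaaaaaaaaaaaaaaaaaaaaaaaaaaaa000000000000000000000000000001000001000000000000000000000000000000000000002000000000000000000000000000000000020000000000004000000000000000000000000000000000400000000000000000000000000000000800000000000000000000020000000000000000000000000000)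

theorem vT_s71_F : Frame 120 (grp 120 vG) 8 15 vT_s71_O 1 1 :=
  IsBase.frame vT_s71.isBase (by decide +kernel)

noncomputable def vT_s70_O : ℕ := (nat_lit 0x31114020e20fc00000000000000000000000000000199243951d28abd9c2ee26be0d05b03fde73f51c00000000ddbf52bec5b019924e08c37eeb0000dd9faa0b224c3bc9899ce16884fe009f24f43623433a161d89b1b52ce1b098b26695a4cab1556959499a369568000000000000000000000000000001000001000000000000000000000000000000000000002000000000000000000000000000000000020000000000004000000000000000000000000000000000400000000000000000000000000000000800000000000000000000)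

theorem vT_s70_F : Frame 120 (grp 120 vG) 7 14 vT_s70_O 0 1 :=
  Stab.frame v_hn vT_s70 (by decide +kernel)

noncomputable def vT_s69_O : ℕ := (nat_lit 0x10100000000000000000000000000fc26fe2dcfbfb25e0091000820010002984092e00fcc127ffdc57ea00100fea6520ecb4f8d817a6cea004ef400be1e6220e4f87d12f0f00fe04d8ae0fa30c01d84b64a52de0d2f1d5b6298751ce89a5ec52a98e8c98653665a54000000000000000000000000000001000001000000000000000000000000000000000000002000000000000000000000000000000000020000000000004000000000000000000000000000000000400000000000000000000000)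

theorem vT_s69_F : Frame 120 (grp 120 vG) 6 13 vT_s69_O 0 1 :=
  Stab.frame v_hn vT_s69 (by decide +kernel)

noncomputable def vt_c15_cnt_L : List ℕ := [1, 4, vT_s1_O, 0, 0, 2, 13, vT_s2_O, 0, 0, 3, 9, vT_s3_O, 0, 0, 6, 13, vT_s69_O, 0, 0, 7, 14, vT_s70_O, 0, 0, 8, 15, vT_s71_O, 1, 0]

theorem vt_c15_cnt_P : Prob 120 7 (grp 120 vG) vt_c15_cnt_EG [v_g271] [v_g271] vt_c15_K vt_c15_cnt_L 0 0 :=
  Sym.prob v_hn v_hk vt_c15_sym vt_c15_cnt_EG_ok (grp_cons_le v_b_vT (grp_cons_le v_p0_vT (grp_cons_le v_p1_vT (grp_cons_le v_g7_vT (grp_cons_le v_g3_vT (grp_cons_le v_g4_vT (grp_cons_le v_g10_vT (grp_cons_le v_g16_vT (grp_cons_le v_g11_vT (grp_cons_le v_g12_vT (grp_cons_le v_g13_vT (grp_cons_le v_g22_vT (grp_cons_le v_g21_vT (grp_cons_le v_g26_vT (grp_cons_le v_g19_vT (grp_cons_le v_g20_vT (grp_cons_le v_g23_vT (grp_cons_le v_g30_vT (grp_cons_le v_g31_vT (grp_cons_le v_g32_vT (grp_cons_le v_g37_vT (grp_cons_le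 v_g38_vT (grp_cons_le v_g29_vT (grp_cons_le v_u_vT (grp_cons_le v_g278_vT (grp_cons_le v_g101_vT (grp_cons_le v_g277_vT (grp_cons_le v_g79_vT (grp_cons_le v_g80_vT (grp_cons_le v_g81_vT (grp_nil_le _))))))))))))))))))))))))))))))) (Frames.cons vT_s1_F (Frames.cons vT_s2_F (Frames.cons vT_s3_F (Frames.cons vT_s69_F (Frames.cons vT_s70_F (Frames.cons vT_s71_F Frames.nil)))))) (okE_cons.2 ⟨v_g271_ok, okE_nil _⟩) _

noncomputable def vt_c15_cnt_t : BT := (BT.fix (nat_lit 1) (BT.br (nat_lit 0) (nat_lit 19) [nat_lit 1] (BT.dead (nat_lit 115) (BT.frm (nat_lit 0) (nat_lit 66307) (nat_lit 0x103010805) [nat_lit 0] (BT.pln (nat_lit 0) (nat_lit 2) (BT.and (nat_lit 3) (nat_lit 0) (BT.br (nat_lit 0) (nat_lit 119) [nat_lit 1] (BT.dead (nat_lit 19) (BT.frm (nat_lit 1) (nat_lit 0x709010303) (nat_lit 0x70b0103010805) [nat_lit 0, nat_lit 4] (BT.pln (nat_lit 0) (nat_lit 2) (BT.fix (nat_lit 257) (BT.and (nat_lit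 1) (nat_lit 0) (BT.cnt (nat_lit 0)))))) BT.nil))))) (BT.dead (nat_lit 119) (BT.frm (nat_lit 0) (nat_lit 66307) (nat_lit 0x103010c) [nat_lit 0] (BT.pln (nat_lit 0) (nat_lit 2) (BT.and (nat_lit 3) (nat_lit 0) (BT.br (nat_lit 0) (nat_lit 119) [nat_lit 1] (BT.dead (nat_lit 19) (BT.frm (nat_lit 1) (nat_lit 0x709010303) (nat_lit 0x70b0103010c) [nat_lit 0, nat_lit 4] (BT.pln (nat_lit 0) (nat_lit 2) (BT.fix (nat_lit 257) (BT.and (nat_lit 1) (nat_lit 0) (BT.cnt (nat_lit 0)))))) BT.nil))))) (BT.kid (nat_lit 19) (nat_lit 32) (BT.frm (nat_lit 0) (nat_lit 66307) (nat_lit 66307) [nat_lit 0] (BT.pln (nat_lit 0) (nat_lit 2) (BT.and (nat_lit 3) (nat_lit 0) (BT.br (nat_lit 0) (nat_lit 119) [] (BT.dead (nat_lit 115) (BT.frm (nat_lit 1) (nat_lit 0x709010303) (nat_lit 0x911010303) [nat_lit 0, nat_lit 4] (BT.pln (nat_lit 0) (nat_lit 5) (BT.fix (nat_lit 257) (BT.dif (nat_lit 1) (nat_lit 0) (BT.br (nat_lit 0) (nat_lit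 6) [nat_lit 3] (BT.dead (nat_lit 28) (BT.dif (nat_lit 1) (nat_lit 0) (BT.frm (nat_lit 2) (nat_lit 0xf0709010303) (nat_lit 0x1b0911010303) [nat_lit 1, nat_lit 6, nat_lit 10] (BT.pln (nat_lit 0) (nat_lit 7) (BT.dif (nat_lit 2) (nat_lit 0) (BT.br (nat_lit 0) (nat_lit 28) [] (BT.dead (nat_lit 6) (BT.pln (nat_lit 9) (nat_lit 9) (BT.pln (nat_lit 4) (nat_lit 3) (BT.dif (nat_lit 1) (nat_lit 0) (BT.br (nat_lit 0) (nat_lit 118) [nat_lit 5] (BT.dead (nat_lit 114) (BT.dif (nat_lit 16) (nat_lit 2) (BT.dif (nat_lit 0) (nat_lit 12) (BT.pln (nat_lit 9) (nat_lit 5) (BT.dif (nat_lit 1) (nat_lit 0) (BT.br (nat_lit 0) (nat_lit 76) [nat_lit 7] (BT.dead (nat_lit 69) (BT.pln (nat_lit 12) (nat_lit 8) (BT.and (nat_lit 3) (nat_lit 0) (BT.dif (nat_lit 0) (nat_lit 18) (BT.pln (nat_lit 15) (nat_lit 6) (BT.dif (nat_lit 1) (nat_lit 0) (BT.dif (nat_lit 0) (nat_lit 12) (BT.dif (nat_lit 0) (nat_lit 17) (BT.br (nat_lit 0) (nat_lit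 51) [nat_lit 9] (BT.dead (nat_lit 53) (BT.img (nat_lit 1) (nat_lit 22) (BT.frm (nat_lit 5) (nat_lit 0x31370f0709010303) (nat_lit 0x3335371b0911010303) [nat_lit 1, nat_lit 9, nat_lit 14, nat_lit 18, nat_lit 0, nat_lit 23, nat_lit 28, nat_lit 32] (BT.pln (nat_lit 0) (nat_lit 10) (BT.img (nat_lit 1) (nat_lit 3) (BT.and (nat_lit 1) (nat_lit 0) (BT.cnt (nat_lit 0))))))) BT.nil))))))))) BT.nil)))))) BT.nil))))) (BT.dead (nat_lit 11) (BT.pln (nat_lit 9) (nat_lit 9) (BT.pln (nat_lit 4) (nat_lit 3) (BT.dif (nat_lit 1) (nat_lit 0) (BT.br (nat_lit 0) (nat_lit 118) [nat_lit 5] (BT.dead (nat_lit 114) (BT.dif (nat_lit 16) (nat_lit 2) (BT.dif (nat_lit 0) (nat_lit 12) (BT.pln (nat_lit 9) (nat_lit 5) (BT.dif (nat_lit 1) (nat_lit 0) (BT.br (nat_lit 0) (nat_lit 76) [nat_lit 7] (BT.dead (nat_lit 69) (BT.img (nat_lit 1) (nat_lit 14) (BT.frm (nat_lit 4) (nat_lit 0x31370f0709010303) (nat_lit 0x371b0911010303) [nat_lit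 1, nat_lit 6, nat_lit 10, nat_lit 0, nat_lit 15, nat_lit 20, nat_lit 24] (BT.pln (nat_lit 0) (nat_lit 7) (BT.img (nat_lit 1) (nat_lit 3) (BT.and (nat_lit 1) (nat_lit 0) (BT.cnt (nat_lit 0))))))) BT.nil)))))) BT.nil))))) BT.nil))))))) (BT.dead (nat_lit 6) (BT.dif (nat_lit 1) (nat_lit 0) (BT.frm (nat_lit 2) (nat_lit 0xf0709010303) (nat_lit 0x270911010303) [nat_lit 1, nat_lit 6, nat_lit 10] (BT.pln (nat_lit 0) (nat_lit 7) (BT.dif (nat_lit 2) (nat_lit 0) (BT.br (nat_lit 0) (nat_lit 28) [] (BT.dead (nat_lit 92) (BT.pln (nat_lit 9) (nat_lit 9) (BT.pln (nat_lit 4) (nat_lit 3) (BT.dif (nat_lit 1) (nat_lit 0) (BT.br (nat_lit 0) (nat_lit 118) [nat_lit 5] (BT.dead (nat_lit 118) (BT.img (nat_lit 1) (nat_lit 9) (BT.frm (nat_lit 3) (nat_lit 0x31370f0709010303) (nat_lit 0x3135270911010303) [nat_lit 1, nat_lit 5, nat_lit 0, nat_lit 10, nat_lit 15, nat_lit 19] (BT.pln (nat_lit 0) (nat_lit 7) (BT.img (nat_lit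 1) (nat_lit 3) (BT.and (nat_lit 1) (nat_lit 0) (BT.cnt (nat_lit 0))))))) BT.nil))))) (BT.dead (nat_lit 28) (BT.pln (nat_lit 9) (nat_lit 9) (BT.pln (nat_lit 4) (nat_lit 3) (BT.dif (nat_lit 1) (nat_lit 0) (BT.br (nat_lit 0) (nat_lit 118) [nat_lit 5] (BT.dead (nat_lit 118) (BT.img (nat_lit 1) (nat_lit 9) (BT.frm (nat_lit 3) (nat_lit 0x31370f0709010303) (nat_lit 0x31270911010303) [nat_lit 1, nat_lit 5, nat_lit 0, nat_lit 10, nat_lit 15, nat_lit 19] (BT.pln (nat_lit 0) (nat_lit 7) (BT.img (nat_lit 1) (nat_lit 3) (BT.and (nat_lit 1) (nat_lit 0) (BT.cnt (nat_lit 0))))))) BT.nil))))) BT.nil))))))) BT.nil))))))) (BT.kid (nat_lit 119) (nat_lit 32) (BT.frm (nat_lit 1) (nat_lit 0x709010303) (nat_lit 0x709010303) [nat_lit 0, nat_lit 4] (BT.pln (nat_lit 0) (nat_lit 5) (BT.fix (nat_lit 257) (BT.dif (nat_lit 1) (nat_lit 0) (BT.br (nat_lit 0) (nat_lit 6) [nat_lit 3] (BT.dead (nat_lit 28) (BT.dif (nat_lit 1)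 (nat_lit 0) (BT.frm (nat_lit 2) (nat_lit 0xf0709010303) (nat_lit 0x1f0709010303) [nat_lit 1, nat_lit 6, nat_lit 10] (BT.pln (nat_lit 0) (nat_lit 7) (BT.dif (nat_lit 2) (nat_lit 0) (BT.br (nat_lit 0) (nat_lit 28) [] (BT.dead (nat_lit 11) (BT.pln (nat_lit 9) (nat_lit 9) (BT.pln (nat_lit 4) (nat_lit 3) (BT.dif (nat_lit 1) (nat_lit 0) (BT.br (nat_lit 0) (nat_lit 118) [nat_lit 5] (BT.dead (nat_lit 114) (BT.img (nat_lit 1) (nat_lit 9) (BT.frm (nat_lit 3) (nat_lit 0x31370f0709010303) (nat_lit 0x351f0709010303) [nat_lit 1, nat_lit 5, nat_lit 0, nat_lit 10, nat_lit 15, nat_lit 19] (BT.pln (nat_lit 0) (nat_lit 7) (BT.img (nat_lit 1) (nat_lit 3) (BT.and (nat_lit 1) (nat_lit 0) (BT.cnt (nat_lit 0))))))) BT.nil))))) (BT.dead (nat_lit 6) (BT.pln (nat_lit 9) (nat_lit 9) (BT.pln (nat_lit 4) (nat_lit 3) (BT.dif (nat_lit 1) (nat_lit 0) (BT.br (nat_lit 0) (nat_lit 118) [nat_lit 5] (BT.dead (nat_lit 114) (BT.img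 (nat_lit 1) (nat_lit 9) (BT.frm (nat_lit 3) (nat_lit 0x31370f0709010303) (nat_lit 0x1f0709010303) [nat_lit 1, nat_lit 5, nat_lit 0, nat_lit 10, nat_lit 15, nat_lit 19] (BT.pln (nat_lit 0) (nat_lit 7) (BT.img (nat_lit 1) (nat_lit 3) (BT.and (nat_lit 1) (nat_lit 0) (BT.cnt (nat_lit 0))))))) BT.nil))))) BT.nil))))))) (BT.kid (nat_lit 6) (nat_lit 8) (BT.dif (nat_lit 1) (nat_lit 0) (BT.frm (nat_lit 2) (nat_lit 0xf0709010303) (nat_lit 0xf0709010303) [nat_lit 1, nat_lit 6, nat_lit 10] (BT.pln (nat_lit 0) (nat_lit 7) (BT.dif (nat_lit 2) (nat_lit 0) (BT.br (nat_lit 0) (nat_lit 28) [] (BT.dead (nat_lit 92) (BT.pln (nat_lit 9) (nat_lit 9) (BT.pln (nat_lit 4) (nat_lit 3) (BT.dif (nat_lit 1) (nat_lit 0) (BT.br (nat_lit 0) (nat_lit 118) [nat_lit 5] (BT.dead (nat_lit 118) (BT.dif (nat_lit 16) (nat_lit 2) (BT.dif (nat_lit 0) (nat_lit 12) (BT.pln (nat_lit 9) (nat_lit 5) (BT.dif (nat_lit 1) (nat_lit 0) (BT.br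 (nat_lit 0) (nat_lit 76) [nat_lit 7] (BT.dead (nat_lit 76) (BT.img (nat_lit 1) (nat_lit 14) (BT.frm (nat_lit 4) (nat_lit 0x31370f0709010303) (nat_lit 0x3135370f0709010303) [nat_lit 1, nat_lit 6, nat_lit 10, nat_lit 0, nat_lit 15, nat_lit 20, nat_lit 24] (BT.pln (nat_lit 0) (nat_lit 7) (BT.img (nat_lit 1) (nat_lit 3) (BT.and (nat_lit 1) (nat_lit 0) (BT.cnt (nat_lit 0))))))) BT.nil)))))) BT.nil))))) (BT.kid (nat_lit 28) (nat_lit 8) (BT.pln (nat_lit 9) (nat_lit 9) (BT.pln (nat_lit 4) (nat_lit 3) (BT.dif (nat_lit 1) (nat_lit 0) (BT.br (nat_lit 0) (nat_lit 118) [nat_lit 5] (BT.kid (nat_lit 118) (nat_lit 4) (BT.dif (nat_lit 16) (nat_lit 2) (BT.dif (nat_lit 0) (nat_lit 12) (BT.pln (nat_lit 9) (nat_lit 5) (BT.dif (nat_lit 1) (nat_lit 0) (BT.br (nat_lit 0) (nat_lit 76) [nat_lit 7] (BT.kid (nat_lit 76) (nat_lit 2) (BT.pln (nat_lit 12) (nat_lit 8) (BT.and (nat_lit 3) (nat_lit 0) (BT.dif (nat_lit 0) (nat_lit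 18) (BT.pln (nat_lit 15) (nat_lit 6) (BT.dif (nat_lit 1) (nat_lit 0) (BT.dif (nat_lit 0) (nat_lit 12) (BT.dif (nat_lit 0) (nat_lit 17) (BT.br (nat_lit 0) (nat_lit 51) [nat_lit 9] (BT.kid (nat_lit 51) (nat_lit 1) (BT.img (nat_lit 1) (nat_lit 22) (BT.one (nat_lit 5) (nat_lit 0x31370f0709010303) (nat_lit 0x31370f0709010303) [nat_lit 1, nat_lit 9, nat_lit 14, nat_lit 18, nat_lit 0, nat_lit 23, nat_lit 28, nat_lit 32])) BT.nil))))))))) BT.nil)))))) BT.nil))))) BT.nil))))))) BT.nil))))))) BT.nil)))))) BT.nil)))))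

theorem vt_c15_cnt : Cnt 120 (grp 120 vG) [v_g271] [v_g271] 0 0 0 0 64 :=
  BT.sound vt_c15_cnt_P Known.nil (t := vt_c15_cnt_t) (d := 0) (by decide +kernel)

theorem vt_c15_ge : 64 ≤ Nat.card (grp 120 vt_c15_K) :=
  Ch.le_card_grp (k := 7) (L := (lab 120 7)) v_hn vt_c15_K_ok (c := (Ch.cons (nat_lit 19) [nat_lit 1] (Ch.cons (nat_lit 6) [nat_lit 3] (Ch.cons (nat_lit 118) [nat_lit 5] (Ch.cons (nat_lit 76) [nat_lit 7] (Ch.cons (nat_lit 51) [nat_lit 9] Ch.nil)))))) (by decide +kernel)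

theorem vt_c15_eq : (grp 120 vG) ⊓ Subgroup.centralizer {Net.toPerm 120 v_g271} = grp 120 vt_c15_K :=
  cent_eq vt_c15_sym vt_c15_cnt vt_c15_ge

theorem vt_c15_card : Nat.card ↥((grp 120 vG) ⊓ Subgroup.centralizer {Net.toPerm 120 v_g271}) = 64 :=
  card_cent vt_c15_sym vt_c15_cnt vt_c15_ge

theorem vt_c15_ord : orderOf (Net.toPerm 120 v_g271) = 4 :=
  orderOf_net v_hn v_hk v_g271_ok (by decide) (ps := [2]) (by set_option linter.unusedSimpArgs false in simp [Nat.primeFactorsList_ofNat]) (by decide +kernel)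

theorem v_le289 : grp 120 vt_c16_K ≤ grp 120 vo_E0 :=
  grp_le_of_memB v_hn v_hk vo_E0_ok vt_c16_K_ok (ws := [nat_lit 0x2923210f091b01080b01, nat_lit 0x2d29190d0719010308, nat_lit 0x2f29231b070a, nat_lit 0x2d2317190f, nat_lit 47]) (by decide +kernel)

theorem vt_c16_le : grp 120 vt_c16_K ≤ (grp 120 vG) :=
  (v_le289.trans vT_s0.le)

theorem vt_c16_mem : Net.toPerm 120 v_g285 ∈ (grp 120 vG) :=
  vt_c16_le (toPerm_mem_grp (E := vt_c16_K) (List.Mem.head _))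

theorem vt_c16_sym : Sym 120 (grp 120 vG) [v_g285] vt_c16_K 0 :=
  Sym.of_lab v_hn v_hk (okE_cons.2 ⟨v_g285_ok, okE_nil _⟩) vt_c16_K_ok vt_c16_le (kT := 0) (by decide +kernel)

noncomputable def vt_c16_cnt_L : List ℕ := [1, 4, vT_s1_O, 0, 0, 2, 13, vT_s2_O, 0, 0, 3, 21, vT_s9_O, 0, 0, 4, 10, vT_s10_O, 0, 0, 6, 13, vT_s30_O, 0, 0, 7, 14, vT_s31_O, 0, 0, 8, 15, vT_s66_O, 1, 0]

theorem vt_c16_cnt_P : Prob 120 7 (grp 120 vG) vt_c16_cnt_EG [v_g285] [v_g285] vt_c16_K vt_c16_cnt_L 0 0 :=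
  Sym.prob v_hn v_hk vt_c16_sym vt_c16_cnt_EG_ok (grp_cons_le v_b_vT (grp_cons_le v_p0_vT (grp_cons_le v_p1_vT (grp_cons_le v_g7_vT (grp_cons_le v_g3_vT (grp_cons_le v_g4_vT (grp_cons_le v_g10_vT (grp_cons_le v_g16_vT (grp_cons_le v_g11_vT (grp_cons_le v_g12_vT (grp_cons_le v_g13_vT (grp_cons_le v_g22_vT (grp_cons_le v_g21_vT (grp_cons_le v_g26_vT (grp_cons_le v_g19_vT (grp_cons_le v_g20_vT (grp_cons_le v_g23_vT (grp_cons_le v_g30_vT (grp_cons_le v_g31_vT (grp_cons_le v_g32_vT (grp_cons_le v_g37_vT (grp_cons_le v_g38_vT (grp_cons_le v_g29_vT (grp_cons_le v_u_vT (grp_nil_le _))))))))))))))))))))))))) (Frames.cons vT_s1_F (Frames.cons vT_s2_F (Frames.cons vT_s9_F (Frames.cons vT_s10_F (Frames.cons vT_s30_F (Frames.cons vT_s31_F (Frames.cons vT_s66_F Frames.nil))))))) (okE_cons.2 ⟨v_g285_ok, okE_nil _⟩) _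

noncomputable def vt_c16_cnt_t : BT := (BT.fix (nat_lit 257) (BT.br (nat_lit 0) (nat_lit 0) [nat_lit 1, nat_lit 3] (BT.dead (nat_lit 7) (BT.frm (nat_lit 0) (nat_lit 0) (nat_lit 66328) [nat_lit 0] (BT.pln (nat_lit 0) (nat_lit 2) (BT.img (nat_lit 1) (nat_lit 2) (BT.and (nat_lit 1) (nat_lit 0) (BT.cnt (nat_lit 0)))))) (BT.kid (nat_lit 0) (nat_lit 8) (BT.frm (nat_lit 0) (nat_lit 0) (nat_lit 0) [nat_lit 0] (BT.pln (nat_lit 0) (nat_lit 2) (BT.and (nat_lit 3) (nat_lit 0) (BT.br (nat_lit 0) (nat_lit 7) [] (BT.dead (nat_lit 16) (BT.pln (nat_lit 3) (nat_lit 1) (BT.frm (nat_lit 1) (nat_lit 2328) (nat_lit 2056) [nat_lit 1, nat_lit 5] (BT.pln (nat_lit 0) (nat_lit 6) (BT.dif (nat_lit 2) (nat_lit 0) (BT.pln (nat_lit 2) (nat_lit 7) (BT.dif (nat_lit 1) (nat_lit 0) (BT.pln (nat_lit 4) (nat_lit 9) (BT.dif (nat_lit 1) (nat_lit 0) (BT.img (nat_lit 1) (nat_lit 1) (BT.dif (nat_lit 1) (nat_lit 0) (BT.br (nat_lit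 0) (nat_lit 72) [nat_lit 5] (BT.dead (nat_lit 72) (BT.dif (nat_lit 13) (nat_lit 16) (BT.img (nat_lit 1) (nat_lit 12) (BT.frm (nat_lit 2) (nat_lit 985368) (nat_lit 854024) [nat_lit 0, nat_lit 13, nat_lit 17] (BT.pln (nat_lit 0) (nat_lit 3) (BT.and (nat_lit 3) (nat_lit 0) (BT.frm (nat_lit 3) (nat_lit 0x1b0f0918) (nat_lit 0x17210d0808) [nat_lit 5, nat_lit 3, nat_lit 16, nat_lit 20] (BT.pln (nat_lit 0) (nat_lit 4) (BT.dif (nat_lit 2) (nat_lit 0) (BT.br (nat_lit 0) (nat_lit 97) [] (BT.dead (nat_lit 97) (BT.img (nat_lit 1) (nat_lit 9) (BT.frm (nat_lit 4) (nat_lit 0x1b0f0918) (nat_lit 0x292317210d0808) [nat_lit 1, nat_lit 0, nat_lit 10, nat_lit 8, nat_lit 21, nat_lit 25] (BT.pln (nat_lit 0) (nat_lit 6) (BT.img (nat_lit 1) (nat_lit 3) (BT.img (nat_lit 1) (nat_lit 0) (BT.img (nat_lit 1) (nat_lit 0) (BT.and (nat_lit 3) (nat_lit 0) (BT.cnt (nat_lit 0))))))))) (BT.dead (nat_lit 105) (BT.img (nat_lit 1)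 (nat_lit 9) (BT.frm (nat_lit 4) (nat_lit 0x1b0f0918) (nat_lit 0x2317210d0808) [nat_lit 1, nat_lit 0, nat_lit 10, nat_lit 8, nat_lit 21, nat_lit 25] (BT.pln (nat_lit 0) (nat_lit 6) (BT.img (nat_lit 1) (nat_lit 3) (BT.img (nat_lit 1) (nat_lit 0) (BT.img (nat_lit 1) (nat_lit 0) (BT.and (nat_lit 3) (nat_lit 0) (BT.cnt (nat_lit 0))))))))) BT.nil))))))))))) (BT.dead (nat_lit 40) (BT.dif (nat_lit 13) (nat_lit 16) (BT.img (nat_lit 1) (nat_lit 12) (BT.frm (nat_lit 2) (nat_lit 985368) (nat_lit 854024) [nat_lit 0, nat_lit 13, nat_lit 17] (BT.pln (nat_lit 0) (nat_lit 3) (BT.and (nat_lit 3) (nat_lit 0) (BT.frm (nat_lit 3) (nat_lit 0x1b0f0918) (nat_lit 0x1b0d0808) [nat_lit 5, nat_lit 3, nat_lit 16, nat_lit 20] (BT.pln (nat_lit 0) (nat_lit 4) (BT.dif (nat_lit 2) (nat_lit 0) (BT.br (nat_lit 0) (nat_lit 97) [] (BT.dead (nat_lit 97) (BT.img (nat_lit 1) (nat_lit 9) (BT.frm (nat_lit 4) (nat_lit 0x1b0f0918) (nat_lit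 0x29231b0d0808) [nat_lit 1, nat_lit 0, nat_lit 10, nat_lit 8, nat_lit 21, nat_lit 25] (BT.pln (nat_lit 0) (nat_lit 6) (BT.img (nat_lit 1) (nat_lit 3) (BT.img (nat_lit 1) (nat_lit 0) (BT.img (nat_lit 1) (nat_lit 0) (BT.and (nat_lit 3) (nat_lit 0) (BT.cnt (nat_lit 0))))))))) (BT.dead (nat_lit 105) (BT.img (nat_lit 1) (nat_lit 9) (BT.frm (nat_lit 4) (nat_lit 0x1b0f0918) (nat_lit 0x231b0d0808) [nat_lit 1, nat_lit 0, nat_lit 10, nat_lit 8, nat_lit 21, nat_lit 25] (BT.pln (nat_lit 0) (nat_lit 6) (BT.img (nat_lit 1) (nat_lit 3) (BT.img (nat_lit 1) (nat_lit 0) (BT.img (nat_lit 1) (nat_lit 0) (BT.and (nat_lit 3) (nat_lit 0) (BT.cnt (nat_lit 0))))))))) BT.nil))))))))))) (BT.dead (nat_lit 59) (BT.img (nat_lit 1) (nat_lit 11) (BT.frm (nat_lit 3) (nat_lit 0x1b0f0918) (nat_lit 0x190d0808) [nat_lit 1, nat_lit 0, nat_lit 12, nat_lit 16] (BT.pln (nat_lit 0) (nat_lit 4) (BT.img (nat_lit 1) (nat_lit 3) (BT.and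 (nat_lit 1) (nat_lit 0) (BT.cnt (nat_lit 0))))))) (BT.dead (nat_lit 99) (BT.img (nat_lit 1) (nat_lit 11) (BT.frm (nat_lit 3) (nat_lit 0x1b0f0918) (nat_lit 854024) [nat_lit 1, nat_lit 0, nat_lit 12, nat_lit 16] (BT.pln (nat_lit 0) (nat_lit 4) (BT.img (nat_lit 1) (nat_lit 3) (BT.and (nat_lit 1) (nat_lit 0) (BT.cnt (nat_lit 0))))))) BT.nil))))))))))))))) (BT.dead (nat_lit 46) (BT.pln (nat_lit 3) (nat_lit 1) (BT.frm (nat_lit 1) (nat_lit 2328) (nat_lit 2318) [nat_lit 1, nat_lit 5] (BT.pln (nat_lit 0) (nat_lit 6) (BT.dif (nat_lit 2) (nat_lit 0) (BT.pln (nat_lit 2) (nat_lit 7) (BT.dif (nat_lit 1) (nat_lit 0) (BT.pln (nat_lit 4) (nat_lit 9) (BT.dif (nat_lit 1) (nat_lit 0) (BT.img (nat_lit 1) (nat_lit 1) (BT.dif (nat_lit 1) (nat_lit 0) (BT.br (nat_lit 0) (nat_lit 72) [nat_lit 5] (BT.dead (nat_lit 99) (BT.img (nat_lit 1) (nat_lit 11) (BT.frm (nat_lit 3) (nat_lit 0x1b0f0918) (nat_lit 0x190f090e) [nat_lit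 1, nat_lit 0, nat_lit 12, nat_lit 16] (BT.pln (nat_lit 0) (nat_lit 4) (BT.img (nat_lit 1) (nat_lit 3) (BT.img (nat_lit 1) (nat_lit 0) (BT.and (nat_lit 2) (nat_lit 0) (BT.cnt (nat_lit 0)))))))) (BT.dead (nat_lit 40) (BT.img (nat_lit 1) (nat_lit 11) (BT.frm (nat_lit 3) (nat_lit 0x1b0f0918) (nat_lit 0x1f0f090e) [nat_lit 1, nat_lit 0, nat_lit 12, nat_lit 16] (BT.pln (nat_lit 0) (nat_lit 4) (BT.img (nat_lit 1) (nat_lit 3) (BT.and (nat_lit 1) (nat_lit 0) (BT.cnt (nat_lit 0))))))) (BT.dead (nat_lit 72) (BT.img (nat_lit 1) (nat_lit 11) (BT.frm (nat_lit 3) (nat_lit 0x1b0f0918) (nat_lit 0x210f090e) [nat_lit 1, nat_lit 0, nat_lit 12, nat_lit 16] (BT.pln (nat_lit 0) (nat_lit 4) (BT.img (nat_lit 1) (nat_lit 3) (BT.and (nat_lit 1) (nat_lit 0) (BT.cnt (nat_lit 0))))))) (BT.dead (nat_lit 59) (BT.img (nat_lit 1) (nat_lit 11) (BT.frm (nat_lit 3) (nat_lit 0x1b0f0918) (nat_lit 985358) [nat_lit 1, nat_lit 0, nat_lit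 12, nat_lit 16] (BT.pln (nat_lit 0) (nat_lit 4) (BT.img (nat_lit 1) (nat_lit 3) (BT.img (nat_lit 1) (nat_lit 0) (BT.and (nat_lit 2) (nat_lit 0) (BT.cnt (nat_lit 0)))))))) BT.nil))))))))))))))) (BT.dead (nat_lit 53) (BT.pln (nat_lit 3) (nat_lit 1) (BT.frm (nat_lit 1) (nat_lit 2328) (nat_lit 2568) [nat_lit 1, nat_lit 5] (BT.pln (nat_lit 0) (nat_lit 6) (BT.dif (nat_lit 2) (nat_lit 0) (BT.pln (nat_lit 2) (nat_lit 7) (BT.dif (nat_lit 1) (nat_lit 0) (BT.pln (nat_lit 4) (nat_lit 9) (BT.dif (nat_lit 1) (nat_lit 0) (BT.img (nat_lit 1) (nat_lit 1) (BT.dif (nat_lit 1) (nat_lit 0) (BT.br (nat_lit 0) (nat_lit 72) [nat_lit 5] (BT.dead (nat_lit 99) (BT.img (nat_lit 1) (nat_lit 11) (BT.frm (nat_lit 3) (nat_lit 0x1b0f0918) (nat_lit 0x210a08) [nat_lit 1, nat_lit 0, nat_lit 12, nat_lit 16] (BT.pln (nat_lit 0) (nat_lit 4) (BT.img (nat_lit 1) (nat_lit 3) (BT.img (nat_lit 1) (nat_lit 0) (BT.and (nat_lit 2) (nat_lit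 0) (BT.cnt (nat_lit 0)))))))) (BT.dead (nat_lit 59) (BT.img (nat_lit 1) (nat_lit 11) (BT.frm (nat_lit 3) (nat_lit 0x1b0f0918) (nat_lit 0x1f0a08) [nat_lit 1, nat_lit 0, nat_lit 12, nat_lit 16] (BT.pln (nat_lit 0) (nat_lit 4) (BT.img (nat_lit 1) (nat_lit 3) (BT.img (nat_lit 1) (nat_lit 0) (BT.and (nat_lit 2) (nat_lit 0) (BT.cnt (nat_lit 0)))))))) (BT.dead (nat_lit 40) (BT.img (nat_lit 1) (nat_lit 11) (BT.frm (nat_lit 3) (nat_lit 0x1b0f0918) (nat_lit 0x190a08) [nat_lit 1, nat_lit 0, nat_lit 12, nat_lit 16] (BT.pln (nat_lit 0) (nat_lit 4) (BT.img (nat_lit 1) (nat_lit 3) (BT.and (nat_lit 1) (nat_lit 0) (BT.cnt (nat_lit 0))))))) (BT.dead (nat_lit 72) (BT.img (nat_lit 1) (nat_lit 11) (BT.frm (nat_lit 3) (nat_lit 0x1b0f0918) (nat_lit 2568) [nat_lit 1, nat_lit 0, nat_lit 12, nat_lit 16] (BT.pln (nat_lit 0) (nat_lit 4) (BT.img (nat_lit 1) (nat_lit 3) (BT.and (nat_lit 1) (nat_lit 0) (BT.cnt (nat_lit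 0))))))) BT.nil))))))))))))))) (BT.dead (nat_lit 89) (BT.frm (nat_lit 1) (nat_lit 2328) (nat_lit 1817) [nat_lit 0, nat_lit 4] (BT.pln (nat_lit 0) (nat_lit 10) (BT.img (nat_lit 1) (nat_lit 2) (BT.and (nat_lit 1) (nat_lit 0) (BT.cnt (nat_lit 0)))))) (BT.dead (nat_lit 39) (BT.frm (nat_lit 1) (nat_lit 2328) (nat_lit 7) [nat_lit 0, nat_lit 4] (BT.pln (nat_lit 0) (nat_lit 10) (BT.img (nat_lit 1) (nat_lit 2) (BT.and (nat_lit 1) (nat_lit 0) (BT.cnt (nat_lit 0)))))) (BT.kid (nat_lit 7) (nat_lit 8) (BT.pln (nat_lit 3) (nat_lit 1) (BT.frm (nat_lit 1) (nat_lit 2328) (nat_lit 2328) [nat_lit 1, nat_lit 5] (BT.pln (nat_lit 0) (nat_lit 6) (BT.dif (nat_lit 2) (nat_lit 0) (BT.pln (nat_lit 2) (nat_lit 7) (BT.dif (nat_lit 1) (nat_lit 0) (BT.pln (nat_lit 4) (nat_lit 9) (BT.dif (nat_lit 1) (nat_lit 0) (BT.img (nat_lit 1) (nat_lit 1) (BT.dif (nat_lit 1) (nat_lit 0) (BT.br (nat_lit 0) (nat_lit 72) [nat_lit 5] (BT.dead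 (nat_lit 40) (BT.dif (nat_lit 13) (nat_lit 16) (BT.img (nat_lit 1) (nat_lit 12) (BT.frm (nat_lit 2) (nat_lit 985368) (nat_lit 985368) [nat_lit 0, nat_lit 13, nat_lit 17] (BT.pln (nat_lit 0) (nat_lit 3) (BT.and (nat_lit 3) (nat_lit 0) (BT.frm (nat_lit 3) (nat_lit 0x1b0f0918) (nat_lit 0x17210f0918) [nat_lit 5, nat_lit 3, nat_lit 16, nat_lit 20] (BT.pln (nat_lit 0) (nat_lit 4) (BT.dif (nat_lit 2) (nat_lit 0) (BT.br (nat_lit 0) (nat_lit 97) [] (BT.dead (nat_lit 97) (BT.and (nat_lit 11) (nat_lit 2) (BT.pln (nat_lit 4) (nat_lit 5) (BT.dif (nat_lit 1) (nat_lit 0) (BT.br (nat_lit 0) (nat_lit 85) [nat_lit 7] (BT.dead (nat_lit 85) (BT.dif (nat_lit 32) (nat_lit 6) (BT.pln (nat_lit 8) (nat_lit 9) (BT.and (nat_lit 1) (nat_lit 0) (BT.pln (nat_lit 10) (nat_lit 6) (BT.and (nat_lit 1) (nat_lit 0) (BT.dif (nat_lit 0) (nat_lit 7) (BT.pln (nat_lit 13) (nat_lit 7) (BT.dif (nat_lit 1) (nat_lit 0) (BT.pln (nat_lit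 15) (nat_lit 8) (BT.dif (nat_lit 1) (nat_lit 0) (BT.br (nat_lit 0) (nat_lit 14) [nat_lit 9] (BT.dead (nat_lit 14) (BT.img (nat_lit 1) (nat_lit 24) (BT.frm (nat_lit 6) (nat_lit 0x2f2d1b0f0918) (nat_lit 0x2d17210f0918) [nat_lit 1, nat_lit 12, nat_lit 16, nat_lit 0, nat_lit 25, nat_lit 23, nat_lit 36, nat_lit 40] (BT.pln (nat_lit 0) (nat_lit 8) (BT.img (nat_lit 1) (nat_lit 3) (BT.img (nat_lit 1) (nat_lit 0) (BT.img (nat_lit 1) (nat_lit 0) (BT.and (nat_lit 3) (nat_lit 0) (BT.cnt (nat_lit 0))))))))) BT.nil)))))))))))) BT.nil))))) (BT.dead (nat_lit 105) (BT.and (nat_lit 11) (nat_lit 2) (BT.pln (nat_lit 4) (nat_lit 5) (BT.dif (nat_lit 1) (nat_lit 0) (BT.br (nat_lit 0) (nat_lit 85) [nat_lit 7] (BT.dead (nat_lit 85) (BT.img (nat_lit 1) (nat_lit 13) (BT.frm (nat_lit 5) (nat_lit 0x2d1b0f0918) (nat_lit 0x2d2917210f0918) [nat_lit 1, nat_lit 5, nat_lit 0, nat_lit 14, nat_lit 12, nat_lit 25, nat_lit 29]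 (BT.pln (nat_lit 0) (nat_lit 7) (BT.img (nat_lit 1) (nat_lit 3) (BT.and (nat_lit 1) (nat_lit 0) (BT.cnt (nat_lit 0))))))) BT.nil))))) BT.nil))))))))))) (BT.dead (nat_lit 59) (BT.img (nat_lit 1) (nat_lit 11) (BT.frm (nat_lit 3) (nat_lit 0x1b0f0918) (nat_lit 0x190f0918) [nat_lit 1, nat_lit 0, nat_lit 12, nat_lit 16] (BT.pln (nat_lit 0) (nat_lit 4) (BT.img (nat_lit 1) (nat_lit 3) (BT.and (nat_lit 1) (nat_lit 0) (BT.cnt (nat_lit 0))))))) (BT.dead (nat_lit 99) (BT.img (nat_lit 1) (nat_lit 11) (BT.frm (nat_lit 3) (nat_lit 0x1b0f0918) (nat_lit 985368) [nat_lit 1, nat_lit 0, nat_lit 12, nat_lit 16] (BT.pln (nat_lit 0) (nat_lit 4) (BT.img (nat_lit 1) (nat_lit 3) (BT.and (nat_lit 1) (nat_lit 0) (BT.cnt (nat_lit 0))))))) (BT.kid (nat_lit 72) (nat_lit 4) (BT.dif (nat_lit 13) (nat_lit 16) (BT.img (nat_lit 1) (nat_lit 12) (BT.frm (nat_lit 2) (nat_lit 985368) (nat_lit 985368) [nat_lit 0, nat_lit 13, nat_lit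 17] (BT.pln (nat_lit 0) (nat_lit 3) (BT.and (nat_lit 3) (nat_lit 0) (BT.frm (nat_lit 3) (nat_lit 0x1b0f0918) (nat_lit 0x1b0f0918) [nat_lit 5, nat_lit 3, nat_lit 16, nat_lit 20] (BT.pln (nat_lit 0) (nat_lit 4) (BT.dif (nat_lit 2) (nat_lit 0) (BT.br (nat_lit 0) (nat_lit 97) [] (BT.dead (nat_lit 105) (BT.and (nat_lit 11) (nat_lit 2) (BT.pln (nat_lit 4) (nat_lit 5) (BT.dif (nat_lit 1) (nat_lit 0) (BT.br (nat_lit 0) (nat_lit 85) [nat_lit 7] (BT.dead (nat_lit 85) (BT.img (nat_lit 1) (nat_lit 13) (BT.frm (nat_lit 5) (nat_lit 0x2d1b0f0918) (nat_lit 0x2d291b0f0918) [nat_lit 1, nat_lit 5, nat_lit 0, nat_lit 14, nat_lit 12, nat_lit 25, nat_lit 29] (BT.pln (nat_lit 0) (nat_lit 7) (BT.img (nat_lit 1) (nat_lit 3) (BT.and (nat_lit 1) (nat_lit 0) (BT.cnt (nat_lit 0))))))) BT.nil))))) (BT.kid (nat_lit 97) (nat_lit 4) (BT.and (nat_lit 11) (nat_lit 2) (BT.pln (nat_lit 4) (nat_lit 5) (BT.dif (nat_lit 1) (nat_lit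 0) (BT.br (nat_lit 0) (nat_lit 85) [nat_lit 7] (BT.kid (nat_lit 85) (nat_lit 2) (BT.dif (nat_lit 32) (nat_lit 6) (BT.pln (nat_lit 8) (nat_lit 9) (BT.and (nat_lit 1) (nat_lit 0) (BT.pln (nat_lit 10) (nat_lit 6) (BT.and (nat_lit 1) (nat_lit 0) (BT.dif (nat_lit 0) (nat_lit 7) (BT.pln (nat_lit 13) (nat_lit 7) (BT.dif (nat_lit 1) (nat_lit 0) (BT.pln (nat_lit 15) (nat_lit 8) (BT.dif (nat_lit 1) (nat_lit 0) (BT.br (nat_lit 0) (nat_lit 14) [nat_lit 9] (BT.kid (nat_lit 14) (nat_lit 1) (BT.img (nat_lit 1) (nat_lit 24) (BT.one (nat_lit 6) (nat_lit 0x2f2d1b0f0918) (nat_lit 0x2f2d1b0f0918) [nat_lit 1, nat_lit 12, nat_lit 16, nat_lit 0, nat_lit 25, nat_lit 23, nat_lit 36, nat_lit 40])) BT.nil)))))))))))) BT.nil))))) BT.nil))))))))))) BT.nil))))))))))))))) BT.nil)))))))))) BT.nil))))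

theorem vt_c16_cnt : Cnt 120 (grp 120 vG) [v_g285] [v_g285] 0 0 0 0 32 :=
  BT.sound vt_c16_cnt_P Known.nil (t := vt_c16_cnt_t) (d := 0) (by decide +kernel)

theorem vt_c16_ge : 32 ≤ Nat.card (grp 120 vt_c16_K) :=
  Ch.le_card_grp (k := 7) (L := (lab 120 7)) v_hn vt_c16_K_ok (c := (Ch.cons (nat_lit 0) [nat_lit 1, nat_lit 3] (Ch.cons (nat_lit 72) [nat_lit 5] (Ch.cons (nat_lit 85) [nat_lit 7] (Ch.cons (nat_lit 14) [nat_lit 9] Ch.nil))))) (by decide +kernel)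

theorem vt_c16_eq : (grp 120 vG) ⊓ Subgroup.centralizer {Net.toPerm 120 v_g285} = grp 120 vt_c16_K :=
  cent_eq vt_c16_sym vt_c16_cnt vt_c16_ge

theorem vt_c16_card : Nat.card ↥((grp 120 vG) ⊓ Subgroup.centralizer {Net.toPerm 120 v_g285}) = 32 :=
  card_cent vt_c16_sym vt_c16_cnt vt_c16_ge

theorem vt_c16_ord : orderOf (Net.toPerm 120 v_g285) = 4 :=
  orderOf_net v_hn v_hk v_g285_ok (by decide) (ps := [2]) (by set_option linter.unusedSimpArgs false in simp [Nat.primeFactorsList_ofNat]) (by decide +kernel)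

theorem v_le295 : grp 120 vt_c17_K ≤ grp 120 vo_E0 :=
  grp_le_of_memB v_hn v_hk vo_E0_ok vt_c17_K_ok (ws := [nat_lit 0x2f291f0f0709010301050d, nat_lit 0x2f190f091301070104, nat_lit 0x2f2d2113091b010c010a, nat_lit 0x2f2d292319, nat_lit 0x2d080b01080b01]) (by decide +kernel)

theorem vt_c17_le : grp 120 vt_c17_K ≤ (grp 120 vG) :=
  (v_le295.trans vT_s0.le)

theorem vt_c17_mem : Net.toPerm 120 v_g290 ∈ (grp 120 vG) :=
  vt_c17_le (mem_grp_of_memB v_hn v_hk vt_c17_K_ok v_g290_ok (w := (nat_lit 1028)) (by decide +kernel))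

theorem vt_c17_sym : Sym 120 (grp 120 vG) [v_g290] vt_c17_K 0 :=
  Sym.of_lab v_hn v_hk (okE_cons.2 ⟨v_g290_ok, okE_nil _⟩) vt_c17_K_ok vt_c17_le (kT := 0) (by decide +kernel)

theorem v_le299 : grp 120 v_V298 ≤ grp 120 v_V78 :=
  grp_le_of_memB v_hn v_hk v_V78_ok v_V298_ok (ws := [nat_lit 2819, nat_lit 0x23211d170b03, nat_lit 0x231d17, nat_lit 35, nat_lit 8461]) (by decide +kernel)

theorem vT_s72 : Stab 120 (grp 120 vG) [nat_lit 22, nat_lit 96, nat_lit 0] v_V298 32 :=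
  Stab.step (k := 7) (L := (lab 120 7)) v_hn vT_s2 v_V298_ok v_le299 (c := (Ch.cons (nat_lit 58) [nat_lit 1] (Ch.cons (nat_lit 84) [nat_lit 3] (Ch.cons (nat_lit 89) [nat_lit 5] (Ch.cons (nat_lit 74) [nat_lit 7] (Ch.cons (nat_lit 3) [nat_lit 9] Ch.nil)))))) (by decide +kernel)

theorem vT_s73 : Stab 120 (grp 120 vG) [nat_lit 58, nat_lit 22, nat_lit 96, nat_lit 0] v_V300 16 :=
  Stab.step (k := 7) (L := (lab 120 7)) v_hn vT_s72 v_V300_ok (grp_mono (List.subset_append_right [v_g296] _)) (c := (Ch.cons (nat_lit 84) [nat_lit 1] (Ch.cons (nat_lit 89) [nat_lit 3] (Ch.cons (nat_lit 74) [nat_lit 5] (Ch.cons (nat_lit 3) [nat_lit 7] Ch.nil))))) (by decide +kernel)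

theorem vT_s74 : Stab 120 (grp 120 vG) [nat_lit 84, nat_lit 58, nat_lit 22, nat_lit 96, nat_lit 0] v_V301 8 :=
  Stab.step (k := 7) (L := (lab 120 7)) v_hn vT_s73 v_V301_ok (grp_mono (List.subset_append_right [v_g153] _)) (c := (Ch.cons (nat_lit 89) [nat_lit 1] (Ch.cons (nat_lit 74) [nat_lit 3] (Ch.cons (nat_lit 3) [nat_lit 5] Ch.nil)))) (by decide +kernel)

theorem vT_s75 : Stab 120 (grp 120 vG) [nat_lit 89, nat_lit 84, nat_lit 58, nat_lit 22, nat_lit 96, nat_lit 0] v_V302 4 :=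
  Stab.step (k := 7) (L := (lab 120 7)) v_hn vT_s74 v_V302_ok (grp_mono (List.subset_append_right [v_g297] _)) (c := (Ch.cons (nat_lit 74) [nat_lit 1] (Ch.cons (nat_lit 3) [nat_lit 3] Ch.nil))) (by decide +kernel)

theorem vT_s76 : Stab 120 (grp 120 vG) [nat_lit 74, nat_lit 89, nat_lit 84, nat_lit 58, nat_lit 22, nat_lit 96, nat_lit 0] v_V303 2 :=
  Stab.step (k := 7) (L := (lab 120 7)) v_hn vT_s75 v_V303_ok (grp_mono (List.subset_append_right [v_u] _)) (c := (Ch.cons (nat_lit 3) [nat_lit 1] Ch.nil)) (by decide +kernel)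

theorem vT_s77 : Stab 120 (grp 120 vG) [nat_lit 3, nat_lit 74, nat_lit 89, nat_lit 84, nat_lit 58, nat_lit 22, nat_lit 96, nat_lit 0] v_V304 1 :=
  Stab.step (k := 7) (L := (lab 120 7)) v_hn vT_s76 v_V304_ok (grp_mono (List.subset_append_right [v_g278] _)) (c := Ch.nil) (by decide +kernel)

theorem v_g297_vT : Net.toPerm 120 v_g297 ∈ (grp 120 vG) :=
  vT_s74.le (toPerm_mem_grp (E := v_V301) (List.Mem.head _))

theorem v_g153_vT : Net.toPerm 120 v_g153 ∈ (grp 120 vG) :=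
  vT_s73.le (toPerm_mem_grp (E := v_V300) (List.Mem.head _))

theorem v_g296_vT : Net.toPerm 120 v_g296 ∈ (grp 120 vG) :=
  vT_s72.le (toPerm_mem_grp (E := v_V298) (List.Mem.head _))

noncomputable def vT_s77_O : ℕ := (nat_lit 0xffffffffffffff0000000000000000ffffff00000000ffffffff00000000ff0000ffff0000ffff0000ffff000000ff00ff00ff00ff00ff00ff00ff00f0f0f0f0f0f0f0f0f0f0f0f0f0f0f0ccccccccccccccccccccccccccccccaaaaaaaaaaaaaaaaaaaaaaaaaaaaaa000000000000000000000000000001000001000000000000000000000000000000000000000000000000400000000000000000000400000000000000000000001000000000000000000000000000020000000000000000000000000000000004000000000000000000000000000000000000000000000008)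

theorem vT_s77_F : Frame 120 (grp 120 vG) 8 15 vT_s77_O 1 1 :=
  IsBase.frame vT_s77.isBase (by decide +kernel)

noncomputable def vT_s72_O : ℕ := (nat_lit 0xff67be6dcfbabe6e70700200000000fcbf129e2f8540120f8fc77ea0000030d1a063807ff3c38a0fef000ef600cc4e4e58e07f893c4a0f08f80fc9e08ead68e66a7830aa3e4ce8671d31988a3bf616d13627251d2aae5588ad54000000000000000000000000000001000001000000000000000000000000000000000000000000000000400000)

theorem vT_s72_F : Frame 120 (grp 120 vG) 3 9 vT_s72_O 0 1 :=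
  Stab.frame v_hn vT_s72 (by decide +kernel)

noncomputable def vt_c17_cnt_L : List ℕ := [1, 4, vT_s1_O, 0, 0, 2, 13, vT_s2_O, 0, 0, 3, 9, vT_s72_O, 0, 0, 8, 15, vT_s77_O, 1, 0]

theorem vt_c17_cnt_P : Prob 120 7 (grp 120 vG) vt_c17_cnt_EG [v_g290] [v_g290] vt_c17_K vt_c17_cnt_L 0 0 :=
  Sym.prob v_hn v_hk vt_c17_sym vt_c17_cnt_EG_ok (grp_cons_le v_b_vT (grp_cons_le v_p0_vT (grp_cons_le v_p1_vT (grp_cons_le v_g7_vT (grp_cons_le v_g3_vT (grp_cons_le v_g4_vT (grp_cons_le v_g10_vT (grp_cons_le v_g16_vT (grp_cons_le v_g11_vT (grp_cons_le v_g12_vT (grp_cons_le v_g13_vT (grp_cons_le v_g22_vT (grp_cons_le v_g21_vT (grp_cons_le v_g26_vT (grp_cons_le v_g19_vT (grp_cons_le v_g20_vT (grp_cons_le v_g23_vT (grp_cons_le v_g30_vT (grp_cons_le v_g31_vT (grp_cons_le v_g32_vT (grp_cons_le v_g37_vT (grp_cons_le v_g38_vT (grp_cons_le v_g29_vT (grp_cons_le v_u_vT (grp_cons_le v_g278_vT (grp_cons_le v_g297_vT (grp_cons_le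 v_g153_vT (grp_cons_le v_g296_vT (grp_nil_le _))))))))))))))))))))))))))))) (Frames.cons vT_s1_F (Frames.cons vT_s2_F (Frames.cons vT_s72_F (Frames.cons vT_s77_F Frames.nil)))) (okE_cons.2 ⟨v_g290_ok, okE_nil _⟩) _

noncomputable def vt_c17_cnt_t : BT := (BT.fix (nat_lit 1) (BT.br (nat_lit 0) (nat_lit 13) [nat_lit 1, nat_lit 3] (BT.kid (nat_lit 13) (nat_lit 40) (BT.frm (nat_lit 0) (nat_lit 0x1050108) (nat_lit 0x1050108) [nat_lit 0] (BT.pln (nat_lit 0) (nat_lit 2) (BT.br (nat_lit 0) (nat_lit 23) [nat_lit 5] (BT.dead (nat_lit 113) (BT.frm (nat_lit 1) (nat_lit 0x70901050108) (nat_lit 0x90901050108) [nat_lit 0, nat_lit 3] (BT.pln (nat_lit 0) (nat_lit 2) (BT.img (nat_lit 1) (nat_lit 2) (BT.and (nat_lit 1) (nat_lit 0) (BT.cnt (nat_lit 0)))))) (BT.dead (nat_lit 52) (BT.frm (nat_lit 1) (nat_lit 0x70901050108) (nat_lit 0x80a01050108) [nat_lit 0, nat_lit 3] (BT.pln (nat_lit 0) (nat_lit 2) (BT.img (nat_lit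 1) (nat_lit 2) (BT.and (nat_lit 1) (nat_lit 0) (BT.cnt (nat_lit 0)))))) (BT.dead (nat_lit 66) (BT.frm (nat_lit 1) (nat_lit 0x70901050108) (nat_lit 0x90c01050108) [nat_lit 0, nat_lit 3] (BT.pln (nat_lit 0) (nat_lit 2) (BT.img (nat_lit 1) (nat_lit 2) (BT.and (nat_lit 1) (nat_lit 0) (BT.cnt (nat_lit 0)))))) (BT.kid (nat_lit 23) (nat_lit 4) (BT.frm (nat_lit 1) (nat_lit 0x70901050108) (nat_lit 0x70901050108) [nat_lit 0, nat_lit 3] (BT.pln (nat_lit 0) (nat_lit 5) (BT.dif (nat_lit 0) (nat_lit 6) (BT.img (nat_lit 1) (nat_lit 3) (BT.img (nat_lit 1) (nat_lit 0) (BT.frm (nat_lit 2) (nat_lit 0xe15070901050108) (nat_lit 0xe15070901050108) [nat_lit 0, nat_lit 5, nat_lit 8] (BT.pln (nat_lit 0) (nat_lit 4) (BT.dif (nat_lit 4) (nat_lit 0) (BT.pln (nat_lit 2) (nat_lit 3) (BT.and (nat_lit 1) (nat_lit 0) (BT.br (nat_lit 0) (nat_lit 42) [nat_lit 7] (BT.kid (nat_lit 42) (nat_lit 2) (BT.dif (nat_lit 4) (nat_lit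 2) (BT.pln (nat_lit 6) (nat_lit 5) (BT.dif (nat_lit 1) (nat_lit 0) (BT.pln (nat_lit 8) (nat_lit 6) (BT.dif (nat_lit 1) (nat_lit 0) (BT.dif (nat_lit 0) (nat_lit 17) (BT.br (nat_lit 0) (nat_lit 73) [nat_lit 9] (BT.kid (nat_lit 73) (nat_lit 1) (BT.img (nat_lit 1) (nat_lit 13) (BT.img (nat_lit 1) (nat_lit 0) (BT.one (nat_lit 3) (nat_lit 0xe15070901050108) (nat_lit 0xe15070901050108) [nat_lit 2, nat_lit 9, nat_lit 0, nat_lit 1, nat_lit 16, nat_lit 15, nat_lit 20, nat_lit 23]))) BT.nil)))))))) BT.nil)))))))))))) BT.nil))))))) BT.nil)))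

theorem vt_c17_cnt : Cnt 120 (grp 120 vG) [v_g290] [v_g290] 0 0 0 0 400 :=
  BT.sound vt_c17_cnt_P Known.nil (t := vt_c17_cnt_t) (d := 0) (by decide +kernel)

theorem vt_c17_ge : 400 ≤ Nat.card (grp 120 vt_c17_K) :=
  Ch.le_card_grp (k := 7) (L := (lab 120 7)) v_hn vt_c17_K_ok (c := (Ch.cons (nat_lit 13) [nat_lit 1] (Ch.cons (nat_lit 23) [nat_lit 3, nat_lit 5] (Ch.cons (nat_lit 42) [nat_lit 7] (Ch.cons (nat_lit 73) [nat_lit 9] Ch.nil))))) (by decide +kernel)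

theorem vt_c17_eq : (grp 120 vG) ⊓ Subgroup.centralizer {Net.toPerm 120 v_g290} = grp 120 vt_c17_K :=
  cent_eq vt_c17_sym vt_c17_cnt vt_c17_ge

theorem vt_c17_card : Nat.card ↥((grp 120 vG) ⊓ Subgroup.centralizer {Net.toPerm 120 v_g290}) = 400 :=
  card_cent vt_c17_sym vt_c17_cnt vt_c17_ge

theorem vt_c17_ord : orderOf (Net.toPerm 120 v_g290) = 5 :=
  orderOf_net v_hn v_hk v_g290_ok (by decide) (ps := [5]) (by set_option linter.unusedSimpArgs false in simp [Nat.primeFactorsList_ofNat]) (by decide +kernel)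

theorem v_le308 : grp 120 vt_c18_K ≤ grp 120 vo_E0 :=
  grp_le_of_memB v_hn v_hk vo_E0_ok vt_c18_K_ok (ws := [nat_lit 0x2f2d210809010c0104, nat_lit 0x2d130719]) (by decide +kernel)

theorem vt_c18_le : grp 120 vt_c18_K ≤ (grp 120 vG) :=
  (v_le308.trans vT_s0.le)

theorem vt_c18_mem : Net.toPerm 120 v_g305 ∈ (grp 120 vG) :=
  vt_c18_le (mem_grp_of_memB v_hn v_hk vt_c18_K_ok v_g305_ok (w := (nat_lit 0x30302030302)) (by decide +kernel))

theorem vt_c18_sym : Sym 120 (grp 120 vG) [v_g305] vt_c18_K 0 :=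
  Sym.of_lab v_hn v_hk (okE_cons.2 ⟨v_g305_ok, okE_nil _⟩) vt_c18_K_ok vt_c18_le (kT := 0) (by decide +kernel)

theorem v_le314 : grp 120 v_V313 ≤ grp 120 v_V247 :=
  grp_le_of_memB v_hn v_hk v_V247_ok v_V313_ok (ws := [nat_lit 0xb0907050203, nat_lit 0x705010105, nat_lit 0xb09070503010302, nat_lit 9, nat_lit 0x903010302]) (by decide +kernel)

theorem vT_s78 : Stab 120 (grp 120 vG) [nat_lit 79, nat_lit 114, nat_lit 0] v_V313 160 :=
  Stab.step (k := 7) (L := (lab 120 7)) v_hn vT_s59 v_V313_ok v_le314 (c := (Ch.cons (nat_lit 51) [nat_lit 1] (Ch.cons (nat_lit 23) [nat_lit 3] (Ch.cons (nat_lit 22) [nat_lit 5] (Ch.cons (nat_lit 119) [nat_lit 7] (Ch.cons (nat_lit 28) [nat_lit 9] Ch.nil)))))) (by decide +kernel)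

theorem vT_s79 : Stab 120 (grp 120 vG) [nat_lit 51, nat_lit 79, nat_lit 114, nat_lit 0] v_V315 80 :=
  Stab.step (k := 7) (L := (lab 120 7)) v_hn vT_s78 v_V315_ok (grp_mono (List.subset_append_right [v_g309] _)) (c := (Ch.cons (nat_lit 23) [nat_lit 1] (Ch.cons (nat_lit 22) [nat_lit 3] (Ch.cons (nat_lit 119) [nat_lit 5] (Ch.cons (nat_lit 28) [nat_lit 7] Ch.nil))))) (by decide +kernel)

theorem vT_s80 : Stab 120 (grp 120 vG) [nat_lit 23, nat_lit 51, nat_lit 79, nat_lit 114, nat_lit 0] v_V316 8 :=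
  Stab.step (k := 7) (L := (lab 120 7)) v_hn vT_s79 v_V316_ok (grp_mono (List.subset_append_right [v_g310] _)) (c := (Ch.cons (nat_lit 22) [nat_lit 1] (Ch.cons (nat_lit 119) [nat_lit 3] (Ch.cons (nat_lit 28) [nat_lit 5] Ch.nil)))) (by decide +kernel)

theorem vT_s81 : Stab 120 (grp 120 vG) [nat_lit 22, nat_lit 23, nat_lit 51, nat_lit 79, nat_lit 114, nat_lit 0] v_V317 4 :=
  Stab.step (k := 7) (L := (lab 120 7)) v_hn vT_s80 v_V317_ok (grp_mono (List.subset_append_right [v_g311] _)) (c := (Ch.cons (nat_lit 119) [nat_lit 1] (Ch.cons (nat_lit 28) [nat_lit 3] Ch.nil))) (by decide +kernel)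

theorem vT_s82 : Stab 120 (grp 120 vG) [nat_lit 119, nat_lit 22, nat_lit 23, nat_lit 51, nat_lit 79, nat_lit 114, nat_lit 0] v_V318 2 :=
  Stab.step (k := 7) (L := (lab 120 7)) v_hn vT_s81 v_V318_ok (grp_mono (List.subset_append_right [v_g92] _)) (c := (Ch.cons (nat_lit 28) [nat_lit 1] Ch.nil)) (by decide +kernel)

theorem vT_s83 : Stab 120 (grp 120 vG) [nat_lit 28, nat_lit 119, nat_lit 22, nat_lit 23, nat_lit 51, nat_lit 79, nat_lit 114, nat_lit 0] v_V319 1 :=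
  Stab.step (k := 7) (L := (lab 120 7)) v_hn vT_s82 v_V319_ok (grp_mono (List.subset_append_right [v_g312] _)) (c := Ch.nil) (by decide +kernel)

theorem v_g309_vT : Net.toPerm 120 v_g309 ∈ (grp 120 vG) :=
  vT_s78.le (toPerm_mem_grp (E := v_V313) (List.Mem.head _))

theorem v_g310_vT : Net.toPerm 120 v_g310 ∈ (grp 120 vG) :=
  vT_s78.le (toPerm_mem_grp (E := v_V313) (List.Mem.tail _ (List.Mem.head _)))

theorem v_g311_vT : Net.toPerm 120 v_g311 ∈ (grp 120 vG) :=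
  vT_s78.le (toPerm_mem_grp (E := v_V313) (List.Mem.tail _ (List.Mem.tail _ (List.Mem.head _))))

theorem v_g312_vT : Net.toPerm 120 v_g312 ∈ (grp 120 vG) :=
  vT_s78.le (toPerm_mem_grp (E := v_V313) (List.Mem.tail _ (List.Mem.tail _ (List.Mem.tail _ (List.Mem.tail _ (List.Mem.head _))))))

noncomputable def vT_s83_O : ℕ := (nat_lit 0xffffffffffffff0000000000000000ffffff00000000ffffffff00000000ff0000ffff0000ffff0000ffff000000ff00ff00ff00ff00ff00ff00ff00f0f0f0f0f0f0f0f0f0f0f0f0f0f0f0ccccccccccccccccccccccccccccccaaaaaaaaaaaaaaaaaaaaaaaaaaaaaa000000000000000000000000000001040000000000000000000000000000000000000080000000000000000000000000000000000008000000000000000000000000000000000000800000000000000000000000000000400000800000000000000000000000000000000000000000000000000010000000)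

theorem vT_s83_F : Frame 120 (grp 120 vG) 8 15 vT_s83_O 1 1 :=
  IsBase.frame vT_s83.isBase (by decide +kernel)

noncomputable def vT_s82_O : ℕ := (nat_lit 0x4bc73beaaf0000000000000000000000000000004bbd1bd539caae0000007be78405407bbf7fe04000000ec62040183bf0004ff80017bfa5502ee6203bb0fa0ea07f479817264f800f99c03a6c719f4c4ca5e3161e48791c5518395a2d499a7294d6939546652b5294000000000000000000000000000001040000000000000000000000000000000000000080000000000000000000000000000000000008000000000000000000000000000000000000800000000000000000000000000000400000800000000000000000000000000000)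

theorem vT_s82_F : Frame 120 (grp 120 vG) 7 14 vT_s82_O 0 1 :=
  Stab.frame v_hn vT_s82 (by decide +kernel)

noncomputable def vT_s81_O : ℕ := (nat_lit 0x41c4104a0400000000000000000000b82303048b3a8c12c538ca8c0802200218ac21610dfe7ef77fc5600000004300acb14148bffe90802a9e2ef220b8c7f3b1014dba4167e70a9a250dc0b8f068fc4b087539665c0f171ac51870bea6565134a72761d2acd521a694000000000000000000000000000001040000000000000000000000000000000000000080000000000000000000000000000000000008000000000000000000000000000000000000800000000000000000000000000000400000)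

theorem vT_s81_F : Frame 120 (grp 120 vG) 6 13 vT_s81_O 0 1 :=
  Stab.frame v_hn vT_s81 (by decide +kernel)

noncomputable def vT_s79_O : ℕ := (nat_lit 0x400000000000000000000000000000000000400000000000000000000000000000000000200000000000000000000000000000004000000000000000000000000000000080000000000000000000000000000000004000000720000280030100010000000000000881000000004081040020408000000004020004000a0200304000080000000a000050000054000204000008000000810000140400000000140064000000040800a000000204008020801000002820000000200008000002108c00000004000090081000100010014100000001020000000800000b0100228000105021000000400008200400004000000000000000000000000000001040000000000000000000000000000000000000080000000000000000000000000000000000008000000000000)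

theorem vT_s79_F : Frame 120 (grp 120 vG) 4 20 vT_s79_O 0 1 :=
  Stab.frame v_hn vT_s79 (by decide +kernel)

noncomputable def vt_c18_cnt_L : List ℕ := [1, 4, vT_s1_O, 0, 0, 2, 17, vT_s59_O, 0, 0, 4, 20, vT_s79_O, 0, 0, 6, 13, vT_s81_O, 0, 0, 7, 14, vT_s82_O, 0, 0, 8, 15, vT_s83_O, 1, 0]

theorem vt_c18_cnt_P : Prob 120 7 (grp 120 vG) vt_c18_cnt_EG [v_g305] [v_g305] vt_c18_K vt_c18_cnt_L 0 0 :=
  Sym.prob v_hn v_hk vt_c18_sym vt_c18_cnt_EG_ok (grp_cons_le v_b_vT (grp_cons_le v_p0_vT (grp_cons_le v_p1_vT (grp_cons_le v_g7_vT (grp_cons_le v_g3_vT (grp_cons_le v_g4_vT (grp_cons_le v_g10_vT (grp_cons_le v_g16_vT (grp_cons_le v_g11_vT (grp_cons_le v_g12_vT (grp_cons_le v_g13_vT (grp_cons_le v_g22_vT (grp_cons_le v_g21_vT (grp_cons_le v_g26_vT (grp_cons_le v_g19_vT (grp_cons_le v_g20_vT (grp_cons_le v_g23_vT (grp_cons_le v_g30_vT (grp_cons_le v_g31_vT (grp_cons_le v_g32_vT (grp_cons_le v_g37_vT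 (grp_cons_le v_g38_vT (grp_cons_le v_g29_vT (grp_cons_le v_u_vT (grp_cons_le v_g309_vT (grp_cons_le v_g310_vT (grp_cons_le v_g311_vT (grp_cons_le v_g92_vT (grp_cons_le v_g312_vT (grp_cons_le v_g244_vT (grp_cons_le v_g245_vT (grp_cons_le v_g116_vT (grp_cons_le v_g73_vT (grp_cons_le v_g246_vT (grp_nil_le _))))))))))))))))))))))))))))))))))) (Frames.cons vT_s1_F (Frames.cons vT_s59_F (Frames.cons vT_s79_F (Frames.cons vT_s81_F (Frames.cons vT_s82_F (Frames.cons vT_s83_F Frames.nil)))))) (okE_cons.2 ⟨v_g305_ok, okE_nil _⟩) _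

noncomputable def vt_c18_cnt_t : BT := (BT.br (nat_lit 2) (nat_lit 0) [nat_lit 1, nat_lit 3] (BT.dead (nat_lit 1) (BT.img (nat_lit 1) (nat_lit 0) (BT.img (nat_lit 1) (nat_lit 0) (BT.img (nat_lit 1) (nat_lit 0) (BT.frm (nat_lit 2) (nat_lit 0) (nat_lit 0x3107140105010309) [nat_lit 0, nat_lit 1, nat_lit 2, nat_lit 3] (BT.pln (nat_lit 0) (nat_lit 14) (BT.img (nat_lit 1) (nat_lit 2) (BT.and (nat_lit 1) (nat_lit 0) (BT.cnt (nat_lit 0))))))))) (BT.kid (nat_lit 0) (nat_lit 5) (BT.img (nat_lit 1) (nat_lit 0) (BT.frm (nat_lit 1) (nat_lit 0) (nat_lit 0) [nat_lit 0, nat_lit 1] (BT.pln (nat_lit 0) (nat_lit 9) (BT.br (nat_lit 0) (nat_lit 23) [nat_lit 3] (BT.dead (nat_lit 48) (BT.img (nat_lit 1) (nat_lit 0) (BT.img (nat_lit 1) (nat_lit 0) (BT.img (nat_lit 1) (nat_lit 5) (BT.img (nat_lit 1) (nat_lit 0) (BT.frm (nat_lit 4) (nat_lit 0) (nat_lit 0x35333534) [nat_lit 2, nat_lit 3, nat_lit 4, nat_lit 0, nat_lit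 1, nat_lit 7, nat_lit 8] (BT.pln (nat_lit 0) (nat_lit 7) (BT.frm (nat_lit 0) (nat_lit 0) (nat_lit 0) [nat_lit 10] (BT.pln (nat_lit 0) (nat_lit 2) (BT.pln (nat_lit 10) (nat_lit 6) (BT.and (nat_lit 1) (nat_lit 0) (BT.frm (nat_lit 3) (nat_lit 0) (nat_lit 0x35333534) [nat_lit 9, nat_lit 10, nat_lit 6, nat_lit 7, nat_lit 13, nat_lit 14] (BT.pln (nat_lit 0) (nat_lit 10) (BT.and (nat_lit 2) (nat_lit 0) (BT.pln (nat_lit 6) (nat_lit 1) (BT.img (nat_lit 1) (nat_lit 6) (BT.and (nat_lit 0) (nat_lit 1) (BT.img (nat_lit 1) (nat_lit 0) (BT.img (nat_lit 1) (nat_lit 0) (BT.img (nat_lit 1) (nat_lit 0) (BT.and (nat_lit 5) (nat_lit 0) (BT.pln (nat_lit 9) (nat_lit 7) (BT.and (nat_lit 1) (nat_lit 0) (BT.pln (nat_lit 11) (nat_lit 6) (BT.dif (nat_lit 1) (nat_lit 0) (BT.pln (nat_lit 26) (nat_lit 7) (BT.pln (nat_lit 14) (nat_lit 11) (BT.and (nat_lit 1) (nat_lit 0) (BT.img (nat_lit 1) (nat_lit 0) (BT.and (nat_lit 4)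 (nat_lit 0) (BT.img (nat_lit 1) (nat_lit 0) (BT.and (nat_lit 17) (nat_lit 0) (BT.img (nat_lit 1) (nat_lit 0) (BT.and (nat_lit 26) (nat_lit 0) (BT.cnt (nat_lit 0))))))))))))))))))))))))))))))))))) (BT.kid (nat_lit 23) (nat_lit 1) (BT.img (nat_lit 1) (nat_lit 0) (BT.img (nat_lit 1) (nat_lit 0) (BT.img (nat_lit 1) (nat_lit 0) (BT.img (nat_lit 1) (nat_lit 6) (BT.img (nat_lit 1) (nat_lit 0) (BT.one (nat_lit 5) (nat_lit 0) (nat_lit 0) [nat_lit 2, nat_lit 3, nat_lit 4, nat_lit 5, nat_lit 0, nat_lit 1, nat_lit 8, nat_lit 9])))))) BT.nil)))))) BT.nil)))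

theorem vt_c18_cnt : Cnt 120 (grp 120 vG) [v_g305] [v_g305] 0 0 0 0 300 :=
  BT.sound vt_c18_cnt_P Known.nil (t := vt_c18_cnt_t) (d := 0) (by decide +kernel)

theorem vt_c18_ge : 300 ≤ Nat.card (grp 120 vt_c18_K) :=
  Ch.le_card_grp (k := 7) (L := (lab 120 7)) v_hn vt_c18_K_ok (c := (Ch.cons (nat_lit 0) [nat_lit 1] (Ch.cons (nat_lit 23) [nat_lit 3] Ch.nil))) (by decide +kernel)

theorem vt_c18_eq : (grp 120 vG) ⊓ Subgroup.centralizer {Net.toPerm 120 v_g305} = grp 120 vt_c18_K :=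
  cent_eq vt_c18_sym vt_c18_cnt vt_c18_ge

theorem vt_c18_card : Nat.card ↥((grp 120 vG) ⊓ Subgroup.centralizer {Net.toPerm 120 v_g305}) = 300 :=
  card_cent vt_c18_sym vt_c18_cnt vt_c18_ge

theorem vt_c18_ord : orderOf (Net.toPerm 120 v_g305) = 5 :=
  orderOf_net v_hn v_hk v_g305_ok (by decide) (ps := [5]) (by set_option linter.unusedSimpArgs false in simp [Nat.primeFactorsList_ofNat]) (by decide +kernel)

theorem v_le323 : grp 120 vt_c19_K ≤ grp 120 vo_E0 :=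
  grp_le_of_memB v_hn v_hk vo_E0_ok vt_c19_K_ok (ws := [nat_lit 0x291909110105010313, nat_lit 0x2f2d29210f090d]) (by decide +kernel)

theorem vt_c19_le : grp 120 vt_c19_K ≤ (grp 120 vG) :=
  (v_le323.trans vT_s0.le)

theorem vt_c19_mem : Net.toPerm 120 v_g320 ∈ (grp 120 vG) :=
  vt_c19_le (mem_grp_of_memB v_hn v_hk vt_c19_K_ok v_g320_ok (w := (nat_lit 0x3030104020401)) (by decide +kernel))

theorem vt_c19_sym : Sym 120 (grp 120 vG) [v_g320] vt_c19_K 0 :=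
  Sym.of_lab v_hn v_hk (okE_cons.2 ⟨v_g320_ok, okE_nil _⟩) vt_c19_K_ok vt_c19_le (kT := 0) (by decide +kernel)

noncomputable def vT_s80_O : ℕ := (nat_lit 0x8000000000000000000000000000f867bb6fcf3aba6a4508c084000020bb1c049224054c16777fc7fe4000204327174e0f7d0d8777f728002ef400427f672ea442fd04b0e8cde02d8bc00357d7138b02c256d29cad1d3a6338711ea698de7622a6a4da4457275294000000000000000000000000000001040000000000000000000000000000000000000080000000000000000000000000000000000008000000000000000000000000000000000000800000)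

theorem vT_s80_F : Frame 120 (grp 120 vG) 5 12 vT_s80_O 0 1 :=
  Stab.frame v_hn vT_s80 (by decide +kernel)

noncomputable def vt_c19_cnt_L : List ℕ := [1, 4, vT_s1_O, 0, 0, 2, 17, vT_s59_O, 0, 0, 4, 20, vT_s79_O, 0, 0, 5, 12, vT_s80_O, 0, 0, 6, 13, vT_s81_O, 0, 0, 7, 14, vT_s82_O, 0, 0, 8, 15, vT_s83_O, 1, 0]

theorem vt_c19_cnt_P : Prob 120 7 (grp 120 vG) vt_c19_cnt_EG [v_g320] [v_g320] vt_c19_K vt_c19_cnt_L 0 0 :=
  Sym.prob v_hn v_hk vt_c19_sym vt_c19_cnt_EG_ok (grp_cons_le v_b_vT (grp_cons_le v_p0_vT (grp_cons_le v_p1_vT (grp_cons_le v_g7_vT (grp_cons_le v_g3_vT (grp_cons_le v_g4_vT (grp_cons_le v_g10_vT (grp_cons_le v_g16_vT (grp_cons_le v_g11_vT (grp_cons_le v_g12_vT (grp_cons_le v_g13_vT (grp_cons_le v_g22_vT (grp_cons_le v_g21_vT (grp_cons_le v_g26_vT (grp_cons_le v_g19_vT (grp_cons_le v_g20_vT (grp_cons_le v_g23_vT (grp_cons_le v_g30_vT (grp_cons_le v_g31_vT (grp_cons_le v_g32_vT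 (grp_cons_le v_g37_vT (grp_cons_le v_g38_vT (grp_cons_le v_g29_vT (grp_cons_le v_u_vT (grp_cons_le v_g309_vT (grp_cons_le v_g310_vT (grp_cons_le v_g311_vT (grp_cons_le v_g92_vT (grp_cons_le v_g312_vT (grp_cons_le v_g244_vT (grp_cons_le v_g245_vT (grp_cons_le v_g116_vT (grp_cons_le v_g73_vT (grp_cons_le v_g246_vT (grp_nil_le _))))))))))))))))))))))))))))))))))) (Frames.cons vT_s1_F (Frames.cons vT_s59_F (Frames.cons vT_s79_F (Frames.cons vT_s80_F (Frames.cons vT_s81_F (Frames.cons vT_s82_F (Frames.cons vT_s83_F Frames.nil))))))) (okE_cons.2 ⟨v_g320_ok, okE_nil _⟩) _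

noncomputable def vt_c19_cnt_t : BT := (BT.br (nat_lit 2) (nat_lit 0) [nat_lit 1, nat_lit 3] (BT.dead (nat_lit 1) (BT.img (nat_lit 1) (nat_lit 0) (BT.img (nat_lit 1) (nat_lit 0) (BT.img (nat_lit 1) (nat_lit 0) (BT.frm (nat_lit 2) (nat_lit 460555) (nat_lit 0x313b090f0105010309) [nat_lit 0, nat_lit 1, nat_lit 2, nat_lit 3] (BT.pln (nat_lit 0) (nat_lit 14) (BT.img (nat_lit 1) (nat_lit 2) (BT.and (nat_lit 1) (nat_lit 0) (BT.cnt (nat_lit 0))))))))) (BT.kid (nat_lit 0) (nat_lit 5) (BT.img (nat_lit 1) (nat_lit 0) (BT.frm (nat_lit 1) (nat_lit 460555) (nat_lit 460555) [nat_lit 0, nat_lit 1] (BT.pln (nat_lit 0) (nat_lit 9) (BT.br (nat_lit 0) (nat_lit 14) [nat_lit 3] (BT.dead (nat_lit 17) (BT.pln (nat_lit 2) (nat_lit 10) (BT.img (nat_lit 1) (nat_lit 4) (BT.img (nat_lit 1) (nat_lit 0) (BT.frm (nat_lit 3) (nat_lit 0x343407070b) (nat_lit 0x34343507070b) [nat_lit 3, nat_lit 0, nat_lit 1, nat_lit 6, nat_lit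 7] (BT.pln (nat_lit 0) (nat_lit 10) (BT.and (nat_lit 4) (nat_lit 0) (BT.pln (nat_lit 2) (nat_lit 8) (BT.dif (nat_lit 1) (nat_lit 0) (BT.frm (nat_lit 0) (nat_lit 0) (nat_lit 0) [nat_lit 12] (BT.pln (nat_lit 0) (nat_lit 2) (BT.pln (nat_lit 12) (nat_lit 2) (BT.and (nat_lit 1) (nat_lit 0) (BT.img (nat_lit 1) (nat_lit 12) (BT.dif (nat_lit 1) (nat_lit 0) (BT.pln (nat_lit 10) (nat_lit 5) (BT.and (nat_lit 1) (nat_lit 0) (BT.pln (nat_lit 12) (nat_lit 6) (BT.dif (nat_lit 1) (nat_lit 0) (BT.dif (nat_lit 19) (nat_lit 18) (BT.dif (nat_lit 0) (nat_lit 14) (BT.pln (nat_lit 22) (nat_lit 8) (BT.pln (nat_lit 17) (nat_lit 11) (BT.and (nat_lit 1) (nat_lit 0) (BT.img (nat_lit 1) (nat_lit 0) (BT.and (nat_lit 4) (nat_lit 0) (BT.img (nat_lit 1) (nat_lit 0) (BT.and (nat_lit 8) (nat_lit 0) (BT.img (nat_lit 1) (nat_lit 0) (BT.and (nat_lit 20) (nat_lit 0) (BT.dif (nat_lit 15) (nat_lit 12) (BT.dif (nat_lit 0) (nat_lit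 15) (BT.and (nat_lit 12) (nat_lit 16) (BT.pln (nat_lit 28) (nat_lit 7) (BT.and (nat_lit 1) (nat_lit 0) (BT.and (nat_lit 13) (nat_lit 17) (BT.pln (nat_lit 37) (nat_lit 3) (BT.pln (nat_lit 32) (nat_lit 9) (BT.dif (nat_lit 1) (nat_lit 0) (BT.dif (nat_lit 0) (nat_lit 23) (BT.and (nat_lit 38) (nat_lit 32) (BT.and (nat_lit 0) (nat_lit 23) (BT.img (nat_lit 1) (nat_lit 0) (BT.and (nat_lit 3) (nat_lit 0) (BT.img (nat_lit 1) (nat_lit 0) (BT.and (nat_lit 9) (nat_lit 0) (BT.img (nat_lit 1) (nat_lit 0) (BT.and (nat_lit 12) (nat_lit 0) (BT.img (nat_lit 1) (nat_lit 0) (BT.and (nat_lit 17) (nat_lit 0) (BT.frm (nat_lit 5) (nat_lit 0x343407070b) (nat_lit 0x3734343507070b) [nat_lit 20, nat_lit 0, nat_lit 49, nat_lit 46, nat_lit 47, nat_lit 52, nat_lit 53] (BT.pln (nat_lit 0) (nat_lit 7) (BT.pln (nat_lit 53) (nat_lit 11) (BT.dif (nat_lit 0) (nat_lit 19) (BT.and (nat_lit 0) (nat_lit 46) (BT.pln (nat_lit 56) (nat_lit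 4) (BT.and (nat_lit 0) (nat_lit 50) (BT.frm (nat_lit 4) (nat_lit 0x343407070b) (nat_lit 0x34343507070b) [nat_lit 7, nat_lit 56, nat_lit 53, nat_lit 54, nat_lit 59, nat_lit 60] (BT.pln (nat_lit 0) (nat_lit 6) (BT.and (nat_lit 2) (nat_lit 0) (BT.img (nat_lit 1) (nat_lit 0) (BT.and (nat_lit 6) (nat_lit 0) (BT.img (nat_lit 1) (nat_lit 0) (BT.and (nat_lit 11) (nat_lit 0) (BT.cnt (nat_lit 0))))))))))))))))))))))))))))))))))))))))))))))))))))))))))))))))) (BT.kid (nat_lit 14) (nat_lit 1) (BT.pln (nat_lit 2) (nat_lit 3) (BT.img (nat_lit 1) (nat_lit 4) (BT.img (nat_lit 1) (nat_lit 0) (BT.frm (nat_lit 3) (nat_lit 0x343407070b) (nat_lit 0x343407070b) [nat_lit 3, nat_lit 0, nat_lit 1, nat_lit 6, nat_lit 7] (BT.pln (nat_lit 0) (nat_lit 5) (BT.and (nat_lit 4) (nat_lit 0) (BT.pln (nat_lit 2) (nat_lit 7) (BT.dif (nat_lit 1) (nat_lit 0) (BT.pln (nat_lit 10) (nat_lit 10) (BT.and (nat_lit 0) (nat_lit 2) (BT.and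 (nat_lit 0) (nat_lit 5) (BT.frm (nat_lit 0) (nat_lit 0) (nat_lit 0) [nat_lit 15] (BT.pln (nat_lit 0) (nat_lit 2) (BT.pln (nat_lit 15) (nat_lit 2) (BT.and (nat_lit 1) (nat_lit 0) (BT.img (nat_lit 1) (nat_lit 15) (BT.dif (nat_lit 1) (nat_lit 0) (BT.pln (nat_lit 13) (nat_lit 8) (BT.and (nat_lit 1) (nat_lit 0) (BT.pln (nat_lit 15) (nat_lit 9) (BT.and (nat_lit 1) (nat_lit 0) (BT.dif (nat_lit 0) (nat_lit 16) (BT.img (nat_lit 1) (nat_lit 0) (BT.and (nat_lit 12) (nat_lit 0) (BT.img (nat_lit 1) (nat_lit 0) (BT.and (nat_lit 17) (nat_lit 0) (BT.pln (nat_lit 22) (nat_lit 10) (BT.and (nat_lit 18) (nat_lit 0) (BT.dif (nat_lit 0) (nat_lit 10) (BT.and (nat_lit 12) (nat_lit 24) (BT.pln (nat_lit 26) (nat_lit 6) (BT.dif (nat_lit 1) (nat_lit 0) (BT.dif (nat_lit 33) (nat_lit 32) (BT.dif (nat_lit 0) (nat_lit 6) (BT.pln (nat_lit 36) (nat_lit 8) (BT.pln (nat_lit 31) (nat_lit 11) (BT.and (nat_lit 1) (nat_lit 0) (BT.img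 (nat_lit 1) (nat_lit 0) (BT.and (nat_lit 4) (nat_lit 0) (BT.img (nat_lit 1) (nat_lit 0) (BT.and (nat_lit 8) (nat_lit 0) (BT.img (nat_lit 1) (nat_lit 0) (BT.and (nat_lit 13) (nat_lit 0) (BT.dif (nat_lit 26) (nat_lit 12) (BT.dif (nat_lit 0) (nat_lit 39) (BT.and (nat_lit 12) (nat_lit 40) (BT.and (nat_lit 0) (nat_lit 39) (BT.and (nat_lit 12) (nat_lit 16) (BT.dif (nat_lit 47) (nat_lit 28) (BT.dif (nat_lit 0) (nat_lit 44) (BT.and (nat_lit 41) (nat_lit 32) (BT.and (nat_lit 0) (nat_lit 20) (BT.img (nat_lit 1) (nat_lit 0) (BT.and (nat_lit 3) (nat_lit 0) (BT.img (nat_lit 1) (nat_lit 0) (BT.and (nat_lit 7) (nat_lit 0) (BT.img (nat_lit 1) (nat_lit 0) (BT.and (nat_lit 10) (nat_lit 0) (BT.img (nat_lit 1) (nat_lit 0) (BT.and (nat_lit 14) (nat_lit 0) (BT.one (nat_lit 6) (nat_lit 0x343407070b) (nat_lit 0x343407070b) [nat_lit 34, nat_lit 17, nat_lit 0, nat_lit 60, nat_lit 57, nat_lit 58, nat_lit 63, nat_lit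 64]))))))))))))))))))))))))))))))))))))))))))))))))))))))))))))) BT.nil)))))) BT.nil)))

theorem vt_c19_cnt : Cnt 120 (grp 120 vG) [v_g320] [v_g320] 0 0 0 0 300 :=
  BT.sound vt_c19_cnt_P Known.nil (t := vt_c19_cnt_t) (d := 0) (by decide +kernel)

theorem vt_c19_ge : 300 ≤ Nat.card (grp 120 vt_c19_K) :=
  Ch.le_card_grp (k := 7) (L := (lab 120 7)) v_hn vt_c19_K_ok (c := (Ch.cons (nat_lit 0) [nat_lit 1] (Ch.cons (nat_lit 14) [nat_lit 3] Ch.nil))) (by decide +kernel)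

theorem vt_c19_eq : (grp 120 vG) ⊓ Subgroup.centralizer {Net.toPerm 120 v_g320} = grp 120 vt_c19_K :=
  cent_eq vt_c19_sym vt_c19_cnt vt_c19_ge

theorem vt_c19_card : Nat.card ↥((grp 120 vG) ⊓ Subgroup.centralizer {Net.toPerm 120 v_g320}) = 300 :=
  card_cent vt_c19_sym vt_c19_cnt vt_c19_ge

theorem vt_c19_ord : orderOf (Net.toPerm 120 v_g320) = 5 :=
  orderOf_net v_hn v_hk v_g320_ok (by decide) (ps := [5]) (by set_option linter.unusedSimpArgs false in simp [Nat.primeFactorsList_ofNat]) (by decide +kernel)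

theorem v_le326 : grp 120 vt_c20_K ≤ grp 120 vo_E0 :=
  grp_le_of_memB v_hn v_hk vo_E0_ok vt_c20_K_ok (ws := [nat_lit 0x2f13080b010507, nat_lit 0x2f2d231b091801040119, nat_lit 0x2923210d]) (by decide +kernel)

theorem vt_c20_le : grp 120 vt_c20_K ≤ (grp 120 vG) :=
  (v_le326.trans vT_s0.le)

theorem vt_c20_mem : Net.toPerm 120 v_g324 ∈ (grp 120 vG) :=
  vt_c20_le (toPerm_mem_grp (E := vt_c20_K) (List.Mem.head _))

theorem vt_c20_sym : Sym 120 (grp 120 vG) [v_g324] vt_c20_K 0 :=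
  Sym.of_lab v_hn v_hk (okE_cons.2 ⟨v_g324_ok, okE_nil _⟩) vt_c20_K_ok vt_c20_le (kT := 0) (by decide +kernel)

theorem v_le328 : grp 120 v_V327 ≤ grp 120 v_V221 :=
  grp_le_of_memB v_hn v_hk v_V221_ok v_V327_ok (ws := [nat_lit 1281, nat_lit 1]) (by decide +kernel)

theorem vT_s84 : Stab 120 (grp 120 vG) [nat_lit 111, nat_lit 82, nat_lit 58, nat_lit 37, nat_lit 96, nat_lit 0] v_V327 4 :=
  Stab.step (k := 7) (L := (lab 120 7)) v_hn vT_s52 v_V327_ok v_le328 (c := (Ch.cons (nat_lit 20) [nat_lit 1] (Ch.cons (nat_lit 99) [nat_lit 3] Ch.nil))) (by decide +kernel)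

theorem vT_s85 : Stab 120 (grp 120 vG) [nat_lit 20, nat_lit 111, nat_lit 82, nat_lit 58, nat_lit 37, nat_lit 96, nat_lit 0] v_V329 2 :=
  Stab.step (k := 7) (L := (lab 120 7)) v_hn vT_s84 v_V329_ok (grp_mono (List.subset_append_right [v_g100] _)) (c := (Ch.cons (nat_lit 99) [nat_lit 1] Ch.nil)) (by decide +kernel)

theorem vT_s86 : Stab 120 (grp 120 vG) [nat_lit 99, nat_lit 20, nat_lit 111, nat_lit 82, nat_lit 58, nat_lit 37, nat_lit 96, nat_lit 0] v_V330 1 :=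
  Stab.step (k := 7) (L := (lab 120 7)) v_hn vT_s85 v_V330_ok (grp_mono (List.subset_append_right [v_g117] _)) (c := Ch.nil) (by decide +kernel)

noncomputable def vT_s86_O : ℕ := (nat_lit 0xffffffffffffff0000000000000000ffffff00000000ffffffff00000000ff0000ffff0000ffff0000ffff000000ff00ff00ff00ff00ff00ff00ff00f0f0f0f0f0f0f0f0f0f0f0f0f0f0f0ccccccccccccccccccccccccccccccaaaaaaaaaaaaaaaaaaaaaaaaaaaaaa000000000000000000000000000001000001000000000000000000000000000000000000000000002000000000000000000000000400000000000000000000000400000000000000000000008000000000000000000000000000000000000000000000000000100000000008000000000000000000000000)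

theorem vT_s86_F : Frame 120 (grp 120 vG) 8 15 vT_s86_O 1 1 :=
  IsBase.frame vT_s86.isBase (by decide +kernel)

noncomputable def vT_s85_O : ℕ := (nat_lit 0x442fa6bff0c200000000000000000000000000000173f20305d9fb8ca000fc6fb8400b39f3fa0305800000187e431006be00057fc0787a5df000187ebe2c16a1eb017c3276e05b0fe25860bf23065990b94b31dd1c52ce4c1e18354ac4955a75aaa365d348ad289554000000000000000000000000000001000001000000000000000000000000000000000000000000002000000000000000000000000400000000000000000000000400000000000000000000008000000000000000000000000000000000000000000000000000100000)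

theorem vT_s85_F : Frame 120 (grp 120 vG) 7 14 vT_s85_O 0 1 :=
  Stab.frame v_hn vT_s85 (by decide +kernel)

noncomputable def vT_s84_O : ℕ := (nat_lit 0x4009a49980c2000000000000000000bc060200000162d2020551db043872036018644b3dfefa7a7f51c00000004079b4666b39f2f205808e3fec38004238189f2b316b09f645c43f02c672b971c8d68a89cdc843349718c7e1e0762578eea14935991ba990b2b49558000000000000000000000000000001000001000000000000000000000000000000000000000000002000000000000000000000000400000000000000000000000400000000000000000000008000000000000000000000000000)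

theorem vT_s84_F : Frame 120 (grp 120 vG) 6 13 vT_s84_O 0 1 :=
  Stab.frame v_hn vT_s84 (by decide +kernel)

noncomputable def vt_c20_cnt_L : List ℕ := [1, 4, vT_s1_O, 0, 0, 2, 13, vT_s2_O, 0, 0, 3, 40, vT_s50_O, 0, 0, 4, 44, vT_s51_O, 0, 0, 5, 12, vT_s52_O, 0, 0, 6, 13, vT_s84_O, 0, 0, 7, 14, vT_s85_O, 0, 0, 8, 15, vT_s86_O, 1, 0]

theorem vt_c20_cnt_P : Prob 120 7 (grp 120 vG) vt_c20_cnt_EG [v_g324] [v_g324] vt_c20_K vt_c20_cnt_L 0 0 :=
  Sym.prob v_hn v_hk vt_c20_sym vt_c20_cnt_EG_ok (grp_cons_le v_b_vT (grp_cons_le v_p0_vT (grp_cons_le v_p1_vT (grp_cons_le v_g7_vT (grp_cons_le v_g3_vT (grp_cons_le v_g4_vT (grp_cons_le v_g10_vT (grp_cons_le v_g16_vT (grp_cons_le v_g11_vT (grp_cons_le v_g12_vT (grp_cons_le v_g13_vT (grp_cons_le v_g22_vT (grp_cons_le v_g21_vT (grp_cons_le v_g26_vT (grp_cons_le v_g19_vT (grp_cons_le v_g20_vT (grp_cons_le v_g23_vT (grp_cons_le v_g30_vT (grp_cons_le v_g31_vT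 (grp_cons_le v_g32_vT (grp_cons_le v_g37_vT (grp_cons_le v_g38_vT (grp_cons_le v_g29_vT (grp_cons_le v_u_vT (grp_cons_le v_g214_vT (grp_cons_le v_g215_vT (grp_cons_le v_g216_vT (grp_cons_le v_g117_vT (grp_cons_le v_g217_vT (grp_cons_le v_g113_vT (grp_cons_le v_g100_vT (grp_nil_le _)))))))))))))))))))))))))))))))) (Frames.cons vT_s1_F (Frames.cons vT_s2_F (Frames.cons vT_s50_F (Frames.cons vT_s51_F (Frames.cons vT_s52_F (Frames.cons vT_s84_F (Frames.cons vT_s85_F (Frames.cons vT_s86_F Frames.nil)))))))) (okE_cons.2 ⟨v_g324_ok, okE_nil _⟩) _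

noncomputable def vt_c20_cnt_t : BT := (BT.br (nat_lit 2) (nat_lit 0) [nat_lit 3, nat_lit 5] (BT.dead (nat_lit 4) (BT.img (nat_lit 1) (nat_lit 0) (BT.img (nat_lit 1) (nat_lit 0) (BT.img (nat_lit 1) (nat_lit 0) (BT.img (nat_lit 1) (nat_lit 0) (BT.frm (nat_lit 3) (nat_lit 0x10070a) (nat_lit 0x2107070c0105010c) [nat_lit 0, nat_lit 1, nat_lit 3, nat_lit 4] (BT.pln (nat_lit 0) (nat_lit 32) (BT.and (nat_lit 0) (nat_lit 4) (BT.cnt (nat_lit 0))))))))) (BT.dead (nat_lit 1) (BT.frm (nat_lit 0) (nat_lit 0) (nat_lit 0x105010309) [nat_lit 0] (BT.pln (nat_lit 0) (nat_lit 1) (BT.img (nat_lit 1) (nat_lit 2) (BT.and (nat_lit 1) (nat_lit 0) (BT.cnt (nat_lit 0)))))) (BT.dead (nat_lit 13) (BT.frm (nat_lit 0) (nat_lit 0) (nat_lit 0x1050108) [nat_lit 0] (BT.pln (nat_lit 0) (nat_lit 1) (BT.img (nat_lit 1) (nat_lit 2) (BT.img (nat_lit 1) (nat_lit 0) (BT.and (nat_lit 2) (nat_lit 0) (BT.cnt (nat_lit 0))))))) (BT.dead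 (nat_lit 7) (BT.frm (nat_lit 0) (nat_lit 0) (nat_lit 66328) [nat_lit 0] (BT.pln (nat_lit 0) (nat_lit 1) (BT.img (nat_lit 1) (nat_lit 2) (BT.img (nat_lit 1) (nat_lit 0) (BT.and (nat_lit 2) (nat_lit 0) (BT.cnt (nat_lit 0))))))) (BT.dead (nat_lit 17) (BT.frm (nat_lit 0) (nat_lit 0) (nat_lit 66305) [nat_lit 0] (BT.pln (nat_lit 0) (nat_lit 1) (BT.img (nat_lit 1) (nat_lit 2) (BT.and (nat_lit 1) (nat_lit 0) (BT.cnt (nat_lit 0)))))) (BT.kid (nat_lit 0) (nat_lit 2) (BT.img (nat_lit 1) (nat_lit 0) (BT.img (nat_lit 1) (nat_lit 0) (BT.img (nat_lit 1) (nat_lit 0) (BT.frm (nat_lit 2) (nat_lit 0x10070a) (nat_lit 0x10070a) [nat_lit 0, nat_lit 2, nat_lit 3] (BT.pln (nat_lit 0) (nat_lit 26) (BT.br (nat_lit 0) (nat_lit 118) [nat_lit 5] (BT.dead (nat_lit 115) (BT.img (nat_lit 1) (nat_lit 0) (BT.frm (nat_lit 0) (nat_lit 0) (nat_lit 0) [nat_lit 7] (BT.pln (nat_lit 0) (nat_lit 1) (BT.pln (nat_lit 5) (nat_lit 10)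 (BT.and (nat_lit 1) (nat_lit 0) (BT.img (nat_lit 1) (nat_lit 4) (BT.img (nat_lit 1) (nat_lit 0) (BT.dif (nat_lit 2) (nat_lit 0) (BT.img (nat_lit 1) (nat_lit 11) (BT.frm (nat_lit 4) (nat_lit 0x333510070a) (nat_lit 0x3510070a) [nat_lit 9, nat_lit 0, nat_lit 12, nat_lit 14, nat_lit 15] (BT.pln (nat_lit 0) (nat_lit 5) (BT.dif (nat_lit 3) (nat_lit 0) (BT.pln (nat_lit 14) (nat_lit 20) (BT.dif (nat_lit 0) (nat_lit 7) (BT.pln (nat_lit 4) (nat_lit 7) (BT.dif (nat_lit 1) (nat_lit 0) (BT.pln (nat_lit 18) (nat_lit 4) (BT.and (nat_lit 14) (nat_lit 0) (BT.dif (nat_lit 0) (nat_lit 17) (BT.and (nat_lit 0) (nat_lit 8) (BT.dif (nat_lit 21) (nat_lit 20) (BT.pln (nat_lit 11) (nat_lit 6) (BT.and (nat_lit 1) (nat_lit 0) (BT.img (nat_lit 1) (nat_lit 0) (BT.and (nat_lit 4) (nat_lit 0) (BT.img (nat_lit 1) (nat_lit 0) (BT.and (nat_lit 10) (nat_lit 0) (BT.img (nat_lit 1) (nat_lit 0) (BT.and (nat_lit 16) (nat_lit 0)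 (BT.frm (nat_lit 6) (nat_lit 0x3d39333510070a) (nat_lit 0x3510070a) [nat_lit 28, nat_lit 0, nat_lit 29, nat_lit 20, nat_lit 32, nat_lit 34, nat_lit 35] (BT.pln (nat_lit 0) (nat_lit 7) (BT.pln (nat_lit 33) (nat_lit 13) (BT.and (nat_lit 1) (nat_lit 0) (BT.frm (nat_lit 1) (nat_lit 1802) (nat_lit 1802) [nat_lit 38, nat_lit 39] (BT.pln (nat_lit 0) (nat_lit 8) (BT.pln (nat_lit 37) (nat_lit 19) (BT.and (nat_lit 1) (nat_lit 0) (BT.and (nat_lit 0) (nat_lit 26) (BT.pln (nat_lit 4) (nat_lit 9) (BT.pln (nat_lit 29) (nat_lit 9) (BT.dif (nat_lit 1) (nat_lit 0) (BT.pln (nat_lit 39) (nat_lit 2) (BT.pln (nat_lit 44) (nat_lit 6) (BT.and (nat_lit 1) (nat_lit 0) (BT.and (nat_lit 0) (nat_lit 33) (BT.pln (nat_lit 47) (nat_lit 15) (BT.dif (nat_lit 0) (nat_lit 24) (BT.frm (nat_lit 5) (nat_lit 0x39333510070a) (nat_lit 0x3510070a) [nat_lit 18, nat_lit 47, nat_lit 38, nat_lit 50, nat_lit 52, nat_lit 53] (BT.pln (nat_lit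 0) (nat_lit 8) (BT.and (nat_lit 2) (nat_lit 0) (BT.img (nat_lit 1) (nat_lit 0) (BT.and (nat_lit 6) (nat_lit 0) (BT.img (nat_lit 1) (nat_lit 0) (BT.and (nat_lit 12) (nat_lit 0) (BT.img (nat_lit 1) (nat_lit 0) (BT.and (nat_lit 17) (nat_lit 0) (BT.img (nat_lit 1) (nat_lit 0) (BT.and (nat_lit 24) (nat_lit 0) (BT.cnt (nat_lit 0)))))))))))))))))))))))))))))))))))))))))))))))))))))))))))) (BT.kid (nat_lit 118) (nat_lit 1) (BT.frm (nat_lit 1) (nat_lit 1802) (nat_lit 1802) [nat_lit 5, nat_lit 6] (BT.pln (nat_lit 0) (nat_lit 6) (BT.pln (nat_lit 4) (nat_lit 8) (BT.and (nat_lit 1) (nat_lit 0) (BT.img (nat_lit 1) (nat_lit 4) (BT.img (nat_lit 1) (nat_lit 0) (BT.img (nat_lit 1) (nat_lit 0) (BT.img (nat_lit 1) (nat_lit 0) (BT.dif (nat_lit 4) (nat_lit 0) (BT.img (nat_lit 1) (nat_lit 12) (BT.frm (nat_lit 4) (nat_lit 0x333510070a) (nat_lit 0x333510070a) [nat_lit 10, nat_lit 0, nat_lit 13, nat_lit 15, nat_lit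 16] (BT.pln (nat_lit 0) (nat_lit 8) (BT.and (nat_lit 3) (nat_lit 0) (BT.frm (nat_lit 0) (nat_lit 0) (nat_lit 0) [nat_lit 19] (BT.pln (nat_lit 0) (nat_lit 1) (BT.pln (nat_lit 17) (nat_lit 10) (BT.and (nat_lit 1) (nat_lit 0) (BT.dif (nat_lit 0) (nat_lit 10) (BT.pln (nat_lit 7) (nat_lit 5) (BT.dif (nat_lit 1) (nat_lit 0) (BT.pln (nat_lit 22) (nat_lit 20) (BT.dif (nat_lit 0) (nat_lit 15) (BT.pln (nat_lit 11) (nat_lit 7) (BT.dif (nat_lit 1) (nat_lit 0) (BT.pln (nat_lit 26) (nat_lit 4) (BT.and (nat_lit 10) (nat_lit 0) (BT.dif (nat_lit 0) (nat_lit 21) (BT.and (nat_lit 0) (nat_lit 8) (BT.dif (nat_lit 29) (nat_lit 28) (BT.pln (nat_lit 18) (nat_lit 6) (BT.and (nat_lit 1) (nat_lit 0) (BT.img (nat_lit 1) (nat_lit 0) (BT.and (nat_lit 4) (nat_lit 0) (BT.img (nat_lit 1) (nat_lit 0) (BT.and (nat_lit 10) (nat_lit 0) (BT.img (nat_lit 1) (nat_lit 0) (BT.and (nat_lit 16) (nat_lit 0) (BT.img (nat_lit 1) (nat_lit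 0) (BT.and (nat_lit 25) (nat_lit 0) (BT.one (nat_lit 7) (nat_lit 0x3d39333510070a) (nat_lit 0x3d39333510070a) [nat_lit 0, nat_lit 34, nat_lit 2, nat_lit 39, nat_lit 29, nat_lit 42, nat_lit 44, nat_lit 45])))))))))))))))))))))))))))))))))))))))) BT.nil)))))))) BT.nil)))))))

theorem vt_c20_cnt : Cnt 120 (grp 120 vG) [v_g324] [v_g324] 0 0 0 0 50 :=
  BT.sound vt_c20_cnt_P Known.nil (t := vt_c20_cnt_t) (d := 0) (by decide +kernel)

theorem vt_c20_ge : 50 ≤ Nat.card (grp 120 vt_c20_K) :=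
  Ch.le_card_grp (k := 7) (L := (lab 120 7)) v_hn vt_c20_K_ok (c := (Ch.cons (nat_lit 0) [nat_lit 1, nat_lit 3] (Ch.cons (nat_lit 118) [nat_lit 5] Ch.nil))) (by decide +kernel)

theorem vt_c20_eq : (grp 120 vG) ⊓ Subgroup.centralizer {Net.toPerm 120 v_g324} = grp 120 vt_c20_K :=
  cent_eq vt_c20_sym vt_c20_cnt vt_c20_ge

theorem vt_c20_card : Nat.card ↥((grp 120 vG) ⊓ Subgroup.centralizer {Net.toPerm 120 v_g324}) = 50 :=
  card_cent vt_c20_sym vt_c20_cnt vt_c20_ge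

theorem vt_c20_ord : orderOf (Net.toPerm 120 v_g324) = 5 :=
  orderOf_net v_hn v_hk v_g324_ok (by decide) (ps := [5]) (by set_option linter.unusedSimpArgs false in simp [Nat.primeFactorsList_ofNat]) (by decide +kernel)

theorem v_le333 : grp 120 vt_c21_K ≤ grp 120 vo_E0 :=
  grp_le_of_memB v_hn v_hk vo_E0_ok vt_c21_K_ok (ws := [nat_lit 0x2f2d17130c0105010313, nat_lit 0x2d1b0d091b010c010a, nat_lit 0x2923210d]) (by decide +kernel)

theorem vt_c21_le : grp 120 vt_c21_K ≤ (grp 120 vG) :=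
  (v_le333.trans vT_s0.le)

theorem vt_c21_mem : Net.toPerm 120 v_g331 ∈ (grp 120 vG) :=
  vt_c21_le (toPerm_mem_grp (E := vt_c21_K) (List.Mem.head _))

theorem vt_c21_sym : Sym 120 (grp 120 vG) [v_g331] vt_c21_K 0 :=
  Sym.of_lab v_hn v_hk (okE_cons.2 ⟨v_g331_ok, okE_nil _⟩) vt_c21_K_ok vt_c21_le (kT := 0) (by decide +kernel)

noncomputable def vt_c21_cnt_L : List ℕ := [1, 4, vT_s1_O, 0, 0, 2, 13, vT_s2_O, 0, 0, 3, 40, vT_s50_O, 0, 0, 4, 44, vT_s51_O, 0, 0, 5, 12, vT_s52_O, 0, 0, 6, 13, vT_s84_O, 0, 0, 7, 14, vT_s85_O, 0, 0, 8, 15, vT_s86_O, 1, 0]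

theorem vt_c21_cnt_P : Prob 120 7 (grp 120 vG) vt_c21_cnt_EG [v_g331] [v_g331] vt_c21_K vt_c21_cnt_L 0 0 :=
  Sym.prob v_hn v_hk vt_c21_sym vt_c21_cnt_EG_ok (grp_cons_le v_b_vT (grp_cons_le v_p0_vT (grp_cons_le v_p1_vT (grp_cons_le v_g7_vT (grp_cons_le v_g3_vT (grp_cons_le v_g4_vT (grp_cons_le v_g10_vT (grp_cons_le v_g16_vT (grp_cons_le v_g11_vT (grp_cons_le v_g12_vT (grp_cons_le v_g13_vT (grp_cons_le v_g22_vT (grp_cons_le v_g21_vT (grp_cons_le v_g26_vT (grp_cons_le v_g19_vT (grp_cons_le v_g20_vT (grp_cons_le v_g23_vT (grp_cons_le v_g30_vT (grp_cons_le v_g31_vT (grp_cons_le v_g32_vT (grp_cons_le v_g37_vT (grp_cons_le v_g38_vT (grp_cons_le v_g29_vT (grp_cons_le v_u_vT (grp_cons_le v_g214_vT (grp_cons_le v_g215_vT (grp_cons_le v_g216_vT (grp_cons_le v_g117_vT (grp_cons_le v_g217_vT (grp_cons_le v_g113_vT (grp_cons_le v_g100_vT (grp_nil_le _)))))))))))))))))))))))))))))))) (Frames.cons vT_s1_F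 (Frames.cons vT_s2_F (Frames.cons vT_s50_F (Frames.cons vT_s51_F (Frames.cons vT_s52_F (Frames.cons vT_s84_F (Frames.cons vT_s85_F (Frames.cons vT_s86_F Frames.nil)))))))) (okE_cons.2 ⟨v_g331_ok, okE_nil _⟩) _

noncomputable def vt_c21_cnt_t : BT := (BT.br (nat_lit 2) (nat_lit 0) [nat_lit 3, nat_lit 5] (BT.dead (nat_lit 4) (BT.img (nat_lit 1) (nat_lit 0) (BT.img (nat_lit 1) (nat_lit 0) (BT.img (nat_lit 1) (nat_lit 0) (BT.frm (nat_lit 3) (nat_lit 0x310e080b) (nat_lit 0x310d08090105010c) [nat_lit 0, nat_lit 2, nat_lit 1, nat_lit 3] (BT.pln (nat_lit 0) (nat_lit 32) (BT.img (nat_lit 1) (nat_lit 2) (BT.and (nat_lit 1) (nat_lit 0) (BT.cnt (nat_lit 0))))))))) (BT.dead (nat_lit 1) (BT.frm (nat_lit 0) (nat_lit 0) (nat_lit 0x105010309) [nat_lit 0] (BT.pln (nat_lit 0) (nat_lit 1) (BT.img (nat_lit 1) (nat_lit 2) (BT.and (nat_lit 1) (nat_lit 0) (BT.cnt (nat_lit 0)))))) (BT.dead (nat_lit 13) (BT.frm (nat_lit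 0) (nat_lit 0) (nat_lit 0x1050108) [nat_lit 0] (BT.pln (nat_lit 0) (nat_lit 1) (BT.img (nat_lit 1) (nat_lit 2) (BT.and (nat_lit 1) (nat_lit 0) (BT.cnt (nat_lit 0)))))) (BT.dead (nat_lit 17) (BT.frm (nat_lit 0) (nat_lit 0) (nat_lit 66305) [nat_lit 0] (BT.pln (nat_lit 0) (nat_lit 1) (BT.img (nat_lit 1) (nat_lit 2) (BT.and (nat_lit 1) (nat_lit 0) (BT.cnt (nat_lit 0)))))) (BT.dead (nat_lit 7) (BT.frm (nat_lit 0) (nat_lit 0) (nat_lit 66328) [nat_lit 0] (BT.pln (nat_lit 0) (nat_lit 1) (BT.img (nat_lit 1) (nat_lit 2) (BT.and (nat_lit 1) (nat_lit 0) (BT.cnt (nat_lit 0)))))) (BT.kid (nat_lit 0) (nat_lit 2) (BT.img (nat_lit 1) (nat_lit 0) (BT.img (nat_lit 1) (nat_lit 0) (BT.frm (nat_lit 2) (nat_lit 919563) (nat_lit 919563) [nat_lit 1, nat_lit 0, nat_lit 2] (BT.pln (nat_lit 0) (nat_lit 26) (BT.br (nat_lit 0) (nat_lit 69) [nat_lit 5] (BT.dead (nat_lit 100) (BT.img (nat_lit 1) (nat_lit 0) (BT.img (nat_lit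 1) (nat_lit 0) (BT.pln (nat_lit 4) (nat_lit 10) (BT.dif (nat_lit 0) (nat_lit 2) (BT.img (nat_lit 1) (nat_lit 7) (BT.frm (nat_lit 4) (nat_lit 0x3335310e080b) (nat_lit 0x35310e080b) [nat_lit 5, nat_lit 0, nat_lit 9, nat_lit 8, nat_lit 10] (BT.pln (nat_lit 0) (nat_lit 5) (BT.dif (nat_lit 3) (nat_lit 0) (BT.dif (nat_lit 9) (nat_lit 8) (BT.pln (nat_lit 3) (nat_lit 6) (BT.and (nat_lit 1) (nat_lit 0) (BT.img (nat_lit 1) (nat_lit 0) (BT.and (nat_lit 4) (nat_lit 0) (BT.frm (nat_lit 6) (nat_lit 0x3335310e080b) (nat_lit 0x3d3935310e080b) [nat_lit 11, nat_lit 0, nat_lit 13, nat_lit 8, nat_lit 17, nat_lit 16, nat_lit 18] (BT.pln (nat_lit 0) (nat_lit 7) (BT.pln (nat_lit 17) (nat_lit 13) (BT.and (nat_lit 1) (nat_lit 0) (BT.frm (nat_lit 0) (nat_lit 0) (nat_lit 0) [nat_lit 22] (BT.pln (nat_lit 0) (nat_lit 2) (BT.pln (nat_lit 21) (nat_lit 6) (BT.and (nat_lit 1) (nat_lit 0) (BT.and (nat_lit 0) (nat_lit 14) (BT.pln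 (nat_lit 24) (nat_lit 19) (BT.and (nat_lit 4) (nat_lit 0) (BT.and (nat_lit 0) (nat_lit 17) (BT.pln (nat_lit 27) (nat_lit 15) (BT.dif (nat_lit 0) (nat_lit 16) (BT.frm (nat_lit 5) (nat_lit 0x3335310e080b) (nat_lit 0x3935310e080b) [nat_lit 14, nat_lit 27, nat_lit 22, nat_lit 31, nat_lit 30, nat_lit 32] (BT.pln (nat_lit 0) (nat_lit 8) (BT.and (nat_lit 2) (nat_lit 0) (BT.img (nat_lit 1) (nat_lit 0) (BT.and (nat_lit 6) (nat_lit 0) (BT.img (nat_lit 1) (nat_lit 0) (BT.and (nat_lit 11) (nat_lit 0) (BT.img (nat_lit 1) (nat_lit 0) (BT.and (nat_lit 18) (nat_lit 0) (BT.cnt (nat_lit 0)))))))))))))))))))))))))))))))))))))) (BT.kid (nat_lit 69) (nat_lit 1) (BT.frm (nat_lit 1) (nat_lit 2059) (nat_lit 2059) [nat_lit 3, nat_lit 5] (BT.pln (nat_lit 0) (nat_lit 6) (BT.pln (nat_lit 4) (nat_lit 8) (BT.and (nat_lit 1) (nat_lit 0) (BT.img (nat_lit 1) (nat_lit 4) (BT.img (nat_lit 1) (nat_lit 0) (BT.img (nat_lit 1)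 (nat_lit 0) (BT.dif (nat_lit 3) (nat_lit 0) (BT.img (nat_lit 1) (nat_lit 11) (BT.frm (nat_lit 4) (nat_lit 0x3335310e080b) (nat_lit 0x3335310e080b) [nat_lit 9, nat_lit 0, nat_lit 13, nat_lit 12, nat_lit 14] (BT.pln (nat_lit 0) (nat_lit 8) (BT.and (nat_lit 3) (nat_lit 0) (BT.pln (nat_lit 14) (nat_lit 4) (BT.dif (nat_lit 0) (nat_lit 7) (BT.pln (nat_lit 4) (nat_lit 5) (BT.and (nat_lit 1) (nat_lit 0) (BT.pln (nat_lit 18) (nat_lit 10) (BT.dif (nat_lit 0) (nat_lit 12) (BT.dif (nat_lit 0) (nat_lit 3) (BT.dif (nat_lit 20) (nat_lit 19) (BT.pln (nat_lit 10) (nat_lit 6) (BT.and (nat_lit 1) (nat_lit 0) (BT.img (nat_lit 1) (nat_lit 0) (BT.and (nat_lit 4) (nat_lit 0) (BT.img (nat_lit 1) (nat_lit 0) (BT.and (nat_lit 9) (nat_lit 0) (BT.img (nat_lit 1) (nat_lit 0) (BT.and (nat_lit 15) (nat_lit 0) (BT.one (nat_lit 7) (nat_lit 0x3335310e080b) (nat_lit 0x3335310e080b) [nat_lit 0, nat_lit 22, nat_lit 4, nat_lit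 28, nat_lit 19, nat_lit 32, nat_lit 31, nat_lit 33]))))))))))))))))))))))))))))) BT.nil))))))) BT.nil)))))))

theorem vt_c21_cnt : Cnt 120 (grp 120 vG) [v_g331] [v_g331] 0 0 0 0 50 :=
  BT.sound vt_c21_cnt_P Known.nil (t := vt_c21_cnt_t) (d := 0) (by decide +kernel)

theorem vt_c21_ge : 50 ≤ Nat.card (grp 120 vt_c21_K) :=
  Ch.le_card_grp (k := 7) (L := (lab 120 7)) v_hn vt_c21_K_ok (c := (Ch.cons (nat_lit 0) [nat_lit 1, nat_lit 3] (Ch.cons (nat_lit 69) [nat_lit 5] Ch.nil))) (by decide +kernel)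

theorem vt_c21_eq : (grp 120 vG) ⊓ Subgroup.centralizer {Net.toPerm 120 v_g331} = grp 120 vt_c21_K :=
  cent_eq vt_c21_sym vt_c21_cnt vt_c21_ge

theorem vt_c21_card : Nat.card ↥((grp 120 vG) ⊓ Subgroup.centralizer {Net.toPerm 120 v_g331}) = 50 :=
  card_cent vt_c21_sym vt_c21_cnt vt_c21_ge

theorem vt_c21_ord : orderOf (Net.toPerm 120 v_g331) = 5 :=
  orderOf_net v_hn v_hk v_g331_ok (by decide) (ps := [5]) (by set_option linter.unusedSimpArgs false in simp [Nat.primeFactorsList_ofNat]) (by decide +kernel)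

theorem v_le338 : grp 120 vt_c22_K ≤ grp 120 vo_E0 :=
  grp_le_of_memB v_hn v_hk vo_E0_ok vt_c22_K_ok (ws := [nat_lit 0x2d29231b13090c010b010a, nat_lit 0x2f2d292313070104010c, nat_lit 0x2d2917190f080b01080b01, nat_lit 0x2d23080b01080b01]) (by decide +kernel)

theorem vt_c22_le : grp 120 vt_c22_K ≤ (grp 120 vG) :=
  (v_le338.trans vT_s0.le)

theorem vt_c22_mem : Net.toPerm 120 v_g334 ∈ (grp 120 vG) :=
  vt_c22_le (toPerm_mem_grp (E := vt_c22_K) (List.Mem.tail _ (List.Mem.head _)))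

theorem vt_c22_sym : Sym 120 (grp 120 vG) [v_g334] vt_c22_K 0 :=
  Sym.of_lab v_hn v_hk (okE_cons.2 ⟨v_g334_ok, okE_nil _⟩) vt_c22_K_ok vt_c22_le (kT := 0) (by decide +kernel)

theorem v_le341 : grp 120 v_V340 ≤ grp 120 v_V174 :=
  grp_le_of_memB v_hn v_hk v_V174_ok v_V340_ok (ws := [nat_lit 0xb070503, nat_lit 722177, nat_lit 2311, nat_lit 11, nat_lit 2819]) (by decide +kernel)

theorem vT_s87 : Stab 120 (grp 120 vG) [nat_lit 75, nat_lit 38, nat_lit 63, nat_lit 0] v_V340 32 :=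
  Stab.step (k := 7) (L := (lab 120 7)) v_hn vT_s34 v_V340_ok v_le341 (c := (Ch.cons (nat_lit 82) [nat_lit 1, nat_lit 3] (Ch.cons (nat_lit 53) [nat_lit 5] (Ch.cons (nat_lit 105) [nat_lit 7] (Ch.cons (nat_lit 6) [nat_lit 9] Ch.nil))))) (by decide +kernel)

theorem vT_s88 : Stab 120 (grp 120 vG) [nat_lit 82, nat_lit 75, nat_lit 38, nat_lit 63, nat_lit 0] v_V342 8 :=
  Stab.step (k := 7) (L := (lab 120 7)) v_hn vT_s87 v_V342_ok (grp_mono (List.subset_append_right [v_e, v_g339] _)) (c := (Ch.cons (nat_lit 53) [nat_lit 1] (Ch.cons (nat_lit 105) [nat_lit 3] (Ch.cons (nat_lit 6) [nat_lit 5] Ch.nil)))) (by decide +kernel)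

theorem vT_s89 : Stab 120 (grp 120 vG) [nat_lit 53, nat_lit 82, nat_lit 75, nat_lit 38, nat_lit 63, nat_lit 0] v_V343 4 :=
  Stab.step (k := 7) (L := (lab 120 7)) v_hn vT_s88 v_V343_ok (grp_mono (List.subset_append_right [v_g113] _)) (c := (Ch.cons (nat_lit 105) [nat_lit 1] (Ch.cons (nat_lit 6) [nat_lit 3] Ch.nil))) (by decide +kernel)

theorem vT_s90 : Stab 120 (grp 120 vG) [nat_lit 105, nat_lit 53, nat_lit 82, nat_lit 75, nat_lit 38, nat_lit 63, nat_lit 0] v_V344 2 :=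
  Stab.step (k := 7) (L := (lab 120 7)) v_hn vT_s89 v_V344_ok (grp_mono (List.subset_append_right [v_g171] _)) (c := (Ch.cons (nat_lit 6) [nat_lit 1] Ch.nil)) (by decide +kernel)

theorem vT_s91 : Stab 120 (grp 120 vG) [nat_lit 6, nat_lit 105, nat_lit 53, nat_lit 82, nat_lit 75, nat_lit 38, nat_lit 63, nat_lit 0] v_V345 1 :=
  Stab.step (k := 7) (L := (lab 120 7)) v_hn vT_s90 v_V345_ok (grp_mono (List.subset_append_right [v_g118] _)) (c := Ch.nil) (by decide +kernel)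

theorem v_e_vT : Net.toPerm 120 v_e ∈ (grp 120 vG) :=
  vT_s87.le (toPerm_mem_grp (E := v_V340) (List.Mem.head _))

theorem v_g339_vT : Net.toPerm 120 v_g339 ∈ (grp 120 vG) :=
  vT_s87.le (toPerm_mem_grp (E := v_V340) (List.Mem.tail _ (List.Mem.head _)))

noncomputable def vT_s91_O : ℕ := (nat_lit 0xffffffffffffff0000000000000000ffffff00000000ffffffff00000000ff0000ffff0000ffff0000ffff000000ff00ff00ff00ff00ff00ff00ff00f0f0f0f0f0f0f0f0f0f0f0f0f0f0f0ccccccccccccccccccccccccccccccaaaaaaaaaaaaaaaaaaaaaaaaaaaaaa000000000000000000000000000001000000000000008000000000000000000000000000000000004000000000000000000008000000000000000000000000000400000000000000000000000000000000000020000000000000000200000000000000000000000000000000000000000000000000000040)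

theorem vT_s91_F : Frame 120 (grp 120 vG) 8 15 vT_s91_O 1 1 :=
  IsBase.frame vT_s91.isBase (by decide +kernel)

noncomputable def vT_s88_O : ℕ := (nat_lit 0x31c810000000000000000000000000cc27a76c8bb2b206021412c04110a202100c536185cc7e7a7f97f84100008e070fc141c08d6e7fe80806aed0a271304ccf4bb50869c597b606a037a2eee424cde047e065345729e70c3cd0da8a0e3b8b06d54a9532b994d8ba68000000000000000000000000000001000000000000008000000000000000000000000000000000004000000000000000000008000000000000000000000000000400000000000000000000)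

theorem vT_s88_F : Frame 120 (grp 120 vG) 5 12 vT_s88_O 0 1 :=
  Stab.frame v_hn vT_s88 (by decide +kernel)

noncomputable def vt_c22_cnt_L : List ℕ := [1, 4, vT_s1_O, 0, 0, 2, 18, vT_s33_O, 0, 0, 3, 40, vT_s34_O, 0, 0, 5, 12, vT_s88_O, 0, 0, 8, 15, vT_s91_O, 1, 0]

theorem vt_c22_cnt_P : Prob 120 7 (grp 120 vG) vt_c22_cnt_EG [v_g334] [v_g334] vt_c22_K vt_c22_cnt_L 0 0 :=
  Sym.prob v_hn v_hk vt_c22_sym vt_c22_cnt_EG_ok (grp_cons_le v_b_vT (grp_cons_le v_p0_vT (grp_cons_le v_p1_vT (grp_cons_le v_g7_vT (grp_cons_le v_g3_vT (grp_cons_le v_g4_vT (grp_cons_le v_g10_vT (grp_cons_le v_g16_vT (grp_cons_le v_g11_vT (grp_cons_le v_g12_vT (grp_cons_le v_g13_vT (grp_cons_le v_g22_vT (grp_cons_le v_g21_vT (grp_cons_le v_g26_vT (grp_cons_le v_g19_vT (grp_cons_le v_g20_vT (grp_cons_le v_g23_vT (grp_cons_le v_g30_vT (grp_cons_le v_g31_vT (grp_cons_le v_g32_vT (grp_cons_le v_g37_vT (grp_cons_le v_g38_vT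 (grp_cons_le v_g29_vT (grp_cons_le v_u_vT (grp_cons_le v_g168_vT (grp_cons_le v_g169_vT (grp_cons_le v_g92_vT (grp_cons_le v_g170_vT (grp_cons_le v_g100_vT (grp_cons_le v_g117_vT (grp_cons_le v_g171_vT (grp_cons_le v_e_vT (grp_cons_le v_g339_vT (grp_cons_le v_g113_vT (grp_cons_le v_g118_vT (grp_nil_le _)))))))))))))))))))))))))))))))))))) (Frames.cons vT_s1_F (Frames.cons vT_s33_F (Frames.cons vT_s34_F (Frames.cons vT_s88_F (Frames.cons vT_s91_F Frames.nil))))) (okE_cons.2 ⟨v_g334_ok, okE_nil _⟩) _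

noncomputable def vt_c22_cnt_t : BT := (BT.fix (nat_lit 1) (BT.br (nat_lit 0) (nat_lit 58) [nat_lit 1] (BT.dead (nat_lit 80) (BT.frm (nat_lit 0) (nat_lit 268) (nat_lit 0x103010704) [nat_lit 0] (BT.pln (nat_lit 0) (nat_lit 1) (BT.fix (nat_lit 65793) (BT.and (nat_lit 1) (nat_lit 0) (BT.cnt (nat_lit 0)))))) (BT.kid (nat_lit 58) (nat_lit 24) (BT.frm (nat_lit 0) (nat_lit 268) (nat_lit 268) [nat_lit 0] (BT.pln (nat_lit 0) (nat_lit 1) (BT.fix (nat_lit 65793) (BT.dif (nat_lit 1) (nat_lit 0) (BT.br (nat_lit 0) (nat_lit 40) [nat_lit 3] (BT.dead (nat_lit 92) (BT.frm (nat_lit 1) (nat_lit 0x821010c) (nat_lit 721164) [nat_lit 0, nat_lit 5] (BT.pln (nat_lit 0) (nat_lit 8) (BT.img (nat_lit 1) (nat_lit 2) (BT.and (nat_lit 1) (nat_lit 0) (BT.cnt (nat_lit 0)))))) (BT.kid (nat_lit 40) (nat_lit 4) (BT.dif (nat_lit 9) (nat_lit 2) (BT.frm (nat_lit 1) (nat_lit 0x821010c) (nat_lit 0x821010c) [nat_lit 1, nat_lit 6]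 (BT.pln (nat_lit 0) (nat_lit 6) (BT.and (nat_lit 2) (nat_lit 0) (BT.pln (nat_lit 2) (nat_lit 14) (BT.img (nat_lit 1) (nat_lit 0) (BT.img (nat_lit 1) (nat_lit 0) (BT.frm (nat_lit 2) (nat_lit 0x3135310821010c) (nat_lit 0x3135310821010c) [nat_lit 0, nat_lit 7, nat_lit 12] (BT.pln (nat_lit 0) (nat_lit 25) (BT.and (nat_lit 5) (nat_lit 0) (BT.br (nat_lit 0) (nat_lit 15) [nat_lit 5] (BT.kid (nat_lit 15) (nat_lit 2) (BT.pln (nat_lit 9) (nat_lit 11) (BT.and (nat_lit 11) (nat_lit 0) (BT.img (nat_lit 1) (nat_lit 13) (BT.frm (nat_lit 3) (nat_lit 0x3f41333135310821010c) (nat_lit 0x3f41333135310821010c) [nat_lit 3, nat_lit 0, nat_lit 7, nat_lit 14, nat_lit 19] (BT.pln (nat_lit 0) (nat_lit 5) (BT.dif (nat_lit 3) (nat_lit 0) (BT.br (nat_lit 0) (nat_lit 11) [nat_lit 7] (BT.kid (nat_lit 11) (nat_lit 1) (BT.img (nat_lit 1) (nat_lit 0) (BT.img (nat_lit 1) (nat_lit 0) (BT.one (nat_lit 4) (nat_lit 0x453d433f41333135310821010c)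 (nat_lit 0x453d433f41333135310821010c) [nat_lit 0, nat_lit 1, nat_lit 2, nat_lit 9, nat_lit 6, nat_lit 13, nat_lit 20, nat_lit 25]))) BT.nil)))))))) BT.nil)))))))))))) BT.nil))))))) BT.nil))))

theorem vt_c22_cnt : Cnt 120 (grp 120 vG) [v_g334] [v_g334] 0 0 0 0 96 :=
  BT.sound vt_c22_cnt_P Known.nil (t := vt_c22_cnt_t) (d := 0) (by decide +kernel)

theorem vt_c22_ge : 96 ≤ Nat.card (grp 120 vt_c22_K) :=
  Ch.le_card_grp (k := 7) (L := (lab 120 7)) v_hn vt_c22_K_ok (c := (Ch.cons (nat_lit 58) [nat_lit 1] (Ch.cons (nat_lit 40) [nat_lit 3] (Ch.cons (nat_lit 15) [nat_lit 5] (Ch.cons (nat_lit 11) [nat_lit 7] Ch.nil))))) (by decide +kernel)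

theorem vt_c22_eq : (grp 120 vG) ⊓ Subgroup.centralizer {Net.toPerm 120 v_g334} = grp 120 vt_c22_K :=
  cent_eq vt_c22_sym vt_c22_cnt vt_c22_ge

theorem vt_c22_card : Nat.card ↥((grp 120 vG) ⊓ Subgroup.centralizer {Net.toPerm 120 v_g334}) = 96 :=
  card_cent vt_c22_sym vt_c22_cnt vt_c22_ge

theorem vt_c22_ord : orderOf (Net.toPerm 120 v_g334) = 6 :=
  orderOf_net v_hn v_hk v_g334_ok (by decide) (ps := [2, 3]) (by set_option linter.unusedSimpArgs false in simp [Nat.primeFactorsList_ofNat]) (by decide +kernel)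

theorem v_le350 : grp 120 vt_c23_K ≤ grp 120 vo_E0 :=
  grp_le_of_memB v_hn v_hk vo_E0_ok vt_c23_K_ok (ws := [nat_lit 0x2f1b130c01030c, nat_lit 0x231719130909010309, nat_lit 0x2317190f080b01080b01, nat_lit 0x2f2d210f08010705, nat_lit 0x291721080b]) (by decide +kernel)

theorem vt_c23_le : grp 120 vt_c23_K ≤ (grp 120 vG) :=
  (v_le350.trans vT_s0.le)

theorem vt_c23_mem : Net.toPerm 120 v_g346 ∈ (grp 120 vG) :=
  vt_c23_le (toPerm_mem_grp (E := vt_c23_K) (List.Mem.head _))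

theorem vt_c23_sym : Sym 120 (grp 120 vG) [v_g346] vt_c23_K 0 :=
  Sym.of_lab v_hn v_hk (okE_cons.2 ⟨v_g346_ok, okE_nil _⟩) vt_c23_K_ok vt_c23_le (kT := 0) (by decide +kernel)

theorem v_le354 : grp 120 v_V353 ≤ grp 120 v_V198 :=
  grp_le_of_memB v_hn v_hk v_V198_ok v_V353_ok (ws := [nat_lit 2307, nat_lit 0x7050301, nat_lit 591621, nat_lit 1797]) (by decide +kernel)

theorem vT_s92 : Stab 120 (grp 120 vG) [nat_lit 99, nat_lit 37, nat_lit 63, nat_lit 0] v_V353 16 :=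
  Stab.step (k := 7) (L := (lab 120 7)) v_hn vT_s44 v_V353_ok v_le354 (c := (Ch.cons (nat_lit 64) [nat_lit 1] (Ch.cons (nat_lit 107) [nat_lit 3] (Ch.cons (nat_lit 39) [nat_lit 5] (Ch.cons (nat_lit 53) [nat_lit 7] Ch.nil))))) (by decide +kernel)

theorem vT_s93 : Stab 120 (grp 120 vG) [nat_lit 64, nat_lit 99, nat_lit 37, nat_lit 63, nat_lit 0] v_V355 8 :=
  Stab.step (k := 7) (L := (lab 120 7)) v_hn vT_s92 v_V355_ok (grp_mono (List.subset_append_right [v_g19] _)) (c := (Ch.cons (nat_lit 107) [nat_lit 1] (Ch.cons (nat_lit 39) [nat_lit 3] (Ch.cons (nat_lit 53) [nat_lit 5] Ch.nil)))) (by decide +kernel)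

theorem vT_s94 : Stab 120 (grp 120 vG) [nat_lit 107, nat_lit 64, nat_lit 99, nat_lit 37, nat_lit 63, nat_lit 0] v_V356 4 :=
  Stab.step (k := 7) (L := (lab 120 7)) v_hn vT_s93 v_V356_ok (grp_mono (List.subset_append_right [v_g130] _)) (c := (Ch.cons (nat_lit 39) [nat_lit 1] (Ch.cons (nat_lit 53) [nat_lit 3] Ch.nil))) (by decide +kernel)

theorem vT_s95 : Stab 120 (grp 120 vG) [nat_lit 39, nat_lit 107, nat_lit 64, nat_lit 99, nat_lit 37, nat_lit 63, nat_lit 0] v_V357 2 :=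
  Stab.step (k := 7) (L := (lab 120 7)) v_hn vT_s94 v_V357_ok (grp_mono (List.subset_append_right [v_g351] _)) (c := (Ch.cons (nat_lit 53) [nat_lit 1] Ch.nil)) (by decide +kernel)

theorem vT_s96 : Stab 120 (grp 120 vG) [nat_lit 53, nat_lit 39, nat_lit 107, nat_lit 64, nat_lit 99, nat_lit 37, nat_lit 63, nat_lit 0] v_V358 1 :=
  Stab.step (k := 7) (L := (lab 120 7)) v_hn vT_s95 v_V358_ok (grp_mono (List.subset_append_right [v_g352] _)) (c := Ch.nil) (by decide +kernel)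

theorem v_g352_vT : Net.toPerm 120 v_g352 ∈ (grp 120 vG) :=
  vT_s95.le (toPerm_mem_grp (E := v_V357) (List.Mem.head _))

theorem v_g351_vT : Net.toPerm 120 v_g351 ∈ (grp 120 vG) :=
  vT_s94.le (toPerm_mem_grp (E := v_V356) (List.Mem.head _))

noncomputable def vT_s96_O : ℕ := (nat_lit 0xffffffffffffff0000000000000000ffffff00000000ffffffff00000000ff0000ffff0000ffff0000ffff000000ff00ff00ff00ff00ff00ff00ff00f0f0f0f0f0f0f0f0f0f0f0f0f0f0f0ccccccccccccccccccccccccccccccaaaaaaaaaaaaaaaaaaaaaaaaaaaaaa000000000000000000000000000001000000000000008000000000000000000000000000000000002000000000000008000000000000000000000000000000000000010000000000000000000800000000000000000000000000000000000000000000008000000000000000000000000020000000000000)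

theorem vT_s96_F : Frame 120 (grp 120 vG) 8 15 vT_s96_O 1 1 :=
  IsBase.frame vT_s96.isBase (by decide +kernel)

noncomputable def vt_c23_cnt_L : List ℕ := [1, 4, vT_s1_O, 0, 0, 2, 18, vT_s33_O, 0, 0, 3, 9, vT_s44_O, 0, 0, 8, 15, vT_s96_O, 1, 0]

theorem vt_c23_cnt_P : Prob 120 7 (grp 120 vG) vt_c23_cnt_EG [v_g346] [v_g346] vt_c23_K vt_c23_cnt_L 0 0 :=
  Sym.prob v_hn v_hk vt_c23_sym vt_c23_cnt_EG_ok (grp_cons_le v_b_vT (grp_cons_le v_p0_vT (grp_cons_le v_p1_vT (grp_cons_le v_g7_vT (grp_cons_le v_g3_vT (grp_cons_le v_g4_vT (grp_cons_le v_g10_vT (grp_cons_le v_g16_vT (grp_cons_le v_g11_vT (grp_cons_le v_g12_vT (grp_cons_le v_g13_vT (grp_cons_le v_g22_vT (grp_cons_le v_g21_vT (grp_cons_le v_g26_vT (grp_cons_le v_g19_vT (grp_cons_le v_g20_vT (grp_cons_le v_g23_vT (grp_cons_le v_g30_vT (grp_cons_le v_g31_vT (grp_cons_le v_g32_vT (grp_cons_le v_g37_vT (grp_cons_le v_g38_vT (grp_cons_le v_g29_vT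 (grp_cons_le v_u_vT (grp_cons_le v_g168_vT (grp_cons_le v_g169_vT (grp_cons_le v_g92_vT (grp_cons_le v_g170_vT (grp_cons_le v_g100_vT (grp_cons_le v_g117_vT (grp_cons_le v_g171_vT (grp_cons_le v_g352_vT (grp_cons_le v_g351_vT (grp_cons_le v_g130_vT (grp_cons_le v_g196_vT (grp_cons_le v_g197_vT (grp_nil_le _))))))))))))))))))))))))))))))))))))) (Frames.cons vT_s1_F (Frames.cons vT_s33_F (Frames.cons vT_s44_F (Frames.cons vT_s96_F Frames.nil)))) (okE_cons.2 ⟨v_g346_ok, okE_nil _⟩) _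

noncomputable def vt_c23_cnt_t : BT := (BT.fix (nat_lit 257) (BT.fix (nat_lit 1) (BT.dif (nat_lit 1) (nat_lit 0) (BT.br (nat_lit 0) (nat_lit 15) [nat_lit 3] (BT.kid (nat_lit 15) (nat_lit 24) (BT.frm (nat_lit 0) (nat_lit 0x1050104) (nat_lit 0x1050104) [nat_lit 0] (BT.pln (nat_lit 0) (nat_lit 1) (BT.and (nat_lit 3) (nat_lit 0) (BT.br (nat_lit 0) (nat_lit 22) [nat_lit 5] (BT.kid (nat_lit 22) (nat_lit 12) (BT.fix (nat_lit 65793) (BT.dif (nat_lit 3) (nat_lit 0) (BT.dif (nat_lit 0) (nat_lit 9) (BT.frm (nat_lit 1) (nat_lit 0xc0d01050104) (nat_lit 0xc0d01050104) [nat_lit 3, nat_lit 7] (BT.pln (nat_lit 0) (nat_lit 12) (BT.dif (nat_lit 2) (nat_lit 0) (BT.pln (nat_lit 2) (nat_lit 13) (BT.dif (nat_lit 1) (nat_lit 0) (BT.br (nat_lit 0) (nat_lit 103) [nat_lit 7] (BT.kid (nat_lit 103) (nat_lit 2) (BT.dif (nat_lit 19) (nat_lit 8) (BT.pln (nat_lit 6) (nat_lit 6) (BT.and (nat_lit 1) (nat_lit 0) (BT.frm (nat_lit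 2) (nat_lit 0x31330c0d01050104) (nat_lit 0x31330c0d01050104) [nat_lit 3, nat_lit 12, nat_lit 16] (BT.pln (nat_lit 0) (nat_lit 4) (BT.dif (nat_lit 2) (nat_lit 0) (BT.br (nat_lit 0) (nat_lit 32) [nat_lit 9] (BT.kid (nat_lit 32) (nat_lit 1) (BT.pln (nat_lit 12) (nat_lit 11) (BT.dif (nat_lit 0) (nat_lit 3) (BT.pln (nat_lit 5) (nat_lit 5) (BT.dif (nat_lit 1) (nat_lit 0) (BT.br (nat_lit 0) (nat_lit 10) [] (BT.dead (nat_lit 56) (BT.img (nat_lit 1) (nat_lit 0) (BT.img (nat_lit 1) (nat_lit 13) (BT.img (nat_lit 1) (nat_lit 0) (BT.frm (nat_lit 3) (nat_lit 0x3f414331330c0d01050104) (nat_lit 0x3f4331330c0d01050104) [nat_lit 2, nat_lit 3, nat_lit 8, nat_lit 0, nat_lit 1, nat_lit 15, nat_lit 24, nat_lit 28] (BT.pln (nat_lit 0) (nat_lit 8) (BT.img (nat_lit 1) (nat_lit 4) (BT.and (nat_lit 1) (nat_lit 0) (BT.cnt (nat_lit 0))))))))) (BT.kid (nat_lit 10) (nat_lit 1) (BT.img (nat_lit 1) (nat_lit 0) (BT.img (nat_lit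 1) (nat_lit 13) (BT.img (nat_lit 1) (nat_lit 0) (BT.one (nat_lit 3) (nat_lit 0x3f414331330c0d01050104) (nat_lit 0x3f414331330c0d01050104) [nat_lit 2, nat_lit 3, nat_lit 8, nat_lit 0, nat_lit 1, nat_lit 15, nat_lit 24, nat_lit 28])))) BT.nil))))))) BT.nil)))))))) BT.nil)))))))))) BT.nil))))) BT.nil)))))

theorem vt_c23_cnt : Cnt 120 (grp 120 vG) [v_g346] [v_g346] 0 0 0 0 96 :=
  BT.sound vt_c23_cnt_P Known.nil (t := vt_c23_cnt_t) (d := 0) (by decide +kernel)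

theorem vt_c23_ge : 96 ≤ Nat.card (grp 120 vt_c23_K) :=
  Ch.le_card_grp (k := 7) (L := (lab 120 7)) v_hn vt_c23_K_ok (c := (Ch.cons (nat_lit 15) [nat_lit 1, nat_lit 3] (Ch.cons (nat_lit 22) [nat_lit 5] (Ch.cons (nat_lit 103) [nat_lit 7] (Ch.cons (nat_lit 32) [nat_lit 9] Ch.nil))))) (by decide +kernel)

theorem vt_c23_eq : (grp 120 vG) ⊓ Subgroup.centralizer {Net.toPerm 120 v_g346} = grp 120 vt_c23_K :=
  cent_eq vt_c23_sym vt_c23_cnt vt_c23_ge

theorem vt_c23_card : Nat.card ↥((grp 120 vG) ⊓ Subgroup.centralizer {Net.toPerm 120 v_g346}) = 96 :=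
  card_cent vt_c23_sym vt_c23_cnt vt_c23_ge

theorem vt_c23_ord : orderOf (Net.toPerm 120 v_g346) = 6 :=
  orderOf_net v_hn v_hk v_g346_ok (by decide) (ps := [2, 3]) (by set_option linter.unusedSimpArgs false in simp [Nat.primeFactorsList_ofNat]) (by decide +kernel)

theorem v_le362 : grp 120 vt_c24_K ≤ grp 120 vo_E0 :=
  grp_le_of_memB v_hn v_hk vo_E0_ok vt_c24_K_ok (ws := [nat_lit 0x2d2113090d010507, nat_lit 0x2f1f130c010301051b, nat_lit 0x2f2923210f01080b01, nat_lit 0x2d1713080c010b, nat_lit 0x291721080b]) (by decide +kernel)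

theorem vt_c24_le : grp 120 vt_c24_K ≤ (grp 120 vG) :=
  (v_le362.trans vT_s0.le)

theorem vt_c24_mem : Net.toPerm 120 v_g359 ∈ (grp 120 vG) :=
  vt_c24_le (toPerm_mem_grp (E := vt_c24_K) (List.Mem.head _))

theorem vt_c24_sym : Sym 120 (grp 120 vG) [v_g359] vt_c24_K 0 :=
  Sym.of_lab v_hn v_hk (okE_cons.2 ⟨v_g359_ok, okE_nil _⟩) vt_c24_K_ok vt_c24_le (kT := 0) (by decide +kernel)

noncomputable def vt_c24_cnt_L : List ℕ := [1, 4, vT_s1_O, 0, 0, 2, 18, vT_s33_O, 0, 0, 3, 9, vT_s44_O, 0, 0, 8, 15, vT_s96_O, 1, 0]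

theorem vt_c24_cnt_P : Prob 120 7 (grp 120 vG) vt_c24_cnt_EG [v_g359] [v_g359] vt_c24_K vt_c24_cnt_L 0 0 :=
  Sym.prob v_hn v_hk vt_c24_sym vt_c24_cnt_EG_ok (grp_cons_le v_b_vT (grp_cons_le v_p0_vT (grp_cons_le v_p1_vT (grp_cons_le v_g7_vT (grp_cons_le v_g3_vT (grp_cons_le v_g4_vT (grp_cons_le v_g10_vT (grp_cons_le v_g16_vT (grp_cons_le v_g11_vT (grp_cons_le v_g12_vT (grp_cons_le v_g13_vT (grp_cons_le v_g22_vT (grp_cons_le v_g21_vT (grp_cons_le v_g26_vT (grp_cons_le v_g19_vT (grp_cons_le v_g20_vT (grp_cons_le v_g23_vT (grp_cons_le v_g30_vT (grp_cons_le v_g31_vT (grp_cons_le v_g32_vT (grp_cons_le v_g37_vT (grp_cons_le v_g38_vT (grp_cons_le v_g29_vT (grp_cons_le v_u_vT (grp_cons_le v_g168_vT (grp_cons_le v_g169_vT (grp_cons_le v_g92_vT (grp_cons_le v_g170_vT (grp_cons_le v_g100_vT (grp_cons_le v_g117_vT (grp_cons_le v_g171_vT (grp_cons_le v_g352_vT (grp_cons_le v_g351_vT (grp_cons_le v_g130_vT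 (grp_cons_le v_g196_vT (grp_cons_le v_g197_vT (grp_nil_le _))))))))))))))))))))))))))))))))))))) (Frames.cons vT_s1_F (Frames.cons vT_s33_F (Frames.cons vT_s44_F (Frames.cons vT_s96_F Frames.nil)))) (okE_cons.2 ⟨v_g359_ok, okE_nil _⟩) _

noncomputable def vt_c24_cnt_t : BT := (BT.fix (nat_lit 257) (BT.fix (nat_lit 1) (BT.dif (nat_lit 1) (nat_lit 0) (BT.br (nat_lit 0) (nat_lit 15) [nat_lit 1, nat_lit 3] (BT.kid (nat_lit 15) (nat_lit 24) (BT.frm (nat_lit 0) (nat_lit 0x1050104) (nat_lit 0x1050104) [nat_lit 0] (BT.pln (nat_lit 0) (nat_lit 1) (BT.and (nat_lit 3) (nat_lit 0) (BT.br (nat_lit 0) (nat_lit 22) [nat_lit 5] (BT.kid (nat_lit 22) (nat_lit 12) (BT.fix (nat_lit 65793) (BT.dif (nat_lit 3) (nat_lit 0) (BT.dif (nat_lit 0) (nat_lit 9) (BT.frm (nat_lit 1) (nat_lit 0xc0d01050104) (nat_lit 0xc0d01050104) [nat_lit 3, nat_lit 7] (BT.pln (nat_lit 0) (nat_lit 12) (BT.dif (nat_lit 2) (nat_lit 0) (BT.pln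 (nat_lit 2) (nat_lit 13) (BT.dif (nat_lit 1) (nat_lit 0) (BT.br (nat_lit 0) (nat_lit 103) [nat_lit 7] (BT.kid (nat_lit 103) (nat_lit 2) (BT.dif (nat_lit 19) (nat_lit 8) (BT.pln (nat_lit 6) (nat_lit 6) (BT.and (nat_lit 1) (nat_lit 0) (BT.frm (nat_lit 2) (nat_lit 0x31330c0d01050104) (nat_lit 0x31330c0d01050104) [nat_lit 3, nat_lit 12, nat_lit 16] (BT.pln (nat_lit 0) (nat_lit 4) (BT.dif (nat_lit 2) (nat_lit 0) (BT.br (nat_lit 0) (nat_lit 32) [nat_lit 9] (BT.kid (nat_lit 32) (nat_lit 1) (BT.pln (nat_lit 12) (nat_lit 11) (BT.dif (nat_lit 0) (nat_lit 3) (BT.pln (nat_lit 5) (nat_lit 5) (BT.dif (nat_lit 1) (nat_lit 0) (BT.br (nat_lit 0) (nat_lit 10) [] (BT.dead (nat_lit 56) (BT.img (nat_lit 1) (nat_lit 0) (BT.img (nat_lit 1) (nat_lit 0) (BT.img (nat_lit 1) (nat_lit 14) (BT.img (nat_lit 1) (nat_lit 0) (BT.frm (nat_lit 3) (nat_lit 0x3f41434731330c0d01050104) (nat_lit 0x3f434731330c0d01050104) [nat_lit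 2, nat_lit 4, nat_lit 9, nat_lit 1, nat_lit 0, nat_lit 16, nat_lit 25, nat_lit 29] (BT.pln (nat_lit 0) (nat_lit 8) (BT.and (nat_lit 0) (nat_lit 5) (BT.cnt (nat_lit 0))))))))) (BT.kid (nat_lit 10) (nat_lit 1) (BT.img (nat_lit 1) (nat_lit 0) (BT.img (nat_lit 1) (nat_lit 0) (BT.img (nat_lit 1) (nat_lit 14) (BT.img (nat_lit 1) (nat_lit 0) (BT.one (nat_lit 3) (nat_lit 0x3f41434731330c0d01050104) (nat_lit 0x3f41434731330c0d01050104) [nat_lit 2, nat_lit 4, nat_lit 9, nat_lit 1, nat_lit 0, nat_lit 16, nat_lit 25, nat_lit 29]))))) BT.nil))))))) BT.nil)))))))) BT.nil)))))))))) BT.nil))))) BT.nil)))))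

theorem vt_c24_cnt : Cnt 120 (grp 120 vG) [v_g359] [v_g359] 0 0 0 0 96 :=
  BT.sound vt_c24_cnt_P Known.nil (t := vt_c24_cnt_t) (d := 0) (by decide +kernel)

theorem vt_c24_ge : 96 ≤ Nat.card (grp 120 vt_c24_K) :=
  Ch.le_card_grp (k := 7) (L := (lab 120 7)) v_hn vt_c24_K_ok (c := (Ch.cons (nat_lit 15) [nat_lit 1, nat_lit 3] (Ch.cons (nat_lit 22) [nat_lit 5] (Ch.cons (nat_lit 103) [nat_lit 7] (Ch.cons (nat_lit 32) [nat_lit 9] Ch.nil))))) (by decide +kernel)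

theorem vt_c24_eq : (grp 120 vG) ⊓ Subgroup.centralizer {Net.toPerm 120 v_g359} = grp 120 vt_c24_K :=
  cent_eq vt_c24_sym vt_c24_cnt vt_c24_ge

theorem vt_c24_card : Nat.card ↥((grp 120 vG) ⊓ Subgroup.centralizer {Net.toPerm 120 v_g359}) = 96 :=
  card_cent vt_c24_sym vt_c24_cnt vt_c24_ge

theorem vt_c24_ord : orderOf (Net.toPerm 120 v_g359) = 6 :=
  orderOf_net v_hn v_hk v_g359_ok (by decide) (ps := [2, 3]) (by set_option linter.unusedSimpArgs false in simp [Nat.primeFactorsList_ofNat]) (by decide +kernel)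

theorem v_le367 : grp 120 vt_c25_K ≤ grp 120 vo_E0 :=
  grp_le_of_memB v_hn v_hk vo_E0_ok vt_c25_K_ok (ws := [nat_lit 0x2f2921130a, nat_lit 0x2f2d23170f090e01080b01, nat_lit 0x2f2d231f0913, nat_lit 0x2f2d2923210f080b, nat_lit 0x2d2923210f080b]) (by decide +kernel)

theorem vt_c25_le : grp 120 vt_c25_K ≤ (grp 120 vG) :=
  (v_le367.trans vT_s0.le)

theorem vt_c25_mem : Net.toPerm 120 v_g363 ∈ (grp 120 vG) :=
  vt_c25_le (toPerm_mem_grp (E := vt_c25_K) (List.Mem.head _))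

theorem vt_c25_sym : Sym 120 (grp 120 vG) [v_g363] vt_c25_K 0 :=
  Sym.of_lab v_hn v_hk (okE_cons.2 ⟨v_g363_ok, okE_nil _⟩) vt_c25_K_ok vt_c25_le (kT := 0) (by decide +kernel)

theorem v_le370 : grp 120 v_V369 ≤ grp 120 v_V184 :=
  grp_le_of_memB v_hn v_hk v_V184_ok v_V369_ok (ws := [nat_lit 1281, nat_lit 328449]) (by decide +kernel)

theorem vT_s97 : Stab 120 (grp 120 vG) [nat_lit 107, nat_lit 116, nat_lit 87, nat_lit 38, nat_lit 63, nat_lit 0] v_V369 4 :=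
  Stab.step (k := 7) (L := (lab 120 7)) v_hn vT_s40 v_V369_ok v_le370 (c := (Ch.cons (nat_lit 68) [nat_lit 1] (Ch.cons (nat_lit 85) [nat_lit 3] Ch.nil))) (by decide +kernel)

theorem vT_s98 : Stab 120 (grp 120 vG) [nat_lit 68, nat_lit 107, nat_lit 116, nat_lit 87, nat_lit 38, nat_lit 63, nat_lit 0] v_V371 2 :=
  Stab.step (k := 7) (L := (lab 120 7)) v_hn vT_s97 v_V371_ok (grp_mono (List.subset_append_right [v_g368] _)) (c := (Ch.cons (nat_lit 85) [nat_lit 1] Ch.nil)) (by decide +kernel)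

theorem vT_s99 : Stab 120 (grp 120 vG) [nat_lit 85, nat_lit 68, nat_lit 107, nat_lit 116, nat_lit 87, nat_lit 38, nat_lit 63, nat_lit 0] v_V372 1 :=
  Stab.step (k := 7) (L := (lab 120 7)) v_hn vT_s98 v_V372_ok (grp_mono (List.subset_append_right [v_g171] _)) (c := Ch.nil) (by decide +kernel)

theorem v_g368_vT : Net.toPerm 120 v_g368 ∈ (grp 120 vG) :=
  vT_s97.le (toPerm_mem_grp (E := v_V369) (List.Mem.head _))

noncomputable def vT_s99_O : ℕ := (nat_lit 0xffffffffffffff0000000000000000ffffff00000000ffffffff00000000ff0000ffff0000ffff0000ffff000000ff00ff00ff00ff00ff00ff00ff00f0f0f0f0f0f0f0f0f0f0f0f0f0f0f0ccccccccccccccccccccccccccccccaaaaaaaaaaaaaaaaaaaaaaaaaaaaaa000000000000000000000000000001000000000000008000000000000000000000000000000000004000000000000000008000000000000000000000100000000000000000000000000000000800000000000000000000000000000000000000100000000000000000000000002000000000000000000000)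

theorem vT_s99_F : Frame 120 (grp 120 vG) 8 15 vT_s99_O 1 1 :=
  IsBase.frame vT_s99.isBase (by decide +kernel)

noncomputable def vt_c25_cnt_L : List ℕ := [1, 4, vT_s1_O, 0, 0, 2, 18, vT_s33_O, 0, 0, 3, 40, vT_s34_O, 0, 0, 4, 11, vT_s35_O, 0, 0, 8, 15, vT_s99_O, 1, 0]

theorem vt_c25_cnt_P : Prob 120 7 (grp 120 vG) vt_c25_cnt_EG [v_g363] [v_g363] vt_c25_K vt_c25_cnt_L 0 0 :=
  Sym.prob v_hn v_hk vt_c25_sym vt_c25_cnt_EG_ok (grp_cons_le v_b_vT (grp_cons_le v_p0_vT (grp_cons_le v_p1_vT (grp_cons_le v_g7_vT (grp_cons_le v_g3_vT (grp_cons_le v_g4_vT (grp_cons_le v_g10_vT (grp_cons_le v_g16_vT (grp_cons_le v_g11_vT (grp_cons_le v_g12_vT (grp_cons_le v_g13_vT (grp_cons_le v_g22_vT (grp_cons_le v_g21_vT (grp_cons_le v_g26_vT (grp_cons_le v_g19_vT (grp_cons_le v_g20_vT (grp_cons_le v_g23_vT (grp_cons_le v_g30_vT (grp_cons_le v_g31_vT (grp_cons_le v_g32_vT (grp_cons_le v_g37_vT (grp_cons_le v_g38_vT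 (grp_cons_le v_g29_vT (grp_cons_le v_u_vT (grp_cons_le v_g168_vT (grp_cons_le v_g169_vT (grp_cons_le v_g92_vT (grp_cons_le v_g170_vT (grp_cons_le v_g100_vT (grp_cons_le v_g117_vT (grp_cons_le v_g171_vT (grp_cons_le v_g368_vT (grp_cons_le v_g113_vT (grp_nil_le _)))))))))))))))))))))))))))))))))) (Frames.cons vT_s1_F (Frames.cons vT_s33_F (Frames.cons vT_s34_F (Frames.cons vT_s35_F (Frames.cons vT_s99_F Frames.nil))))) (okE_cons.2 ⟨v_g363_ok, okE_nil _⟩) _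

noncomputable def vt_c25_cnt_t : BT := (BT.fix (nat_lit 257) (BT.fix (nat_lit 1) (BT.dif (nat_lit 1) (nat_lit 0) (BT.br (nat_lit 0) (nat_lit 3) [nat_lit 1] (BT.dead (nat_lit 90) (BT.frm (nat_lit 0) (nat_lit 0x10b0103) (nat_lit 0x10c0109) [nat_lit 0] (BT.pln (nat_lit 0) (nat_lit 1) (BT.and (nat_lit 3) (nat_lit 0) (BT.br (nat_lit 0) (nat_lit 90) [nat_lit 769] (BT.dead (nat_lit 3) (BT.frm (nat_lit 1) (nat_lit 0xb0b010b0103) (nat_lit 0xa08010c0109) [nat_lit 0, nat_lit 4] (BT.pln (nat_lit 0) (nat_lit 13) (BT.and (nat_lit 4) (nat_lit 0) (BT.br (nat_lit 0) (nat_lit 63) [nat_lit 6] (BT.dead (nat_lit 4) (BT.img (nat_lit 1) (nat_lit 0) (BT.frm (nat_lit 3) (nat_lit 0x33353135310b0b010b0103) (nat_lit 0x3135310a08010c0109) [nat_lit 0, nat_lit 1, nat_lit 5, nat_lit 9] (BT.pln (nat_lit 0) (nat_lit 4) (BT.fix (nat_lit 65793) (BT.and (nat_lit 1) (nat_lit 0) (BT.cnt (nat_lit 0))))))) (BT.dead (nat_lit 64)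 (BT.img (nat_lit 1) (nat_lit 0) (BT.frm (nat_lit 3) (nat_lit 0x33353135310b0b010b0103) (nat_lit 0x33310a08010c0109) [nat_lit 0, nat_lit 1, nat_lit 5, nat_lit 9] (BT.pln (nat_lit 0) (nat_lit 4) (BT.fix (nat_lit 65793) (BT.and (nat_lit 1) (nat_lit 0) (BT.cnt (nat_lit 0))))))) BT.nil)))))) BT.nil))))) (BT.kid (nat_lit 3) (nat_lit 24) (BT.frm (nat_lit 0) (nat_lit 0x10b0103) (nat_lit 0x10b0103) [nat_lit 0] (BT.pln (nat_lit 0) (nat_lit 1) (BT.and (nat_lit 3) (nat_lit 0) (BT.br (nat_lit 0) (nat_lit 90) [nat_lit 3] (BT.kid (nat_lit 90) (nat_lit 12) (BT.frm (nat_lit 1) (nat_lit 0xb0b010b0103) (nat_lit 0xb0b010b0103) [nat_lit 0, nat_lit 4] (BT.pln (nat_lit 0) (nat_lit 13) (BT.and (nat_lit 4) (nat_lit 0) (BT.br (nat_lit 0) (nat_lit 63) [nat_lit 5] (BT.dead (nat_lit 55) (BT.img (nat_lit 1) (nat_lit 0) (BT.frm (nat_lit 3) (nat_lit 0x33353135310b0b010b0103) (nat_lit 0x333133350b0b010b0103) [nat_lit 0, nat_lit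 1, nat_lit 5, nat_lit 9] (BT.pln (nat_lit 0) (nat_lit 4) (BT.frm (nat_lit 2) (nat_lit 0x3135310b0b010b0103) (nat_lit 0x3133350b0b010b0103) [nat_lit 3, nat_lit 7, nat_lit 11] (BT.pln (nat_lit 0) (nat_lit 32) (BT.img (nat_lit 1) (nat_lit 0) (BT.img (nat_lit 1) (nat_lit 0) (BT.and (nat_lit 4) (nat_lit 0) (BT.cnt (nat_lit 0)))))))))) (BT.kid (nat_lit 63) (nat_lit 4) (BT.frm (nat_lit 2) (nat_lit 0x3135310b0b010b0103) (nat_lit 0x3135310b0b010b0103) [nat_lit 0, nat_lit 4, nat_lit 8] (BT.pln (nat_lit 0) (nat_lit 25) (BT.fix (nat_lit 65793) (BT.dif (nat_lit 1) (nat_lit 0) (BT.br (nat_lit 0) (nat_lit 76) [nat_lit 7] (BT.kid (nat_lit 76) (nat_lit 2) (BT.dif (nat_lit 11) (nat_lit 2) (BT.pln (nat_lit 5) (nat_lit 15) (BT.and (nat_lit 1) (nat_lit 0) (BT.br (nat_lit 0) (nat_lit 78) [nat_lit 9] (BT.kid (nat_lit 78) (nat_lit 1) (BT.img (nat_lit 1) (nat_lit 4) (BT.img (nat_lit 1) (nat_lit 0) (BT.img (nat_lit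 1) (nat_lit 11) (BT.one (nat_lit 4) (nat_lit 0x3f373933353135310b0b010b0103) (nat_lit 0x3f373933353135310b0b010b0103) [nat_lit 3, nat_lit 1, nat_lit 2, nat_lit 7, nat_lit 0, nat_lit 12, nat_lit 16, nat_lit 20])))) BT.nil))))) BT.nil)))))) BT.nil)))))) BT.nil))))) BT.nil))))))

theorem vt_c25_cnt : Cnt 120 (grp 120 vG) [v_g363] [v_g363] 0 0 0 0 48 :=
  BT.sound vt_c25_cnt_P Known.nil (t := vt_c25_cnt_t) (d := 0) (by decide +kernel)

theorem vt_c25_ge : 48 ≤ Nat.card (grp 120 vt_c25_K) :=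
  Ch.le_card_grp (k := 7) (L := (lab 120 7)) v_hn vt_c25_K_ok (c := (Ch.cons (nat_lit 3) [nat_lit 1] (Ch.cons (nat_lit 90) [nat_lit 3] (Ch.cons (nat_lit 63) [nat_lit 5] (Ch.cons (nat_lit 76) [nat_lit 7] (Ch.cons (nat_lit 78) [nat_lit 9] Ch.nil)))))) (by decide +kernel)

theorem vt_c25_eq : (grp 120 vG) ⊓ Subgroup.centralizer {Net.toPerm 120 v_g363} = grp 120 vt_c25_K :=
  cent_eq vt_c25_sym vt_c25_cnt vt_c25_ge

theorem vt_c25_card : Nat.card ↥((grp 120 vG) ⊓ Subgroup.centralizer {Net.toPerm 120 v_g363}) = 48 :=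
  card_cent vt_c25_sym vt_c25_cnt vt_c25_ge

theorem vt_c25_ord : orderOf (Net.toPerm 120 v_g363) = 6 :=
  orderOf_net v_hn v_hk v_g363_ok (by decide) (ps := [2, 3]) (by set_option linter.unusedSimpArgs false in simp [Nat.primeFactorsList_ofNat]) (by decide +kernel)

theorem v_le375 : grp 120 vt_c26_K ≤ grp 120 vo_E0 :=
  grp_le_of_memB v_hn v_hk vo_E0_ok vt_c26_K_ok (ws := [nat_lit 0x2f2d23190d080801070103, nat_lit 0x2d29230f091b010c0109, nat_lit 0x2d231b090e0104010c, nat_lit 0x2f2d291f0f080b]) (by decide +kernel)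

theorem vt_c26_le : grp 120 vt_c26_K ≤ (grp 120 vG) :=
  (v_le375.trans vT_s0.le)

theorem vt_c26_mem : Net.toPerm 120 v_g373 ∈ (grp 120 vG) :=
  vt_c26_le (toPerm_mem_grp (E := vt_c26_K) (List.Mem.head _))

theorem vt_c26_sym : Sym 120 (grp 120 vG) [v_g373] vt_c26_K 0 :=
  Sym.of_lab v_hn v_hk (okE_cons.2 ⟨v_g373_ok, okE_nil _⟩) vt_c26_K_ok vt_c26_le (kT := 0) (by decide +kernel)

theorem v_le379 : grp 120 v_V378 ≤ grp 120 v_V174 :=
  grp_le_of_memB v_hn v_hk v_V174_ok v_V378_ok (ws := [nat_lit 2819, nat_lit 591621, nat_lit 11, nat_lit 2309]) (by decide +kernel)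

theorem vT_s100 : Stab 120 (grp 120 vG) [nat_lit 53, nat_lit 38, nat_lit 63, nat_lit 0] v_V378 16 :=
  Stab.step (k := 7) (L := (lab 120 7)) v_hn vT_s34 v_V378_ok v_le379 (c := (Ch.cons (nat_lit 87) [nat_lit 1] (Ch.cons (nat_lit 7) [nat_lit 3] (Ch.cons (nat_lit 113) [nat_lit 5] (Ch.cons (nat_lit 59) [nat_lit 7] Ch.nil))))) (by decide +kernel)

theorem vT_s101 : Stab 120 (grp 120 vG) [nat_lit 87, nat_lit 53, nat_lit 38, nat_lit 63, nat_lit 0] v_V380 8 :=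
  Stab.step (k := 7) (L := (lab 120 7)) v_hn vT_s100 v_V380_ok (grp_mono (List.subset_append_right [v_g118] _)) (c := (Ch.cons (nat_lit 7) [nat_lit 1] (Ch.cons (nat_lit 113) [nat_lit 3] (Ch.cons (nat_lit 59) [nat_lit 5] Ch.nil)))) (by decide +kernel)

theorem vT_s102 : Stab 120 (grp 120 vG) [nat_lit 7, nat_lit 87, nat_lit 53, nat_lit 38, nat_lit 63, nat_lit 0] v_V381 4 :=
  Stab.step (k := 7) (L := (lab 120 7)) v_hn vT_s101 v_V381_ok (grp_mono (List.subset_append_right [v_g376] _)) (c := (Ch.cons (nat_lit 113) [nat_lit 1] (Ch.cons (nat_lit 59) [nat_lit 3] Ch.nil))) (by decide +kernel)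

theorem vT_s103 : Stab 120 (grp 120 vG) [nat_lit 113, nat_lit 7, nat_lit 87, nat_lit 53, nat_lit 38, nat_lit 63, nat_lit 0] v_V382 2 :=
  Stab.step (k := 7) (L := (lab 120 7)) v_hn vT_s102 v_V382_ok (grp_mono (List.subset_append_right [v_g171] _)) (c := (Ch.cons (nat_lit 59) [nat_lit 1] Ch.nil)) (by decide +kernel)

theorem vT_s104 : Stab 120 (grp 120 vG) [nat_lit 59, nat_lit 113, nat_lit 7, nat_lit 87, nat_lit 53, nat_lit 38, nat_lit 63, nat_lit 0] v_V383 1 :=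
  Stab.step (k := 7) (L := (lab 120 7)) v_hn vT_s103 v_V383_ok (grp_mono (List.subset_append_right [v_g377] _)) (c := Ch.nil) (by decide +kernel)

theorem v_g376_vT : Net.toPerm 120 v_g376 ∈ (grp 120 vG) :=
  vT_s100.le (toPerm_mem_grp (E := v_V378) (List.Mem.tail _ (List.Mem.head _)))

theorem v_g377_vT : Net.toPerm 120 v_g377 ∈ (grp 120 vG) :=
  vT_s100.le (toPerm_mem_grp (E := v_V378) (List.Mem.tail _ (List.Mem.tail _ (List.Mem.tail _ (List.Mem.head _)))))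

noncomputable def vT_s104_O : ℕ := (nat_lit 0xffffffffffffff0000000000000000ffffff00000000ffffffff00000000ff0000ffff0000ffff0000ffff000000ff00ff00ff00ff00ff00ff00ff00f0f0f0f0f0f0f0f0f0f0f0f0f0f0f0ccccccccccccccccccccccccccccccaaaaaaaaaaaaaaaaaaaaaaaaaaaaaa000000000000000000000000000001000000000000008000000000000000000000000000000000004000000000000000000000000020000000000000000000008000000000000000000000000000000000000000000000000080020000000000000000000000000000000000000000000800000000000000)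

theorem vT_s104_F : Frame 120 (grp 120 vG) 8 15 vT_s104_O 1 1 :=
  IsBase.frame vT_s104.isBase (by decide +kernel)

noncomputable def vT_s101_O : ℕ := (nat_lit 0x8004910003000000000000000000fc27134c0fb8044680e11092201a620358a8224004fe6edaff95d2201800be46aa206040bf7ed5e00a2ccc826241e1e5ac2a04b6570f1f30bc826762f9d1391b6580a4788899be2b6b62d0356515366172dc25c65583a65756a8000000000000000000000000000001000000000000008000000000000000000000000000000000004000000000000000000000000020000000000000000000008000000000000000000000)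

theorem vT_s101_F : Frame 120 (grp 120 vG) 5 12 vT_s101_O 0 1 :=
  Stab.frame v_hn vT_s101 (by decide +kernel)

noncomputable def vt_c26_cnt_L : List ℕ := [2, 18, vT_s33_O, 0, 0, 3, 40, vT_s34_O, 0, 0, 5, 12, vT_s101_O, 0, 0, 8, 15, vT_s104_O, 1, 0]

theorem vt_c26_cnt_P : Prob 120 7 (grp 120 vG) vt_c26_cnt_EG [v_g373] [v_g373] vt_c26_K vt_c26_cnt_L 0 0 :=
  Sym.prob v_hn v_hk vt_c26_sym vt_c26_cnt_EG_ok (grp_cons_le v_g7_vT (grp_cons_le v_g3_vT (grp_cons_le v_g4_vT (grp_cons_le v_g10_vT (grp_cons_le v_g16_vT (grp_cons_le v_g11_vT (grp_cons_le v_g12_vT (grp_cons_le v_g13_vT (grp_cons_le v_g22_vT (grp_cons_le v_g21_vT (grp_cons_le v_g26_vT (grp_cons_le v_g19_vT (grp_cons_le v_g20_vT (grp_cons_le v_g23_vT (grp_cons_le v_g30_vT (grp_cons_le v_g31_vT (grp_cons_le v_g32_vT (grp_cons_le v_g37_vT (grp_cons_le v_g38_vT (grp_cons_le v_g29_vT (grp_cons_le v_u_vT (grp_cons_le v_b_vT (grp_cons_le v_p0_vT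 (grp_cons_le v_p1_vT (grp_cons_le v_g168_vT (grp_cons_le v_g169_vT (grp_cons_le v_g92_vT (grp_cons_le v_g170_vT (grp_cons_le v_g100_vT (grp_cons_le v_g117_vT (grp_cons_le v_g171_vT (grp_cons_le v_g118_vT (grp_cons_le v_g376_vT (grp_cons_le v_g377_vT (grp_nil_le _))))))))))))))))))))))))))))))))))) (Frames.cons vT_s33_F (Frames.cons vT_s34_F (Frames.cons vT_s101_F (Frames.cons vT_s104_F Frames.nil)))) (okE_cons.2 ⟨v_g373_ok, okE_nil _⟩) _

noncomputable def vt_c26_cnt_t : BT := (BT.fix (nat_lit 257) (BT.fix (nat_lit 1) (BT.dif (nat_lit 1) (nat_lit 0) (BT.br (nat_lit 0) (nat_lit 18) [nat_lit 1, nat_lit 3] (BT.kid (nat_lit 18) (nat_lit 6) (BT.img (nat_lit 1) (nat_lit 0) (BT.frm (nat_lit 0) (nat_lit 0x10d2b042b2e) (nat_lit 0x10d2b042b2e) [nat_lit 0, nat_lit 1] (BT.pln (nat_lit 0) (nat_lit 13) (BT.br (nat_lit 0) (nat_lit 103) [nat_lit 5] (BT.dead (nat_lit 65) (BT.img (nat_lit 1) (nat_lit 0) (BT.img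 (nat_lit 1) (nat_lit 0) (BT.frm (nat_lit 2) (nat_lit 0x3f313531010d2b042b2e) (nat_lit 0x3f37010d2b042b2e) [nat_lit 0, nat_lit 1, nat_lit 2, nat_lit 5, nat_lit 6] (BT.pln (nat_lit 0) (nat_lit 5) (BT.img (nat_lit 1) (nat_lit 2) (BT.img (nat_lit 1) (nat_lit 0) (BT.and (nat_lit 2) (nat_lit 0) (BT.cnt (nat_lit 0))))))))) (BT.kid (nat_lit 103) (nat_lit 2) (BT.frm (nat_lit 1) (nat_lit 0x313531010d2b042b2e) (nat_lit 0x313531010d2b042b2e) [nat_lit 0, nat_lit 3, nat_lit 4] (BT.pln (nat_lit 0) (nat_lit 22) (BT.pln (nat_lit 1) (nat_lit 18) (BT.img (nat_lit 1) (nat_lit 0) (BT.dif (nat_lit 2) (nat_lit 0) (BT.br (nat_lit 0) (nat_lit 0) [] (BT.dead (nat_lit 57) (BT.pln (nat_lit 5) (nat_lit 15) (BT.pln (nat_lit 6) (nat_lit 23) (BT.img (nat_lit 1) (nat_lit 0) (BT.dif (nat_lit 2) (nat_lit 0) (BT.br (nat_lit 0) (nat_lit 79) [nat_lit 7] (BT.dead (nat_lit 79) (BT.img (nat_lit 1) (nat_lit 11) (BT.img (nat_lit 1)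 (nat_lit 0) (BT.img (nat_lit 1) (nat_lit 0) (BT.frm (nat_lit 3) (nat_lit 0x433f313531010d2b042b2e) (nat_lit 0x3d3f313531010d2b042b2e) [nat_lit 3, nat_lit 8, nat_lit 0, nat_lit 1, nat_lit 2, nat_lit 14, nat_lit 17, nat_lit 18] (BT.pln (nat_lit 0) (nat_lit 8) (BT.img (nat_lit 1) (nat_lit 5) (BT.and (nat_lit 1) (nat_lit 0) (BT.cnt (nat_lit 0))))))))) BT.nil)))))) (BT.kid (nat_lit 0) (nat_lit 2) (BT.pln (nat_lit 5) (nat_lit 15) (BT.pln (nat_lit 6) (nat_lit 23) (BT.img (nat_lit 1) (nat_lit 0) (BT.dif (nat_lit 2) (nat_lit 0) (BT.br (nat_lit 0) (nat_lit 79) [nat_lit 7] (BT.kid (nat_lit 79) (nat_lit 1) (BT.img (nat_lit 1) (nat_lit 11) (BT.img (nat_lit 1) (nat_lit 0) (BT.img (nat_lit 1) (nat_lit 0) (BT.one (nat_lit 3) (nat_lit 0x433f313531010d2b042b2e) (nat_lit 0x433f313531010d2b042b2e) [nat_lit 3, nat_lit 8, nat_lit 0, nat_lit 1, nat_lit 2, nat_lit 14, nat_lit 17, nat_lit 18])))) BT.nil)))))) BT.nil))))))))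 BT.nil)))))) BT.nil)))))

theorem vt_c26_cnt : Cnt 120 (grp 120 vG) [v_g373] [v_g373] 0 0 0 0 24 :=
  BT.sound vt_c26_cnt_P Known.nil (t := vt_c26_cnt_t) (d := 0) (by decide +kernel)

theorem vt_c26_ge : 24 ≤ Nat.card (grp 120 vt_c26_K) :=
  Ch.le_card_grp (k := 7) (L := (lab 120 7)) v_hn vt_c26_K_ok (c := (Ch.cons (nat_lit 18) [nat_lit 1, nat_lit 3] (Ch.cons (nat_lit 103) [nat_lit 5] (Ch.cons (nat_lit 79) [nat_lit 7] Ch.nil)))) (by decide +kernel)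

theorem vt_c26_eq : (grp 120 vG) ⊓ Subgroup.centralizer {Net.toPerm 120 v_g373} = grp 120 vt_c26_K :=
  cent_eq vt_c26_sym vt_c26_cnt vt_c26_ge

theorem vt_c26_card : Nat.card ↥((grp 120 vG) ⊓ Subgroup.centralizer {Net.toPerm 120 v_g373}) = 24 :=
  card_cent vt_c26_sym vt_c26_cnt vt_c26_ge

theorem vt_c26_ord : orderOf (Net.toPerm 120 v_g373) = 6 :=
  orderOf_net v_hn v_hk v_g373_ok (by decide) (ps := [2, 3]) (by set_option linter.unusedSimpArgs false in simp [Nat.primeFactorsList_ofNat]) (by decide +kernel)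

theorem v_le386 : grp 120 vt_c27_K ≤ grp 120 vo_E0 :=
  grp_le_of_memB v_hn v_hk vo_E0_ok vt_c27_K_ok (ws := [nat_lit 0x2f23190d080801030121, nat_lit 0x2f170f0c010a]) (by decide +kernel)

theorem vt_c27_le : grp 120 vt_c27_K ≤ (grp 120 vG) :=
  (v_le386.trans vT_s0.le)

theorem vt_c27_mem : Net.toPerm 120 v_g384 ∈ (grp 120 vG) :=
  vt_c27_le (toPerm_mem_grp (E := vt_c27_K) (List.Mem.head _))

theorem vt_c27_sym : Sym 120 (grp 120 vG) [v_g384] vt_c27_K 0 :=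
  Sym.of_lab v_hn v_hk (okE_cons.2 ⟨v_g384_ok, okE_nil _⟩) vt_c27_K_ok vt_c27_le (kT := 0) (by decide +kernel)

theorem v_le390 : grp 120 v_V389 ≤ grp 120 v_V78 :=
  grp_le_of_memB v_hn v_hk v_V78_ok v_V389_ok (ws := [nat_lit 0x23211d0d, nat_lit 8989, nat_lit 0x2321170b03, nat_lit 0x2321170b0d03, nat_lit 0x23211d170d]) (by decide +kernel)

theorem vT_s105 : Stab 120 (grp 120 vG) [nat_lit 115, nat_lit 96, nat_lit 0] v_V389 32 :=
  Stab.step (k := 7) (L := (lab 120 7)) v_hn vT_s2 v_V389_ok v_le390 (c := (Ch.cons (nat_lit 109) [nat_lit 1] (Ch.cons (nat_lit 41) [nat_lit 3] (Ch.cons (nat_lit 10) [nat_lit 5] (Ch.cons (nat_lit 26) [nat_lit 7] (Ch.cons (nat_lit 77) [nat_lit 9] Ch.nil)))))) (by decide +kernel)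

theorem vT_s106 : Stab 120 (grp 120 vG) [nat_lit 109, nat_lit 115, nat_lit 96, nat_lit 0] v_V391 16 :=
  Stab.step (k := 7) (L := (lab 120 7)) v_hn vT_s105 v_V391_ok (grp_mono (List.subset_append_right [v_g387] _)) (c := (Ch.cons (nat_lit 41) [nat_lit 1] (Ch.cons (nat_lit 10) [nat_lit 3] (Ch.cons (nat_lit 26) [nat_lit 5] (Ch.cons (nat_lit 77) [nat_lit 7] Ch.nil))))) (by decide +kernel)

theorem vT_s107 : Stab 120 (grp 120 vG) [nat_lit 41, nat_lit 109, nat_lit 115, nat_lit 96, nat_lit 0] v_V392 8 :=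
  Stab.step (k := 7) (L := (lab 120 7)) v_hn vT_s106 v_V392_ok (grp_mono (List.subset_append_right [v_g143] _)) (c := (Ch.cons (nat_lit 10) [nat_lit 1] (Ch.cons (nat_lit 26) [nat_lit 3] (Ch.cons (nat_lit 77) [nat_lit 5] Ch.nil)))) (by decide +kernel)

theorem vT_s108 : Stab 120 (grp 120 vG) [nat_lit 10, nat_lit 41, nat_lit 109, nat_lit 115, nat_lit 96, nat_lit 0] v_V393 4 :=
  Stab.step (k := 7) (L := (lab 120 7)) v_hn vT_s107 v_V393_ok (grp_mono (List.subset_append_right [v_g217] _)) (c := (Ch.cons (nat_lit 26) [nat_lit 1] (Ch.cons (nat_lit 77) [nat_lit 3] Ch.nil))) (by decide +kernel)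

theorem vT_s109 : Stab 120 (grp 120 vG) [nat_lit 26, nat_lit 10, nat_lit 41, nat_lit 109, nat_lit 115, nat_lit 96, nat_lit 0] v_V394 2 :=
  Stab.step (k := 7) (L := (lab 120 7)) v_hn vT_s108 v_V394_ok (grp_mono (List.subset_append_right [v_g388] _)) (c := (Ch.cons (nat_lit 77) [nat_lit 1] Ch.nil)) (by decide +kernel)

theorem vT_s110 : Stab 120 (grp 120 vG) [nat_lit 77, nat_lit 26, nat_lit 10, nat_lit 41, nat_lit 109, nat_lit 115, nat_lit 96, nat_lit 0] v_V395 1 :=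
  Stab.step (k := 7) (L := (lab 120 7)) v_hn vT_s109 v_V395_ok (grp_mono (List.subset_append_right [v_g216] _)) (c := Ch.nil) (by decide +kernel)

theorem v_g387_vT : Net.toPerm 120 v_g387 ∈ (grp 120 vG) :=
  vT_s105.le (toPerm_mem_grp (E := v_V389) (List.Mem.head _))

theorem v_g388_vT : Net.toPerm 120 v_g388 ∈ (grp 120 vG) :=
  vT_s105.le (toPerm_mem_grp (E := v_V389) (List.Mem.tail _ (List.Mem.tail _ (List.Mem.tail _ (List.Mem.head _)))))

noncomputable def vT_s110_O : ℕ := (nat_lit 0xffffffffffffff0000000000000000ffffff00000000ffffffff00000000ff0000ffff0000ffff0000ffff000000ff00ff00ff00ff00ff00ff00ff00f0f0f0f0f0f0f0f0f0f0f0f0f0f0f0ccccccccccccccccccccccccccccccaaaaaaaaaaaaaaaaaaaaaaaaaaaaaa000000000000000000000000000001000001000000000000000000000000080000000000000000000000000000002000000000000000000000000000000000000000000000020000000000000000000000000000000000000400000000000000000000000004000000000000000020000000000000000000)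

theorem vT_s110_F : Frame 120 (grp 120 vG) 8 15 vT_s110_O 1 1 :=
  IsBase.frame vT_s110.isBase (by decide +kernel)

noncomputable def vT_s109_O : ℕ := (nat_lit 0xb219dc35b107140000000000000000000000000000035f9da92e79f90000f65fc2480eb8835f9da8000000a39c81803c37c0002b7f6255ee7000a39c76163ea87b446b70fc412d0bc6e300350f3a9474b363ac9395234b30b8d0670cb45b25ca7acac9318ba8ac92a8000000000000000000000000000001000001000000000000000000000000080000000000000000000000000000002000000000000000000000000000000000000000000000020000000000000000000000000000000000000400000000000000000000000004000000)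

theorem vT_s109_F : Frame 120 (grp 120 vG) 7 14 vT_s109_O 0 1 :=
  Stab.frame v_hn vT_s109 (by decide +kernel)

noncomputable def vT_s106_O : ℕ := (nat_lit 0xf647be6dcfbabe6e78680000100008f59f129e2b0540120f1fc77ed0000881d1a06684fff3830a9fed002ef400b50d4c51e4ff017c829708783d8bc843ca628f64b0a862d694e8e73a6338b15a0a771ecc98c8edd284d4b752a4000000000000000000000000000001000001000000000000000000000000080000000000000000000000000000002000000000000000000000000000)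

theorem vT_s106_F : Frame 120 (grp 120 vG) 4 10 vT_s106_O 0 1 :=
  Stab.frame v_hn vT_s106 (by decide +kernel)

noncomputable def vT_s105_O : ℕ := (nat_lit 0xf767be6dcfbabe6e78780000000000f4bf129e2f8540120f8fc77ee0000080d9a063807ff3c38a0fed400ef600f4464e5ae07f893c460788bc0fc9e036b568f46a7c30aa33466c339d319832a3f684f13367351a256b2b48ad54000000000000000000000000000001000001000000000000000000000000080000000000000000000000000000)

theorem vT_s105_F : Frame 120 (grp 120 vG) 3 9 vT_s105_O 0 1 :=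
  Stab.frame v_hn vT_s105 (by decide +kernel)

noncomputable def vt_c27_cnt_L : List ℕ := [1, 4, vT_s1_O, 0, 0, 2, 13, vT_s2_O, 0, 0, 3, 9, vT_s105_O, 0, 0, 4, 10, vT_s106_O, 0, 0, 7, 14, vT_s109_O, 0, 0, 8, 15, vT_s110_O, 1, 0]

theorem vt_c27_cnt_P : Prob 120 7 (grp 120 vG) vt_c27_cnt_EG [v_g384] [v_g384] vt_c27_K vt_c27_cnt_L 0 0 :=
  Sym.prob v_hn v_hk vt_c27_sym vt_c27_cnt_EG_ok (grp_cons_le v_b_vT (grp_cons_le v_p0_vT (grp_cons_le v_p1_vT (grp_cons_le v_g7_vT (grp_cons_le v_g3_vT (grp_cons_le v_g4_vT (grp_cons_le v_g10_vT (grp_cons_le v_g16_vT (grp_cons_le v_g11_vT (grp_cons_le v_g12_vT (grp_cons_le v_g13_vT (grp_cons_le v_g22_vT (grp_cons_le v_g21_vT (grp_cons_le v_g26_vT (grp_cons_le v_g19_vT (grp_cons_le v_g20_vT (grp_cons_le v_g23_vT (grp_cons_le v_g30_vT (grp_cons_le v_g31_vT (grp_cons_le v_g32_vT (grp_cons_le v_g37_vT (grp_cons_le v_g38_vT (grp_cons_le v_g29_vT (grp_cons_le v_u_vT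 (grp_cons_le v_g387_vT (grp_cons_le v_g143_vT (grp_cons_le v_g217_vT (grp_cons_le v_g388_vT (grp_cons_le v_g216_vT (grp_nil_le _)))))))))))))))))))))))))))))) (Frames.cons vT_s1_F (Frames.cons vT_s2_F (Frames.cons vT_s105_F (Frames.cons vT_s106_F (Frames.cons vT_s109_F (Frames.cons vT_s110_F Frames.nil)))))) (okE_cons.2 ⟨v_g384_ok, okE_nil _⟩) _

noncomputable def vt_c27_cnt_t : BT := (BT.br (nat_lit 2) (nat_lit 0) [nat_lit 1, nat_lit 3] (BT.dead (nat_lit 4) (BT.img (nat_lit 1) (nat_lit 0) (BT.img (nat_lit 1) (nat_lit 0) (BT.img (nat_lit 1) (nat_lit 0) (BT.frm (nat_lit 1) (nat_lit 1806) (nat_lit 0x80c0105010c) [nat_lit 0, nat_lit 3] (BT.pln (nat_lit 0) (nat_lit 6) (BT.frm (nat_lit 0) (nat_lit 0) (nat_lit 0x105010c) [nat_lit 5] (BT.pln (nat_lit 0) (nat_lit 1) (BT.dif (nat_lit 10) (nat_lit 0) (BT.pln (nat_lit 2) (nat_lit 2) (BT.dif (nat_lit 1) (nat_lit 0) (BT.dif (nat_lit 1) (nat_lit 7) (BT.pln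 (nat_lit 5) (nat_lit 3) (BT.img (nat_lit 1) (nat_lit 0) (BT.img (nat_lit 1) (nat_lit 0) (BT.img (nat_lit 1) (nat_lit 0) (BT.dif (nat_lit 4) (nat_lit 0) (BT.img (nat_lit 1) (nat_lit 0) (BT.and (nat_lit 7) (nat_lit 0) (BT.img (nat_lit 1) (nat_lit 0) (BT.and (nat_lit 14) (nat_lit 0) (BT.cnt (nat_lit 0)))))))))))))))))))))) (BT.dead (nat_lit 3) (BT.img (nat_lit 1) (nat_lit 0) (BT.img (nat_lit 1) (nat_lit 0) (BT.img (nat_lit 1) (nat_lit 0) (BT.frm (nat_lit 1) (nat_lit 1806) (nat_lit 0x90e010b0103) [nat_lit 0, nat_lit 3] (BT.pln (nat_lit 0) (nat_lit 6) (BT.frm (nat_lit 0) (nat_lit 0) (nat_lit 0x10b0103) [nat_lit 5] (BT.pln (nat_lit 0) (nat_lit 1) (BT.dif (nat_lit 10) (nat_lit 0) (BT.pln (nat_lit 2) (nat_lit 2) (BT.dif (nat_lit 1) (nat_lit 0) (BT.dif (nat_lit 1) (nat_lit 7) (BT.pln (nat_lit 5) (nat_lit 3) (BT.img (nat_lit 1) (nat_lit 0) (BT.img (nat_lit 1) (nat_lit 0) (BT.img (nat_lit 1) (nat_lit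 0) (BT.dif (nat_lit 4) (nat_lit 0) (BT.img (nat_lit 1) (nat_lit 0) (BT.and (nat_lit 7) (nat_lit 0) (BT.img (nat_lit 1) (nat_lit 0) (BT.and (nat_lit 14) (nat_lit 0) (BT.cnt (nat_lit 0)))))))))))))))))))))) (BT.dead (nat_lit 9) (BT.img (nat_lit 1) (nat_lit 0) (BT.img (nat_lit 1) (nat_lit 0) (BT.img (nat_lit 1) (nat_lit 0) (BT.frm (nat_lit 2) (nat_lit 853774) (nat_lit 0x1308090107010a) [nat_lit 2, nat_lit 0, nat_lit 3] (BT.pln (nat_lit 0) (nat_lit 3) (BT.img (nat_lit 1) (nat_lit 2) (BT.img (nat_lit 1) (nat_lit 0) (BT.and (nat_lit 2) (nat_lit 0) (BT.cnt (nat_lit 0)))))))))) (BT.dead (nat_lit 5) (BT.frm (nat_lit 0) (nat_lit 0) (nat_lit 0x104010501) [nat_lit 0] (BT.pln (nat_lit 0) (nat_lit 1) (BT.img (nat_lit 1) (nat_lit 2) (BT.and (nat_lit 1) (nat_lit 0) (BT.cnt (nat_lit 0)))))) (BT.dead (nat_lit 1) (BT.frm (nat_lit 0) (nat_lit 0) (nat_lit 0x105010309) [nat_lit 0] (BT.pln (nat_lit 0) (nat_lit 2)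 (BT.img (nat_lit 1) (nat_lit 2) (BT.and (nat_lit 1) (nat_lit 0) (BT.cnt (nat_lit 0)))))) (BT.dead (nat_lit 13) (BT.frm (nat_lit 0) (nat_lit 0) (nat_lit 0x1050108) [nat_lit 0] (BT.pln (nat_lit 0) (nat_lit 2) (BT.img (nat_lit 1) (nat_lit 2) (BT.and (nat_lit 1) (nat_lit 0) (BT.cnt (nat_lit 0)))))) (BT.dead (nat_lit 16) (BT.frm (nat_lit 0) (nat_lit 0) (nat_lit 66319) [nat_lit 0] (BT.pln (nat_lit 0) (nat_lit 1) (BT.img (nat_lit 1) (nat_lit 2) (BT.and (nat_lit 1) (nat_lit 0) (BT.cnt (nat_lit 0)))))) (BT.dead (nat_lit 8) (BT.frm (nat_lit 0) (nat_lit 0) (nat_lit 66311) [nat_lit 0] (BT.pln (nat_lit 0) (nat_lit 1) (BT.img (nat_lit 1) (nat_lit 2) (BT.and (nat_lit 1) (nat_lit 0) (BT.cnt (nat_lit 0)))))) (BT.dead (nat_lit 6) (BT.frm (nat_lit 0) (nat_lit 0) (nat_lit 259) [nat_lit 0] (BT.pln (nat_lit 0) (nat_lit 1) (BT.img (nat_lit 1) (nat_lit 2) (BT.and (nat_lit 1) (nat_lit 0) (BT.cnt (nat_lit 0)))))) (BT.kid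 (nat_lit 0) (nat_lit 1) (BT.img (nat_lit 1) (nat_lit 0) (BT.img (nat_lit 1) (nat_lit 0) (BT.img (nat_lit 1) (nat_lit 0) (BT.frm (nat_lit 1) (nat_lit 1806) (nat_lit 1806) [nat_lit 0, nat_lit 3] (BT.pln (nat_lit 0) (nat_lit 5) (BT.frm (nat_lit 3) (nat_lit 0x310d070e) (nat_lit 0x310d070e) [nat_lit 3, nat_lit 4, nat_lit 2, nat_lit 5] (BT.pln (nat_lit 0) (nat_lit 5) (BT.dif (nat_lit 2) (nat_lit 0) (BT.pln (nat_lit 2) (nat_lit 4) (BT.and (nat_lit 1) (nat_lit 0) (BT.br (nat_lit 0) (nat_lit 68) [] (BT.dead (nat_lit 93) (BT.img (nat_lit 1) (nat_lit 0) (BT.img (nat_lit 1) (nat_lit 0) (BT.frm (nat_lit 4) (nat_lit 0x373533310d070e) (nat_lit 0x35310d070e) [nat_lit 0, nat_lit 1, nat_lit 2, nat_lit 11, nat_lit 12, nat_lit 10, nat_lit 13] (BT.pln (nat_lit 0) (nat_lit 7) (BT.img (nat_lit 1) (nat_lit 2) (BT.img (nat_lit 1) (nat_lit 0) (BT.and (nat_lit 2) (nat_lit 0) (BT.cnt (nat_lit 0))))))))) (BT.kid (nat_lit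 68) (nat_lit 1) (BT.img (nat_lit 1) (nat_lit 0) (BT.img (nat_lit 1) (nat_lit 0) (BT.img (nat_lit 1) (nat_lit 0) (BT.one (nat_lit 5) (nat_lit 0x39373533310d070e) (nat_lit 0x39373533310d070e) [nat_lit 0, nat_lit 1, nat_lit 2, nat_lit 3, nat_lit 12, nat_lit 13, nat_lit 11, nat_lit 14])))) BT.nil))))))))))))) BT.nil)))))))))))

theorem vt_c27_cnt : Cnt 120 (grp 120 vG) [v_g384] [v_g384] 0 0 0 0 12 :=
  BT.sound vt_c27_cnt_P Known.nil (t := vt_c27_cnt_t) (d := 0) (by decide +kernel)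

theorem vt_c27_ge : 12 ≤ Nat.card (grp 120 vt_c27_K) :=
  Ch.le_card_grp (k := 7) (L := (lab 120 7)) v_hn vt_c27_K_ok (c := (Ch.cons (nat_lit 0) [nat_lit 1, nat_lit 3] Ch.nil)) (by decide +kernel)

theorem vt_c27_eq : (grp 120 vG) ⊓ Subgroup.centralizer {Net.toPerm 120 v_g384} = grp 120 vt_c27_K :=
  cent_eq vt_c27_sym vt_c27_cnt vt_c27_ge

theorem vt_c27_card : Nat.card ↥((grp 120 vG) ⊓ Subgroup.centralizer {Net.toPerm 120 v_g384}) = 12 :=
  card_cent vt_c27_sym vt_c27_cnt vt_c27_ge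

theorem vt_c27_ord : orderOf (Net.toPerm 120 v_g384) = 6 :=
  orderOf_net v_hn v_hk v_g384_ok (by decide) (ps := [2, 3]) (by set_option linter.unusedSimpArgs false in simp [Nat.primeFactorsList_ofNat]) (by decide +kernel)

theorem v_le398 : grp 120 vt_c28_K ≤ grp 120 vo_E0 :=
  grp_le_of_memB v_hn v_hk vo_E0_ok vt_c28_K_ok (ws := [nat_lit 0x2f2d231f0d080a01080108, nat_lit 0x29170f070b010a01, nat_lit 12067]) (by decide +kernel)

theorem vt_c28_le : grp 120 vt_c28_K ≤ (grp 120 vG) :=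
  (v_le398.trans vT_s0.le)

theorem vt_c28_mem : Net.toPerm 120 v_g396 ∈ (grp 120 vG) :=
  vt_c28_le (toPerm_mem_grp (E := vt_c28_K) (List.Mem.head _))

theorem vt_c28_sym : Sym 120 (grp 120 vG) [v_g396] vt_c28_K 0 :=
  Sym.of_lab v_hn v_hk (okE_cons.2 ⟨v_g396_ok, okE_nil _⟩) vt_c28_K_ok vt_c28_le (kT := 0) (by decide +kernel)

theorem v_le400 : grp 120 v_V399 ≤ grp 120 v_V389 :=
  grp_le_of_memB v_hn v_hk v_V389_ok v_V399_ok (ws := [nat_lit 0x9070503, nat_lit 1281, nat_lit 460033, nat_lit 3]) (by decide +kernel)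

theorem vT_s111 : Stab 120 (grp 120 vG) [nat_lit 36, nat_lit 115, nat_lit 96, nat_lit 0] v_V399 16 :=
  Stab.step (k := 7) (L := (lab 120 7)) v_hn vT_s105 v_V399_ok v_le400 (c := (Ch.cons (nat_lit 82) [nat_lit 1] (Ch.cons (nat_lit 15) [nat_lit 3] (Ch.cons (nat_lit 31) [nat_lit 5] (Ch.cons (nat_lit 113) [nat_lit 7] Ch.nil))))) (by decide +kernel)

theorem vT_s112 : Stab 120 (grp 120 vG) [nat_lit 82, nat_lit 36, nat_lit 115, nat_lit 96, nat_lit 0] v_V401 8 :=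
  Stab.step (k := 7) (L := (lab 120 7)) v_hn vT_s111 v_V401_ok (grp_mono (List.subset_append_right [v_g19] _)) (c := (Ch.cons (nat_lit 15) [nat_lit 1] (Ch.cons (nat_lit 31) [nat_lit 3] (Ch.cons (nat_lit 113) [nat_lit 5] Ch.nil)))) (by decide +kernel)

theorem vT_s113 : Stab 120 (grp 120 vG) [nat_lit 15, nat_lit 82, nat_lit 36, nat_lit 115, nat_lit 96, nat_lit 0] v_V402 4 :=
  Stab.step (k := 7) (L := (lab 120 7)) v_hn vT_s112 v_V402_ok (grp_mono (List.subset_append_right [v_g113] _)) (c := (Ch.cons (nat_lit 31) [nat_lit 1] (Ch.cons (nat_lit 113) [nat_lit 3] Ch.nil))) (by decide +kernel)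

theorem vT_s114 : Stab 120 (grp 120 vG) [nat_lit 31, nat_lit 15, nat_lit 82, nat_lit 36, nat_lit 115, nat_lit 96, nat_lit 0] v_V403 2 :=
  Stab.step (k := 7) (L := (lab 120 7)) v_hn vT_s113 v_V403_ok (grp_mono (List.subset_append_right [v_g38] _)) (c := (Ch.cons (nat_lit 113) [nat_lit 1] Ch.nil)) (by decide +kernel)

theorem vT_s115 : Stab 120 (grp 120 vG) [nat_lit 113, nat_lit 31, nat_lit 15, nat_lit 82, nat_lit 36, nat_lit 115, nat_lit 96, nat_lit 0] v_V404 1 :=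
  Stab.step (k := 7) (L := (lab 120 7)) v_hn vT_s114 v_V404_ok (grp_mono (List.subset_append_right [v_g143] _)) (c := Ch.nil) (by decide +kernel)

noncomputable def vT_s115_O : ℕ := (nat_lit 0xffffffffffffff0000000000000000ffffff00000000ffffffff00000000ff0000ffff0000ffff0000ffff000000ff00ff00ff00ff00ff00ff00ff00f0f0f0f0f0f0f0f0f0f0f0f0f0f0f0ccccccccccccccccccccccccccccccaaaaaaaaaaaaaaaaaaaaaaaaaaaaaa000000000000000000000000000001000001000000000000000000000000080000000000000000000000000000000000000000000000001000000000000000000400000000000000000000000000000000000000000000008000000000000000000000000080000000020000000000000000000000000000)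

theorem vT_s115_F : Frame 120 (grp 120 vG) 8 15 vT_s115_O 1 1 :=
  IsBase.frame vT_s115.isBase (by decide +kernel)

noncomputable def vT_s114_O : ℕ := (nat_lit 0x84bfe60620000000000000000000000000000000b02b864f8cc464b0112af3401869cbbebfee7ff2000000000074ff10f88bfbfb90000dcf7e4c000076b0fc194bb1607fd80de118b27600748cc2cdc0ab4e66266d2742e369e0356aaad30a99894d65598c339b4598000000000000000000000000000001000001000000000000000000000000080000000000000000000000000000000000000000000000001000000000000000000400000000000000000000000000000000000000000000008000000000000000000000000080000000)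

theorem vT_s114_F : Frame 120 (grp 120 vG) 7 14 vT_s114_O 0 1 :=
  Stab.frame v_hn vT_s114 (by decide +kernel)

noncomputable def vt_c28_cnt_L : List ℕ := [1, 4, vT_s1_O, 0, 0, 2, 13, vT_s2_O, 0, 0, 3, 9, vT_s105_O, 0, 0, 7, 14, vT_s114_O, 0, 0, 8, 15, vT_s115_O, 1, 0]

theorem vt_c28_cnt_P : Prob 120 7 (grp 120 vG) vt_c28_cnt_EG [v_g396] [v_g396] vt_c28_K vt_c28_cnt_L 0 0 :=
  Sym.prob v_hn v_hk vt_c28_sym vt_c28_cnt_EG_ok (grp_cons_le v_b_vT (grp_cons_le v_p0_vT (grp_cons_le v_p1_vT (grp_cons_le v_g7_vT (grp_cons_le v_g3_vT (grp_cons_le v_g4_vT (grp_cons_le v_g10_vT (grp_cons_le v_g16_vT (grp_cons_le v_g11_vT (grp_cons_le v_g12_vT (grp_cons_le v_g13_vT (grp_cons_le v_g22_vT (grp_cons_le v_g21_vT (grp_cons_le v_g26_vT (grp_cons_le v_g19_vT (grp_cons_le v_g20_vT (grp_cons_le v_g23_vT (grp_cons_le v_g30_vT (grp_cons_le v_g31_vT (grp_cons_le v_g32_vT (grp_cons_le v_g37_vT (grp_cons_le v_g38_vT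 (grp_cons_le v_g29_vT (grp_cons_le v_u_vT (grp_cons_le v_g143_vT (grp_cons_le v_g113_vT (grp_cons_le v_g387_vT (grp_cons_le v_g217_vT (grp_cons_le v_g388_vT (grp_cons_le v_g216_vT (grp_nil_le _))))))))))))))))))))))))))))))) (Frames.cons vT_s1_F (Frames.cons vT_s2_F (Frames.cons vT_s105_F (Frames.cons vT_s114_F (Frames.cons vT_s115_F Frames.nil))))) (okE_cons.2 ⟨v_g396_ok, okE_nil _⟩) _

noncomputable def vt_c28_cnt_t : BT := (BT.fix (nat_lit 257) (BT.fix (nat_lit 1) (BT.dif (nat_lit 1) (nat_lit 0) (BT.br (nat_lit 0) (nat_lit 54) [nat_lit 1] (BT.dead (nat_lit 67) (BT.img (nat_lit 1) (nat_lit 0) (BT.frm (nat_lit 1) (nat_lit 0x91b01030114) (nat_lit 0x70b01030113) [nat_lit 0, nat_lit 1] (BT.pln (nat_lit 0) (nat_lit 4) (BT.br (nat_lit 0) (nat_lit 10) [nat_lit 1029] (BT.dead (nat_lit 10) (BT.frm (nat_lit 0) (nat_lit 0x1030114) (nat_lit 0x1030113) [nat_lit 4] (BT.pln (nat_lit 0) (nat_lit 1) (BT.fix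 (nat_lit 0x1010101) (BT.dif (nat_lit 1) (nat_lit 0) (BT.frm (nat_lit 2) (nat_lit 0x91b01030114) (nat_lit 0xd1b070b01030113) [nat_lit 4, nat_lit 7, nat_lit 8] (BT.pln (nat_lit 0) (nat_lit 4) (BT.dif (nat_lit 2) (nat_lit 0) (BT.pln (nat_lit 2) (nat_lit 3) (BT.dif (nat_lit 1) (nat_lit 0) (BT.pln (nat_lit 4) (nat_lit 5) (BT.and (nat_lit 1) (nat_lit 0) (BT.br (nat_lit 0) (nat_lit 39) [nat_lit 5] (BT.dead (nat_lit 39) (BT.img (nat_lit 1) (nat_lit 12) (BT.img (nat_lit 1) (nat_lit 0) (BT.img (nat_lit 1) (nat_lit 0) (BT.frm (nat_lit 3) (nat_lit 0x91b01030114) (nat_lit 0x331d350d1b070b01030113) [nat_lit 3, nat_lit 0, nat_lit 1, nat_lit 2, nat_lit 15, nat_lit 18, nat_lit 19] (BT.pln (nat_lit 0) (nat_lit 9) (BT.img (nat_lit 1) (nat_lit 5) (BT.img (nat_lit 1) (nat_lit 0) (BT.and (nat_lit 2) (nat_lit 0) (BT.cnt (nat_lit 0)))))))))) BT.nil))))))))))))) (BT.dead (nat_lit 15) (BT.frm (nat_lit 2) (nat_lit 0x91b01030114)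 (nat_lit 0x17070b01030113) [nat_lit 0, nat_lit 3, nat_lit 4] (BT.pln (nat_lit 0) (nat_lit 3) (BT.img (nat_lit 1) (nat_lit 2) (BT.and (nat_lit 1) (nat_lit 0) (BT.cnt (nat_lit 0)))))) BT.nil)))))) (BT.kid (nat_lit 54) (nat_lit 16) (BT.img (nat_lit 1) (nat_lit 0) (BT.frm (nat_lit 1) (nat_lit 0x91b01030114) (nat_lit 0x91b01030114) [nat_lit 0, nat_lit 1] (BT.pln (nat_lit 0) (nat_lit 4) (BT.br (nat_lit 0) (nat_lit 10) [nat_lit 3] (BT.dead (nat_lit 15) (BT.frm (nat_lit 2) (nat_lit 0x91b01030114) (nat_lit 0x13091b01030114) [nat_lit 0, nat_lit 3, nat_lit 4] (BT.pln (nat_lit 0) (nat_lit 3) (BT.img (nat_lit 1) (nat_lit 2) (BT.and (nat_lit 1) (nat_lit 0) (BT.cnt (nat_lit 0)))))) (BT.kid (nat_lit 10) (nat_lit 2) (BT.frm (nat_lit 0) (nat_lit 0x1030114) (nat_lit 0x1030114) [nat_lit 4] (BT.pln (nat_lit 0) (nat_lit 1) (BT.fix (nat_lit 0x1010101) (BT.dif (nat_lit 1) (nat_lit 0) (BT.frm (nat_lit 2) (nat_lit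 0x91b01030114) (nat_lit 0x91b01030114) [nat_lit 4, nat_lit 7, nat_lit 8] (BT.pln (nat_lit 0) (nat_lit 4) (BT.dif (nat_lit 2) (nat_lit 0) (BT.pln (nat_lit 2) (nat_lit 3) (BT.dif (nat_lit 1) (nat_lit 0) (BT.pln (nat_lit 4) (nat_lit 5) (BT.and (nat_lit 1) (nat_lit 0) (BT.br (nat_lit 0) (nat_lit 39) [nat_lit 5] (BT.kid (nat_lit 39) (nat_lit 1) (BT.img (nat_lit 1) (nat_lit 0) (BT.img (nat_lit 1) (nat_lit 13) (BT.img (nat_lit 1) (nat_lit 0) (BT.img (nat_lit 1) (nat_lit 0) (BT.one (nat_lit 4) (nat_lit 0x31091b01030114) (nat_lit 0x31091b01030114) [nat_lit 3, nat_lit 4, nat_lit 0, nat_lit 1, nat_lit 2, nat_lit 16, nat_lit 19, nat_lit 20]))))) BT.nil))))))))))))) BT.nil)))))) BT.nil))))))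

theorem vt_c28_cnt : Cnt 120 (grp 120 vG) [v_g396] [v_g396] 0 0 0 0 32 :=
  BT.sound vt_c28_cnt_P Known.nil (t := vt_c28_cnt_t) (d := 0) (by decide +kernel)

theorem vt_c28_ge : 32 ≤ Nat.card (grp 120 vt_c28_K) :=
  Ch.le_card_grp (k := 7) (L := (lab 120 7)) v_hn vt_c28_K_ok (c := (Ch.cons (nat_lit 54) [nat_lit 1] (Ch.cons (nat_lit 10) [nat_lit 3] (Ch.cons (nat_lit 39) [nat_lit 5] Ch.nil)))) (by decide +kernel)

theorem vt_c28_eq : (grp 120 vG) ⊓ Subgroup.centralizer {Net.toPerm 120 v_g396} = grp 120 vt_c28_K :=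
  cent_eq vt_c28_sym vt_c28_cnt vt_c28_ge

theorem vt_c28_card : Nat.card ↥((grp 120 vG) ⊓ Subgroup.centralizer {Net.toPerm 120 v_g396}) = 32 :=
  card_cent vt_c28_sym vt_c28_cnt vt_c28_ge

theorem vt_c28_ord : orderOf (Net.toPerm 120 v_g396) = 8 :=
  orderOf_net v_hn v_hk v_g396_ok (by decide) (ps := [2]) (by set_option linter.unusedSimpArgs false in simp [Nat.primeFactorsList_ofNat]) (by decide +kernel)

theorem v_le408 : grp 120 vt_c29_K ≤ grp 120 vo_E0 :=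
  grp_le_of_memB v_hn v_hk vo_E0_ok vt_c29_K_ok (ws := [nat_lit 0x2923190d070c01050123, nat_lit 0x2f17210913010a0104, nat_lit 0x2f2d23170f080b01080b01]) (by decide +kernel)

theorem vt_c29_le : grp 120 vt_c29_K ≤ (grp 120 vG) :=
  (v_le408.trans vT_s0.le)

theorem vt_c29_mem : Net.toPerm 120 v_g405 ∈ (grp 120 vG) :=
  vt_c29_le (toPerm_mem_grp (E := vt_c29_K) (List.Mem.head _))

theorem vt_c29_sym : Sym 120 (grp 120 vG) [v_g405] vt_c29_K 0 :=
  Sym.of_lab v_hn v_hk (okE_cons.2 ⟨v_g405_ok, okE_nil _⟩) vt_c29_K_ok vt_c29_le (kT := 0) (by decide +kernel)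

theorem v_le411 : grp 120 v_V410 ≤ grp 120 v_V247 :=
  grp_le_of_memB v_hn v_hk v_V247_ok v_V410_ok (ws := [nat_lit 0xb090503010302, nat_lit 9, nat_lit 0x90503010302, nat_lit 591619, nat_lit 2821]) (by decide +kernel)

theorem vT_s116 : Stab 120 (grp 120 vG) [nat_lit 27, nat_lit 114, nat_lit 0] v_V410 32 :=
  Stab.step (k := 7) (L := (lab 120 7)) v_hn vT_s59 v_V410_ok v_le411 (c := (Ch.cons (nat_lit 76) [nat_lit 1] (Ch.cons (nat_lit 74) [nat_lit 3] (Ch.cons (nat_lit 26) [nat_lit 5] (Ch.cons (nat_lit 1) [nat_lit 7] (Ch.cons (nat_lit 90) [nat_lit 9] Ch.nil)))))) (by decide +kernel)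

theorem vT_s117 : Stab 120 (grp 120 vG) [nat_lit 76, nat_lit 27, nat_lit 114, nat_lit 0] v_V412 16 :=
  Stab.step (k := 7) (L := (lab 120 7)) v_hn vT_s116 v_V412_ok (grp_mono (List.subset_append_right [v_g409] _)) (c := (Ch.cons (nat_lit 74) [nat_lit 1] (Ch.cons (nat_lit 26) [nat_lit 3] (Ch.cons (nat_lit 1) [nat_lit 5] (Ch.cons (nat_lit 90) [nat_lit 7] Ch.nil))))) (by decide +kernel)

theorem vT_s118 : Stab 120 (grp 120 vG) [nat_lit 74, nat_lit 76, nat_lit 27, nat_lit 114, nat_lit 0] v_V413 8 :=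
  Stab.step (k := 7) (L := (lab 120 7)) v_hn vT_s117 v_V413_ok (grp_mono (List.subset_append_right [v_g92] _)) (c := (Ch.cons (nat_lit 26) [nat_lit 1] (Ch.cons (nat_lit 1) [nat_lit 3] (Ch.cons (nat_lit 90) [nat_lit 5] Ch.nil)))) (by decide +kernel)

theorem vT_s119 : Stab 120 (grp 120 vG) [nat_lit 26, nat_lit 74, nat_lit 76, nat_lit 27, nat_lit 114, nat_lit 0] v_V414 4 :=
  Stab.step (k := 7) (L := (lab 120 7)) v_hn vT_s118 v_V414_ok (grp_mono (List.subset_append_right [v_g297] _)) (c := (Ch.cons (nat_lit 1) [nat_lit 1] (Ch.cons (nat_lit 90) [nat_lit 3] Ch.nil))) (by decide +kernel)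

theorem vT_s120 : Stab 120 (grp 120 vG) [nat_lit 1, nat_lit 26, nat_lit 74, nat_lit 76, nat_lit 27, nat_lit 114, nat_lit 0] v_V415 2 :=
  Stab.step (k := 7) (L := (lab 120 7)) v_hn vT_s119 v_V415_ok (grp_mono (List.subset_append_right [v_g95] _)) (c := (Ch.cons (nat_lit 90) [nat_lit 1] Ch.nil)) (by decide +kernel)

theorem vT_s121 : Stab 120 (grp 120 vG) [nat_lit 90, nat_lit 1, nat_lit 26, nat_lit 74, nat_lit 76, nat_lit 27, nat_lit 114, nat_lit 0] v_V416 1 :=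
  Stab.step (k := 7) (L := (lab 120 7)) v_hn vT_s120 v_V416_ok (grp_mono (List.subset_append_right [v_g29] _)) (c := Ch.nil) (by decide +kernel)

theorem v_g95_vT : Net.toPerm 120 v_g95 ∈ (grp 120 vG) :=
  vT_s118.le (toPerm_mem_grp (E := v_V413) (List.Mem.tail _ (List.Mem.head _)))

theorem v_g409_vT : Net.toPerm 120 v_g409 ∈ (grp 120 vG) :=
  vT_s116.le (toPerm_mem_grp (E := v_V410) (List.Mem.head _))

noncomputable def vT_s121_O : ℕ := (nat_lit 0xffffffffffffff0000000000000000ffffff00000000ffffffff00000000ff0000ffff0000ffff0000ffff000000ff00ff00ff00ff00ff00ff00ff00f0f0f0f0f0f0f0f0f0f0f0f0f0f0f0ccccccccccccccccccccccccccccccaaaaaaaaaaaaaaaaaaaaaaaaaaaaaa000000000000000000000000000001040000000000000000000000000000000000000000000000000008000000000000000010000000000000000000000000000004000000000000000000000000000000000000000004000000000000000000000000000000000002000000040000000000000000000000)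

theorem vT_s121_F : Frame 120 (grp 120 vG) 8 15 vT_s121_O 1 1 :=
  IsBase.frame vT_s121.isBase (by decide +kernel)

noncomputable def vT_s120_O : ℕ := (nat_lit 0xb84d69b174a0e0000000000000000000000000000015fbacea3373628000f86fd24c8b0a17fbacc0000000771483802db340011dfc523ff3400077147b722f8c3ec01d87f13a2c338c7400701e3e7831299c674f2d1630e16bc02a3b3727a52251569aa69da24b52b0000000000000000000000000000001040000000000000000000000000000000000000000000000000008000000000000000010000000000000000000000000000004000000000000000000000000000000000000000004000000000000000000000000000000000002)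

theorem vT_s120_F : Frame 120 (grp 120 vG) 7 14 vT_s120_O 0 1 :=
  Stab.frame v_hn vT_s120 (by decide +kernel)

noncomputable def vT_s119_O : ℕ := (nat_lit 0x4d49114000000000000000000000f822120c0fa0847b84a220512027100390a462802bbe7ffeffe4400000000248a4e0a06aff7e51000b33eca710f9076ae8a02af4c1afdc0133a378c0b9258556aa2bc2b5a0738bb15a562830e6f3c511696e296c6963926745a4000000000000000000000000000001040000000000000000000000000000000000000000000000000008000000000000000010000000000000000000000000000004000000000000000000000000000000000000000004000000)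

theorem vT_s119_F : Frame 120 (grp 120 vG) 6 13 vT_s119_O 0 1 :=
  Stab.frame v_hn vT_s119 (by decide +kernel)

noncomputable def vT_s116_O : ℕ := (nat_lit 0xfb67bf6dcfbabe7e70700000000000f8bf139e2f8540120f8fc776e0000030d4a063807ff3d38a0fed000ef600c84b4f58e07f892c4e0f08f40fc9e08aae6ae66a7830b83b4ce8639d31988a3df596d1362727182aae5348ad54000000000000000000000000000001040000000000000000000000000000000000000000000000000008000000)

theorem vT_s116_F : Frame 120 (grp 120 vG) 3 9 vT_s116_O 0 1 :=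
  Stab.frame v_hn vT_s116 (by decide +kernel)

noncomputable def vt_c29_cnt_L : List ℕ := [1, 4, vT_s1_O, 0, 0, 2, 17, vT_s59_O, 0, 0, 3, 9, vT_s116_O, 0, 0, 6, 13, vT_s119_O, 0, 0, 7, 14, vT_s120_O, 0, 0, 8, 15, vT_s121_O, 1, 0]

theorem vt_c29_cnt_P : Prob 120 7 (grp 120 vG) vt_c29_cnt_EG [v_g405] [v_g405] vt_c29_K vt_c29_cnt_L 0 0 :=
  Sym.prob v_hn v_hk vt_c29_sym vt_c29_cnt_EG_ok (grp_cons_le v_b_vT (grp_cons_le v_p0_vT (grp_cons_le v_p1_vT (grp_cons_le v_g7_vT (grp_cons_le v_g3_vT (grp_cons_le v_g4_vT (grp_cons_le v_g10_vT (grp_cons_le v_g16_vT (grp_cons_le v_g11_vT (grp_cons_le v_g12_vT (grp_cons_le v_g13_vT (grp_cons_le v_g22_vT (grp_cons_le v_g21_vT (grp_cons_le v_g26_vT (grp_cons_le v_g19_vT (grp_cons_le v_g20_vT (grp_cons_le v_g23_vT (grp_cons_le v_g30_vT (grp_cons_le v_g31_vT (grp_cons_le v_g32_vT (grp_cons_le v_g37_vT (grp_cons_le v_g38_vT (grp_cons_le v_g29_vT (grp_cons_le v_u_vT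 (grp_cons_le v_g244_vT (grp_cons_le v_g245_vT (grp_cons_le v_g116_vT (grp_cons_le v_g73_vT (grp_cons_le v_g92_vT (grp_cons_le v_g246_vT (grp_cons_le v_g297_vT (grp_cons_le v_g95_vT (grp_cons_le v_g409_vT (grp_nil_le _)))))))))))))))))))))))))))))))))) (Frames.cons vT_s1_F (Frames.cons vT_s59_F (Frames.cons vT_s116_F (Frames.cons vT_s119_F (Frames.cons vT_s120_F (Frames.cons vT_s121_F Frames.nil)))))) (okE_cons.2 ⟨v_g405_ok, okE_nil _⟩) _

noncomputable def vt_c29_cnt_t : BT := (BT.fix (nat_lit 257) (BT.fix (nat_lit 1) (BT.dif (nat_lit 1) (nat_lit 0) (BT.br (nat_lit 0) (nat_lit 3) [nat_lit 1] (BT.kid (nat_lit 3) (nat_lit 8) (BT.fix (nat_lit 0x1010101) (BT.dif (nat_lit 7) (nat_lit 0) (BT.frm (nat_lit 0) (nat_lit 0x10b0103) (nat_lit 0x10b0103) [nat_lit 2] (BT.pln (nat_lit 0) (nat_lit 1) (BT.dif (nat_lit 2) (nat_lit 0) (BT.pln (nat_lit 2) (nat_lit 2) (BT.dif (nat_lit 1) (nat_lit 0) (BT.br (nat_lit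 0) (nat_lit 21) [nat_lit 3] (BT.dead (nat_lit 76) (BT.frm (nat_lit 1) (nat_lit 0x19010b0103) (nat_lit 0x90f010b0103) [nat_lit 0, nat_lit 8] (BT.pln (nat_lit 0) (nat_lit 12) (BT.br (nat_lit 0) (nat_lit 91) [] (BT.dead (nat_lit 92) (BT.img (nat_lit 1) (nat_lit 3) (BT.img (nat_lit 1) (nat_lit 0) (BT.img (nat_lit 1) (nat_lit 0) (BT.frm (nat_lit 3) (nat_lit 0x3d41313319010b0103) (nat_lit 0x3d4131090f010b0103) [nat_lit 3, nat_lit 0, nat_lit 1, nat_lit 2, nat_lit 6, nat_lit 14] (BT.pln (nat_lit 0) (nat_lit 6) (BT.img (nat_lit 1) (nat_lit 5) (BT.and (nat_lit 1) (nat_lit 0) (BT.cnt (nat_lit 0))))))))) (BT.dead (nat_lit 28) (BT.img (nat_lit 1) (nat_lit 3) (BT.img (nat_lit 1) (nat_lit 0) (BT.img (nat_lit 1) (nat_lit 0) (BT.frm (nat_lit 3) (nat_lit 0x3d41313319010b0103) (nat_lit 0x4131090f010b0103) [nat_lit 3, nat_lit 0, nat_lit 1, nat_lit 2, nat_lit 6, nat_lit 14] (BT.pln (nat_lit 0) (nat_lit 6) (BT.img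 (nat_lit 1) (nat_lit 5) (BT.and (nat_lit 1) (nat_lit 0) (BT.cnt (nat_lit 0))))))))) BT.nil))))) (BT.dead (nat_lit 38) (BT.img (nat_lit 1) (nat_lit 0) (BT.frm (nat_lit 2) (nat_lit 0x313319010b0103) (nat_lit 0x31090c010b0103) [nat_lit 0, nat_lit 1, nat_lit 9] (BT.pln (nat_lit 0) (nat_lit 3) (BT.img (nat_lit 1) (nat_lit 2) (BT.and (nat_lit 1) (nat_lit 0) (BT.cnt (nat_lit 0))))))) (BT.dead (nat_lit 28) (BT.img (nat_lit 1) (nat_lit 0) (BT.frm (nat_lit 2) (nat_lit 0x313319010b0103) (nat_lit 0x3309010b0103) [nat_lit 0, nat_lit 1, nat_lit 9] (BT.pln (nat_lit 0) (nat_lit 3) (BT.img (nat_lit 1) (nat_lit 2) (BT.and (nat_lit 1) (nat_lit 0) (BT.cnt (nat_lit 0))))))) (BT.kid (nat_lit 21) (nat_lit 2) (BT.frm (nat_lit 1) (nat_lit 0x19010b0103) (nat_lit 0x19010b0103) [nat_lit 0, nat_lit 8] (BT.pln (nat_lit 0) (nat_lit 12) (BT.br (nat_lit 0) (nat_lit 91) [] (BT.dead (nat_lit 118) (BT.dif (nat_lit 7) (nat_lit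 10) (BT.img (nat_lit 1) (nat_lit 4) (BT.frm (nat_lit 2) (nat_lit 0x313319010b0103) (nat_lit 0x313319010b0103) [nat_lit 0, nat_lit 5, nat_lit 13] (BT.pln (nat_lit 0) (nat_lit 4) (BT.dif (nat_lit 3) (nat_lit 0) (BT.pln (nat_lit 2) (nat_lit 5) (BT.dif (nat_lit 1) (nat_lit 0) (BT.br (nat_lit 0) (nat_lit 90) [nat_lit 5] (BT.dead (nat_lit 90) (BT.img (nat_lit 1) (nat_lit 6) (BT.img (nat_lit 1) (nat_lit 0) (BT.frm (nat_lit 4) (nat_lit 0x3f3d41313319010b0103) (nat_lit 0x3f41313319010b0103) [nat_lit 2, nat_lit 10, nat_lit 0, nat_lit 1, nat_lit 8, nat_lit 13, nat_lit 21] (BT.pln (nat_lit 0) (nat_lit 7) (BT.img (nat_lit 1) (nat_lit 4) (BT.img (nat_lit 1) (nat_lit 0) (BT.and (nat_lit 2) (nat_lit 0) (BT.cnt (nat_lit 0))))))))) BT.nil))))))))) (BT.kid (nat_lit 91) (nat_lit 2) (BT.dif (nat_lit 7) (nat_lit 10) (BT.img (nat_lit 1) (nat_lit 4) (BT.frm (nat_lit 2) (nat_lit 0x313319010b0103) (nat_lit 0x313319010b0103)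 [nat_lit 0, nat_lit 5, nat_lit 13] (BT.pln (nat_lit 0) (nat_lit 4) (BT.dif (nat_lit 3) (nat_lit 0) (BT.pln (nat_lit 2) (nat_lit 5) (BT.dif (nat_lit 1) (nat_lit 0) (BT.br (nat_lit 0) (nat_lit 90) [nat_lit 5] (BT.kid (nat_lit 90) (nat_lit 1) (BT.img (nat_lit 1) (nat_lit 0) (BT.img (nat_lit 1) (nat_lit 7) (BT.img (nat_lit 1) (nat_lit 0) (BT.one (nat_lit 5) (nat_lit 0x2d3f3d41313319010b0103) (nat_lit 0x2d3f3d41313319010b0103) [nat_lit 2, nat_lit 3, nat_lit 11, nat_lit 0, nat_lit 1, nat_lit 9, nat_lit 14, nat_lit 22])))) BT.nil))))))))) BT.nil))))) BT.nil)))))))))))) BT.nil)))))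

theorem vt_c29_cnt : Cnt 120 (grp 120 vG) [v_g405] [v_g405] 0 0 0 0 16 :=
  BT.sound vt_c29_cnt_P Known.nil (t := vt_c29_cnt_t) (d := 0) (by decide +kernel)

theorem vt_c29_ge : 16 ≤ Nat.card (grp 120 vt_c29_K) :=
  Ch.le_card_grp (k := 7) (L := (lab 120 7)) v_hn vt_c29_K_ok (c := (Ch.cons (nat_lit 3) [nat_lit 1] (Ch.cons (nat_lit 21) [nat_lit 3] (Ch.cons (nat_lit 90) [nat_lit 5] Ch.nil)))) (by decide +kernel)

theorem vt_c29_eq : (grp 120 vG) ⊓ Subgroup.centralizer {Net.toPerm 120 v_g405} = grp 120 vt_c29_K :=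
  cent_eq vt_c29_sym vt_c29_cnt vt_c29_ge

theorem vt_c29_card : Nat.card ↥((grp 120 vG) ⊓ Subgroup.centralizer {Net.toPerm 120 v_g405}) = 16 :=
  card_cent vt_c29_sym vt_c29_cnt vt_c29_ge

theorem vt_c29_ord : orderOf (Net.toPerm 120 v_g405) = 8 :=
  orderOf_net v_hn v_hk v_g405_ok (by decide) (ps := [2]) (by set_option linter.unusedSimpArgs false in simp [Nat.primeFactorsList_ofNat]) (by decide +kernel)

theorem v_le421 : grp 120 vt_c30_K ≤ grp 120 vo_E0 :=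
  grp_le_of_memB v_hn v_hk vo_E0_ok vt_c30_K_ok (ws := [nat_lit 0x2f291b130719, nat_lit 0x2d292317190d091801080b01, nat_lit 0x2d231721090c, nat_lit 0x2f2d172101080b01]) (by decide +kernel)

theorem vt_c30_le : grp 120 vt_c30_K ≤ (grp 120 vG) :=
  (v_le421.trans vT_s0.le)

theorem vt_c30_mem : Net.toPerm 120 v_g417 ∈ (grp 120 vG) :=
  vt_c30_le (toPerm_mem_grp (E := vt_c30_K) (List.Mem.head _))

theorem vt_c30_sym : Sym 120 (grp 120 vG) [v_g417] vt_c30_K 0 :=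
  Sym.of_lab v_hn v_hk (okE_cons.2 ⟨v_g417_ok, okE_nil _⟩) vt_c30_K_ok vt_c30_le (kT := 0) (by decide +kernel)

theorem v_le426 : grp 120 v_V425 ≤ grp 120 v_V410 :=
  grp_le_of_memB v_hn v_hk v_V410_ok v_V425_ok (ws := [nat_lit 2305, nat_lit 460033, nat_lit 328449, nat_lit 0x7050301]) (by decide +kernel)

theorem vT_s122 : Stab 120 (grp 120 vG) [nat_lit 54, nat_lit 27, nat_lit 114, nat_lit 0] v_V425 16 :=
  Stab.step (k := 7) (L := (lab 120 7)) v_hn vT_s116 v_V425_ok v_le426 (c := (Ch.cons (nat_lit 34) [nat_lit 1] (Ch.cons (nat_lit 41) [nat_lit 3] (Ch.cons (nat_lit 119) [nat_lit 5] (Ch.cons (nat_lit 116) [nat_lit 7] Ch.nil))))) (by decide +kernel)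

theorem vT_s123 : Stab 120 (grp 120 vG) [nat_lit 34, nat_lit 54, nat_lit 27, nat_lit 114, nat_lit 0] v_V427 8 :=
  Stab.step (k := 7) (L := (lab 120 7)) v_hn vT_s122 v_V427_ok (grp_mono (List.subset_append_right [v_g312] _)) (c := (Ch.cons (nat_lit 41) [nat_lit 1] (Ch.cons (nat_lit 119) [nat_lit 3] (Ch.cons (nat_lit 116) [nat_lit 5] Ch.nil)))) (by decide +kernel)

theorem vT_s124 : Stab 120 (grp 120 vG) [nat_lit 41, nat_lit 34, nat_lit 54, nat_lit 27, nat_lit 114, nat_lit 0] v_V428 4 :=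
  Stab.step (k := 7) (L := (lab 120 7)) v_hn vT_s123 v_V428_ok (grp_mono (List.subset_append_right [v_g422] _)) (c := (Ch.cons (nat_lit 119) [nat_lit 1] (Ch.cons (nat_lit 116) [nat_lit 3] Ch.nil))) (by decide +kernel)

theorem vT_s125 : Stab 120 (grp 120 vG) [nat_lit 119, nat_lit 41, nat_lit 34, nat_lit 54, nat_lit 27, nat_lit 114, nat_lit 0] v_V429 2 :=
  Stab.step (k := 7) (L := (lab 120 7)) v_hn vT_s124 v_V429_ok (grp_mono (List.subset_append_right [v_g423] _)) (c := (Ch.cons (nat_lit 116) [nat_lit 1] Ch.nil)) (by decide +kernel)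

theorem vT_s126 : Stab 120 (grp 120 vG) [nat_lit 116, nat_lit 119, nat_lit 41, nat_lit 34, nat_lit 54, nat_lit 27, nat_lit 114, nat_lit 0] v_V430 1 :=
  Stab.step (k := 7) (L := (lab 120 7)) v_hn vT_s125 v_V430_ok (grp_mono (List.subset_append_right [v_g424] _)) (c := Ch.nil) (by decide +kernel)

theorem v_g424_vT : Net.toPerm 120 v_g424 ∈ (grp 120 vG) :=
  vT_s125.le (toPerm_mem_grp (E := v_V429) (List.Mem.head _))

theorem v_g423_vT : Net.toPerm 120 v_g423 ∈ (grp 120 vG) :=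
  vT_s124.le (toPerm_mem_grp (E := v_V428) (List.Mem.head _))

theorem v_g422_vT : Net.toPerm 120 v_g422 ∈ (grp 120 vG) :=
  vT_s123.le (toPerm_mem_grp (E := v_V427) (List.Mem.head _))

noncomputable def vT_s126_O : ℕ := (nat_lit 0xffffffffffffff0000000000000000ffffff00000000ffffffff00000000ff0000ffff0000ffff0000ffff000000ff00ff00ff00ff00ff00ff00ff00f0f0f0f0f0f0f0f0f0f0f0f0f0f0f0ccccccccccccccccccccccccccccccaaaaaaaaaaaaaaaaaaaaaaaaaaaaaa000000000000000000000000000001040000000000000000000000000000000000000000000000000008000000000000000000000040000000000000000000000000000000000400000000000000000000000000020000000000800000000000000000000000000000100000000000000000000000000000)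

theorem vT_s126_F : Frame 120 (grp 120 vG) 8 15 vT_s126_O 1 1 :=
  IsBase.frame vT_s126.isBase (by decide +kernel)

noncomputable def vt_c30_cnt_L : List ℕ := [2, 17, vT_s59_O, 0, 0, 3, 9, vT_s116_O, 0, 0, 8, 15, vT_s126_O, 1, 0]

theorem vt_c30_cnt_P : Prob 120 7 (grp 120 vG) vt_c30_cnt_EG [v_g417] [v_g417] vt_c30_K vt_c30_cnt_L 0 0 :=
  Sym.prob v_hn v_hk vt_c30_sym vt_c30_cnt_EG_ok (grp_cons_le v_g7_vT (grp_cons_le v_g3_vT (grp_cons_le v_g4_vT (grp_cons_le v_g10_vT (grp_cons_le v_g16_vT (grp_cons_le v_g11_vT (grp_cons_le v_g12_vT (grp_cons_le v_g13_vT (grp_cons_le v_g22_vT (grp_cons_le v_g21_vT (grp_cons_le v_g26_vT (grp_cons_le v_g19_vT (grp_cons_le v_g20_vT (grp_cons_le v_g23_vT (grp_cons_le v_g30_vT (grp_cons_le v_g31_vT (grp_cons_le v_g32_vT (grp_cons_le v_g37_vT (grp_cons_le v_g38_vT (grp_cons_le v_g29_vT (grp_cons_le v_u_vT (grp_cons_le v_b_vT (grp_cons_le v_p0_vT (grp_cons_le v_p1_vT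 (grp_cons_le v_g244_vT (grp_cons_le v_g245_vT (grp_cons_le v_g116_vT (grp_cons_le v_g73_vT (grp_cons_le v_g92_vT (grp_cons_le v_g246_vT (grp_cons_le v_g424_vT (grp_cons_le v_g423_vT (grp_cons_le v_g422_vT (grp_cons_le v_g312_vT (grp_cons_le v_g409_vT (grp_cons_le v_g297_vT (grp_cons_le v_g95_vT (grp_nil_le _)))))))))))))))))))))))))))))))))))))) (Frames.cons vT_s59_F (Frames.cons vT_s116_F (Frames.cons vT_s126_F Frames.nil))) (okE_cons.2 ⟨v_g417_ok, okE_nil _⟩) _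

noncomputable def vt_c30_cnt_t : BT := (BT.fix (nat_lit 257) (BT.fix (nat_lit 1) (BT.dif (nat_lit 1) (nat_lit 0) (BT.br (nat_lit 0) (nat_lit 18) [nat_lit 1] (BT.dead (nat_lit 71) (BT.dif (nat_lit 1) (nat_lit 0) (BT.img (nat_lit 1) (nat_lit 1) (BT.dif (nat_lit 1) (nat_lit 0) (BT.br (nat_lit 0) (nat_lit 71) [nat_lit 393985] (BT.dead (nat_lit 18) (BT.frm (nat_lit 0) (nat_lit 0x4082b042b2e) (nat_lit 0x1062b2d2b2f08) [nat_lit 0, nat_lit 4] (BT.pln (nat_lit 0) (nat_lit 10) (BT.br (nat_lit 0) (nat_lit 62) [nat_lit 1797] (BT.dead (nat_lit 101) (BT.frm (nat_lit 1) (nat_lit 0x31313104082b042b2e) (nat_lit 0x313301062b2d2b2f08) [nat_lit 0, nat_lit 3, nat_lit 7] (BT.pln (nat_lit 0) (nat_lit 3) (BT.img (nat_lit 1) (nat_lit 2) (BT.and (nat_lit 1) (nat_lit 0) (BT.cnt (nat_lit 0)))))) BT.nil)))) BT.nil))))) (BT.kid (nat_lit 18) (nat_lit 40) (BT.dif (nat_lit 1) (nat_lit 0) (BT.img (nat_lit 1) (nat_lit 1) (BT.dif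 (nat_lit 1) (nat_lit 0) (BT.br (nat_lit 0) (nat_lit 71) [nat_lit 3] (BT.kid (nat_lit 71) (nat_lit 20) (BT.frm (nat_lit 0) (nat_lit 0x4082b042b2e) (nat_lit 0x4082b042b2e) [nat_lit 0, nat_lit 4] (BT.pln (nat_lit 0) (nat_lit 10) (BT.br (nat_lit 0) (nat_lit 62) [nat_lit 5] (BT.kid (nat_lit 62) (nat_lit 2) (BT.pln (nat_lit 2) (nat_lit 11) (BT.frm (nat_lit 1) (nat_lit 0x31313104082b042b2e) (nat_lit 0x31313104082b042b2e) [nat_lit 1, nat_lit 4, nat_lit 8] (BT.pln (nat_lit 0) (nat_lit 4) (BT.dif (nat_lit 2) (nat_lit 0) (BT.pln (nat_lit 2) (nat_lit 5) (BT.dif (nat_lit 1) (nat_lit 0) (BT.br (nat_lit 0) (nat_lit 76) [nat_lit 7] (BT.kid (nat_lit 76) (nat_lit 1) (BT.img (nat_lit 1) (nat_lit 7) (BT.img (nat_lit 1) (nat_lit 0) (BT.img (nat_lit 1) (nat_lit 0) (BT.img (nat_lit 1) (nat_lit 0) (BT.one (nat_lit 2) (nat_lit 0x4131313104082b042b2e) (nat_lit 0x4131313104082b042b2e) [nat_lit 4, nat_lit 0, nat_lit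 1, nat_lit 2, nat_lit 3, nat_lit 11, nat_lit 14, nat_lit 18]))))) BT.nil)))))))) BT.nil)))) BT.nil))))) BT.nil))))))

theorem vt_c30_cnt : Cnt 120 (grp 120 vG) [v_g417] [v_g417] 0 0 0 0 80 :=
  BT.sound vt_c30_cnt_P Known.nil (t := vt_c30_cnt_t) (d := 0) (by decide +kernel)

theorem vt_c30_ge : 80 ≤ Nat.card (grp 120 vt_c30_K) :=
  Ch.le_card_grp (k := 7) (L := (lab 120 7)) v_hn vt_c30_K_ok (c := (Ch.cons (nat_lit 18) [nat_lit 1] (Ch.cons (nat_lit 71) [nat_lit 3] (Ch.cons (nat_lit 62) [nat_lit 5] (Ch.cons (nat_lit 76) [nat_lit 7] Ch.nil))))) (by decide +kernel)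

theorem vt_c30_eq : (grp 120 vG) ⊓ Subgroup.centralizer {Net.toPerm 120 v_g417} = grp 120 vt_c30_K :=
  cent_eq vt_c30_sym vt_c30_cnt vt_c30_ge

theorem vt_c30_card : Nat.card ↥((grp 120 vG) ⊓ Subgroup.centralizer {Net.toPerm 120 v_g417}) = 80 :=
  card_cent vt_c30_sym vt_c30_cnt vt_c30_ge

theorem vt_c30_ord : orderOf (Net.toPerm 120 v_g417) = 10 :=
  orderOf_net v_hn v_hk v_g417_ok (by decide) (ps := [2, 5]) (by set_option linter.unusedSimpArgs false in simp [Nat.primeFactorsList_ofNat]) (by decide +kernel)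

theorem v_le435 : grp 120 vt_c31_K ≤ grp 120 vo_E0 :=
  grp_le_of_memB v_hn v_hk vo_E0_ok vt_c31_K_ok (ws := [nat_lit 0x2f2d231721090c, nat_lit 0x231b090c, nat_lit 0x2319130c01080b01, nat_lit 0x2d1719070e, nat_lit 0x2f2d172101080b01]) (by decide +kernel)

theorem vt_c31_le : grp 120 vt_c31_K ≤ (grp 120 vG) :=
  (v_le435.trans vT_s0.le)

theorem vt_c31_mem : Net.toPerm 120 v_g431 ∈ (grp 120 vG) :=
  vt_c31_le (toPerm_mem_grp (E := vt_c31_K) (List.Mem.head _))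

theorem vt_c31_sym : Sym 120 (grp 120 vG) [v_g431] vt_c31_K 0 :=
  Sym.of_lab v_hn v_hk (okE_cons.2 ⟨v_g431_ok, okE_nil _⟩) vt_c31_K_ok vt_c31_le (kT := 0) (by decide +kernel)

noncomputable def vt_c31_cnt_L : List ℕ := [2, 17, vT_s59_O, 0, 0, 3, 9, vT_s116_O, 0, 0, 8, 15, vT_s126_O, 1, 0]

theorem vt_c31_cnt_P : Prob 120 7 (grp 120 vG) vt_c31_cnt_EG [v_g431] [v_g431] vt_c31_K vt_c31_cnt_L 0 0 :=
  Sym.prob v_hn v_hk vt_c31_sym vt_c31_cnt_EG_ok (grp_cons_le v_g7_vT (grp_cons_le v_g3_vT (grp_cons_le v_g4_vT (grp_cons_le v_g10_vT (grp_cons_le v_g16_vT (grp_cons_le v_g11_vT (grp_cons_le v_g12_vT (grp_cons_le v_g13_vT (grp_cons_le v_g22_vT (grp_cons_le v_g21_vT (grp_cons_le v_g26_vT (grp_cons_le v_g19_vT (grp_cons_le v_g20_vT (grp_cons_le v_g23_vT (grp_cons_le v_g30_vT (grp_cons_le v_g31_vT (grp_cons_le v_g32_vT (grp_cons_le v_g37_vT (grp_cons_le v_g38_vT (grp_cons_le v_g29_vT (grp_cons_le v_u_vT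 (grp_cons_le v_b_vT (grp_cons_le v_p0_vT (grp_cons_le v_p1_vT (grp_cons_le v_g244_vT (grp_cons_le v_g245_vT (grp_cons_le v_g116_vT (grp_cons_le v_g73_vT (grp_cons_le v_g92_vT (grp_cons_le v_g246_vT (grp_cons_le v_g424_vT (grp_cons_le v_g423_vT (grp_cons_le v_g422_vT (grp_cons_le v_g312_vT (grp_cons_le v_g409_vT (grp_cons_le v_g297_vT (grp_cons_le v_g95_vT (grp_nil_le _)))))))))))))))))))))))))))))))))))))) (Frames.cons vT_s59_F (Frames.cons vT_s116_F (Frames.cons vT_s126_F Frames.nil))) (okE_cons.2 ⟨v_g431_ok, okE_nil _⟩) _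

noncomputable def vt_c31_cnt_t : BT := (BT.fix (nat_lit 257) (BT.fix (nat_lit 1) (BT.dif (nat_lit 1) (nat_lit 0) (BT.br (nat_lit 0) (nat_lit 18) [nat_lit 1] (BT.dead (nat_lit 71) (BT.dif (nat_lit 1) (nat_lit 0) (BT.img (nat_lit 1) (nat_lit 1) (BT.dif (nat_lit 1) (nat_lit 0) (BT.br (nat_lit 0) (nat_lit 71) [nat_lit 328449] (BT.dead (nat_lit 18) (BT.frm (nat_lit 0) (nat_lit 0x4082b042b2e) (nat_lit 0x1062b2d2b2f08) [nat_lit 0, nat_lit 4] (BT.pln (nat_lit 0) (nat_lit 10) (BT.br (nat_lit 0) (nat_lit 62) [nat_lit 1542, nat_lit 2312] (BT.dead (nat_lit 101) (BT.frm (nat_lit 1) (nat_lit 0x31313104082b042b2e) (nat_lit 0x313301062b2d2b2f08) [nat_lit 0, nat_lit 3, nat_lit 7] (BT.pln (nat_lit 0) (nat_lit 3) (BT.img (nat_lit 1) (nat_lit 2) (BT.img (nat_lit 1) (nat_lit 0) (BT.and (nat_lit 2) (nat_lit 0) (BT.cnt (nat_lit 0))))))) BT.nil)))) BT.nil))))) (BT.kid (nat_lit 18) (nat_lit 40) (BT.dif (nat_lit 1)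 (nat_lit 0) (BT.img (nat_lit 1) (nat_lit 1) (BT.dif (nat_lit 1) (nat_lit 0) (BT.br (nat_lit 0) (nat_lit 71) [nat_lit 3] (BT.kid (nat_lit 71) (nat_lit 20) (BT.frm (nat_lit 0) (nat_lit 0x4082b042b2e) (nat_lit 0x4082b042b2e) [nat_lit 0, nat_lit 4] (BT.pln (nat_lit 0) (nat_lit 10) (BT.br (nat_lit 0) (nat_lit 62) [nat_lit 7] (BT.kid (nat_lit 62) (nat_lit 2) (BT.pln (nat_lit 2) (nat_lit 11) (BT.frm (nat_lit 1) (nat_lit 0x31313104082b042b2e) (nat_lit 0x31313104082b042b2e) [nat_lit 1, nat_lit 4, nat_lit 8] (BT.pln (nat_lit 0) (nat_lit 4) (BT.dif (nat_lit 2) (nat_lit 0) (BT.pln (nat_lit 2) (nat_lit 5) (BT.dif (nat_lit 1) (nat_lit 0) (BT.br (nat_lit 0) (nat_lit 76) [nat_lit 9] (BT.kid (nat_lit 76) (nat_lit 1) (BT.img (nat_lit 1) (nat_lit 7) (BT.img (nat_lit 1) (nat_lit 0) (BT.img (nat_lit 1) (nat_lit 0) (BT.img (nat_lit 1) (nat_lit 0) (BT.one (nat_lit 2) (nat_lit 0x4531313104082b042b2e) (nat_lit 0x4531313104082b042b2e)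 [nat_lit 4, nat_lit 1, nat_lit 3, nat_lit 0, nat_lit 2, nat_lit 11, nat_lit 14, nat_lit 18]))))) BT.nil)))))))) BT.nil)))) BT.nil))))) BT.nil))))))

theorem vt_c31_cnt : Cnt 120 (grp 120 vG) [v_g431] [v_g431] 0 0 0 0 80 :=
  BT.sound vt_c31_cnt_P Known.nil (t := vt_c31_cnt_t) (d := 0) (by decide +kernel)

theorem vt_c31_ge : 80 ≤ Nat.card (grp 120 vt_c31_K) :=
  Ch.le_card_grp (k := 7) (L := (lab 120 7)) v_hn vt_c31_K_ok (c := (Ch.cons (nat_lit 18) [nat_lit 1] (Ch.cons (nat_lit 71) [nat_lit 3] (Ch.cons (nat_lit 62) [nat_lit 5, nat_lit 7] (Ch.cons (nat_lit 76) [nat_lit 9] Ch.nil))))) (by decide +kernel)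

theorem vt_c31_eq : (grp 120 vG) ⊓ Subgroup.centralizer {Net.toPerm 120 v_g431} = grp 120 vt_c31_K :=
  cent_eq vt_c31_sym vt_c31_cnt vt_c31_ge

theorem vt_c31_card : Nat.card ↥((grp 120 vG) ⊓ Subgroup.centralizer {Net.toPerm 120 v_g431}) = 80 :=
  card_cent vt_c31_sym vt_c31_cnt vt_c31_ge

theorem vt_c31_ord : orderOf (Net.toPerm 120 v_g431) = 10 :=
  orderOf_net v_hn v_hk v_g431_ok (by decide) (ps := [2, 5]) (by set_option linter.unusedSimpArgs false in simp [Nat.primeFactorsList_ofNat]) (by decide +kernel)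

theorem v_le439 : grp 120 vt_c32_K ≤ grp 120 vo_E0 :=
  grp_le_of_memB v_hn v_hk vo_E0_ok vt_c32_K_ok (ws := [nat_lit 0x2f2d1719070e, nat_lit 0x2d292317190d091801080b01, nat_lit 0x2923210f080b, nat_lit 0x2d292317190f080b01080b01]) (by decide +kernel)

theorem vt_c32_le : grp 120 vt_c32_K ≤ (grp 120 vG) :=
  (v_le439.trans vT_s0.le)

theorem vt_c32_mem : Net.toPerm 120 v_g418 ∈ (grp 120 vG) :=
  vt_c32_le (toPerm_mem_grp (E := vt_c32_K) (List.Mem.tail _ (List.Mem.head _)))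

theorem vt_c32_sym : Sym 120 (grp 120 vG) [v_g418] vt_c32_K 0 :=
  Sym.of_lab v_hn v_hk (okE_cons.2 ⟨v_g418_ok, okE_nil _⟩) vt_c32_K_ok vt_c32_le (kT := 0) (by decide +kernel)

theorem v_le444 : grp 120 v_V443 ≤ grp 120 v_V247 :=
  grp_le_of_memB v_hn v_hk v_V247_ok v_V443_ok (ws := [nat_lit 723205, nat_lit 0x70503010302, nat_lit 2309, nat_lit 5, nat_lit 0x905010302]) (by decide +kernel)

theorem vT_s127 : Stab 120 (grp 120 vG) [nat_lit 107, nat_lit 114, nat_lit 0] v_V443 32 :=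
  Stab.step (k := 7) (L := (lab 120 7)) v_hn vT_s59 v_V443_ok v_le444 (c := (Ch.cons (nat_lit 118) [nat_lit 1] (Ch.cons (nat_lit 117) [nat_lit 3] (Ch.cons (nat_lit 78) [nat_lit 5] (Ch.cons (nat_lit 82) [nat_lit 7] (Ch.cons (nat_lit 70) [nat_lit 9] Ch.nil)))))) (by decide +kernel)

theorem vT_s128 : Stab 120 (grp 120 vG) [nat_lit 118, nat_lit 107, nat_lit 114, nat_lit 0] v_V445 16 :=
  Stab.step (k := 7) (L := (lab 120 7)) v_hn vT_s127 v_V445_ok (grp_mono (List.subset_append_right [v_g440] _)) (c := (Ch.cons (nat_lit 117) [nat_lit 1] (Ch.cons (nat_lit 78) [nat_lit 3] (Ch.cons (nat_lit 82) [nat_lit 5] (Ch.cons (nat_lit 70) [nat_lit 7] Ch.nil))))) (by decide +kernel)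

theorem vT_s129 : Stab 120 (grp 120 vG) [nat_lit 117, nat_lit 118, nat_lit 107, nat_lit 114, nat_lit 0] v_V446 8 :=
  Stab.step (k := 7) (L := (lab 120 7)) v_hn vT_s128 v_V446_ok (grp_mono (List.subset_append_right [v_g441] _)) (c := (Ch.cons (nat_lit 78) [nat_lit 1] (Ch.cons (nat_lit 82) [nat_lit 3] (Ch.cons (nat_lit 70) [nat_lit 5] Ch.nil)))) (by decide +kernel)

theorem vT_s130 : Stab 120 (grp 120 vG) [nat_lit 78, nat_lit 117, nat_lit 118, nat_lit 107, nat_lit 114, nat_lit 0] v_V447 4 :=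
  Stab.step (k := 7) (L := (lab 120 7)) v_hn vT_s129 v_V447_ok (grp_mono (List.subset_append_right [v_g212] _)) (c := (Ch.cons (nat_lit 82) [nat_lit 1] (Ch.cons (nat_lit 70) [nat_lit 3] Ch.nil))) (by decide +kernel)

theorem vT_s131 : Stab 120 (grp 120 vG) [nat_lit 82, nat_lit 78, nat_lit 117, nat_lit 118, nat_lit 107, nat_lit 114, nat_lit 0] v_V448 2 :=
  Stab.step (k := 7) (L := (lab 120 7)) v_hn vT_s130 v_V448_ok (grp_mono (List.subset_append_right [v_g116] _)) (c := (Ch.cons (nat_lit 70) [nat_lit 1] Ch.nil)) (by decide +kernel)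

theorem vT_s132 : Stab 120 (grp 120 vG) [nat_lit 70, nat_lit 82, nat_lit 78, nat_lit 117, nat_lit 118, nat_lit 107, nat_lit 114, nat_lit 0] v_V449 1 :=
  Stab.step (k := 7) (L := (lab 120 7)) v_hn vT_s131 v_V449_ok (grp_mono (List.subset_append_right [v_g442] _)) (c := Ch.nil) (by decide +kernel)

theorem v_g440_vT : Net.toPerm 120 v_g440 ∈ (grp 120 vG) :=
  vT_s127.le (toPerm_mem_grp (E := v_V443) (List.Mem.head _))

theorem v_g441_vT : Net.toPerm 120 v_g441 ∈ (grp 120 vG) :=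
  vT_s127.le (toPerm_mem_grp (E := v_V443) (List.Mem.tail _ (List.Mem.head _)))

theorem v_g212_vT : Net.toPerm 120 v_g212 ∈ (grp 120 vG) :=
  vT_s127.le (toPerm_mem_grp (E := v_V443) (List.Mem.tail _ (List.Mem.tail _ (List.Mem.head _))))

theorem v_g442_vT : Net.toPerm 120 v_g442 ∈ (grp 120 vG) :=
  vT_s127.le (toPerm_mem_grp (E := v_V443) (List.Mem.tail _ (List.Mem.tail _ (List.Mem.tail _ (List.Mem.tail _ (List.Mem.head _))))))

noncomputable def vT_s132_O : ℕ := (nat_lit 0xffffffffffffff0000000000000000ffffff00000000ffffffff00000000ff0000ffff0000ffff0000ffff000000ff00ff00ff00ff00ff00ff00ff00f0f0f0f0f0f0f0f0f0f0f0f0f0f0f0ccccccccccccccccccccccccccccccaaaaaaaaaaaaaaaaaaaaaaaaaaaaaa000000000000000000000000000001040000000000000000000000000000000800000000000000000000000000400000000000000000000000000000200000000000000000000000000000000000000040000000000000000000000000000400000000000000000000000000000000400000000000000000)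

theorem vT_s132_F : Frame 120 (grp 120 vG) 8 15 vT_s132_O 1 1 :=
  IsBase.frame vT_s132.isBase (by decide +kernel)

noncomputable def vT_s128_O : ℕ := (nat_lit 0xba67bf6dcfbabe6e70600840080000b9b7139e2b0540120f1fcf7ec8000001d4a06a84ffb3838a9fec4026f600b9064e51e4fe417c0a9e01b82fc9e03361618f64f1e8e25c99a1273d319889c149791e89d94967d56915a8ad54000000000000000000000000000001040000000000000000000000000000000800000000000000000000000000400000000000000000000000000000)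

theorem vT_s128_F : Frame 120 (grp 120 vG) 4 10 vT_s128_O 0 1 :=
  Stab.frame v_hn vT_s128 (by decide +kernel)

noncomputable def vT_s127_O : ℕ := (nat_lit 0xfb67bf6dcfbabe6e70700040000000f8b7139e2f8540120f8fc77ee0000030d4a063807ff3c38a0fed400ef600c8434f58e07f893c4e0f08bc0fc9e08aa66af66a7830aa3b4ce8339d31988a35f586f1362735182aae6b48ad54000000000000000000000000000001040000000000000000000000000000000800000000000000000000000000)

theorem vT_s127_F : Frame 120 (grp 120 vG) 3 9 vT_s127_O 0 1 :=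
  Stab.frame v_hn vT_s127 (by decide +kernel)

noncomputable def vt_c32_cnt_L : List ℕ := [2, 17, vT_s59_O, 0, 0, 3, 9, vT_s127_O, 0, 0, 4, 10, vT_s128_O, 0, 0, 8, 15, vT_s132_O, 1, 0]

theorem vt_c32_cnt_P : Prob 120 7 (grp 120 vG) vt_c32_cnt_EG [v_g418] [v_g418] vt_c32_K vt_c32_cnt_L 0 0 :=
  Sym.prob v_hn v_hk vt_c32_sym vt_c32_cnt_EG_ok (grp_cons_le v_g7_vT (grp_cons_le v_g3_vT (grp_cons_le v_g4_vT (grp_cons_le v_g10_vT (grp_cons_le v_g16_vT (grp_cons_le v_g11_vT (grp_cons_le v_g12_vT (grp_cons_le v_g13_vT (grp_cons_le v_g22_vT (grp_cons_le v_g21_vT (grp_cons_le v_g26_vT (grp_cons_le v_g19_vT (grp_cons_le v_g20_vT (grp_cons_le v_g23_vT (grp_cons_le v_g30_vT (grp_cons_le v_g31_vT (grp_cons_le v_g32_vT (grp_cons_le v_g37_vT (grp_cons_le v_g38_vT (grp_cons_le v_g29_vT (grp_cons_le v_u_vT (grp_cons_le v_b_vT (grp_cons_le v_p0_vT (grp_cons_le v_p1_vT (grp_cons_le v_g244_vT (grp_cons_le v_g245_vT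 (grp_cons_le v_g116_vT (grp_cons_le v_g73_vT (grp_cons_le v_g92_vT (grp_cons_le v_g246_vT (grp_cons_le v_g440_vT (grp_cons_le v_g441_vT (grp_cons_le v_g212_vT (grp_cons_le v_g442_vT (grp_nil_le _))))))))))))))))))))))))))))))))))) (Frames.cons vT_s59_F (Frames.cons vT_s127_F (Frames.cons vT_s128_F (Frames.cons vT_s132_F Frames.nil)))) (okE_cons.2 ⟨v_g418_ok, okE_nil _⟩) _

noncomputable def vt_c32_cnt_t : BT := (BT.fix (nat_lit 1) (BT.br (nat_lit 0) (nat_lit 18) [nat_lit 1] (BT.kid (nat_lit 18) (nat_lit 40) (BT.fix (nat_lit 0x101010101) (BT.dif (nat_lit 5) (nat_lit 0) (BT.fix (nat_lit 257) (BT.dif (nat_lit 1) (nat_lit 0) (BT.br (nat_lit 0) (nat_lit 1) [nat_lit 3] (BT.dead (nat_lit 14) (BT.img (nat_lit 1) (nat_lit 0) (BT.frm (nat_lit 1) (nat_lit 0x32323303062b042b2e) (nat_lit 0x1012b042b2e) [nat_lit 0, nat_lit 1, nat_lit 6] (BT.pln (nat_lit 0) (nat_lit 3) (BT.and (nat_lit 0) (nat_lit 5) (BT.cnt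 (nat_lit 0)))))) (BT.dead (nat_lit 10) (BT.frm (nat_lit 0) (nat_lit 0x3062b042b2e) (nat_lit 0x1092b042b2e) [nat_lit 0, nat_lit 5] (BT.pln (nat_lit 0) (nat_lit 7) (BT.img (nat_lit 1) (nat_lit 2) (BT.and (nat_lit 1) (nat_lit 0) (BT.cnt (nat_lit 0)))))) (BT.dead (nat_lit 7) (BT.frm (nat_lit 0) (nat_lit 0x3062b042b2e) (nat_lit 0x62b042b2e) [nat_lit 0, nat_lit 5] (BT.pln (nat_lit 0) (nat_lit 7) (BT.img (nat_lit 1) (nat_lit 2) (BT.and (nat_lit 1) (nat_lit 0) (BT.cnt (nat_lit 0)))))) (BT.kid (nat_lit 1) (nat_lit 4) (BT.frm (nat_lit 0) (nat_lit 0x3062b042b2e) (nat_lit 0x3062b042b2e) [nat_lit 0, nat_lit 5] (BT.pln (nat_lit 0) (nat_lit 14) (BT.br (nat_lit 0) (nat_lit 19) [nat_lit 5] (BT.kid (nat_lit 19) (nat_lit 2) (BT.pln (nat_lit 2) (nat_lit 7) (BT.and (nat_lit 7) (nat_lit 0) (BT.img (nat_lit 1) (nat_lit 5) (BT.img (nat_lit 1) (nat_lit 0) (BT.frm (nat_lit 2) (nat_lit 0x32323303062b042b2e) (nat_lit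 0x32323303062b042b2e) [nat_lit 0, nat_lit 1, nat_lit 7, nat_lit 12] (BT.pln (nat_lit 0) (nat_lit 4) (BT.and (nat_lit 4) (nat_lit 0) (BT.br (nat_lit 0) (nat_lit 106) [nat_lit 7] (BT.kid (nat_lit 106) (nat_lit 1) (BT.img (nat_lit 1) (nat_lit 4) (BT.img (nat_lit 1) (nat_lit 0) (BT.one (nat_lit 3) (nat_lit 0x3f32323303062b042b2e) (nat_lit 0x3f32323303062b042b2e) [nat_lit 2, nat_lit 10, nat_lit 0, nat_lit 1, nat_lit 6, nat_lit 7, nat_lit 13, nat_lit 18]))) BT.nil))))))))) BT.nil)))) BT.nil))))))))) BT.nil)))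

theorem vt_c32_cnt : Cnt 120 (grp 120 vG) [v_g418] [v_g418] 0 0 0 0 80 :=
  BT.sound vt_c32_cnt_P Known.nil (t := vt_c32_cnt_t) (d := 0) (by decide +kernel)

theorem vt_c32_ge : 80 ≤ Nat.card (grp 120 vt_c32_K) :=
  Ch.le_card_grp (k := 7) (L := (lab 120 7)) v_hn vt_c32_K_ok (c := (Ch.cons (nat_lit 18) [nat_lit 1] (Ch.cons (nat_lit 1) [nat_lit 3] (Ch.cons (nat_lit 19) [nat_lit 5] (Ch.cons (nat_lit 106) [nat_lit 7] Ch.nil))))) (by decide +kernel)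

theorem vt_c32_eq : (grp 120 vG) ⊓ Subgroup.centralizer {Net.toPerm 120 v_g418} = grp 120 vt_c32_K :=
  cent_eq vt_c32_sym vt_c32_cnt vt_c32_ge

theorem vt_c32_card : Nat.card ↥((grp 120 vG) ⊓ Subgroup.centralizer {Net.toPerm 120 v_g418}) = 80 :=
  card_cent vt_c32_sym vt_c32_cnt vt_c32_ge

theorem vt_c32_ord : orderOf (Net.toPerm 120 v_g418) = 10 :=
  orderOf_net v_hn v_hk v_g418_ok (by decide) (ps := [2, 5]) (by set_option linter.unusedSimpArgs false in simp [Nat.primeFactorsList_ofNat]) (by decide +kernel)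

theorem v_le452 : grp 120 vt_c33_K ≤ grp 120 vo_E0 :=
  grp_le_of_memB v_hn v_hk vo_E0_ok vt_c33_K_ok (ws := [nat_lit 0x171913090e010b, nat_lit 0x29231b0d091b0104010b01]) (by decide +kernel)

theorem vt_c33_le : grp 120 vt_c33_K ≤ (grp 120 vG) :=
  (v_le452.trans vT_s0.le)

theorem vt_c33_mem : Net.toPerm 120 v_g450 ∈ (grp 120 vG) :=
  vt_c33_le (toPerm_mem_grp (E := vt_c33_K) (List.Mem.head _))

theorem vt_c33_sym : Sym 120 (grp 120 vG) [v_g450] vt_c33_K 0 :=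
  Sym.of_lab v_hn v_hk (okE_cons.2 ⟨v_g450_ok, okE_nil _⟩) vt_c33_K_ok vt_c33_le (kT := 0) (by decide +kernel)

theorem v_le455 : grp 120 v_V454 ≤ grp 120 v_V119 :=
  grp_le_of_memB v_hn v_hk v_V119_ok v_V454_ok (ws := [nat_lit 1797, nat_lit 460035, nat_lit 459521, nat_lit 0x9050301]) (by decide +kernel)

theorem vT_s133 : Stab 120 (grp 120 vG) [nat_lit 22, nat_lit 49, nat_lit 96, nat_lit 0] v_V454 16 :=
  Stab.step (k := 7) (L := (lab 120 7)) v_hn vT_s15 v_V454_ok v_le455 (c := (Ch.cons (nat_lit 93) [nat_lit 1] (Ch.cons (nat_lit 19) [nat_lit 3] (Ch.cons (nat_lit 17) [nat_lit 5] (Ch.cons (nat_lit 11) [nat_lit 7] Ch.nil))))) (by decide +kernel)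

theorem vT_s134 : Stab 120 (grp 120 vG) [nat_lit 93, nat_lit 22, nat_lit 49, nat_lit 96, nat_lit 0] v_V456 8 :=
  Stab.step (k := 7) (L := (lab 120 7)) v_hn vT_s133 v_V456_ok (grp_mono (List.subset_append_right [v_g113] _)) (c := (Ch.cons (nat_lit 19) [nat_lit 1] (Ch.cons (nat_lit 17) [nat_lit 3] (Ch.cons (nat_lit 11) [nat_lit 5] Ch.nil)))) (by decide +kernel)

theorem vT_s135 : Stab 120 (grp 120 vG) [nat_lit 19, nat_lit 93, nat_lit 22, nat_lit 49, nat_lit 96, nat_lit 0] v_V457 4 :=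
  Stab.step (k := 7) (L := (lab 120 7)) v_hn vT_s134 v_V457_ok (grp_mono (List.subset_append_right [v_g214] _)) (c := (Ch.cons (nat_lit 17) [nat_lit 1] (Ch.cons (nat_lit 11) [nat_lit 3] Ch.nil))) (by decide +kernel)

theorem vT_s136 : Stab 120 (grp 120 vG) [nat_lit 17, nat_lit 19, nat_lit 93, nat_lit 22, nat_lit 49, nat_lit 96, nat_lit 0] v_V458 2 :=
  Stab.step (k := 7) (L := (lab 120 7)) v_hn vT_s135 v_V458_ok (grp_mono (List.subset_append_right [v_g453] _)) (c := (Ch.cons (nat_lit 11) [nat_lit 1] Ch.nil)) (by decide +kernel)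

theorem vT_s137 : Stab 120 (grp 120 vG) [nat_lit 11, nat_lit 17, nat_lit 19, nat_lit 93, nat_lit 22, nat_lit 49, nat_lit 96, nat_lit 0] v_V459 1 :=
  Stab.step (k := 7) (L := (lab 120 7)) v_hn vT_s136 v_V459_ok (grp_mono (List.subset_append_right [v_g245] _)) (c := Ch.nil) (by decide +kernel)

theorem v_g453_vT : Net.toPerm 120 v_g453 ∈ (grp 120 vG) :=
  vT_s135.le (toPerm_mem_grp (E := v_V457) (List.Mem.head _))

noncomputable def vT_s137_O : ℕ := (nat_lit 0xffffffffffffff0000000000000000ffffff00000000ffffffff00000000ff0000ffff0000ffff0000ffff000000ff00ff00ff00ff00ff00ff00ff00f0f0f0f0f0f0f0f0f0f0f0f0f0f0f0ccccccccccccccccccccccccccccccaaaaaaaaaaaaaaaaaaaaaaaaaaaaaa000000000000000000000000000001000001000000000000000000000000000000000000000002000000000000000000000000000000000000400000000000200000000000000000000000000000000000000000000000080000000000000000000000000000020000000000000000000000000000000800)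

theorem vT_s137_F : Frame 120 (grp 120 vG) 8 15 vT_s137_O 1 1 :=
  IsBase.frame vT_s137.isBase (by decide +kernel)

noncomputable def vT_s136_O : ℕ := (nat_lit 0x4637129f4000000000000000000000000000000b4410e21406be1714701af940ac408ffebeee7c7ea000000000beff3040affff0d001815f7fa00000beb8ce980ff14b2fd4015f4014e700be868ac6aa0f173b2067583c159cd0356586552d8dc3a4b15595b291d2a8000000000000000000000000000001000001000000000000000000000000000000000000000002000000000000000000000000000000000000400000000000200000000000000000000000000000000000000000000000080000000000000000000000000000020000)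

theorem vT_s136_F : Frame 120 (grp 120 vG) 7 14 vT_s136_O 0 1 :=
  Stab.frame v_hn vT_s136 (by decide +kernel)

noncomputable def vt_c33_cnt_L : List ℕ := [1, 4, vT_s1_O, 0, 0, 7, 14, vT_s136_O, 0, 0, 8, 15, vT_s137_O, 1, 0]

theorem vt_c33_cnt_P : Prob 120 7 (grp 120 vG) vt_c33_cnt_EG [v_g450] [v_g450] vt_c33_K vt_c33_cnt_L 0 0 :=
  Sym.prob v_hn v_hk vt_c33_sym vt_c33_cnt_EG_ok (grp_cons_le v_b_vT (grp_cons_le v_p0_vT (grp_cons_le v_p1_vT (grp_cons_le v_g7_vT (grp_cons_le v_g3_vT (grp_cons_le v_g4_vT (grp_cons_le v_g10_vT (grp_cons_le v_g16_vT (grp_cons_le v_g11_vT (grp_cons_le v_g12_vT (grp_cons_le v_g13_vT (grp_cons_le v_g22_vT (grp_cons_le v_g21_vT (grp_cons_le v_g26_vT (grp_cons_le v_g19_vT (grp_cons_le v_g20_vT (grp_cons_le v_g23_vT (grp_cons_le v_g30_vT (grp_cons_le v_g31_vT (grp_cons_le v_g32_vT (grp_cons_le v_g37_vT (grp_cons_le v_g38_vT (grp_cons_le v_g29_vT (grp_cons_le v_u_vT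 (grp_cons_le v_g453_vT (grp_cons_le v_g245_vT (grp_cons_le v_g214_vT (grp_cons_le v_g113_vT (grp_cons_le v_g115_vT (grp_cons_le v_g116_vT (grp_cons_le v_g100_vT (grp_cons_le v_g117_vT (grp_cons_le v_g118_vT (grp_nil_le _)))))))))))))))))))))))))))))))))) (Frames.cons vT_s1_F (Frames.cons vT_s136_F (Frames.cons vT_s137_F Frames.nil))) (okE_cons.2 ⟨v_g450_ok, okE_nil _⟩) _

noncomputable def vt_c33_cnt_t : BT := (BT.br (nat_lit 2) (nat_lit 0) [nat_lit 1, nat_lit 3] (BT.dead (nat_lit 1) (BT.img (nat_lit 1) (nat_lit 0) (BT.img (nat_lit 1) (nat_lit 0) (BT.img (nat_lit 1) (nat_lit 0) (BT.img (nat_lit 1) (nat_lit 0) (BT.img (nat_lit 1) (nat_lit 0) (BT.img (nat_lit 1) (nat_lit 0) (BT.frm (nat_lit 1) (nat_lit 0x370e130b) (nat_lit 0x31370f07070c0105010309) [nat_lit 0, nat_lit 1, nat_lit 2, nat_lit 3, nat_lit 4, nat_lit 5, nat_lit 6] (BT.pln (nat_lit 0) (nat_lit 7) (BT.img (nat_lit 1) (nat_lit 2) (BT.img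 (nat_lit 1) (nat_lit 0) (BT.and (nat_lit 2) (nat_lit 0) (BT.cnt (nat_lit 0))))))))))))) (BT.dead (nat_lit 12) (BT.frm (nat_lit 0) (nat_lit 0) (nat_lit 0x10501040b) [nat_lit 0] (BT.pln (nat_lit 0) (nat_lit 1) (BT.img (nat_lit 1) (nat_lit 2) (BT.img (nat_lit 1) (nat_lit 0) (BT.img (nat_lit 1) (nat_lit 0) (BT.and (nat_lit 3) (nat_lit 0) (BT.cnt (nat_lit 0)))))))) (BT.dead (nat_lit 14) (BT.frm (nat_lit 0) (nat_lit 0) (nat_lit 0x1030119) [nat_lit 0] (BT.pln (nat_lit 0) (nat_lit 1) (BT.img (nat_lit 1) (nat_lit 2) (BT.img (nat_lit 1) (nat_lit 0) (BT.img (nat_lit 1) (nat_lit 0) (BT.and (nat_lit 3) (nat_lit 0) (BT.cnt (nat_lit 0)))))))) (BT.dead (nat_lit 4) (BT.frm (nat_lit 0) (nat_lit 0) (nat_lit 0x105010c) [nat_lit 0] (BT.pln (nat_lit 0) (nat_lit 1) (BT.img (nat_lit 1) (nat_lit 2) (BT.and (nat_lit 1) (nat_lit 0) (BT.cnt (nat_lit 0)))))) (BT.dead (nat_lit 3) (BT.frm (nat_lit 0) (nat_lit 0) (nat_lit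 0x10b0103) [nat_lit 0] (BT.pln (nat_lit 0) (nat_lit 1) (BT.img (nat_lit 1) (nat_lit 2) (BT.and (nat_lit 1) (nat_lit 0) (BT.cnt (nat_lit 0)))))) (BT.kid (nat_lit 0) (nat_lit 1) (BT.img (nat_lit 1) (nat_lit 0) (BT.img (nat_lit 1) (nat_lit 0) (BT.img (nat_lit 1) (nat_lit 0) (BT.img (nat_lit 1) (nat_lit 0) (BT.img (nat_lit 1) (nat_lit 0) (BT.img (nat_lit 1) (nat_lit 0) (BT.img (nat_lit 1) (nat_lit 0) (BT.one (nat_lit 2) (nat_lit 0x370e130b) (nat_lit 0x370e130b) [nat_lit 0, nat_lit 1, nat_lit 2, nat_lit 3, nat_lit 4, nat_lit 5, nat_lit 6, nat_lit 7])))))))) BT.nil)))))))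

theorem vt_c33_cnt : Cnt 120 (grp 120 vG) [v_g450] [v_g450] 0 0 0 0 20 :=
  BT.sound vt_c33_cnt_P Known.nil (t := vt_c33_cnt_t) (d := 0) (by decide +kernel)

theorem vt_c33_ge : 20 ≤ Nat.card (grp 120 vt_c33_K) :=
  Ch.le_card_grp (k := 7) (L := (lab 120 7)) v_hn vt_c33_K_ok (c := (Ch.cons (nat_lit 0) [nat_lit 1, nat_lit 3] Ch.nil)) (by decide +kernel)

theorem vt_c33_eq : (grp 120 vG) ⊓ Subgroup.centralizer {Net.toPerm 120 v_g450} = grp 120 vt_c33_K :=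
  cent_eq vt_c33_sym vt_c33_cnt vt_c33_ge

theorem vt_c33_card : Nat.card ↥((grp 120 vG) ⊓ Subgroup.centralizer {Net.toPerm 120 v_g450}) = 20 :=
  card_cent vt_c33_sym vt_c33_cnt vt_c33_ge

theorem vt_c33_ord : orderOf (Net.toPerm 120 v_g450) = 10 :=
  orderOf_net v_hn v_hk v_g450_ok (by decide) (ps := [2, 5]) (by set_option linter.unusedSimpArgs false in simp [Nat.primeFactorsList_ofNat]) (by decide +kernel)

theorem v_le462 : grp 120 vt_c34_K ≤ grp 120 vo_E0 :=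
  grp_le_of_memB v_hn v_hk vo_E0_ok vt_c34_K_ok (ws := [nat_lit 0x2d2923170f0808010309, nat_lit 0x291f080a0105010313]) (by decide +kernel)

theorem vt_c34_le : grp 120 vt_c34_K ≤ (grp 120 vG) :=
  (v_le462.trans vT_s0.le)

theorem vt_c34_mem : Net.toPerm 120 v_g460 ∈ (grp 120 vG) :=
  vt_c34_le (toPerm_mem_grp (E := vt_c34_K) (List.Mem.head _))

theorem vt_c34_sym : Sym 120 (grp 120 vG) [v_g460] vt_c34_K 0 :=
  Sym.of_lab v_hn v_hk (okE_cons.2 ⟨v_g460_ok, okE_nil _⟩) vt_c34_K_ok vt_c34_le (kT := 0) (by decide +kernel)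

noncomputable def vT_s135_O : ℕ := (nat_lit 0x20100000000000000000000000000fc66ba4dcfbab2ea14041a040010020198141261055cb67c7fdf7c001002fd26168c4fc51da779fb2002a6e400bcd656c2c17adc04e5e4dd02a50bc0f9a8f4ce60382ba4cd1cc2e782c330771c349b8b3621c6a4d2b6d231b2a8000000000000000000000000000001000001000000000000000000000000000000000000000002000000000000000000000000000000000000400000000000200000000000000000000000000000000000000000000000080000)

theorem vT_s135_F : Frame 120 (grp 120 vG) 6 13 vT_s135_O 0 1 :=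
  Stab.frame v_hn vT_s135 (by decide +kernel)

noncomputable def vT_s134_O : ℕ := (nat_lit 0xfe67be4dcfbaba6e74440204000000fdbf029e200554120dbfc77ea0000001d130428fffb5838c3fec000ef600b909d8116ff44768083a0bf40fc9e0050ed6c38b4b5ed64031ab4f1d319876c4c4487e89d7351d296b2988ad54000000000000000000000000000001000001000000000000000000000000000000000000000002000000000000000000000000000000000000400000000000200000000000000000000000)

theorem vT_s134_F : Frame 120 (grp 120 vG) 5 11 vT_s134_O 0 1 :=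
  Stab.frame v_hn vT_s134 (by decide +kernel)

noncomputable def vT_s133_O : ℕ := (nat_lit 0xfe67be6dcfbabe6e70640200000000fdbf129e2b0540120d9fc77ea0000001d1a06284fff383881fef000ef600bd0e4e51e4ff017c081b08f80fc9e0fbe9608f64f0a8e25c18e8671d3198755d487b1e8c99496556ac5588ad54000000000000000000000000000001000001000000000000000000000000000000000000000002000000000000000000000000000000000000400000)

theorem vT_s133_F : Frame 120 (grp 120 vG) 4 10 vT_s133_O 0 1 :=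
  Stab.frame v_hn vT_s133 (by decide +kernel)

noncomputable def vt_c34_cnt_L : List ℕ := [1, 4, vT_s1_O, 0, 0, 2, 13, vT_s2_O, 0, 0, 3, 9, vT_s15_O, 0, 0, 4, 10, vT_s133_O, 0, 0, 5, 11, vT_s134_O, 0, 0, 6, 13, vT_s135_O, 0, 0, 8, 15, vT_s137_O, 1, 0]

theorem vt_c34_cnt_P : Prob 120 7 (grp 120 vG) vt_c34_cnt_EG [v_g460] [v_g460] vt_c34_K vt_c34_cnt_L 0 0 :=
  Sym.prob v_hn v_hk vt_c34_sym vt_c34_cnt_EG_ok (grp_cons_le v_b_vT (grp_cons_le v_p0_vT (grp_cons_le v_p1_vT (grp_cons_le v_g7_vT (grp_cons_le v_g3_vT (grp_cons_le v_g4_vT (grp_cons_le v_g10_vT (grp_cons_le v_g16_vT (grp_cons_le v_g11_vT (grp_cons_le v_g12_vT (grp_cons_le v_g13_vT (grp_cons_le v_g22_vT (grp_cons_le v_g21_vT (grp_cons_le v_g26_vT (grp_cons_le v_g19_vT (grp_cons_le v_g20_vT (grp_cons_le v_g23_vT (grp_cons_le v_g30_vT (grp_cons_le v_g31_vT (grp_cons_le v_g32_vT (grp_cons_le v_g37_vT (grp_cons_le v_g38_vT (grp_cons_le v_g29_vT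 (grp_cons_le v_u_vT (grp_cons_le v_g115_vT (grp_cons_le v_g116_vT (grp_cons_le v_g100_vT (grp_cons_le v_g117_vT (grp_cons_le v_g118_vT (grp_cons_le v_g113_vT (grp_cons_le v_g214_vT (grp_cons_le v_g453_vT (grp_cons_le v_g245_vT (grp_nil_le _)))))))))))))))))))))))))))))))))) (Frames.cons vT_s1_F (Frames.cons vT_s2_F (Frames.cons vT_s15_F (Frames.cons vT_s133_F (Frames.cons vT_s134_F (Frames.cons vT_s135_F (Frames.cons vT_s137_F Frames.nil))))))) (okE_cons.2 ⟨v_g460_ok, okE_nil _⟩) _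

noncomputable def vt_c34_cnt_t : BT := (BT.br (nat_lit 2) (nat_lit 0) [nat_lit 1, nat_lit 3] (BT.dead (nat_lit 1) (BT.img (nat_lit 1) (nat_lit 0) (BT.img (nat_lit 1) (nat_lit 0) (BT.img (nat_lit 1) (nat_lit 0) (BT.img (nat_lit 1) (nat_lit 0) (BT.img (nat_lit 1) (nat_lit 0) (BT.img (nat_lit 1) (nat_lit 0) (BT.img (nat_lit 1) (nat_lit 0) (BT.img (nat_lit 1) (nat_lit 0) (BT.img (nat_lit 1) (nat_lit 0) (BT.frm (nat_lit 5) (nat_lit 0x3d3b0e130909) (nat_lit 0x3b3113070105010309) [nat_lit 2, nat_lit 5, nat_lit 0, nat_lit 7, nat_lit 8, nat_lit 9] (BT.pln (nat_lit 0) (nat_lit 7) (BT.frm (nat_lit 1) (nat_lit 2313) (nat_lit 0x70105010309) [nat_lit 10, nat_lit 11] (BT.pln (nat_lit 0) (nat_lit 3) (BT.frm (nat_lit 2) (nat_lit 0xe130909) (nat_lit 0x13070105010309) [nat_lit 11, nat_lit 12, nat_lit 13] (BT.pln (nat_lit 0) (nat_lit 8) (BT.and (nat_lit 2) (nat_lit 0) (BT.pln (nat_lit 2) (nat_lit 7) (BT.and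 (nat_lit 1) (nat_lit 0) (BT.pln (nat_lit 4) (nat_lit 3) (BT.dif (nat_lit 1) (nat_lit 0) (BT.pln (nat_lit 8) (nat_lit 8) (BT.pln (nat_lit 7) (nat_lit 5) (BT.dif (nat_lit 1) (nat_lit 0) (BT.pln (nat_lit 11) (nat_lit 6) (BT.and (nat_lit 0) (nat_lit 5) (BT.pln (nat_lit 13) (nat_lit 7) (BT.pln (nat_lit 12) (nat_lit 4) (BT.dif (nat_lit 1) (nat_lit 0) (BT.pln (nat_lit 14) (nat_lit 6) (BT.and (nat_lit 1) (nat_lit 0) (BT.frm (nat_lit 0) (nat_lit 0) (nat_lit 0x105010309) [nat_lit 30] (BT.pln (nat_lit 0) (nat_lit 1) (BT.and (nat_lit 0) (nat_lit 15) (BT.dif (nat_lit 0) (nat_lit 11) (BT.and (nat_lit 0) (nat_lit 5) (BT.pln (nat_lit 23) (nat_lit 5) (BT.and (nat_lit 0) (nat_lit 17) (BT.dif (nat_lit 0) (nat_lit 10) (BT.frm (nat_lit 3) (nat_lit 0xe130909) (nat_lit 0x3113070105010309) [nat_lit 29, nat_lit 36, nat_lit 37, nat_lit 38] (BT.pln (nat_lit 0) (nat_lit 6) (BT.dif (nat_lit 4) (nat_lit 0) (BT.pln (nat_lit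 2) (nat_lit 7) (BT.dif (nat_lit 1) (nat_lit 0) (BT.frm (nat_lit 4) (nat_lit 0x3b0e130909) (nat_lit 0x3b3113070105010309) [nat_lit 39, nat_lit 34, nat_lit 41, nat_lit 42, nat_lit 43] (BT.pln (nat_lit 0) (nat_lit 5) (BT.and (nat_lit 2) (nat_lit 0) (BT.img (nat_lit 1) (nat_lit 0) (BT.and (nat_lit 9) (nat_lit 0) (BT.img (nat_lit 1) (nat_lit 0) (BT.and (nat_lit 14) (nat_lit 0) (BT.img (nat_lit 1) (nat_lit 0) (BT.and (nat_lit 21) (nat_lit 0) (BT.img (nat_lit 1) (nat_lit 0) (BT.and (nat_lit 28) (nat_lit 0) (BT.img (nat_lit 1) (nat_lit 0) (BT.and (nat_lit 32) (nat_lit 0) (BT.img (nat_lit 1) (nat_lit 0) (BT.and (nat_lit 37) (nat_lit 0) (BT.img (nat_lit 1) (nat_lit 0) (BT.and (nat_lit 48) (nat_lit 0) (BT.cnt (nat_lit 0)))))))))))))))))))))))))))))))))))))))))))))))))))))))))))))) (BT.dead (nat_lit 12) (BT.frm (nat_lit 0) (nat_lit 0) (nat_lit 0x10501040b) [nat_lit 0] (BT.pln (nat_lit 0) (nat_lit 1) (BT.img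 (nat_lit 1) (nat_lit 2) (BT.and (nat_lit 1) (nat_lit 0) (BT.cnt (nat_lit 0)))))) (BT.dead (nat_lit 4) (BT.frm (nat_lit 0) (nat_lit 0) (nat_lit 0x105010c) [nat_lit 0] (BT.pln (nat_lit 0) (nat_lit 1) (BT.img (nat_lit 1) (nat_lit 2) (BT.img (nat_lit 1) (nat_lit 0) (BT.img (nat_lit 1) (nat_lit 0) (BT.and (nat_lit 3) (nat_lit 0) (BT.cnt (nat_lit 0)))))))) (BT.dead (nat_lit 3) (BT.frm (nat_lit 0) (nat_lit 0) (nat_lit 0x10b0103) [nat_lit 0] (BT.pln (nat_lit 0) (nat_lit 1) (BT.img (nat_lit 1) (nat_lit 2) (BT.img (nat_lit 1) (nat_lit 0) (BT.img (nat_lit 1) (nat_lit 0) (BT.and (nat_lit 3) (nat_lit 0) (BT.cnt (nat_lit 0)))))))) (BT.dead (nat_lit 14) (BT.frm (nat_lit 0) (nat_lit 0) (nat_lit 0x1030119) [nat_lit 0] (BT.pln (nat_lit 0) (nat_lit 1) (BT.img (nat_lit 1) (nat_lit 2) (BT.and (nat_lit 1) (nat_lit 0) (BT.cnt (nat_lit 0)))))) (BT.kid (nat_lit 0) (nat_lit 1) (BT.img (nat_lit 1) (nat_lit 0) (BT.img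 (nat_lit 1) (nat_lit 0) (BT.img (nat_lit 1) (nat_lit 0) (BT.img (nat_lit 1) (nat_lit 0) (BT.img (nat_lit 1) (nat_lit 0) (BT.img (nat_lit 1) (nat_lit 0) (BT.img (nat_lit 1) (nat_lit 0) (BT.img (nat_lit 1) (nat_lit 0) (BT.img (nat_lit 1) (nat_lit 0) (BT.one (nat_lit 6) (nat_lit 0x3d3b0e130909) (nat_lit 0x3d3b0e130909) [nat_lit 4, nat_lit 3, nat_lit 2, nat_lit 5, nat_lit 0, nat_lit 7, nat_lit 8, nat_lit 9])))))))))) BT.nil)))))))

theorem vt_c34_cnt : Cnt 120 (grp 120 vG) [v_g460] [v_g460] 0 0 0 0 20 :=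
  BT.sound vt_c34_cnt_P Known.nil (t := vt_c34_cnt_t) (d := 0) (by decide +kernel)

theorem vt_c34_ge : 20 ≤ Nat.card (grp 120 vt_c34_K) :=
  Ch.le_card_grp (k := 7) (L := (lab 120 7)) v_hn vt_c34_K_ok (c := (Ch.cons (nat_lit 0) [nat_lit 1, nat_lit 3] Ch.nil)) (by decide +kernel)

theorem vt_c34_eq : (grp 120 vG) ⊓ Subgroup.centralizer {Net.toPerm 120 v_g460} = grp 120 vt_c34_K :=
  cent_eq vt_c34_sym vt_c34_cnt vt_c34_ge

theorem vt_c34_card : Nat.card ↥((grp 120 vG) ⊓ Subgroup.centralizer {Net.toPerm 120 v_g460}) = 20 :=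
  card_cent vt_c34_sym vt_c34_cnt vt_c34_ge

theorem vt_c34_ord : orderOf (Net.toPerm 120 v_g460) = 10 :=
  orderOf_net v_hn v_hk v_g460_ok (by decide) (ps := [2, 5]) (by set_option linter.unusedSimpArgs false in simp [Nat.primeFactorsList_ofNat]) (by decide +kernel)

theorem v_le464 : grp 120 vt_c35_K ≤ grp 120 vo_E0 :=
  grp_le_of_memB v_hn v_hk vo_E0_ok vt_c35_K_ok (ws := [nat_lit 0x29230f070c010801, nat_lit 0x2923210d]) (by decide +kernel)

theorem vt_c35_le : grp 120 vt_c35_K ≤ (grp 120 vG) :=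
  (v_le464.trans vT_s0.le)

theorem vt_c35_mem : Net.toPerm 120 v_g463 ∈ (grp 120 vG) :=
  vt_c35_le (toPerm_mem_grp (E := vt_c35_K) (List.Mem.head _))

theorem vt_c35_sym : Sym 120 (grp 120 vG) [v_g463] vt_c35_K 0 :=
  Sym.of_lab v_hn v_hk (okE_cons.2 ⟨v_g463_ok, okE_nil _⟩) vt_c35_K_ok vt_c35_le (kT := 0) (by decide +kernel)

noncomputable def vt_c35_cnt_L : List ℕ := [1, 4, vT_s1_O, 0, 0, 3, 40, vT_s50_O, 0, 0, 4, 44, vT_s51_O, 0, 0, 5, 12, vT_s52_O, 0, 0, 6, 13, vT_s84_O, 0, 0, 7, 14, vT_s85_O, 0, 0, 8, 15, vT_s86_O, 1, 0]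

theorem vt_c35_cnt_P : Prob 120 7 (grp 120 vG) vt_c35_cnt_EG [v_g463] [v_g463] vt_c35_K vt_c35_cnt_L 0 0 :=
  Sym.prob v_hn v_hk vt_c35_sym vt_c35_cnt_EG_ok (grp_cons_le v_b_vT (grp_cons_le v_p0_vT (grp_cons_le v_p1_vT (grp_cons_le v_g7_vT (grp_cons_le v_g3_vT (grp_cons_le v_g4_vT (grp_cons_le v_g10_vT (grp_cons_le v_g16_vT (grp_cons_le v_g11_vT (grp_cons_le v_g12_vT (grp_cons_le v_g13_vT (grp_cons_le v_g22_vT (grp_cons_le v_g21_vT (grp_cons_le v_g26_vT (grp_cons_le v_g19_vT (grp_cons_le v_g20_vT (grp_cons_le v_g23_vT (grp_cons_le v_g30_vT (grp_cons_le v_g31_vT (grp_cons_le v_g32_vT (grp_cons_le v_g37_vT (grp_cons_le v_g38_vT (grp_cons_le v_g29_vT (grp_cons_le v_u_vT (grp_cons_le v_g214_vT (grp_cons_le v_g215_vT (grp_cons_le v_g216_vT (grp_cons_le v_g117_vT (grp_cons_le v_g217_vT (grp_cons_le v_g113_vT (grp_cons_le v_g100_vT (grp_nil_le _)))))))))))))))))))))))))))))))) (Frames.cons vT_s1_F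 (Frames.cons vT_s50_F (Frames.cons vT_s51_F (Frames.cons vT_s52_F (Frames.cons vT_s84_F (Frames.cons vT_s85_F (Frames.cons vT_s86_F Frames.nil))))))) (okE_cons.2 ⟨v_g463_ok, okE_nil _⟩) _

noncomputable def vt_c35_cnt_t : BT := (BT.fix (nat_lit 0x101010101) (BT.br (nat_lit 0) (nat_lit 0) [nat_lit 1] (BT.dead (nat_lit 45) (BT.img (nat_lit 1) (nat_lit 0) (BT.img (nat_lit 1) (nat_lit 0) (BT.img (nat_lit 1) (nat_lit 0) (BT.frm (nat_lit 2) (nat_lit 0x10070a) (nat_lit 0x3121090c010b010a) [nat_lit 0, nat_lit 2, nat_lit 1, nat_lit 3] (BT.pln (nat_lit 0) (nat_lit 32) (BT.img (nat_lit 1) (nat_lit 2) (BT.and (nat_lit 1) (nat_lit 0) (BT.cnt (nat_lit 0))))))))) (BT.dead (nat_lit 9) (BT.frm (nat_lit 0) (nat_lit 0) (nat_lit 0x107010a) [nat_lit 0] (BT.pln (nat_lit 0) (nat_lit 1) (BT.img (nat_lit 1) (nat_lit 2) (BT.and (nat_lit 1) (nat_lit 0) (BT.cnt (nat_lit 0)))))) (BT.dead (nat_lit 39) (BT.frm (nat_lit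 0) (nat_lit 0) (nat_lit 263) [nat_lit 0] (BT.pln (nat_lit 0) (nat_lit 1) (BT.img (nat_lit 1) (nat_lit 2) (BT.and (nat_lit 1) (nat_lit 0) (BT.cnt (nat_lit 0)))))) (BT.kid (nat_lit 0) (nat_lit 2) (BT.img (nat_lit 1) (nat_lit 0) (BT.img (nat_lit 1) (nat_lit 0) (BT.frm (nat_lit 1) (nat_lit 0x10070a) (nat_lit 0x10070a) [nat_lit 1, nat_lit 0, nat_lit 2] (BT.pln (nat_lit 0) (nat_lit 26) (BT.br (nat_lit 0) (nat_lit 91) [nat_lit 3] (BT.dead (nat_lit 118) (BT.img (nat_lit 1) (nat_lit 0) (BT.img (nat_lit 1) (nat_lit 0) (BT.img (nat_lit 1) (nat_lit 5) (BT.frm (nat_lit 5) (nat_lit 0x3310070a) (nat_lit 0x3d333510070a) [nat_lit 1, nat_lit 2, nat_lit 3, nat_lit 0, nat_lit 7, nat_lit 6, nat_lit 8] (BT.pln (nat_lit 0) (nat_lit 7) (BT.frm (nat_lit 0) (nat_lit 0) (nat_lit 0) [nat_lit 10] (BT.pln (nat_lit 0) (nat_lit 2) (BT.pln (nat_lit 9) (nat_lit 6) (BT.and (nat_lit 1) (nat_lit 0) (BT.frm (nat_lit 3) (nat_lit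 0x3310070a) (nat_lit 0x333510070a) [nat_lit 9, nat_lit 6, nat_lit 13, nat_lit 12, nat_lit 14] (BT.pln (nat_lit 0) (nat_lit 5) (BT.dif (nat_lit 2) (nat_lit 0) (BT.pln (nat_lit 14) (nat_lit 19) (BT.and (nat_lit 6) (nat_lit 0) (BT.and (nat_lit 0) (nat_lit 3) (BT.pln (nat_lit 17) (nat_lit 15) (BT.frm (nat_lit 4) (nat_lit 0x3310070a) (nat_lit 0x333510070a) [nat_lit 15, nat_lit 16, nat_lit 13, nat_lit 20, nat_lit 19, nat_lit 21] (BT.pln (nat_lit 0) (nat_lit 6) (BT.and (nat_lit 2) (nat_lit 0) (BT.img (nat_lit 1) (nat_lit 0) (BT.and (nat_lit 5) (nat_lit 0) (BT.img (nat_lit 1) (nat_lit 0) (BT.and (nat_lit 10) (nat_lit 0) (BT.img (nat_lit 1) (nat_lit 0) (BT.and (nat_lit 19) (nat_lit 0) (BT.cnt (nat_lit 0))))))))))))))))))))))))))) (BT.kid (nat_lit 91) (nat_lit 1) (BT.img (nat_lit 1) (nat_lit 0) (BT.img (nat_lit 1) (nat_lit 0) (BT.img (nat_lit 1) (nat_lit 0) (BT.img (nat_lit 1) (nat_lit 6) (BT.one (nat_lit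 6) (nat_lit 0x373310070a) (nat_lit 0x373310070a) [nat_lit 1, nat_lit 2, nat_lit 3, nat_lit 4, nat_lit 0, nat_lit 8, nat_lit 7, nat_lit 9]))))) BT.nil))))))) BT.nil))))))

theorem vt_c35_cnt : Cnt 120 (grp 120 vG) [v_g463] [v_g463] 0 0 0 0 10 :=
  BT.sound vt_c35_cnt_P Known.nil (t := vt_c35_cnt_t) (d := 0) (by decide +kernel)

theorem vt_c35_ge : 10 ≤ Nat.card (grp 120 vt_c35_K) :=
  Ch.le_card_grp (k := 7) (L := (lab 120 7)) v_hn vt_c35_K_ok (c := (Ch.cons (nat_lit 0) [nat_lit 1] (Ch.cons (nat_lit 91) [nat_lit 3] Ch.nil))) (by decide +kernel)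

theorem vt_c35_eq : (grp 120 vG) ⊓ Subgroup.centralizer {Net.toPerm 120 v_g463} = grp 120 vt_c35_K :=
  cent_eq vt_c35_sym vt_c35_cnt vt_c35_ge

theorem vt_c35_card : Nat.card ↥((grp 120 vG) ⊓ Subgroup.centralizer {Net.toPerm 120 v_g463}) = 10 :=
  card_cent vt_c35_sym vt_c35_cnt vt_c35_ge

theorem vt_c35_ord : orderOf (Net.toPerm 120 v_g463) = 10 :=
  orderOf_net v_hn v_hk v_g463_ok (by decide) (ps := [2, 5]) (by set_option linter.unusedSimpArgs false in simp [Nat.primeFactorsList_ofNat]) (by decide +kernel)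

theorem v_le466 : grp 120 vt_c36_K ≤ grp 120 vo_E0 :=
  grp_le_of_memB v_hn v_hk vo_E0_ok vt_c36_K_ok (ws := [nat_lit 0x2d29231713070c01080b, nat_lit 0x2923210d]) (by decide +kernel)

theorem vt_c36_le : grp 120 vt_c36_K ≤ (grp 120 vG) :=
  (v_le466.trans vT_s0.le)

theorem vt_c36_mem : Net.toPerm 120 v_g465 ∈ (grp 120 vG) :=
  vt_c36_le (toPerm_mem_grp (E := vt_c36_K) (List.Mem.head _))

theorem vt_c36_sym : Sym 120 (grp 120 vG) [v_g465] vt_c36_K 0 :=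
  Sym.of_lab v_hn v_hk (okE_cons.2 ⟨v_g465_ok, okE_nil _⟩) vt_c36_K_ok vt_c36_le (kT := 0) (by decide +kernel)

noncomputable def vt_c36_cnt_L : List ℕ := [1, 4, vT_s1_O, 0, 0, 2, 13, vT_s2_O, 0, 0, 3, 40, vT_s50_O, 0, 0, 4, 44, vT_s51_O, 0, 0, 5, 12, vT_s52_O, 0, 0, 6, 13, vT_s84_O, 0, 0, 7, 14, vT_s85_O, 0, 0, 8, 15, vT_s86_O, 1, 0]

theorem vt_c36_cnt_P : Prob 120 7 (grp 120 vG) vt_c36_cnt_EG [v_g465] [v_g465] vt_c36_K vt_c36_cnt_L 0 0 :=
  Sym.prob v_hn v_hk vt_c36_sym vt_c36_cnt_EG_ok (grp_cons_le v_b_vT (grp_cons_le v_p0_vT (grp_cons_le v_p1_vT (grp_cons_le v_g7_vT (grp_cons_le v_g3_vT (grp_cons_le v_g4_vT (grp_cons_le v_g10_vT (grp_cons_le v_g16_vT (grp_cons_le v_g11_vT (grp_cons_le v_g12_vT (grp_cons_le v_g13_vT (grp_cons_le v_g22_vT (grp_cons_le v_g21_vT (grp_cons_le v_g26_vT (grp_cons_le v_g19_vT (grp_cons_le v_g20_vT (grp_cons_le v_g23_vT (grp_cons_le v_g30_vT (grp_cons_le v_g31_vT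 (grp_cons_le v_g32_vT (grp_cons_le v_g37_vT (grp_cons_le v_g38_vT (grp_cons_le v_g29_vT (grp_cons_le v_u_vT (grp_cons_le v_g214_vT (grp_cons_le v_g215_vT (grp_cons_le v_g216_vT (grp_cons_le v_g117_vT (grp_cons_le v_g217_vT (grp_cons_le v_g113_vT (grp_cons_le v_g100_vT (grp_nil_le _)))))))))))))))))))))))))))))))) (Frames.cons vT_s1_F (Frames.cons vT_s2_F (Frames.cons vT_s50_F (Frames.cons vT_s51_F (Frames.cons vT_s52_F (Frames.cons vT_s84_F (Frames.cons vT_s85_F (Frames.cons vT_s86_F Frames.nil)))))))) (okE_cons.2 ⟨v_g465_ok, okE_nil _⟩) _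

noncomputable def vt_c36_cnt_t : BT := (BT.fix (nat_lit 0x101010101) (BT.br (nat_lit 0) (nat_lit 0) [nat_lit 1] (BT.dead (nat_lit 45) (BT.img (nat_lit 1) (nat_lit 0) (BT.img (nat_lit 1) (nat_lit 0) (BT.img (nat_lit 1) (nat_lit 0) (BT.img (nat_lit 1) (nat_lit 0) (BT.frm (nat_lit 3) (nat_lit 0x310e080b) (nat_lit 0x310e070c010b010a) [nat_lit 0, nat_lit 1, nat_lit 3, nat_lit 4] (BT.pln (nat_lit 0) (nat_lit 32) (BT.and (nat_lit 0) (nat_lit 4) (BT.cnt (nat_lit 0))))))))) (BT.dead (nat_lit 9) (BT.frm (nat_lit 0) (nat_lit 0) (nat_lit 0x107010a) [nat_lit 0] (BT.pln (nat_lit 0) (nat_lit 1) (BT.img (nat_lit 1) (nat_lit 2) (BT.and (nat_lit 1) (nat_lit 0) (BT.cnt (nat_lit 0)))))) (BT.dead (nat_lit 39) (BT.frm (nat_lit 0) (nat_lit 0) (nat_lit 263) [nat_lit 0] (BT.pln (nat_lit 0) (nat_lit 1) (BT.img (nat_lit 1) (nat_lit 2) (BT.and (nat_lit 1) (nat_lit 0) (BT.cnt (nat_lit 0)))))) (BT.kid (nat_lit 0) (nat_lit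 2) (BT.img (nat_lit 1) (nat_lit 0) (BT.img (nat_lit 1) (nat_lit 0) (BT.img (nat_lit 1) (nat_lit 0) (BT.frm (nat_lit 2) (nat_lit 919563) (nat_lit 919563) [nat_lit 0, nat_lit 2, nat_lit 3] (BT.pln (nat_lit 0) (nat_lit 26) (BT.br (nat_lit 0) (nat_lit 101) [nat_lit 3] (BT.dead (nat_lit 69) (BT.img (nat_lit 1) (nat_lit 0) (BT.img (nat_lit 1) (nat_lit 0) (BT.img (nat_lit 1) (nat_lit 0) (BT.img (nat_lit 1) (nat_lit 0) (BT.img (nat_lit 1) (nat_lit 0) (BT.img (nat_lit 1) (nat_lit 0) (BT.img (nat_lit 1) (nat_lit 9) (BT.frm (nat_lit 6) (nat_lit 0x3d3933310e080b) (nat_lit 0x393335310e080b) [nat_lit 1, nat_lit 4, nat_lit 7, nat_lit 0, nat_lit 10, nat_lit 12, nat_lit 13] (BT.pln (nat_lit 0) (nat_lit 7) (BT.frm (nat_lit 1) (nat_lit 2059) (nat_lit 2059) [nat_lit 14, nat_lit 15] (BT.pln (nat_lit 0) (nat_lit 8) (BT.dif (nat_lit 0) (nat_lit 18) (BT.frm (nat_lit 4) (nat_lit 0x33310e080b) (nat_lit 0x3335310e080b)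 [nat_lit 12, nat_lit 5, nat_lit 15, nat_lit 17, nat_lit 18] (BT.pln (nat_lit 0) (nat_lit 5) (BT.dif (nat_lit 2) (nat_lit 0) (BT.pln (nat_lit 5) (nat_lit 9) (BT.dif (nat_lit 0) (nat_lit 23) (BT.and (nat_lit 0) (nat_lit 3) (BT.frm (nat_lit 0) (nat_lit 0) (nat_lit 0) [nat_lit 24] (BT.pln (nat_lit 0) (nat_lit 2) (BT.pln (nat_lit 22) (nat_lit 6) (BT.and (nat_lit 1) (nat_lit 0) (BT.dif (nat_lit 0) (nat_lit 8) (BT.pln (nat_lit 25) (nat_lit 15) (BT.frm (nat_lit 5) (nat_lit 0x3933310e080b) (nat_lit 0x393335310e080b) [nat_lit 21, nat_lit 24, nat_lit 17, nat_lit 27, nat_lit 29, nat_lit 30] (BT.pln (nat_lit 0) (nat_lit 11) (BT.dif (nat_lit 2) (nat_lit 0) (BT.img (nat_lit 1) (nat_lit 0) (BT.and (nat_lit 5) (nat_lit 0) (BT.img (nat_lit 1) (nat_lit 0) (BT.and (nat_lit 12) (nat_lit 0) (BT.img (nat_lit 1) (nat_lit 0) (BT.and (nat_lit 17) (nat_lit 0) (BT.img (nat_lit 1) (nat_lit 0) (BT.and (nat_lit 25) (nat_lit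 0) (BT.cnt (nat_lit 0))))))))))))))))))))))))))))))))))))) (BT.kid (nat_lit 101) (nat_lit 1) (BT.img (nat_lit 1) (nat_lit 0) (BT.img (nat_lit 1) (nat_lit 0) (BT.img (nat_lit 1) (nat_lit 0) (BT.img (nat_lit 1) (nat_lit 0) (BT.img (nat_lit 1) (nat_lit 0) (BT.img (nat_lit 1) (nat_lit 0) (BT.img (nat_lit 1) (nat_lit 0) (BT.img (nat_lit 1) (nat_lit 0) (BT.img (nat_lit 1) (nat_lit 0) (BT.img (nat_lit 1) (nat_lit 12) (BT.one (nat_lit 7) (nat_lit 0x373d3933310e080b) (nat_lit 0x373d3933310e080b) [nat_lit 1, nat_lit 4, nat_lit 7, nat_lit 10, nat_lit 0, nat_lit 13, nat_lit 15, nat_lit 16]))))))))))) BT.nil)))))))) BT.nil))))))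

theorem vt_c36_cnt : Cnt 120 (grp 120 vG) [v_g465] [v_g465] 0 0 0 0 10 :=
  BT.sound vt_c36_cnt_P Known.nil (t := vt_c36_cnt_t) (d := 0) (by decide +kernel)

theorem vt_c36_ge : 10 ≤ Nat.card (grp 120 vt_c36_K) :=
  Ch.le_card_grp (k := 7) (L := (lab 120 7)) v_hn vt_c36_K_ok (c := (Ch.cons (nat_lit 0) [nat_lit 1] (Ch.cons (nat_lit 101) [nat_lit 3] Ch.nil))) (by decide +kernel)

theorem vt_c36_eq : (grp 120 vG) ⊓ Subgroup.centralizer {Net.toPerm 120 v_g465} = grp 120 vt_c36_K :=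
  cent_eq vt_c36_sym vt_c36_cnt vt_c36_ge

theorem vt_c36_card : Nat.card ↥((grp 120 vG) ⊓ Subgroup.centralizer {Net.toPerm 120 v_g465}) = 10 :=
  card_cent vt_c36_sym vt_c36_cnt vt_c36_ge

theorem vt_c36_ord : orderOf (Net.toPerm 120 v_g465) = 10 :=
  orderOf_net v_hn v_hk v_g465_ok (by decide) (ps := [2, 5]) (by set_option linter.unusedSimpArgs false in simp [Nat.primeFactorsList_ofNat]) (by decide +kernel)

theorem v_le470 : grp 120 vt_c37_K ≤ grp 120 vo_E0 :=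
  grp_le_of_memB v_hn v_hk vo_E0_ok vt_c37_K_ok (ws := [nat_lit 0x2f2d291b0913010705, nat_lit 0x2f2d2317190d08080105010313, nat_lit 0x2f2d291b080b]) (by decide +kernel)

theorem vt_c37_le : grp 120 vt_c37_K ≤ (grp 120 vG) :=
  (v_le470.trans vT_s0.le)

theorem vt_c37_mem : Net.toPerm 120 v_g467 ∈ (grp 120 vG) :=
  vt_c37_le (toPerm_mem_grp (E := vt_c37_K) (List.Mem.head _))

theorem vt_c37_sym : Sym 120 (grp 120 vG) [v_g467] vt_c37_K 0 :=
  Sym.of_lab v_hn v_hk (okE_cons.2 ⟨v_g467_ok, okE_nil _⟩) vt_c37_K_ok vt_c37_le (kT := 0) (by decide +kernel)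

theorem v_le473 : grp 120 v_V472 ≤ grp 120 v_V175 :=
  grp_le_of_memB v_hn v_hk v_V175_ok v_V472_ok (ws := [nat_lit 0x7050301, nat_lit 769, nat_lit 1795]) (by decide +kernel)

theorem vT_s138 : Stab 120 (grp 120 vG) [nat_lit 52, nat_lit 87, nat_lit 38, nat_lit 63, nat_lit 0] v_V472 8 :=
  Stab.step (k := 7) (L := (lab 120 7)) v_hn vT_s35 v_V472_ok v_le473 (c := (Ch.cons (nat_lit 97) [nat_lit 1] (Ch.cons (nat_lit 78) [nat_lit 3] (Ch.cons (nat_lit 83) [nat_lit 5] Ch.nil)))) (by decide +kernel)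

theorem vT_s139 : Stab 120 (grp 120 vG) [nat_lit 97, nat_lit 52, nat_lit 87, nat_lit 38, nat_lit 63, nat_lit 0] v_V474 4 :=
  Stab.step (k := 7) (L := (lab 120 7)) v_hn vT_s138 v_V474_ok (grp_mono (List.subset_append_right [v_g30] _)) (c := (Ch.cons (nat_lit 78) [nat_lit 1] (Ch.cons (nat_lit 83) [nat_lit 3] Ch.nil))) (by decide +kernel)

theorem vT_s140 : Stab 120 (grp 120 vG) [nat_lit 78, nat_lit 97, nat_lit 52, nat_lit 87, nat_lit 38, nat_lit 63, nat_lit 0] v_V475 2 :=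
  Stab.step (k := 7) (L := (lab 120 7)) v_hn vT_s139 v_V475_ok (grp_mono (List.subset_append_right [v_g471] _)) (c := (Ch.cons (nat_lit 83) [nat_lit 1] Ch.nil)) (by decide +kernel)

theorem vT_s141 : Stab 120 (grp 120 vG) [nat_lit 83, nat_lit 78, nat_lit 97, nat_lit 52, nat_lit 87, nat_lit 38, nat_lit 63, nat_lit 0] v_V476 1 :=
  Stab.step (k := 7) (L := (lab 120 7)) v_hn vT_s140 v_V476_ok (grp_mono (List.subset_append_right [v_g154] _)) (c := Ch.nil) (by decide +kernel)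

theorem v_g154_vT : Net.toPerm 120 v_g154 ∈ (grp 120 vG) :=
  vT_s140.le (toPerm_mem_grp (E := v_V475) (List.Mem.head _))

theorem v_g471_vT : Net.toPerm 120 v_g471 ∈ (grp 120 vG) :=
  vT_s139.le (toPerm_mem_grp (E := v_V474) (List.Mem.head _))

noncomputable def vT_s141_O : ℕ := (nat_lit 0xffffffffffffff0000000000000000ffffff00000000ffffffff00000000ff0000ffff0000ffff0000ffff000000ff00ff00ff00ff00ff00ff00ff00f0f0f0f0f0f0f0f0f0f0f0f0f0f0f0ccccccccccccccccccccccccccccccaaaaaaaaaaaaaaaaaaaaaaaaaaaaaa000000000000000000000000000001000000000000008000000000000000000000000000000000004000000000000000008000000000000000000000000000000000000010000000000000000002000000000000000000000000000000000040000000000000000000000000000800000000000000000000)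

theorem vT_s141_F : Frame 120 (grp 120 vG) 8 15 vT_s141_O 1 1 :=
  IsBase.frame vT_s141.isBase (by decide +kernel)

noncomputable def vt_c37_cnt_L : List ℕ := [1, 4, vT_s1_O, 0, 0, 2, 18, vT_s33_O, 0, 0, 3, 40, vT_s34_O, 0, 0, 4, 11, vT_s35_O, 0, 0, 8, 15, vT_s141_O, 1, 0]

theorem vt_c37_cnt_P : Prob 120 7 (grp 120 vG) vt_c37_cnt_EG [v_g467] [v_g467] vt_c37_K vt_c37_cnt_L 0 0 :=
  Sym.prob v_hn v_hk vt_c37_sym vt_c37_cnt_EG_ok (grp_cons_le v_b_vT (grp_cons_le v_p0_vT (grp_cons_le v_p1_vT (grp_cons_le v_g7_vT (grp_cons_le v_g3_vT (grp_cons_le v_g4_vT (grp_cons_le v_g10_vT (grp_cons_le v_g16_vT (grp_cons_le v_g11_vT (grp_cons_le v_g12_vT (grp_cons_le v_g13_vT (grp_cons_le v_g22_vT (grp_cons_le v_g21_vT (grp_cons_le v_g26_vT (grp_cons_le v_g19_vT (grp_cons_le v_g20_vT (grp_cons_le v_g23_vT (grp_cons_le v_g30_vT (grp_cons_le v_g31_vT (grp_cons_le v_g32_vT (grp_cons_le v_g37_vT (grp_cons_le v_g38_vT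 (grp_cons_le v_g29_vT (grp_cons_le v_u_vT (grp_cons_le v_g168_vT (grp_cons_le v_g169_vT (grp_cons_le v_g92_vT (grp_cons_le v_g170_vT (grp_cons_le v_g100_vT (grp_cons_le v_g117_vT (grp_cons_le v_g171_vT (grp_cons_le v_g154_vT (grp_cons_le v_g471_vT (grp_nil_le _)))))))))))))))))))))))))))))))))) (Frames.cons vT_s1_F (Frames.cons vT_s33_F (Frames.cons vT_s34_F (Frames.cons vT_s35_F (Frames.cons vT_s141_F Frames.nil))))) (okE_cons.2 ⟨v_g467_ok, okE_nil _⟩) _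

noncomputable def vt_c37_cnt_t : BT := (BT.fix (nat_lit 65793) (BT.fix (nat_lit 1) (BT.dif (nat_lit 1) (nat_lit 0) (BT.br (nat_lit 0) (nat_lit 25) [nat_lit 1] (BT.dead (nat_lit 60) (BT.img (nat_lit 1) (nat_lit 0) (BT.frm (nat_lit 1) (nat_lit 983306) (nat_lit 0x70b0103010b) [nat_lit 0, nat_lit 1] (BT.pln (nat_lit 0) (nat_lit 14) (BT.img (nat_lit 1) (nat_lit 2) (BT.and (nat_lit 1) (nat_lit 0) (BT.cnt (nat_lit 0))))))) (BT.kid (nat_lit 25) (nat_lit 8) (BT.img (nat_lit 1) (nat_lit 0) (BT.frm (nat_lit 1) (nat_lit 983306) (nat_lit 983306) [nat_lit 0, nat_lit 1] (BT.pln (nat_lit 0) (nat_lit 13) (BT.fix (nat_lit 0x10101010101) (BT.dif (nat_lit 1) (nat_lit 0) (BT.br (nat_lit 0) (nat_lit 36) [nat_lit 3] (BT.kid (nat_lit 36) (nat_lit 2) (BT.dif (nat_lit 12) (nat_lit 2) (BT.frm (nat_lit 2) (nat_lit 0x310f010a) (nat_lit 0x310f010a) [nat_lit 1, nat_lit 6, nat_lit 7] (BT.pln (nat_lit 0) (nat_lit 22) (BT.and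 (nat_lit 2) (nat_lit 0) (BT.br (nat_lit 0) (nat_lit 2) [] (BT.dead (nat_lit 84) (BT.frm (nat_lit 0) (nat_lit 266) (nat_lit 266) [nat_lit 11] (BT.pln (nat_lit 0) (nat_lit 2) (BT.and (nat_lit 6) (nat_lit 0) (BT.pln (nat_lit 6) (nat_lit 26) (BT.and (nat_lit 1) (nat_lit 0) (BT.img (nat_lit 1) (nat_lit 5) (BT.dif (nat_lit 1) (nat_lit 0) (BT.img (nat_lit 1) (nat_lit 12) (BT.img (nat_lit 1) (nat_lit 0) (BT.img (nat_lit 1) (nat_lit 0) (BT.frm (nat_lit 3) (nat_lit 0x310f010a) (nat_lit 0x310f010a) [nat_lit 0, nat_lit 15, nat_lit 20, nat_lit 21] (BT.pln (nat_lit 0) (nat_lit 6) (BT.dif (nat_lit 5) (nat_lit 0) (BT.br (nat_lit 0) (nat_lit 6) [nat_lit 5] (BT.dead (nat_lit 6) (BT.img (nat_lit 1) (nat_lit 8) (BT.frm (nat_lit 4) (nat_lit 0x3f4137310f010a) (nat_lit 0x3f41310f010a) [nat_lit 1, nat_lit 0, nat_lit 9, nat_lit 15, nat_lit 5, nat_lit 20, nat_lit 25, nat_lit 26] (BT.pln (nat_lit 0) (nat_lit 8) (BT.img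 (nat_lit 1) (nat_lit 3) (BT.and (nat_lit 1) (nat_lit 0) (BT.cnt (nat_lit 0))))))) BT.nil))))))))))))))) (BT.kid (nat_lit 2) (nat_lit 2) (BT.frm (nat_lit 0) (nat_lit 266) (nat_lit 266) [nat_lit 11] (BT.pln (nat_lit 0) (nat_lit 2) (BT.and (nat_lit 6) (nat_lit 0) (BT.pln (nat_lit 6) (nat_lit 26) (BT.and (nat_lit 1) (nat_lit 0) (BT.img (nat_lit 1) (nat_lit 5) (BT.dif (nat_lit 1) (nat_lit 0) (BT.img (nat_lit 1) (nat_lit 12) (BT.img (nat_lit 1) (nat_lit 0) (BT.img (nat_lit 1) (nat_lit 0) (BT.frm (nat_lit 3) (nat_lit 0x310f010a) (nat_lit 0x310f010a) [nat_lit 0, nat_lit 15, nat_lit 20, nat_lit 21] (BT.pln (nat_lit 0) (nat_lit 6) (BT.dif (nat_lit 5) (nat_lit 0) (BT.br (nat_lit 0) (nat_lit 6) [nat_lit 5] (BT.kid (nat_lit 6) (nat_lit 1) (BT.img (nat_lit 1) (nat_lit 8) (BT.one (nat_lit 4) (nat_lit 0x3f4137310f010a) (nat_lit 0x3f4137310f010a) [nat_lit 1, nat_lit 0, nat_lit 9, nat_lit 15, nat_lit 5, nat_lit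 20, nat_lit 25, nat_lit 26])) BT.nil))))))))))))))) BT.nil))))))) BT.nil))))))) BT.nil))))))

theorem vt_c37_cnt : Cnt 120 (grp 120 vG) [v_g467] [v_g467] 0 0 0 0 24 :=
  BT.sound vt_c37_cnt_P Known.nil (t := vt_c37_cnt_t) (d := 0) (by decide +kernel)

theorem vt_c37_ge : 24 ≤ Nat.card (grp 120 vt_c37_K) :=
  Ch.le_card_grp (k := 7) (L := (lab 120 7)) v_hn vt_c37_K_ok (c := (Ch.cons (nat_lit 25) [nat_lit 1] (Ch.cons (nat_lit 36) [nat_lit 3] (Ch.cons (nat_lit 6) [nat_lit 5] Ch.nil)))) (by decide +kernel)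

theorem vt_c37_eq : (grp 120 vG) ⊓ Subgroup.centralizer {Net.toPerm 120 v_g467} = grp 120 vt_c37_K :=
  cent_eq vt_c37_sym vt_c37_cnt vt_c37_ge

theorem vt_c37_card : Nat.card ↥((grp 120 vG) ⊓ Subgroup.centralizer {Net.toPerm 120 v_g467}) = 24 :=
  card_cent vt_c37_sym vt_c37_cnt vt_c37_ge

theorem vt_c37_ord : orderOf (Net.toPerm 120 v_g467) = 12 :=
  orderOf_net v_hn v_hk v_g467_ok (by decide) (ps := [2, 3]) (by set_option linter.unusedSimpArgs false in simp [Nat.primeFactorsList_ofNat]) (by decide +kernel)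

theorem v_le479 : grp 120 vt_c38_K ≤ grp 120 vo_E0 :=
  grp_le_of_memB v_hn v_hk vo_E0_ok vt_c38_K_ok (ws := [nat_lit 0x1719130a080103010801, nat_lit 0x2923170f091101050123]) (by decide +kernel)

theorem vt_c38_le : grp 120 vt_c38_K ≤ (grp 120 vG) :=
  (v_le479.trans vT_s0.le)

theorem vt_c38_mem : Net.toPerm 120 v_g477 ∈ (grp 120 vG) :=
  vt_c38_le (toPerm_mem_grp (E := vt_c38_K) (List.Mem.head _))

theorem vt_c38_sym : Sym 120 (grp 120 vG) [v_g477] vt_c38_K 0 :=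
  Sym.of_lab v_hn v_hk (okE_cons.2 ⟨v_g477_ok, okE_nil _⟩) vt_c38_K_ok vt_c38_le (kT := 0) (by decide +kernel)

theorem v_le481 : grp 120 v_V480 ≤ grp 120 v_V201 :=
  grp_le_of_memB v_hn v_hk v_V201_ok v_V480_ok (ws := [nat_lit 5, nat_lit 769]) (by decide +kernel)

theorem vT_s142 : Stab 120 (grp 120 vG) [nat_lit 64, nat_lit 60, nat_lit 71, nat_lit 37, nat_lit 63, nat_lit 0] v_V480 4 :=
  Stab.step (k := 7) (L := (lab 120 7)) v_hn vT_s46 v_V480_ok v_le481 (c := (Ch.cons (nat_lit 113) [nat_lit 1] (Ch.cons (nat_lit 69) [nat_lit 3] Ch.nil))) (by decide +kernel)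

theorem vT_s143 : Stab 120 (grp 120 vG) [nat_lit 113, nat_lit 64, nat_lit 60, nat_lit 71, nat_lit 37, nat_lit 63, nat_lit 0] v_V482 2 :=
  Stab.step (k := 7) (L := (lab 120 7)) v_hn vT_s142 v_V482_ok (grp_mono (List.subset_append_right [v_g29] _)) (c := (Ch.cons (nat_lit 69) [nat_lit 1] Ch.nil)) (by decide +kernel)

theorem vT_s144 : Stab 120 (grp 120 vG) [nat_lit 69, nat_lit 113, nat_lit 64, nat_lit 60, nat_lit 71, nat_lit 37, nat_lit 63, nat_lit 0] v_V483 1 :=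
  Stab.step (k := 7) (L := (lab 120 7)) v_hn vT_s143 v_V483_ok (grp_mono (List.subset_append_right [v_g352] _)) (c := Ch.nil) (by decide +kernel)

noncomputable def vT_s144_O : ℕ := (nat_lit 0xffffffffffffff0000000000000000ffffff00000000ffffffff00000000ff0000ffff0000ffff0000ffff000000ff00ff00ff00ff00ff00ff00ff00f0f0f0f0f0f0f0f0f0f0f0f0f0f0f0ccccccccccccccccccccccccccccccaaaaaaaaaaaaaaaaaaaaaaaaaaaaaa000000000000000000000000000001000000000000008000000000000000000000000000000000002000000000000000000000800000000000000000000000000000001000000000000000000000000000010000000000000000020000000000000000000000000000000000000000200000000000000000)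

theorem vT_s144_F : Frame 120 (grp 120 vG) 8 15 vT_s144_O 1 1 :=
  IsBase.frame vT_s144.isBase (by decide +kernel)

noncomputable def vT_s45_O : ℕ := (nat_lit 0x200000000000000000000000000000dc67bf6dcfba3a6e480810010030129fde0212203544123e7fd57d003012536111ce8fff05023bff9a02eec00053f9e1ad0a307641b1f04743e13790dad139b865c4302bbb464cb38c2e6216a5f5c461296737122d4b2b589d4a000000000000000000000000000001000000000000008000000000000000000000000000000000002000000000000000000000800000000000000000)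

theorem vT_s45_F : Frame 120 (grp 120 vG) 4 11 vT_s45_O 0 1 :=
  Stab.frame v_hn vT_s45 (by decide +kernel)

noncomputable def vt_c38_cnt_L : List ℕ := [1, 4, vT_s1_O, 0, 0, 2, 18, vT_s33_O, 0, 0, 3, 9, vT_s44_O, 0, 0, 4, 11, vT_s45_O, 0, 0, 8, 15, vT_s144_O, 1, 0]

theorem vt_c38_cnt_P : Prob 120 7 (grp 120 vG) vt_c38_cnt_EG [v_g477] [v_g477] vt_c38_K vt_c38_cnt_L 0 0 :=
  Sym.prob v_hn v_hk vt_c38_sym vt_c38_cnt_EG_ok (grp_cons_le v_b_vT (grp_cons_le v_p0_vT (grp_cons_le v_p1_vT (grp_cons_le v_g7_vT (grp_cons_le v_g3_vT (grp_cons_le v_g4_vT (grp_cons_le v_g10_vT (grp_cons_le v_g16_vT (grp_cons_le v_g11_vT (grp_cons_le v_g12_vT (grp_cons_le v_g13_vT (grp_cons_le v_g22_vT (grp_cons_le v_g21_vT (grp_cons_le v_g26_vT (grp_cons_le v_g19_vT (grp_cons_le v_g20_vT (grp_cons_le v_g23_vT (grp_cons_le v_g30_vT (grp_cons_le v_g31_vT (grp_cons_le v_g32_vT (grp_cons_le v_g37_vT (grp_cons_le v_g38_vT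 (grp_cons_le v_g29_vT (grp_cons_le v_u_vT (grp_cons_le v_g168_vT (grp_cons_le v_g169_vT (grp_cons_le v_g92_vT (grp_cons_le v_g170_vT (grp_cons_le v_g100_vT (grp_cons_le v_g117_vT (grp_cons_le v_g171_vT (grp_cons_le v_g196_vT (grp_cons_le v_g197_vT (grp_cons_le v_g352_vT (grp_nil_le _))))))))))))))))))))))))))))))))))) (Frames.cons vT_s1_F (Frames.cons vT_s33_F (Frames.cons vT_s44_F (Frames.cons vT_s45_F (Frames.cons vT_s144_F Frames.nil))))) (okE_cons.2 ⟨v_g477_ok, okE_nil _⟩) _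

noncomputable def vt_c38_cnt_t : BT := (BT.fix (nat_lit 0x1010101) (BT.fix (nat_lit 257) (BT.dif (nat_lit 1) (nat_lit 0) (BT.br (nat_lit 0) (nat_lit 3) [nat_lit 1] (BT.kid (nat_lit 3) (nat_lit 6) (BT.frm (nat_lit 0) (nat_lit 0x10b0103) (nat_lit 0x10b0103) [nat_lit 0] (BT.pln (nat_lit 0) (nat_lit 1) (BT.fix (nat_lit 0x10101010101) (BT.dif (nat_lit 1) (nat_lit 0) (BT.dif (nat_lit 0) (nat_lit 7) (BT.pln (nat_lit 4) (nat_lit 2) (BT.dif (nat_lit 0) (nat_lit 3) (BT.img (nat_lit 1) (nat_lit 0) (BT.dif (nat_lit 3) (nat_lit 0) (BT.br (nat_lit 0) (nat_lit 53) [nat_lit 3] (BT.kid (nat_lit 53) (nat_lit 1) (BT.dif (nat_lit 16) (nat_lit 7) (BT.dif (nat_lit 0) (nat_lit 9) (BT.dif (nat_lit 0) (nat_lit 6) (BT.dif (nat_lit 0) (nat_lit 5) (BT.img (nat_lit 1) (nat_lit 14) (BT.frm (nat_lit 2) (nat_lit 0x3135080e010b0103) (nat_lit 0x3135080e010b0103) [nat_lit 5, nat_lit 0, nat_lit 15] (BT.pln (nat_lit 0) (nat_lit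 7) (BT.dif (nat_lit 3) (nat_lit 0) (BT.pln (nat_lit 2) (nat_lit 3) (BT.dif (nat_lit 1) (nat_lit 0) (BT.pln (nat_lit 4) (nat_lit 6) (BT.dif (nat_lit 1) (nat_lit 0) (BT.dif (nat_lit 0) (nat_lit 25) (BT.br (nat_lit 0) (nat_lit 28) [] (BT.dead (nat_lit 92) (BT.img (nat_lit 1) (nat_lit 0) (BT.img (nat_lit 1) (nat_lit 15) (BT.img (nat_lit 1) (nat_lit 0) (BT.frm (nat_lit 1) (nat_lit 0x80e010b0103) (nat_lit 0x80e010b0103) [nat_lit 12, nat_lit 27] (BT.pln (nat_lit 0) (nat_lit 3) (BT.fix (nat_lit 65793) (BT.dif (nat_lit 1) (nat_lit 0) (BT.and (nat_lit 0) (nat_lit 12) (BT.pln (nat_lit 16) (nat_lit 4) (BT.and (nat_lit 4) (nat_lit 0) (BT.pln (nat_lit 18) (nat_lit 5) (BT.and (nat_lit 4) (nat_lit 0) (BT.pln (nat_lit 8) (nat_lit 6) (BT.dif (nat_lit 0) (nat_lit 2) (BT.pln (nat_lit 22) (nat_lit 8) (BT.and (nat_lit 37) (nat_lit 0) (BT.and (nat_lit 0) (nat_lit 23) (BT.and (nat_lit 0) (nat_lit 22) (BT.dif (nat_lit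 0) (nat_lit 45) (BT.img (nat_lit 1) (nat_lit 0) (BT.and (nat_lit 6) (nat_lit 0) (BT.frm (nat_lit 3) (nat_lit 0x3135080e010b0103) (nat_lit 0x3135080e010b0103) [nat_lit 0, nat_lit 35, nat_lit 30, nat_lit 45] (BT.pln (nat_lit 0) (nat_lit 4) (BT.and (nat_lit 11) (nat_lit 0) (BT.img (nat_lit 1) (nat_lit 0) (BT.and (nat_lit 15) (nat_lit 0) (BT.img (nat_lit 1) (nat_lit 0) (BT.and (nat_lit 19) (nat_lit 0) (BT.frm (nat_lit 4) (nat_lit 0x2d41233135080e010b0103) (nat_lit 0x4341233135080e010b0103) [nat_lit 27, nat_lit 28, nat_lit 25, nat_lit 0, nat_lit 7, nat_lit 42, nat_lit 37, nat_lit 52] (BT.pln (nat_lit 0) (nat_lit 8) (BT.img (nat_lit 1) (nat_lit 29) (BT.and (nat_lit 1) (nat_lit 0) (BT.cnt (nat_lit 0)))))))))))))))))))))))))))))))))) (BT.kid (nat_lit 28) (nat_lit 1) (BT.img (nat_lit 1) (nat_lit 0) (BT.img (nat_lit 1) (nat_lit 15) (BT.img (nat_lit 1) (nat_lit 0) (BT.frm (nat_lit 1) (nat_lit 0x80e010b0103)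 (nat_lit 0x80e010b0103) [nat_lit 12, nat_lit 27] (BT.pln (nat_lit 0) (nat_lit 3) (BT.fix (nat_lit 65793) (BT.dif (nat_lit 1) (nat_lit 0) (BT.and (nat_lit 0) (nat_lit 12) (BT.pln (nat_lit 16) (nat_lit 4) (BT.and (nat_lit 4) (nat_lit 0) (BT.pln (nat_lit 18) (nat_lit 5) (BT.and (nat_lit 4) (nat_lit 0) (BT.pln (nat_lit 8) (nat_lit 6) (BT.dif (nat_lit 0) (nat_lit 2) (BT.pln (nat_lit 22) (nat_lit 8) (BT.and (nat_lit 37) (nat_lit 0) (BT.and (nat_lit 0) (nat_lit 23) (BT.and (nat_lit 0) (nat_lit 22) (BT.dif (nat_lit 0) (nat_lit 45) (BT.img (nat_lit 1) (nat_lit 0) (BT.and (nat_lit 6) (nat_lit 0) (BT.frm (nat_lit 3) (nat_lit 0x3135080e010b0103) (nat_lit 0x3135080e010b0103) [nat_lit 0, nat_lit 35, nat_lit 30, nat_lit 45] (BT.pln (nat_lit 0) (nat_lit 4) (BT.and (nat_lit 11) (nat_lit 0) (BT.img (nat_lit 1) (nat_lit 0) (BT.and (nat_lit 15) (nat_lit 0) (BT.img (nat_lit 1) (nat_lit 0) (BT.and (nat_lit 19)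 (nat_lit 0) (BT.one (nat_lit 4) (nat_lit 0x2d41233135080e010b0103) (nat_lit 0x2d41233135080e010b0103) [nat_lit 27, nat_lit 28, nat_lit 25, nat_lit 0, nat_lit 7, nat_lit 42, nat_lit 37, nat_lit 52]))))))))))))))))))))))))))))) BT.nil)))))))))))))))) BT.nil))))))))))) BT.nil)))))

theorem vt_c38_cnt : Cnt 120 (grp 120 vG) [v_g477] [v_g477] 0 0 0 0 24 :=
  BT.sound vt_c38_cnt_P Known.nil (t := vt_c38_cnt_t) (d := 0) (by decide +kernel)

theorem vt_c38_ge : 24 ≤ Nat.card (grp 120 vt_c38_K) :=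
  Ch.le_card_grp (k := 7) (L := (lab 120 7)) v_hn vt_c38_K_ok (c := (Ch.cons (nat_lit 3) [nat_lit 1] (Ch.cons (nat_lit 53) [nat_lit 3] Ch.nil))) (by decide +kernel)

theorem vt_c38_eq : (grp 120 vG) ⊓ Subgroup.centralizer {Net.toPerm 120 v_g477} = grp 120 vt_c38_K :=
  cent_eq vt_c38_sym vt_c38_cnt vt_c38_ge

theorem vt_c38_card : Nat.card ↥((grp 120 vG) ⊓ Subgroup.centralizer {Net.toPerm 120 v_g477}) = 24 :=
  card_cent vt_c38_sym vt_c38_cnt vt_c38_ge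

theorem vt_c38_ord : orderOf (Net.toPerm 120 v_g477) = 12 :=
  orderOf_net v_hn v_hk v_g477_ok (by decide) (ps := [2, 3]) (by set_option linter.unusedSimpArgs false in simp [Nat.primeFactorsList_ofNat]) (by decide +kernel)

theorem v_le485 : grp 120 vt_c39_K ≤ grp 120 vo_E0 :=
  grp_le_of_memB v_hn v_hk vo_E0_ok vt_c39_K_ok (ws := [nat_lit 0x2f292317190f070b01050103, nat_lit 0x2923170f091101050123]) (by decide +kernel)

theorem vt_c39_le : grp 120 vt_c39_K ≤ (grp 120 vG) :=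
  (v_le485.trans vT_s0.le)

theorem vt_c39_mem : Net.toPerm 120 v_g484 ∈ (grp 120 vG) :=
  vt_c39_le (toPerm_mem_grp (E := vt_c39_K) (List.Mem.head _))

theorem vt_c39_sym : Sym 120 (grp 120 vG) [v_g484] vt_c39_K 0 :=
  Sym.of_lab v_hn v_hk (okE_cons.2 ⟨v_g484_ok, okE_nil _⟩) vt_c39_K_ok vt_c39_le (kT := 0) (by decide +kernel)

noncomputable def vt_c39_cnt_L : List ℕ := [1, 4, vT_s1_O, 0, 0, 2, 18, vT_s33_O, 0, 0, 3, 9, vT_s44_O, 0, 0, 4, 11, vT_s45_O, 0, 0, 8, 15, vT_s144_O, 1, 0]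

theorem vt_c39_cnt_P : Prob 120 7 (grp 120 vG) vt_c39_cnt_EG [v_g484] [v_g484] vt_c39_K vt_c39_cnt_L 0 0 :=
  Sym.prob v_hn v_hk vt_c39_sym vt_c39_cnt_EG_ok (grp_cons_le v_b_vT (grp_cons_le v_p0_vT (grp_cons_le v_p1_vT (grp_cons_le v_g7_vT (grp_cons_le v_g3_vT (grp_cons_le v_g4_vT (grp_cons_le v_g10_vT (grp_cons_le v_g16_vT (grp_cons_le v_g11_vT (grp_cons_le v_g12_vT (grp_cons_le v_g13_vT (grp_cons_le v_g22_vT (grp_cons_le v_g21_vT (grp_cons_le v_g26_vT (grp_cons_le v_g19_vT (grp_cons_le v_g20_vT (grp_cons_le v_g23_vT (grp_cons_le v_g30_vT (grp_cons_le v_g31_vT (grp_cons_le v_g32_vT (grp_cons_le v_g37_vT (grp_cons_le v_g38_vT (grp_cons_le v_g29_vT (grp_cons_le v_u_vT (grp_cons_le v_g168_vT (grp_cons_le v_g169_vT (grp_cons_le v_g92_vT (grp_cons_le v_g170_vT (grp_cons_le v_g100_vT (grp_cons_le v_g117_vT (grp_cons_le v_g171_vT (grp_cons_le v_g196_vT (grp_cons_le v_g197_vT (grp_cons_le v_g352_vT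 (grp_nil_le _))))))))))))))))))))))))))))))))))) (Frames.cons vT_s1_F (Frames.cons vT_s33_F (Frames.cons vT_s44_F (Frames.cons vT_s45_F (Frames.cons vT_s144_F Frames.nil))))) (okE_cons.2 ⟨v_g484_ok, okE_nil _⟩) _

noncomputable def vt_c39_cnt_t : BT := (BT.fix (nat_lit 0x1010101) (BT.fix (nat_lit 257) (BT.dif (nat_lit 1) (nat_lit 0) (BT.br (nat_lit 0) (nat_lit 3) [nat_lit 1] (BT.kid (nat_lit 3) (nat_lit 6) (BT.frm (nat_lit 0) (nat_lit 0x10b0103) (nat_lit 0x10b0103) [nat_lit 0] (BT.pln (nat_lit 0) (nat_lit 1) (BT.fix (nat_lit 0x10101010101) (BT.dif (nat_lit 1) (nat_lit 0) (BT.dif (nat_lit 0) (nat_lit 7) (BT.pln (nat_lit 4) (nat_lit 2) (BT.dif (nat_lit 0) (nat_lit 3) (BT.img (nat_lit 1) (nat_lit 0) (BT.dif (nat_lit 3) (nat_lit 0) (BT.br (nat_lit 0) (nat_lit 53) [nat_lit 3] (BT.kid (nat_lit 53) (nat_lit 1) (BT.dif (nat_lit 16) (nat_lit 7) (BT.dif (nat_lit 0) (nat_lit 9) (BT.dif (nat_lit 0) (nat_lit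 6) (BT.dif (nat_lit 0) (nat_lit 5) (BT.img (nat_lit 1) (nat_lit 14) (BT.frm (nat_lit 2) (nat_lit 0x3135080e010b0103) (nat_lit 0x3135080e010b0103) [nat_lit 5, nat_lit 0, nat_lit 15] (BT.pln (nat_lit 0) (nat_lit 7) (BT.dif (nat_lit 3) (nat_lit 0) (BT.pln (nat_lit 2) (nat_lit 3) (BT.dif (nat_lit 1) (nat_lit 0) (BT.pln (nat_lit 4) (nat_lit 6) (BT.dif (nat_lit 1) (nat_lit 0) (BT.dif (nat_lit 0) (nat_lit 25) (BT.br (nat_lit 0) (nat_lit 28) [] (BT.dead (nat_lit 92) (BT.img (nat_lit 1) (nat_lit 0) (BT.img (nat_lit 1) (nat_lit 0) (BT.img (nat_lit 1) (nat_lit 0) (BT.img (nat_lit 1) (nat_lit 0) (BT.img (nat_lit 1) (nat_lit 0) (BT.img (nat_lit 1) (nat_lit 19) (BT.img (nat_lit 1) (nat_lit 0) (BT.img (nat_lit 1) (nat_lit 0) (BT.img (nat_lit 1) (nat_lit 0) (BT.frm (nat_lit 1) (nat_lit 0x80e010b0103) (nat_lit 0x80e010b0103) [nat_lit 18, nat_lit 33] (BT.pln (nat_lit 0) (nat_lit 3) (BT.fix (nat_lit 65793) (BT.dif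 (nat_lit 1) (nat_lit 0) (BT.and (nat_lit 0) (nat_lit 18) (BT.pln (nat_lit 22) (nat_lit 5) (BT.and (nat_lit 2) (nat_lit 0) (BT.pln (nat_lit 6) (nat_lit 6) (BT.dif (nat_lit 0) (nat_lit 2) (BT.and (nat_lit 40) (nat_lit 39) (BT.and (nat_lit 0) (nat_lit 26) (BT.dif (nat_lit 0) (nat_lit 23) (BT.dif (nat_lit 0) (nat_lit 6) (BT.and (nat_lit 5) (nat_lit 43) (BT.dif (nat_lit 0) (nat_lit 28) (BT.and (nat_lit 46) (nat_lit 9) (BT.dif (nat_lit 0) (nat_lit 32) (BT.and (nat_lit 0) (nat_lit 31) (BT.pln (nat_lit 35) (nat_lit 4) (BT.and (nat_lit 1) (nat_lit 0) (BT.and (nat_lit 12) (nat_lit 32) (BT.and (nat_lit 0) (nat_lit 15) (BT.pln (nat_lit 39) (nat_lit 8) (BT.and (nat_lit 54) (nat_lit 0) (BT.and (nat_lit 0) (nat_lit 40) (BT.and (nat_lit 0) (nat_lit 39) (BT.dif (nat_lit 0) (nat_lit 62) (BT.img (nat_lit 1) (nat_lit 0) (BT.and (nat_lit 6) (nat_lit 0) (BT.img (nat_lit 1) (nat_lit 0) (BT.and (nat_lit 10) (nat_lit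 0) (BT.img (nat_lit 1) (nat_lit 0) (BT.and (nat_lit 17) (nat_lit 0) (BT.img (nat_lit 1) (nat_lit 0) (BT.and (nat_lit 21) (nat_lit 0) (BT.img (nat_lit 1) (nat_lit 0) (BT.and (nat_lit 27) (nat_lit 0) (BT.frm (nat_lit 3) (nat_lit 0x3135080e010b0103) (nat_lit 0x3135080e010b0103) [nat_lit 0, nat_lit 60, nat_lit 55, nat_lit 70] (BT.pln (nat_lit 0) (nat_lit 4) (BT.and (nat_lit 32) (nat_lit 0) (BT.img (nat_lit 1) (nat_lit 0) (BT.and (nat_lit 36) (nat_lit 0) (BT.frm (nat_lit 4) (nat_lit 0x432d413135080e010b0103) (nat_lit 0x413135080e010b0103) [nat_lit 46, nat_lit 51, nat_lit 42, nat_lit 0, nat_lit 5, nat_lit 65, nat_lit 60, nat_lit 75] (BT.pln (nat_lit 0) (nat_lit 8) (BT.and (nat_lit 0) (nat_lit 49) (BT.cnt (nat_lit 0)))))))))))))))))))))))))))))))))))))))))))))))))))))))) (BT.kid (nat_lit 28) (nat_lit 1) (BT.img (nat_lit 1) (nat_lit 0) (BT.img (nat_lit 1) (nat_lit 0) (BT.img (nat_lit 1) (nat_lit 0)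 (BT.img (nat_lit 1) (nat_lit 0) (BT.img (nat_lit 1) (nat_lit 0) (BT.img (nat_lit 1) (nat_lit 19) (BT.img (nat_lit 1) (nat_lit 0) (BT.img (nat_lit 1) (nat_lit 0) (BT.img (nat_lit 1) (nat_lit 0) (BT.frm (nat_lit 1) (nat_lit 0x80e010b0103) (nat_lit 0x80e010b0103) [nat_lit 18, nat_lit 33] (BT.pln (nat_lit 0) (nat_lit 3) (BT.fix (nat_lit 65793) (BT.dif (nat_lit 1) (nat_lit 0) (BT.and (nat_lit 0) (nat_lit 18) (BT.pln (nat_lit 22) (nat_lit 5) (BT.and (nat_lit 2) (nat_lit 0) (BT.pln (nat_lit 6) (nat_lit 6) (BT.dif (nat_lit 0) (nat_lit 2) (BT.and (nat_lit 40) (nat_lit 39) (BT.and (nat_lit 0) (nat_lit 26) (BT.dif (nat_lit 0) (nat_lit 23) (BT.dif (nat_lit 0) (nat_lit 6) (BT.and (nat_lit 5) (nat_lit 43) (BT.dif (nat_lit 0) (nat_lit 28) (BT.and (nat_lit 46) (nat_lit 9) (BT.dif (nat_lit 0) (nat_lit 32) (BT.and (nat_lit 0) (nat_lit 31) (BT.pln (nat_lit 35) (nat_lit 4) (BT.and (nat_lit 1) (nat_lit 0) (BT.and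 (nat_lit 12) (nat_lit 32) (BT.and (nat_lit 0) (nat_lit 15) (BT.pln (nat_lit 39) (nat_lit 8) (BT.and (nat_lit 54) (nat_lit 0) (BT.and (nat_lit 0) (nat_lit 40) (BT.and (nat_lit 0) (nat_lit 39) (BT.dif (nat_lit 0) (nat_lit 62) (BT.img (nat_lit 1) (nat_lit 0) (BT.and (nat_lit 6) (nat_lit 0) (BT.img (nat_lit 1) (nat_lit 0) (BT.and (nat_lit 10) (nat_lit 0) (BT.img (nat_lit 1) (nat_lit 0) (BT.and (nat_lit 17) (nat_lit 0) (BT.img (nat_lit 1) (nat_lit 0) (BT.and (nat_lit 21) (nat_lit 0) (BT.img (nat_lit 1) (nat_lit 0) (BT.and (nat_lit 27) (nat_lit 0) (BT.frm (nat_lit 3) (nat_lit 0x3135080e010b0103) (nat_lit 0x3135080e010b0103) [nat_lit 0, nat_lit 60, nat_lit 55, nat_lit 70] (BT.pln (nat_lit 0) (nat_lit 4) (BT.and (nat_lit 32) (nat_lit 0) (BT.img (nat_lit 1) (nat_lit 0) (BT.and (nat_lit 36) (nat_lit 0) (BT.one (nat_lit 4) (nat_lit 0x432d413135080e010b0103) (nat_lit 0x432d413135080e010b0103) [nat_lit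 46, nat_lit 51, nat_lit 42, nat_lit 0, nat_lit 5, nat_lit 65, nat_lit 60, nat_lit 75])))))))))))))))))))))))))))))))))))))))))))))))))))) BT.nil)))))))))))))))) BT.nil))))))))))) BT.nil)))))

theorem vt_c39_cnt : Cnt 120 (grp 120 vG) [v_g484] [v_g484] 0 0 0 0 24 :=
  BT.sound vt_c39_cnt_P Known.nil (t := vt_c39_cnt_t) (d := 0) (by decide +kernel)

theorem vt_c39_ge : 24 ≤ Nat.card (grp 120 vt_c39_K) :=
  Ch.le_card_grp (k := 7) (L := (lab 120 7)) v_hn vt_c39_K_ok (c := (Ch.cons (nat_lit 3) [nat_lit 1] (Ch.cons (nat_lit 53) [nat_lit 3] Ch.nil))) (by decide +kernel)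

theorem vt_c39_eq : (grp 120 vG) ⊓ Subgroup.centralizer {Net.toPerm 120 v_g484} = grp 120 vt_c39_K :=
  cent_eq vt_c39_sym vt_c39_cnt vt_c39_ge

theorem vt_c39_card : Nat.card ↥((grp 120 vG) ⊓ Subgroup.centralizer {Net.toPerm 120 v_g484}) = 24 :=
  card_cent vt_c39_sym vt_c39_cnt vt_c39_ge

theorem vt_c39_ord : orderOf (Net.toPerm 120 v_g484) = 12 :=
  orderOf_net v_hn v_hk v_g484_ok (by decide) (ps := [2, 3]) (by set_option linter.unusedSimpArgs false in simp [Nat.primeFactorsList_ofNat]) (by decide +kernel)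

theorem v_le487 : grp 120 vt_c40_K ≤ grp 120 vo_E0 :=
  grp_le_of_memB v_hn v_hk vo_E0_ok vt_c40_K_ok (ws := [nat_lit 0x190f0909010b0107]) (by decide +kernel)

theorem vt_c40_le : grp 120 vt_c40_K ≤ (grp 120 vG) :=
  (v_le487.trans vT_s0.le)

theorem vt_c40_mem : Net.toPerm 120 v_g486 ∈ (grp 120 vG) :=
  vt_c40_le (toPerm_mem_grp (E := vt_c40_K) (List.Mem.head _))

theorem vt_c40_sym : Sym 120 (grp 120 vG) [v_g486] vt_c40_K 0 :=
  Sym.of_lab v_hn v_hk (okE_cons.2 ⟨v_g486_ok, okE_nil _⟩) vt_c40_K_ok vt_c40_le (kT := 0) (by decide +kernel)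

noncomputable def vT_s108_O : ℕ := (nat_lit 0x820918249000000000000000000000740602480fbf140b9929004091028c01d0a4136107fe6ffb7dc5300000008240a4814147bf7e64c00a4efd828c75cffa8b0107a2d19e14e24ed37100355d24244f84f43587b42dccaa6ae0b15a92a2eb729ab95198846b365a58000000000000000000000000000001000001000000000000000000000000080000000000000000000000000000002000000000000000000000000000000000000000000000020000000000000000000000000000000000000400)

theorem vT_s108_F : Frame 120 (grp 120 vG) 6 13 vT_s108_O 0 1 :=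
  Stab.frame v_hn vT_s108 (by decide +kernel)

noncomputable def vT_s107_O : ℕ := (nat_lit 0x8201000000000000000000000000007446be6ddfbfb26e1809000010000c01981096b1074c127f7dc57e90000c7596124e9fff0d8062f4ee006ef000754ef23cb040fe03f8f80b706d0780b44c30074f84e973f6c583cc72ce6032c25aa1ab32dd5b4a256b2b48ad58000000000000000000000000000001000001000000000000000000000000080000000000000000000000000000002000000000000000000000000000000000000000000000020000000000)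

theorem vT_s107_F : Frame 120 (grp 120 vG) 5 12 vT_s107_O 0 1 :=
  Stab.frame v_hn vT_s107 (by decide +kernel)

noncomputable def vt_c40_cnt_L : List ℕ := [1, 4, vT_s1_O, 0, 0, 2, 13, vT_s2_O, 0, 0, 3, 9, vT_s105_O, 0, 0, 5, 12, vT_s107_O, 0, 0, 6, 13, vT_s108_O, 0, 0, 8, 15, vT_s110_O, 1, 0]

theorem vt_c40_cnt_P : Prob 120 7 (grp 120 vG) vt_c40_cnt_EG [v_g486] [v_g486] vt_c40_K vt_c40_cnt_L 0 0 :=
  Sym.prob v_hn v_hk vt_c40_sym vt_c40_cnt_EG_ok (grp_cons_le v_b_vT (grp_cons_le v_p0_vT (grp_cons_le v_p1_vT (grp_cons_le v_g7_vT (grp_cons_le v_g3_vT (grp_cons_le v_g4_vT (grp_cons_le v_g10_vT (grp_cons_le v_g16_vT (grp_cons_le v_g11_vT (grp_cons_le v_g12_vT (grp_cons_le v_g13_vT (grp_cons_le v_g22_vT (grp_cons_le v_g21_vT (grp_cons_le v_g26_vT (grp_cons_le v_g19_vT (grp_cons_le v_g20_vT (grp_cons_le v_g23_vT (grp_cons_le v_g30_vT (grp_cons_le v_g31_vT (grp_cons_le v_g32_vT (grp_cons_le v_g37_vT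 (grp_cons_le v_g38_vT (grp_cons_le v_g29_vT (grp_cons_le v_u_vT (grp_cons_le v_g143_vT (grp_cons_le v_g217_vT (grp_cons_le v_g388_vT (grp_cons_le v_g216_vT (grp_cons_le v_g387_vT (grp_nil_le _)))))))))))))))))))))))))))))) (Frames.cons vT_s1_F (Frames.cons vT_s2_F (Frames.cons vT_s105_F (Frames.cons vT_s107_F (Frames.cons vT_s108_F (Frames.cons vT_s110_F Frames.nil)))))) (okE_cons.2 ⟨v_g486_ok, okE_nil _⟩) _

noncomputable def vt_c40_cnt_t : BT := (BT.br (nat_lit 2) (nat_lit 0) [nat_lit 1] (BT.dead (nat_lit 3) (BT.img (nat_lit 1) (nat_lit 0) (BT.img (nat_lit 1) (nat_lit 0) (BT.frm (nat_lit 1) (nat_lit 0) (nat_lit 0x9010b0103) [nat_lit 0, nat_lit 2] (BT.pln (nat_lit 0) (nat_lit 7) (BT.dif (nat_lit 0) (nat_lit 3) (BT.img (nat_lit 1) (nat_lit 3) (BT.frm (nat_lit 2) (nat_lit 15) (nat_lit 0x1109010b0103) [nat_lit 0, nat_lit 4, nat_lit 6] (BT.pln (nat_lit 0) (nat_lit 6) (BT.and (nat_lit 3) (nat_lit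 0) (BT.pln (nat_lit 2) (nat_lit 4) (BT.dif (nat_lit 1) (nat_lit 0) (BT.frm (nat_lit 0) (nat_lit 0) (nat_lit 0x10b0103) [nat_lit 11] (BT.pln (nat_lit 0) (nat_lit 2) (BT.pln (nat_lit 10) (nat_lit 2) (BT.and (nat_lit 1) (nat_lit 0) (BT.dif (nat_lit 0) (nat_lit 5) (BT.pln (nat_lit 9) (nat_lit 5) (BT.dif (nat_lit 1) (nat_lit 0) (BT.pln (nat_lit 11) (nat_lit 7) (BT.dif (nat_lit 1) (nat_lit 0) (BT.pln (nat_lit 8) (nat_lit 1) (BT.pln (nat_lit 14) (nat_lit 3) (BT.dif (nat_lit 1) (nat_lit 0) (BT.and (nat_lit 0) (nat_lit 15) (BT.and (nat_lit 0) (nat_lit 14) (BT.dif (nat_lit 0) (nat_lit 8) (BT.pln (nat_lit 23) (nat_lit 3) (BT.and (nat_lit 0) (nat_lit 5) (BT.and (nat_lit 0) (nat_lit 18) (BT.and (nat_lit 0) (nat_lit 21) (BT.pln (nat_lit 27) (nat_lit 5) (BT.dif (nat_lit 0) (nat_lit 21) (BT.dif (nat_lit 0) (nat_lit 24) (BT.dif (nat_lit 0) (nat_lit 11) (BT.pln (nat_lit 31) (nat_lit 8) (BT.and (nat_lit 22)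 (nat_lit 0) (BT.dif (nat_lit 0) (nat_lit 28) (BT.and (nat_lit 0) (nat_lit 18) (BT.pln (nat_lit 35) (nat_lit 4) (BT.and (nat_lit 0) (nat_lit 17) (BT.dif (nat_lit 0) (nat_lit 30) (BT.and (nat_lit 0) (nat_lit 33) (BT.img (nat_lit 1) (nat_lit 0) (BT.and (nat_lit 5) (nat_lit 0) (BT.img (nat_lit 1) (nat_lit 0) (BT.and (nat_lit 11) (nat_lit 0) (BT.img (nat_lit 1) (nat_lit 0) (BT.and (nat_lit 17) (nat_lit 0) (BT.img (nat_lit 1) (nat_lit 0) (BT.and (nat_lit 23) (nat_lit 0) (BT.img (nat_lit 1) (nat_lit 0) (BT.and (nat_lit 31) (nat_lit 0) (BT.img (nat_lit 1) (nat_lit 0) (BT.and (nat_lit 42) (nat_lit 0) (BT.and (nat_lit 23) (nat_lit 44) (BT.pln (nat_lit 48) (nat_lit 8) (BT.dif (nat_lit 1) (nat_lit 0) (BT.and (nat_lit 42) (nat_lit 38) (BT.and (nat_lit 0) (nat_lit 36) (BT.and (nat_lit 0) (nat_lit 49) (BT.and (nat_lit 21) (nat_lit 43) (BT.dif (nat_lit 0) (nat_lit 53) (BT.dif (nat_lit 35) (nat_lit 45) (BT.dif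 (nat_lit 0) (nat_lit 41) (BT.and (nat_lit 0) (nat_lit 56) (BT.and (nat_lit 0) (nat_lit 46) (BT.img (nat_lit 1) (nat_lit 12) (BT.and (nat_lit 1) (nat_lit 0) (BT.img (nat_lit 1) (nat_lit 0) (BT.and (nat_lit 7) (nat_lit 0) (BT.img (nat_lit 1) (nat_lit 0) (BT.and (nat_lit 11) (nat_lit 0) (BT.img (nat_lit 1) (nat_lit 0) (BT.and (nat_lit 16) (nat_lit 0) (BT.img (nat_lit 1) (nat_lit 68) (BT.img (nat_lit 1) (nat_lit 0) (BT.img (nat_lit 1) (nat_lit 0) (BT.img (nat_lit 1) (nat_lit 0) (BT.img (nat_lit 1) (nat_lit 0) (BT.img (nat_lit 1) (nat_lit 0) (BT.img (nat_lit 1) (nat_lit 0) (BT.img (nat_lit 1) (nat_lit 0) (BT.img (nat_lit 1) (nat_lit 0) (BT.img (nat_lit 1) (nat_lit 0) (BT.img (nat_lit 1) (nat_lit 0) (BT.frm (nat_lit 4) (nat_lit 0x33310f) (nat_lit 0x331109010b0103) [nat_lit 31, nat_lit 11, nat_lit 0, nat_lit 79, nat_lit 83, nat_lit 85] (BT.pln (nat_lit 0) (nat_lit 6) (BT.and (nat_lit 71) (nat_lit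 68) (BT.and (nat_lit 72) (nat_lit 71) (BT.dif (nat_lit 58) (nat_lit 70) (BT.dif (nat_lit 0) (nat_lit 68) (BT.dif (nat_lit 52) (nat_lit 35) (BT.and (nat_lit 0) (nat_lit 82) (BT.dif (nat_lit 52) (nat_lit 85) (BT.frm (nat_lit 3) (nat_lit 12559) (nat_lit 0x1109010b0103) [nat_lit 20, nat_lit 9, nat_lit 88, nat_lit 92, nat_lit 94] (BT.pln (nat_lit 0) (nat_lit 7) (BT.and (nat_lit 2) (nat_lit 0) (BT.img (nat_lit 1) (nat_lit 0) (BT.and (nat_lit 5) (nat_lit 0) (BT.img (nat_lit 1) (nat_lit 0) (BT.and (nat_lit 9) (nat_lit 0) (BT.img (nat_lit 1) (nat_lit 0) (BT.and (nat_lit 13) (nat_lit 0) (BT.img (nat_lit 1) (nat_lit 0) (BT.and (nat_lit 16) (nat_lit 0) (BT.img (nat_lit 1) (nat_lit 0) (BT.and (nat_lit 19) (nat_lit 0) (BT.cnt (nat_lit 0))))))))))))))))))))))))))))))))))))))))))))))))))))))))))))))))))))))))))))))))))))))))))))))))))))))))))))) (BT.dead (nat_lit 1) (BT.frm (nat_lit 0) (nat_lit 0) (nat_lit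 0x105010309) [nat_lit 0] (BT.pln (nat_lit 0) (nat_lit 1) (BT.img (nat_lit 1) (nat_lit 2) (BT.and (nat_lit 1) (nat_lit 0) (BT.cnt (nat_lit 0)))))) (BT.dead (nat_lit 13) (BT.frm (nat_lit 0) (nat_lit 0) (nat_lit 0x1050108) [nat_lit 0] (BT.pln (nat_lit 0) (nat_lit 1) (BT.img (nat_lit 1) (nat_lit 2) (BT.and (nat_lit 1) (nat_lit 0) (BT.cnt (nat_lit 0)))))) (BT.dead (nat_lit 11) (BT.frm (nat_lit 0) (nat_lit 0) (nat_lit 66329) [nat_lit 0] (BT.pln (nat_lit 0) (nat_lit 1) (BT.img (nat_lit 1) (nat_lit 2) (BT.and (nat_lit 1) (nat_lit 0) (BT.cnt (nat_lit 0)))))) (BT.dead (nat_lit 7) (BT.frm (nat_lit 0) (nat_lit 0) (nat_lit 66328) [nat_lit 0] (BT.pln (nat_lit 0) (nat_lit 1) (BT.img (nat_lit 1) (nat_lit 2) (BT.and (nat_lit 1) (nat_lit 0) (BT.cnt (nat_lit 0)))))) (BT.dead (nat_lit 2) (BT.frm (nat_lit 0) (nat_lit 0) (nat_lit 66571) [nat_lit 0] (BT.pln (nat_lit 0) (nat_lit 1) (BT.img (nat_lit 1) (nat_lit 2)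 (BT.and (nat_lit 1) (nat_lit 0) (BT.cnt (nat_lit 0)))))) (BT.dead (nat_lit 6) (BT.frm (nat_lit 0) (nat_lit 0) (nat_lit 259) [nat_lit 0] (BT.pln (nat_lit 0) (nat_lit 1) (BT.img (nat_lit 1) (nat_lit 2) (BT.and (nat_lit 1) (nat_lit 0) (BT.cnt (nat_lit 0)))))) (BT.kid (nat_lit 0) (nat_lit 1) (BT.img (nat_lit 1) (nat_lit 0) (BT.img (nat_lit 1) (nat_lit 0) (BT.img (nat_lit 1) (nat_lit 0) (BT.img (nat_lit 1) (nat_lit 0) (BT.img (nat_lit 1) (nat_lit 0) (BT.img (nat_lit 1) (nat_lit 0) (BT.img (nat_lit 1) (nat_lit 0) (BT.img (nat_lit 1) (nat_lit 0) (BT.img (nat_lit 1) (nat_lit 0) (BT.frm (nat_lit 1) (nat_lit 0) (nat_lit 0) [nat_lit 7, nat_lit 9] (BT.pln (nat_lit 0) (nat_lit 5) (BT.frm (nat_lit 2) (nat_lit 15) (nat_lit 15) [nat_lit 8, nat_lit 9, nat_lit 11] (BT.pln (nat_lit 0) (nat_lit 4) (BT.dif (nat_lit 2) (nat_lit 0) (BT.pln (nat_lit 2) (nat_lit 6) (BT.dif (nat_lit 1) (nat_lit 0) (BT.pln (nat_lit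 4) (nat_lit 3) (BT.dif (nat_lit 1) (nat_lit 0) (BT.frm (nat_lit 0) (nat_lit 0) (nat_lit 0) [nat_lit 18] (BT.pln (nat_lit 0) (nat_lit 2) (BT.pln (nat_lit 10) (nat_lit 8) (BT.and (nat_lit 1) (nat_lit 0) (BT.dif (nat_lit 0) (nat_lit 7) (BT.pln (nat_lit 11) (nat_lit 7) (BT.and (nat_lit 1) (nat_lit 0) (BT.pln (nat_lit 15) (nat_lit 4) (BT.and (nat_lit 0) (nat_lit 9) (BT.dif (nat_lit 0) (nat_lit 14) (BT.and (nat_lit 0) (nat_lit 13) (BT.img (nat_lit 1) (nat_lit 0) (BT.and (nat_lit 5) (nat_lit 0) (BT.img (nat_lit 1) (nat_lit 0) (BT.and (nat_lit 14) (nat_lit 0) (BT.pln (nat_lit 23) (nat_lit 7) (BT.dif (nat_lit 0) (nat_lit 33) (BT.and (nat_lit 0) (nat_lit 20) (BT.dif (nat_lit 0) (nat_lit 23) (BT.pln (nat_lit 27) (nat_lit 2) (BT.and (nat_lit 18) (nat_lit 0) (BT.dif (nat_lit 0) (nat_lit 26) (BT.pln (nat_lit 28) (nat_lit 5) (BT.dif (nat_lit 1) (nat_lit 0) (BT.dif (nat_lit 0) (nat_lit 18) (BT.pln (nat_lit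 24) (nat_lit 1) (BT.dif (nat_lit 0) (nat_lit 27) (BT.and (nat_lit 0) (nat_lit 30) (BT.and (nat_lit 0) (nat_lit 33) (BT.dif (nat_lit 0) (nat_lit 6) (BT.pln (nat_lit 38) (nat_lit 3) (BT.and (nat_lit 0) (nat_lit 32) (BT.and (nat_lit 0) (nat_lit 37) (BT.and (nat_lit 0) (nat_lit 36) (BT.img (nat_lit 1) (nat_lit 19) (BT.and (nat_lit 1) (nat_lit 0) (BT.img (nat_lit 1) (nat_lit 0) (BT.and (nat_lit 7) (nat_lit 0) (BT.img (nat_lit 1) (nat_lit 0) (BT.and (nat_lit 14) (nat_lit 0) (BT.img (nat_lit 1) (nat_lit 0) (BT.and (nat_lit 22) (nat_lit 0) (BT.and (nat_lit 49) (nat_lit 47) (BT.pln (nat_lit 49) (nat_lit 8) (BT.dif (nat_lit 1) (nat_lit 0) (BT.and (nat_lit 24) (nat_lit 39) (BT.and (nat_lit 0) (nat_lit 47) (BT.and (nat_lit 0) (nat_lit 52) (BT.and (nat_lit 40) (nat_lit 25) (BT.dif (nat_lit 0) (nat_lit 52) (BT.dif (nat_lit 19) (nat_lit 27) (BT.dif (nat_lit 0) (nat_lit 52) (BT.and (nat_lit 0) (nat_lit 55)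 (BT.and (nat_lit 0) (nat_lit 47) (BT.img (nat_lit 1) (nat_lit 12) (BT.and (nat_lit 1) (nat_lit 0) (BT.img (nat_lit 1) (nat_lit 0) (BT.and (nat_lit 7) (nat_lit 0) (BT.img (nat_lit 1) (nat_lit 0) (BT.and (nat_lit 11) (nat_lit 0) (BT.img (nat_lit 1) (nat_lit 0) (BT.and (nat_lit 16) (nat_lit 0) (BT.img (nat_lit 1) (nat_lit 71) (BT.img (nat_lit 1) (nat_lit 0) (BT.img (nat_lit 1) (nat_lit 0) (BT.img (nat_lit 1) (nat_lit 0) (BT.img (nat_lit 1) (nat_lit 0) (BT.one (nat_lit 5) (nat_lit 0x373533310f) (nat_lit 0x373533310f) [nat_lit 76, nat_lit 52, nat_lit 25, nat_lit 5, nat_lit 0, nat_lit 82, nat_lit 83, nat_lit 85])))))))))))))))))))))))))))))))))))))))))))))))))))))))))))))))))))))))))))))))))))))) BT.nil)))))))))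

theorem vt_c40_cnt : Cnt 120 (grp 120 vG) [v_g486] [v_g486] 0 0 0 0 15 :=
  BT.sound vt_c40_cnt_P Known.nil (t := vt_c40_cnt_t) (d := 0) (by decide +kernel)

theorem vt_c40_ge : 15 ≤ Nat.card (grp 120 vt_c40_K) :=
  Ch.le_card_grp (k := 7) (L := (lab 120 7)) v_hn vt_c40_K_ok (c := (Ch.cons (nat_lit 0) [nat_lit 1] Ch.nil)) (by decide +kernel)

theorem vt_c40_eq : (grp 120 vG) ⊓ Subgroup.centralizer {Net.toPerm 120 v_g486} = grp 120 vt_c40_K :=
  cent_eq vt_c40_sym vt_c40_cnt vt_c40_ge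

theorem vt_c40_card : Nat.card ↥((grp 120 vG) ⊓ Subgroup.centralizer {Net.toPerm 120 v_g486}) = 15 :=
  card_cent vt_c40_sym vt_c40_cnt vt_c40_ge

theorem vt_c40_ord : orderOf (Net.toPerm 120 v_g486) = 15 :=
  orderOf_net v_hn v_hk v_g486_ok (by decide) (ps := [3, 5]) (by set_option linter.unusedSimpArgs false in simp [Nat.primeFactorsList_ofNat]) (by decide +kernel)

theorem v_le489 : grp 120 vt_c41_K ≤ grp 120 vo_E0 :=
  grp_le_of_memB v_hn v_hk vo_E0_ok vt_c41_K_ok (ws := [nat_lit 0x2f291721080c01]) (by decide +kernel)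

theorem vt_c41_le : grp 120 vt_c41_K ≤ (grp 120 vG) :=
  (v_le489.trans vT_s0.le)

theorem vt_c41_mem : Net.toPerm 120 v_g488 ∈ (grp 120 vG) :=
  vt_c41_le (toPerm_mem_grp (E := vt_c41_K) (List.Mem.head _))

theorem vt_c41_sym : Sym 120 (grp 120 vG) [v_g488] vt_c41_K 0 :=
  Sym.of_lab v_hn v_hk (okE_cons.2 ⟨v_g488_ok, okE_nil _⟩) vt_c41_K_ok vt_c41_le (kT := 0) (by decide +kernel)

noncomputable def vT_s17_O : ℕ := (nat_lit 0x8900000000000000000000000000fc66be6dcfbab2ee000450800010200310a49224856e967c7fd5be001020ff26b60c0fc52f8079fb2a00eee000be56e642a43acc07f1e4cf20e90780fbb0a07f00f83957d9189699c48e50750cc43acaf65a2565d69114b65d48000000000000000000000000000001000001000000000000000000000000000000000000000002000000000000000000000000000000000040000000000000000000000000000000000002)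

theorem vT_s17_F : Frame 120 (grp 120 vG) 5 12 vT_s17_O 0 1 :=
  Stab.frame v_hn vT_s17 (by decide +kernel)

noncomputable def vT_s16_O : ℕ := (nat_lit 0xfeefbe6dcfbaba6e50044080000020fdbf029e200544122d7fc7bec0002001d930428fffa58328ffec002ef400b988d0316ff05770a8f809b82d8be00407dee0ab0f560ea4e329a73a633875c5087b1eccd8c8e5d68195a75294000000000000000000000000000001000001000000000000000000000000000000000000000002000000000000000000000000000000000040000000)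

theorem vT_s16_F : Frame 120 (grp 120 vG) 4 10 vT_s16_O 0 1 :=
  Stab.frame v_hn vT_s16 (by decide +kernel)

noncomputable def vt_c41_cnt_L : List ℕ := [1, 4, vT_s1_O, 0, 0, 2, 13, vT_s2_O, 0, 0, 3, 9, vT_s15_O, 0, 0, 4, 10, vT_s16_O, 0, 0, 5, 12, vT_s17_O, 0, 0, 8, 15, vT_s20_O, 1, 0]

theorem vt_c41_cnt_P : Prob 120 7 (grp 120 vG) vt_c41_cnt_EG [v_g488] [v_g488] vt_c41_K vt_c41_cnt_L 0 0 :=
  Sym.prob v_hn v_hk vt_c41_sym vt_c41_cnt_EG_ok (grp_cons_le v_b_vT (grp_cons_le v_p0_vT (grp_cons_le v_p1_vT (grp_cons_le v_g7_vT (grp_cons_le v_g3_vT (grp_cons_le v_g4_vT (grp_cons_le v_g10_vT (grp_cons_le v_g16_vT (grp_cons_le v_g11_vT (grp_cons_le v_g12_vT (grp_cons_le v_g13_vT (grp_cons_le v_g22_vT (grp_cons_le v_g21_vT (grp_cons_le v_g26_vT (grp_cons_le v_g19_vT (grp_cons_le v_g20_vT (grp_cons_le v_g23_vT (grp_cons_le v_g30_vT (grp_cons_le v_g31_vT (grp_cons_le v_g32_vT (grp_cons_le v_g37_vT (grp_cons_le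 v_g38_vT (grp_cons_le v_g29_vT (grp_cons_le v_u_vT (grp_cons_le v_g115_vT (grp_cons_le v_g116_vT (grp_cons_le v_g100_vT (grp_cons_le v_g117_vT (grp_cons_le v_g118_vT (grp_nil_le _)))))))))))))))))))))))))))))) (Frames.cons vT_s1_F (Frames.cons vT_s2_F (Frames.cons vT_s15_F (Frames.cons vT_s16_F (Frames.cons vT_s17_F (Frames.cons vT_s20_F Frames.nil)))))) (okE_cons.2 ⟨v_g488_ok, okE_nil _⟩) _

noncomputable def vt_c41_cnt_t : BT := (BT.br (nat_lit 2) (nat_lit 0) [nat_lit 1] (BT.dead (nat_lit 3) (BT.img (nat_lit 1) (nat_lit 0) (BT.img (nat_lit 1) (nat_lit 0) (BT.img (nat_lit 1) (nat_lit 0) (BT.img (nat_lit 1) (nat_lit 0) (BT.img (nat_lit 1) (nat_lit 0) (BT.img (nat_lit 1) (nat_lit 0) (BT.img (nat_lit 1) (nat_lit 0) (BT.img (nat_lit 1) (nat_lit 0) (BT.img (nat_lit 1) (nat_lit 0) (BT.img (nat_lit 1) (nat_lit 0) (BT.img (nat_lit 1) (nat_lit 0) (BT.img (nat_lit 1) (nat_lit 0) (BT.frm (nat_lit 3)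 (nat_lit 12569) (nat_lit 0xe09010b0103) [nat_lit 0, nat_lit 10, nat_lit 11, nat_lit 12] (BT.pln (nat_lit 0) (nat_lit 4) (BT.and (nat_lit 0) (nat_lit 7) (BT.cnt (nat_lit 0))))))))))))))))) (BT.dead (nat_lit 1) (BT.frm (nat_lit 0) (nat_lit 0) (nat_lit 0x105010309) [nat_lit 0] (BT.pln (nat_lit 0) (nat_lit 1) (BT.img (nat_lit 1) (nat_lit 2) (BT.img (nat_lit 1) (nat_lit 0) (BT.img (nat_lit 1) (nat_lit 0) (BT.img (nat_lit 1) (nat_lit 0) (BT.and (nat_lit 4) (nat_lit 0) (BT.cnt (nat_lit 0))))))))) (BT.dead (nat_lit 13) (BT.frm (nat_lit 0) (nat_lit 0) (nat_lit 0x1050108) [nat_lit 0] (BT.pln (nat_lit 0) (nat_lit 1) (BT.img (nat_lit 1) (nat_lit 2) (BT.img (nat_lit 1) (nat_lit 0) (BT.img (nat_lit 1) (nat_lit 0) (BT.img (nat_lit 1) (nat_lit 0) (BT.and (nat_lit 4) (nat_lit 0) (BT.cnt (nat_lit 0))))))))) (BT.dead (nat_lit 11) (BT.frm (nat_lit 0) (nat_lit 0) (nat_lit 66329) [nat_lit 0] (BT.pln (nat_lit 0)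 (nat_lit 1) (BT.img (nat_lit 1) (nat_lit 2) (BT.img (nat_lit 1) (nat_lit 0) (BT.and (nat_lit 2) (nat_lit 0) (BT.cnt (nat_lit 0))))))) (BT.dead (nat_lit 7) (BT.frm (nat_lit 0) (nat_lit 0) (nat_lit 66328) [nat_lit 0] (BT.pln (nat_lit 0) (nat_lit 1) (BT.img (nat_lit 1) (nat_lit 2) (BT.and (nat_lit 1) (nat_lit 0) (BT.cnt (nat_lit 0)))))) (BT.dead (nat_lit 2) (BT.frm (nat_lit 0) (nat_lit 0) (nat_lit 66571) [nat_lit 0] (BT.pln (nat_lit 0) (nat_lit 1) (BT.img (nat_lit 1) (nat_lit 2) (BT.and (nat_lit 1) (nat_lit 0) (BT.cnt (nat_lit 0)))))) (BT.dead (nat_lit 6) (BT.frm (nat_lit 0) (nat_lit 0) (nat_lit 259) [nat_lit 0] (BT.pln (nat_lit 0) (nat_lit 1) (BT.img (nat_lit 1) (nat_lit 2) (BT.img (nat_lit 1) (nat_lit 0) (BT.and (nat_lit 2) (nat_lit 0) (BT.cnt (nat_lit 0))))))) (BT.kid (nat_lit 0) (nat_lit 1) (BT.img (nat_lit 1) (nat_lit 0) (BT.frm (nat_lit 1) (nat_lit 0) (nat_lit 0) [nat_lit 0, nat_lit 1]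 (BT.pln (nat_lit 0) (nat_lit 3) (BT.img (nat_lit 1) (nat_lit 2) (BT.frm (nat_lit 2) (nat_lit 25) (nat_lit 25) [nat_lit 0, nat_lit 3, nat_lit 4] (BT.pln (nat_lit 0) (nat_lit 5) (BT.and (nat_lit 3) (nat_lit 0) (BT.pln (nat_lit 2) (nat_lit 6) (BT.dif (nat_lit 1) (nat_lit 0) (BT.pln (nat_lit 7) (nat_lit 8) (BT.dif (nat_lit 0) (nat_lit 4) (BT.pln (nat_lit 9) (nat_lit 6) (BT.pln (nat_lit 7) (nat_lit 4) (BT.dif (nat_lit 1) (nat_lit 0) (BT.pln (nat_lit 9) (nat_lit 8) (BT.dif (nat_lit 1) (nat_lit 0) (BT.frm (nat_lit 0) (nat_lit 0) (nat_lit 0) [nat_lit 16] (BT.pln (nat_lit 0) (nat_lit 1) (BT.pln (nat_lit 13) (nat_lit 7) (BT.and (nat_lit 1) (nat_lit 0) (BT.dif (nat_lit 0) (nat_lit 14) (BT.and (nat_lit 0) (nat_lit 13) (BT.img (nat_lit 1) (nat_lit 18) (BT.img (nat_lit 1) (nat_lit 0) (BT.img (nat_lit 1) (nat_lit 0) (BT.img (nat_lit 1) (nat_lit 0) (BT.img (nat_lit 1) (nat_lit 0) (BT.img (nat_lit 1) (nat_lit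 0) (BT.img (nat_lit 1) (nat_lit 0) (BT.img (nat_lit 1) (nat_lit 0) (BT.img (nat_lit 1) (nat_lit 0) (BT.img (nat_lit 1) (nat_lit 0) (BT.frm (nat_lit 3) (nat_lit 12569) (nat_lit 12569) [nat_lit 0, nat_lit 28, nat_lit 31, nat_lit 32] (BT.pln (nat_lit 0) (nat_lit 4) (BT.and (nat_lit 12) (nat_lit 0) (BT.img (nat_lit 1) (nat_lit 0) (BT.and (nat_lit 20) (nat_lit 0) (BT.img (nat_lit 1) (nat_lit 0) (BT.and (nat_lit 27) (nat_lit 0) (BT.img (nat_lit 1) (nat_lit 0) (BT.and (nat_lit 31) (nat_lit 0) (BT.pln (nat_lit 24) (nat_lit 2) (BT.pln (nat_lit 37) (nat_lit 3) (BT.dif (nat_lit 1) (nat_lit 0) (BT.and (nat_lit 0) (nat_lit 29) (BT.dif (nat_lit 0) (nat_lit 26) (BT.dif (nat_lit 43) (nat_lit 38) (BT.and (nat_lit 0) (nat_lit 34) (BT.pln (nat_lit 46) (nat_lit 2) (BT.and (nat_lit 7) (nat_lit 0) (BT.dif (nat_lit 0) (nat_lit 37) (BT.and (nat_lit 0) (nat_lit 32) (BT.img (nat_lit 1) (nat_lit 11) (BT.and (nat_lit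 1) (nat_lit 0) (BT.img (nat_lit 1) (nat_lit 0) (BT.and (nat_lit 7) (nat_lit 0) (BT.img (nat_lit 1) (nat_lit 0) (BT.and (nat_lit 11) (nat_lit 0) (BT.dif (nat_lit 48) (nat_lit 15) (BT.and (nat_lit 41) (nat_lit 53) (BT.and (nat_lit 0) (nat_lit 17) (BT.dif (nat_lit 0) (nat_lit 42) (BT.dif (nat_lit 0) (nat_lit 47) (BT.and (nat_lit 56) (nat_lit 55) (BT.and (nat_lit 19) (nat_lit 45) (BT.pln (nat_lit 63) (nat_lit 4) (BT.pln (nat_lit 33) (nat_lit 5) (BT.and (nat_lit 1) (nat_lit 0) (BT.pln (nat_lit 66) (nat_lit 9) (BT.dif (nat_lit 0) (nat_lit 63) (BT.and (nat_lit 28) (nat_lit 62) (BT.and (nat_lit 0) (nat_lit 58) (BT.and (nat_lit 0) (nat_lit 66) (BT.and (nat_lit 70) (nat_lit 30) (BT.dif (nat_lit 0) (nat_lit 59) (BT.pln (nat_lit 73) (nat_lit 10) (BT.and (nat_lit 0) (nat_lit 33) (BT.dif (nat_lit 67) (nat_lit 69) (BT.dif (nat_lit 0) (nat_lit 59) (BT.dif (nat_lit 61) (nat_lit 36) (BT.dif (nat_lit 0) (nat_lit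 67) (BT.dif (nat_lit 0) (nat_lit 73) (BT.dif (nat_lit 0) (nat_lit 76) (BT.dif (nat_lit 0) (nat_lit 68) (BT.pln (nat_lit 82) (nat_lit 5) (BT.and (nat_lit 0) (nat_lit 72) (BT.dif (nat_lit 0) (nat_lit 43) (BT.dif (nat_lit 0) (nat_lit 79) (BT.dif (nat_lit 22) (nat_lit 45) (BT.dif (nat_lit 0) (nat_lit 83) (BT.and (nat_lit 78) (nat_lit 84) (BT.and (nat_lit 22) (nat_lit 48) (BT.dif (nat_lit 0) (nat_lit 73) (BT.img (nat_lit 1) (nat_lit 35) (BT.and (nat_lit 1) (nat_lit 0) (BT.img (nat_lit 1) (nat_lit 0) (BT.and (nat_lit 5) (nat_lit 0) (BT.img (nat_lit 1) (nat_lit 0) (BT.and (nat_lit 8) (nat_lit 0) (BT.img (nat_lit 1) (nat_lit 0) (BT.and (nat_lit 12) (nat_lit 0) (BT.img (nat_lit 1) (nat_lit 0) (BT.and (nat_lit 18) (nat_lit 0) (BT.frm (nat_lit 4) (nat_lit 12569) (nat_lit 12569) [nat_lit 0, nat_lit 71, nat_lit 99, nat_lit 102, nat_lit 103] (BT.pln (nat_lit 0) (nat_lit 6) (BT.and (nat_lit 26) (nat_lit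 0) (BT.img (nat_lit 1) (nat_lit 0) (BT.and (nat_lit 30) (nat_lit 0) (BT.img (nat_lit 1) (nat_lit 0) (BT.and (nat_lit 34) (nat_lit 0) (BT.img (nat_lit 1) (nat_lit 0) (BT.and (nat_lit 38) (nat_lit 0) (BT.img (nat_lit 1) (nat_lit 0) (BT.and (nat_lit 43) (nat_lit 0) (BT.img (nat_lit 1) (nat_lit 0) (BT.and (nat_lit 47) (nat_lit 0) (BT.img (nat_lit 1) (nat_lit 0) (BT.and (nat_lit 52) (nat_lit 0) (BT.img (nat_lit 1) (nat_lit 0) (BT.and (nat_lit 55) (nat_lit 0) (BT.img (nat_lit 1) (nat_lit 0) (BT.and (nat_lit 58) (nat_lit 0) (BT.img (nat_lit 1) (nat_lit 0) (BT.and (nat_lit 64) (nat_lit 0) (BT.one (nat_lit 5) (nat_lit 0x39353119) (nat_lit 0x39353119) [nat_lit 83, nat_lit 66, nat_lit 0, nat_lit 21, nat_lit 92, nat_lit 120, nat_lit 123, nat_lit 124]))))))))))))))))))))))))))))))))))))))))))))))))))))))))))))))))))))))))))))))))))))))))))))))))))))))))))))))))))))))))))))) BT.nil)))))))))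

theorem vt_c41_cnt : Cnt 120 (grp 120 vG) [v_g488] [v_g488] 0 0 0 0 15 :=
  BT.sound vt_c41_cnt_P Known.nil (t := vt_c41_cnt_t) (d := 0) (by decide +kernel)

theorem vt_c41_ge : 15 ≤ Nat.card (grp 120 vt_c41_K) :=
  Ch.le_card_grp (k := 7) (L := (lab 120 7)) v_hn vt_c41_K_ok (c := (Ch.cons (nat_lit 0) [nat_lit 1] Ch.nil)) (by decide +kernel)

theorem vt_c41_eq : (grp 120 vG) ⊓ Subgroup.centralizer {Net.toPerm 120 v_g488} = grp 120 vt_c41_K :=
  cent_eq vt_c41_sym vt_c41_cnt vt_c41_ge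

theorem vt_c41_card : Nat.card ↥((grp 120 vG) ⊓ Subgroup.centralizer {Net.toPerm 120 v_g488}) = 15 :=
  card_cent vt_c41_sym vt_c41_cnt vt_c41_ge

theorem vt_c41_ord : orderOf (Net.toPerm 120 v_g488) = 15 :=
  orderOf_net v_hn v_hk v_g488_ok (by decide) (ps := [3, 5]) (by set_option linter.unusedSimpArgs false in simp [Nat.primeFactorsList_ofNat]) (by decide +kernel)

noncomputable def vt_xs : List Net := [Net.nil, v_u, v_e, v_x, v_b, v_s, v_p1, v_g160, v_g180, v_g189, v_g205, v_g225, v_g237, v_g255, v_g261, v_g271, v_g285, v_g290, v_g305, v_g320, v_g324, v_g331, v_g334, v_g346, v_g359, v_g363, v_g373, v_g384, v_g396, v_g405, v_g417, v_g431, v_g418, v_g450, v_g460, v_g463, v_g465, v_g467, v_g477, v_g484, v_g486, v_g488]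

noncomputable def vt_cs : List ℕ := [1843200, 30720, 24576, 15360, 3840, 1920, 512, 288, 180, 512, 384, 256, 256, 192, 128, 64, 32, 400, 300, 300, 50, 50, 96, 96, 96, 48, 24, 12, 32, 16, 80, 80, 80, 20, 20, 10, 10, 24, 24, 24, 15, 15]

noncomputable def vt_os : List ℕ := [1, 2, 2, 2, 2, 2, 2, 3, 3, 4, 4, 4, 4, 4, 4, 4, 4, 5, 5, 5, 5, 5, 6, 6, 6, 6, 6, 6, 8, 8, 10, 10, 10, 10, 10, 10, 10, 12, 12, 12, 15, 15]

theorem vt_reps : Reps 120 (grp 120 vG) vt_xs vt_cs vt_os :=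
  (Reps.cons rfl (one_mem _) (card_cent_nil vo_card) orderOf_one (Reps.cons v_u_ok vt_c1_mem vt_c1_card vt_c1_ord (Reps.cons v_e_ok vt_c2_mem vt_c2_card vt_c2_ord (Reps.cons v_x_ok vt_c3_mem vt_c3_card vt_c3_ord (Reps.cons v_b_ok vt_c4_mem vt_c4_card vt_c4_ord (Reps.cons v_s_ok vt_c5_mem vt_c5_card vt_c5_ord (Reps.cons v_p1_ok vt_c6_mem vt_c6_card vt_c6_ord (Reps.cons v_g160_ok vt_c7_mem vt_c7_card vt_c7_ord (Reps.cons v_g180_ok vt_c8_mem vt_c8_card vt_c8_ord (Reps.cons v_g189_ok vt_c9_mem vt_c9_card vt_c9_ord (Reps.cons v_g205_ok vt_c10_mem vt_c10_card vt_c10_ord (Reps.cons v_g225_ok vt_c11_mem vt_c11_card vt_c11_ord (Reps.cons v_g237_ok vt_c12_mem vt_c12_card vt_c12_ord (Reps.cons v_g255_ok vt_c13_mem vt_c13_card vt_c13_ord (Reps.cons v_g261_ok vt_c14_mem vt_c14_card vt_c14_ord (Reps.cons v_g271_ok vt_c15_mem vt_c15_card vt_c15_ord (Reps.cons v_g285_ok vt_c16_mem vt_c16_card vt_c16_ord (Reps.cons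 v_g290_ok vt_c17_mem vt_c17_card vt_c17_ord (Reps.cons v_g305_ok vt_c18_mem vt_c18_card vt_c18_ord (Reps.cons v_g320_ok vt_c19_mem vt_c19_card vt_c19_ord (Reps.cons v_g324_ok vt_c20_mem vt_c20_card vt_c20_ord (Reps.cons v_g331_ok vt_c21_mem vt_c21_card vt_c21_ord (Reps.cons v_g334_ok vt_c22_mem vt_c22_card vt_c22_ord (Reps.cons v_g346_ok vt_c23_mem vt_c23_card vt_c23_ord (Reps.cons v_g359_ok vt_c24_mem vt_c24_card vt_c24_ord (Reps.cons v_g363_ok vt_c25_mem vt_c25_card vt_c25_ord (Reps.cons v_g373_ok vt_c26_mem vt_c26_card vt_c26_ord (Reps.cons v_g384_ok vt_c27_mem vt_c27_card vt_c27_ord (Reps.cons v_g396_ok vt_c28_mem vt_c28_card vt_c28_ord (Reps.cons v_g405_ok vt_c29_mem vt_c29_card vt_c29_ord (Reps.cons v_g417_ok vt_c30_mem vt_c30_card vt_c30_ord (Reps.cons v_g431_ok vt_c31_mem vt_c31_card vt_c31_ord (Reps.cons v_g418_ok vt_c32_mem vt_c32_card vt_c32_ord (Reps.cons v_g450_ok vt_c33_mem vt_c33_card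 vt_c33_ord (Reps.cons v_g460_ok vt_c34_mem vt_c34_card vt_c34_ord (Reps.cons v_g463_ok vt_c35_mem vt_c35_card vt_c35_ord (Reps.cons v_g465_ok vt_c36_mem vt_c36_card vt_c36_ord (Reps.cons v_g467_ok vt_c37_mem vt_c37_card vt_c37_ord (Reps.cons v_g477_ok vt_c38_mem vt_c38_card vt_c38_ord (Reps.cons v_g484_ok vt_c39_mem vt_c39_card vt_c39_ord (Reps.cons v_g486_ok vt_c40_mem vt_c40_card vt_c40_ord (Reps.cons v_g488_ok vt_c41_mem vt_c41_card vt_c41_ord Reps.nil))))))))))))))))))))))))))))))))))))))))))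

noncomputable def vt_nc12_11_cnt_L : List ℕ := [1, 4, vT_s1_O, 0, 0]

theorem vt_nc12_11_cnt_P : Prob 120 7 (grp 120 vG) vt_nc12_11_cnt_EG [v_g237] [v_g225] vt_c11_K vt_nc12_11_cnt_L 0 0 :=
  Sym.prob v_hn v_hk vt_c11_sym vt_nc12_11_cnt_EG_ok (grp_cons_le v_b_vT (grp_cons_le v_p0_vT (grp_cons_le v_p1_vT (grp_cons_le v_g7_vT (grp_cons_le v_g3_vT (grp_cons_le v_g4_vT (grp_cons_le v_g10_vT (grp_cons_le v_g16_vT (grp_cons_le v_g11_vT (grp_cons_le v_g12_vT (grp_cons_le v_g13_vT (grp_cons_le v_g22_vT (grp_cons_le v_g21_vT (grp_cons_le v_g26_vT (grp_cons_le v_g19_vT (grp_cons_le v_g20_vT (grp_cons_le v_g23_vT (grp_cons_le v_g30_vT (grp_cons_le v_g31_vT (grp_cons_le v_g32_vT (grp_cons_le v_g37_vT (grp_cons_le v_g38_vT (grp_cons_le v_g29_vT (grp_cons_le v_u_vT (grp_nil_le _))))))))))))))))))))))))) (Frames.cons vT_s1_F Frames.nil) (okE_cons.2 ⟨v_g237_ok, okE_nil _⟩) _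

noncomputable def vt_nc12_11_cnt_t : BT := (BT.fix (nat_lit 257) (BT.dif (nat_lit 3) (nat_lit 0) (BT.br (nat_lit 0) (nat_lit 2) [nat_lit 1, nat_lit 3, nat_lit 5, nat_lit 7] (BT.dead (nat_lit 9) (BT.frm (nat_lit 0) (nat_lit 66571) (nat_lit 0x107010a) [nat_lit 0] (BT.pln (nat_lit 0) (nat_lit 2) (BT.img (nat_lit 1) (nat_lit 2) (BT.and (nat_lit 1) (nat_lit 0) (BT.cnt (nat_lit 0)))))) (BT.dead (nat_lit 4) (BT.frm (nat_lit 0) (nat_lit 66571) (nat_lit 0x105010c) [nat_lit 0] (BT.pln (nat_lit 0) (nat_lit 2) (BT.img (nat_lit 1) (nat_lit 2) (BT.and (nat_lit 1) (nat_lit 0) (BT.cnt (nat_lit 0)))))) BT.nil)))))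

theorem vt_nc12_11_cnt : Cnt 120 (grp 120 vG) [v_g237] [v_g225] 0 0 0 0 0 :=
  BT.sound vt_nc12_11_cnt_P Known.nil (t := vt_nc12_11_cnt_t) (d := 0) (by decide +kernel)

theorem vt_nc12_11 : ¬ CjIn (grp 120 vG) (Net.toPerm 120 v_g237) (Net.toPerm 120 v_g225) :=
  not_cjIn vt_nc12_11_cnt

noncomputable def vt_nc19_18_cnt_L : List ℕ := [2, 17, vT_s59_O, 0, 0, 4, 20, vT_s79_O, 0, 0, 5, 12, vT_s80_O, 0, 0]

theorem vt_nc19_18_cnt_P : Prob 120 7 (grp 120 vG) vt_nc19_18_cnt_EG [v_g320] [v_g305] vt_c18_K vt_nc19_18_cnt_L 0 0 :=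
  Sym.prob v_hn v_hk vt_c18_sym vt_nc19_18_cnt_EG_ok (grp_cons_le v_g7_vT (grp_cons_le v_g3_vT (grp_cons_le v_g4_vT (grp_cons_le v_g10_vT (grp_cons_le v_g16_vT (grp_cons_le v_g11_vT (grp_cons_le v_g12_vT (grp_cons_le v_g13_vT (grp_cons_le v_g22_vT (grp_cons_le v_g21_vT (grp_cons_le v_g26_vT (grp_cons_le v_g19_vT (grp_cons_le v_g20_vT (grp_cons_le v_g23_vT (grp_cons_le v_g30_vT (grp_cons_le v_g31_vT (grp_cons_le v_g32_vT (grp_cons_le v_g37_vT (grp_cons_le v_g38_vT (grp_cons_le v_g29_vT (grp_cons_le v_u_vT (grp_cons_le v_b_vT (grp_cons_le v_p0_vT (grp_cons_le v_p1_vT (grp_cons_le v_g309_vT (grp_cons_le v_g310_vT (grp_cons_le v_g311_vT (grp_cons_le v_g92_vT (grp_cons_le v_g312_vT (grp_cons_le v_g244_vT (grp_cons_le v_g245_vT (grp_cons_le v_g116_vT (grp_cons_le v_g73_vT (grp_cons_le v_g246_vT (grp_nil_le _))))))))))))))))))))))))))))))))))) (Frames.cons vT_s59_F (Frames.cons vT_s79_F (Frames.cons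 vT_s80_F Frames.nil))) (okE_cons.2 ⟨v_g320_ok, okE_nil _⟩) _

noncomputable def vt_nc19_18_cnt_t : BT := (BT.br (nat_lit 2) (nat_lit 0) [nat_lit 1, nat_lit 3] (BT.dead (nat_lit 1) (BT.img (nat_lit 1) (nat_lit 0) (BT.frm (nat_lit 0) (nat_lit 65797) (nat_lit 0x10e2b2f2b2d03) [nat_lit 0, nat_lit 1] (BT.pln (nat_lit 0) (nat_lit 9) (BT.br (nat_lit 0) (nat_lit 14) [nat_lit 0x4010404] (BT.dead (nat_lit 23) (BT.img (nat_lit 1) (nat_lit 3) (BT.img (nat_lit 1) (nat_lit 0) (BT.frm (nat_lit 2) (nat_lit 0x3434010105) (nat_lit 0x34343531010e2b2f2b2d03) [nat_lit 2, nat_lit 0, nat_lit 1, nat_lit 5, nat_lit 6] (BT.pln (nat_lit 0) (nat_lit 5) (BT.img (nat_lit 1) (nat_lit 4) (BT.and (nat_lit 1) (nat_lit 0) (BT.cnt (nat_lit 0)))))))) (BT.dead (nat_lit 48) (BT.img (nat_lit 1) (nat_lit 3) (BT.img (nat_lit 1) (nat_lit 0) (BT.frm (nat_lit 2) (nat_lit 0x3434010105) (nat_lit 0x343431010e2b2f2b2d03) [nat_lit 2, nat_lit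 0, nat_lit 1, nat_lit 5, nat_lit 6] (BT.pln (nat_lit 0) (nat_lit 5) (BT.img (nat_lit 1) (nat_lit 4) (BT.and (nat_lit 1) (nat_lit 0) (BT.cnt (nat_lit 0)))))))) BT.nil)))))) (BT.dead (nat_lit 0) (BT.img (nat_lit 1) (nat_lit 0) (BT.img (nat_lit 1) (nat_lit 0) (BT.img (nat_lit 1) (nat_lit 0) (BT.frm (nat_lit 1) (nat_lit 65797) (nat_lit 0) [nat_lit 0, nat_lit 1, nat_lit 2, nat_lit 3] (BT.pln (nat_lit 0) (nat_lit 14) (BT.img (nat_lit 1) (nat_lit 2) (BT.and (nat_lit 1) (nat_lit 0) (BT.cnt (nat_lit 0))))))))) BT.nil)))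

theorem vt_nc19_18_cnt : Cnt 120 (grp 120 vG) [v_g320] [v_g305] 0 0 0 0 0 :=
  BT.sound vt_nc19_18_cnt_P Known.nil (t := vt_nc19_18_cnt_t) (d := 0) (by decide +kernel)

theorem vt_nc19_18 : ¬ CjIn (grp 120 vG) (Net.toPerm 120 v_g320) (Net.toPerm 120 v_g305) :=
  not_cjIn vt_nc19_18_cnt

noncomputable def vt_nc21_20_cnt_L : List ℕ := [1, 4, vT_s1_O, 0, 0, 2, 13, vT_s2_O, 0, 0]

theorem vt_nc21_20_cnt_P : Prob 120 7 (grp 120 vG) vt_nc21_20_cnt_EG [v_g331] [v_g324] vt_c20_K vt_nc21_20_cnt_L 0 0 :=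
  Sym.prob v_hn v_hk vt_c20_sym vt_nc21_20_cnt_EG_ok (grp_cons_le v_b_vT (grp_cons_le v_p0_vT (grp_cons_le v_p1_vT (grp_cons_le v_g7_vT (grp_cons_le v_g3_vT (grp_cons_le v_g4_vT (grp_cons_le v_g10_vT (grp_cons_le v_g16_vT (grp_cons_le v_g11_vT (grp_cons_le v_g12_vT (grp_cons_le v_g13_vT (grp_cons_le v_g22_vT (grp_cons_le v_g21_vT (grp_cons_le v_g26_vT (grp_cons_le v_g19_vT (grp_cons_le v_g20_vT (grp_cons_le v_g23_vT (grp_cons_le v_g30_vT (grp_cons_le v_g31_vT (grp_cons_le v_g32_vT (grp_cons_le v_g37_vT (grp_cons_le v_g38_vT (grp_cons_le v_g29_vT (grp_cons_le v_u_vT (grp_nil_le _))))))))))))))))))))))))) (Frames.cons vT_s1_F (Frames.cons vT_s2_F Frames.nil)) (okE_cons.2 ⟨v_g331_ok, okE_nil _⟩) _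

noncomputable def vt_nc21_20_cnt_t : BT := (BT.br (nat_lit 2) (nat_lit 0) [nat_lit 3, nat_lit 5] (BT.dead (nat_lit 1) (BT.img (nat_lit 1) (nat_lit 0) (BT.img (nat_lit 1) (nat_lit 0) (BT.frm (nat_lit 1) (nat_lit 2059) (nat_lit 0x105010309) [nat_lit 0, nat_lit 2] (BT.pln (nat_lit 0) (nat_lit 6) (BT.and (nat_lit 0) (nat_lit 3) (BT.cnt (nat_lit 0))))))) (BT.dead (nat_lit 17) (BT.img (nat_lit 1) (nat_lit 0) (BT.img (nat_lit 1) (nat_lit 0) (BT.frm (nat_lit 1) (nat_lit 2059) (nat_lit 0x9010301) [nat_lit 0, nat_lit 2] (BT.pln (nat_lit 0) (nat_lit 6) (BT.and (nat_lit 0) (nat_lit 3) (BT.cnt (nat_lit 0))))))) (BT.dead (nat_lit 13) (BT.frm (nat_lit 0) (nat_lit 0) (nat_lit 0x1050108) [nat_lit 0] (BT.pln (nat_lit 0) (nat_lit 1) (BT.img (nat_lit 1) (nat_lit 2) (BT.and (nat_lit 1) (nat_lit 0) (BT.cnt (nat_lit 0)))))) (BT.dead (nat_lit 4) (BT.frm (nat_lit 0) (nat_lit 0) (nat_lit 0x105010c) [nat_lit 0] (BT.pln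 (nat_lit 0) (nat_lit 1) (BT.img (nat_lit 1) (nat_lit 2) (BT.and (nat_lit 1) (nat_lit 0) (BT.cnt (nat_lit 0)))))) (BT.dead (nat_lit 7) (BT.frm (nat_lit 0) (nat_lit 0) (nat_lit 66328) [nat_lit 0] (BT.pln (nat_lit 0) (nat_lit 1) (BT.img (nat_lit 1) (nat_lit 2) (BT.and (nat_lit 1) (nat_lit 0) (BT.cnt (nat_lit 0)))))) (BT.dead (nat_lit 0) (BT.frm (nat_lit 0) (nat_lit 0) (nat_lit 0) [nat_lit 0] (BT.pln (nat_lit 0) (nat_lit 1) (BT.img (nat_lit 1) (nat_lit 2) (BT.and (nat_lit 1) (nat_lit 0) (BT.cnt (nat_lit 0)))))) BT.nil)))))))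

theorem vt_nc21_20_cnt : Cnt 120 (grp 120 vG) [v_g331] [v_g324] 0 0 0 0 0 :=
  BT.sound vt_nc21_20_cnt_P Known.nil (t := vt_nc21_20_cnt_t) (d := 0) (by decide +kernel)

theorem vt_nc21_20 : ¬ CjIn (grp 120 vG) (Net.toPerm 120 v_g331) (Net.toPerm 120 v_g324) :=
  not_cjIn vt_nc21_20_cnt

noncomputable def vt_nc24_23_cnt_L : List ℕ := [1, 4, vT_s1_O, 0, 0, 2, 18, vT_s33_O, 0, 0, 3, 9, vT_s44_O, 0, 0]

theorem vt_nc24_23_cnt_P : Prob 120 7 (grp 120 vG) vt_nc24_23_cnt_EG [v_g359] [v_g346] vt_c23_K vt_nc24_23_cnt_L 0 0 :=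
  Sym.prob v_hn v_hk vt_c23_sym vt_nc24_23_cnt_EG_ok (grp_cons_le v_b_vT (grp_cons_le v_p0_vT (grp_cons_le v_p1_vT (grp_cons_le v_g7_vT (grp_cons_le v_g3_vT (grp_cons_le v_g4_vT (grp_cons_le v_g10_vT (grp_cons_le v_g16_vT (grp_cons_le v_g11_vT (grp_cons_le v_g12_vT (grp_cons_le v_g13_vT (grp_cons_le v_g22_vT (grp_cons_le v_g21_vT (grp_cons_le v_g26_vT (grp_cons_le v_g19_vT (grp_cons_le v_g20_vT (grp_cons_le v_g23_vT (grp_cons_le v_g30_vT (grp_cons_le v_g31_vT (grp_cons_le v_g32_vT (grp_cons_le v_g37_vT (grp_cons_le v_g38_vT (grp_cons_le v_g29_vT (grp_cons_le v_u_vT (grp_cons_le v_g168_vT (grp_cons_le v_g169_vT (grp_cons_le v_g92_vT (grp_cons_le v_g170_vT (grp_cons_le v_g100_vT (grp_cons_le v_g117_vT (grp_cons_le v_g171_vT (grp_nil_le _)))))))))))))))))))))))))))))))) (Frames.cons vT_s1_F (Frames.cons vT_s33_F (Frames.cons vT_s44_F Frames.nil))) (okE_cons.2 ⟨v_g359_ok, okE_nil _⟩) _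

noncomputable def vt_nc24_23_cnt_t : BT := (BT.fix (nat_lit 257) (BT.fix (nat_lit 1) (BT.dif (nat_lit 1) (nat_lit 0) (BT.br (nat_lit 0) (nat_lit 15) [nat_lit 3] (BT.dead (nat_lit 15) (BT.frm (nat_lit 0) (nat_lit 0x1050104) (nat_lit 0x1050104) [nat_lit 0] (BT.pln (nat_lit 0) (nat_lit 1) (BT.and (nat_lit 3) (nat_lit 0) (BT.br (nat_lit 0) (nat_lit 22) [nat_lit 5] (BT.dead (nat_lit 22) (BT.fix (nat_lit 65793) (BT.dif (nat_lit 3) (nat_lit 0) (BT.dif (nat_lit 0) (nat_lit 9) (BT.frm (nat_lit 1) (nat_lit 0xc0d01050104) (nat_lit 0xc0d01050104) [nat_lit 3, nat_lit 7] (BT.pln (nat_lit 0) (nat_lit 12) (BT.dif (nat_lit 2) (nat_lit 0) (BT.pln (nat_lit 2) (nat_lit 13) (BT.dif (nat_lit 1) (nat_lit 0) (BT.br (nat_lit 0) (nat_lit 103) [nat_lit 7] (BT.dead (nat_lit 103) (BT.frm (nat_lit 2) (nat_lit 0x31330c0d01050104) (nat_lit 0x31330c0d01050104) [nat_lit 0, nat_lit 9, nat_lit 13] (BT.pln (nat_lit 0) (nat_lit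 4) (BT.img (nat_lit 1) (nat_lit 2) (BT.and (nat_lit 1) (nat_lit 0) (BT.cnt (nat_lit 0)))))) BT.nil)))))))))) BT.nil))))) BT.nil)))))

theorem vt_nc24_23_cnt : Cnt 120 (grp 120 vG) [v_g359] [v_g346] 0 0 0 0 0 :=
  BT.sound vt_nc24_23_cnt_P Known.nil (t := vt_nc24_23_cnt_t) (d := 0) (by decide +kernel)

theorem vt_nc24_23 : ¬ CjIn (grp 120 vG) (Net.toPerm 120 v_g359) (Net.toPerm 120 v_g346) :=
  not_cjIn vt_nc24_23_cnt

noncomputable def vt_nc31_30_cnt_L : List ℕ := [2, 17, vT_s59_O, 0, 0, 3, 9, vT_s116_O, 0, 0]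

theorem vt_nc31_30_cnt_P : Prob 120 7 (grp 120 vG) vt_nc31_30_cnt_EG [v_g431] [v_g417] vt_c30_K vt_nc31_30_cnt_L 0 0 :=
  Sym.prob v_hn v_hk vt_c30_sym vt_nc31_30_cnt_EG_ok (grp_cons_le v_g7_vT (grp_cons_le v_g3_vT (grp_cons_le v_g4_vT (grp_cons_le v_g10_vT (grp_cons_le v_g16_vT (grp_cons_le v_g11_vT (grp_cons_le v_g12_vT (grp_cons_le v_g13_vT (grp_cons_le v_g22_vT (grp_cons_le v_g21_vT (grp_cons_le v_g26_vT (grp_cons_le v_g19_vT (grp_cons_le v_g20_vT (grp_cons_le v_g23_vT (grp_cons_le v_g30_vT (grp_cons_le v_g31_vT (grp_cons_le v_g32_vT (grp_cons_le v_g37_vT (grp_cons_le v_g38_vT (grp_cons_le v_g29_vT (grp_cons_le v_u_vT (grp_cons_le v_b_vT (grp_cons_le v_p0_vT (grp_cons_le v_p1_vT (grp_cons_le v_g244_vT (grp_cons_le v_g245_vT (grp_cons_le v_g116_vT (grp_cons_le v_g73_vT (grp_cons_le v_g92_vT (grp_cons_le v_g246_vT (grp_nil_le _))))))))))))))))))))))))))))))) (Frames.cons vT_s59_F (Frames.cons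 vT_s116_F Frames.nil)) (okE_cons.2 ⟨v_g431_ok, okE_nil _⟩) _

noncomputable def vt_nc31_30_cnt_t : BT := (BT.fix (nat_lit 257) (BT.fix (nat_lit 1) (BT.dif (nat_lit 1) (nat_lit 0) (BT.br (nat_lit 0) (nat_lit 18) [nat_lit 1] (BT.dead (nat_lit 71) (BT.dif (nat_lit 1) (nat_lit 0) (BT.img (nat_lit 1) (nat_lit 1) (BT.dif (nat_lit 1) (nat_lit 0) (BT.br (nat_lit 0) (nat_lit 71) [nat_lit 0x705050301] (BT.dead (nat_lit 18) (BT.frm (nat_lit 0) (nat_lit 0x4082b042b2e) (nat_lit 0x1062b2d2b2f08) [nat_lit 0, nat_lit 4] (BT.pln (nat_lit 0) (nat_lit 10) (BT.br (nat_lit 0) (nat_lit 62) [nat_lit 1542, nat_lit 1797] (BT.dead (nat_lit 101) (BT.frm (nat_lit 1) (nat_lit 0x31313104082b042b2e) (nat_lit 0x313301062b2d2b2f08) [nat_lit 0, nat_lit 3, nat_lit 7] (BT.pln (nat_lit 0) (nat_lit 3) (BT.img (nat_lit 1) (nat_lit 2) (BT.img (nat_lit 1) (nat_lit 0) (BT.and (nat_lit 2) (nat_lit 0) (BT.cnt (nat_lit 0))))))) BT.nil))))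 BT.nil))))) (BT.dead (nat_lit 18) (BT.dif (nat_lit 1) (nat_lit 0) (BT.img (nat_lit 1) (nat_lit 1) (BT.dif (nat_lit 1) (nat_lit 0) (BT.br (nat_lit 0) (nat_lit 71) [nat_lit 3] (BT.dead (nat_lit 71) (BT.frm (nat_lit 0) (nat_lit 0x4082b042b2e) (nat_lit 0x4082b042b2e) [nat_lit 0, nat_lit 4] (BT.pln (nat_lit 0) (nat_lit 10) (BT.br (nat_lit 0) (nat_lit 62) [nat_lit 5] (BT.dead (nat_lit 62) (BT.frm (nat_lit 1) (nat_lit 0x31313104082b042b2e) (nat_lit 0x31313104082b042b2e) [nat_lit 0, nat_lit 3, nat_lit 7] (BT.pln (nat_lit 0) (nat_lit 3) (BT.img (nat_lit 1) (nat_lit 2) (BT.and (nat_lit 1) (nat_lit 0) (BT.cnt (nat_lit 0)))))) BT.nil)))) BT.nil))))) BT.nil))))))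

theorem vt_nc31_30_cnt : Cnt 120 (grp 120 vG) [v_g431] [v_g417] 0 0 0 0 0 :=
  BT.sound vt_nc31_30_cnt_P Known.nil (t := vt_nc31_30_cnt_t) (d := 0) (by decide +kernel)

theorem vt_nc31_30 : ¬ CjIn (grp 120 vG) (Net.toPerm 120 v_g431) (Net.toPerm 120 v_g417) :=
  not_cjIn vt_nc31_30_cnt

noncomputable def vt_nc34_33_cnt_L : List ℕ := [1, 4, vT_s1_O, 0, 0, 2, 13, vT_s2_O, 0, 0]

theorem vt_nc34_33_cnt_P : Prob 120 7 (grp 120 vG) vt_nc34_33_cnt_EG [v_g460] [v_g450] vt_c33_K vt_nc34_33_cnt_L 0 0 :=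
  Sym.prob v_hn v_hk vt_c33_sym vt_nc34_33_cnt_EG_ok (grp_cons_le v_b_vT (grp_cons_le v_p0_vT (grp_cons_le v_p1_vT (grp_cons_le v_g7_vT (grp_cons_le v_g3_vT (grp_cons_le v_g4_vT (grp_cons_le v_g10_vT (grp_cons_le v_g16_vT (grp_cons_le v_g11_vT (grp_cons_le v_g12_vT (grp_cons_le v_g13_vT (grp_cons_le v_g22_vT (grp_cons_le v_g21_vT (grp_cons_le v_g26_vT (grp_cons_le v_g19_vT (grp_cons_le v_g20_vT (grp_cons_le v_g23_vT (grp_cons_le v_g30_vT (grp_cons_le v_g31_vT (grp_cons_le v_g32_vT (grp_cons_le v_g37_vT (grp_cons_le v_g38_vT (grp_cons_le v_g29_vT (grp_cons_le v_u_vT (grp_nil_le _))))))))))))))))))))))))) (Frames.cons vT_s1_F (Frames.cons vT_s2_F Frames.nil)) (okE_cons.2 ⟨v_g460_ok, okE_nil _⟩) _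

noncomputable def vt_nc34_33_cnt_t : BT := (BT.br (nat_lit 2) (nat_lit 0) [nat_lit 1, nat_lit 3] (BT.dead (nat_lit 1) (BT.img (nat_lit 1) (nat_lit 0) (BT.frm (nat_lit 1) (nat_lit 2313) (nat_lit 0x7070c0105010309) [nat_lit 0, nat_lit 1] (BT.pln (nat_lit 0) (nat_lit 6) (BT.frm (nat_lit 0) (nat_lit 0) (nat_lit 0x105010309) [nat_lit 3] (BT.pln (nat_lit 0) (nat_lit 1) (BT.dif (nat_lit 8) (nat_lit 0) (BT.pln (nat_lit 2) (nat_lit 2) (BT.dif (nat_lit 1) (nat_lit 0) (BT.dif (nat_lit 1) (nat_lit 7) (BT.img (nat_lit 1) (nat_lit 8) (BT.img (nat_lit 1) (nat_lit 0) (BT.dif (nat_lit 2) (nat_lit 0) (BT.pln (nat_lit 8) (nat_lit 3) (BT.img (nat_lit 1) (nat_lit 0) (BT.dif (nat_lit 2) (nat_lit 0) (BT.img (nat_lit 1) (nat_lit 4) (BT.img (nat_lit 1) (nat_lit 0) (BT.dif (nat_lit 2) (nat_lit 0) (BT.img (nat_lit 1) (nat_lit 4) (BT.img (nat_lit 1) (nat_lit 0) (BT.dif (nat_lit 2) (nat_lit 0) (BT.img (nat_lit 1) (nat_lit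 4) (BT.img (nat_lit 1) (nat_lit 0) (BT.dif (nat_lit 2) (nat_lit 0) (BT.img (nat_lit 1) (nat_lit 4) (BT.img (nat_lit 1) (nat_lit 0) (BT.dif (nat_lit 2) (nat_lit 0) (BT.img (nat_lit 1) (nat_lit 4) (BT.img (nat_lit 1) (nat_lit 0) (BT.dif (nat_lit 2) (nat_lit 0) (BT.img (nat_lit 1) (nat_lit 4) (BT.img (nat_lit 1) (nat_lit 0) (BT.dif (nat_lit 2) (nat_lit 0) (BT.img (nat_lit 1) (nat_lit 1) (BT.img (nat_lit 1) (nat_lit 0) (BT.dif (nat_lit 2) (nat_lit 0) (BT.img (nat_lit 1) (nat_lit 0) (BT.and (nat_lit 29) (nat_lit 0) (BT.img (nat_lit 1) (nat_lit 0) (BT.and (nat_lit 31) (nat_lit 0) (BT.img (nat_lit 1) (nat_lit 0) (BT.and (nat_lit 36) (nat_lit 0) (BT.img (nat_lit 1) (nat_lit 0) (BT.and (nat_lit 40) (nat_lit 0) (BT.cnt (nat_lit 0)))))))))))))))))))))))))))))))))))))))))))))) (BT.dead (nat_lit 0) (BT.img (nat_lit 1) (nat_lit 0) (BT.frm (nat_lit 1) (nat_lit 2313) (nat_lit 11) [nat_lit 0, nat_lit 1] (BT.pln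 (nat_lit 0) (nat_lit 6) (BT.frm (nat_lit 0) (nat_lit 0) (nat_lit 0) [nat_lit 3] (BT.pln (nat_lit 0) (nat_lit 1) (BT.dif (nat_lit 8) (nat_lit 0) (BT.pln (nat_lit 2) (nat_lit 2) (BT.dif (nat_lit 1) (nat_lit 0) (BT.dif (nat_lit 1) (nat_lit 7) (BT.img (nat_lit 1) (nat_lit 8) (BT.img (nat_lit 1) (nat_lit 0) (BT.dif (nat_lit 2) (nat_lit 0) (BT.pln (nat_lit 8) (nat_lit 3) (BT.img (nat_lit 1) (nat_lit 0) (BT.dif (nat_lit 2) (nat_lit 0) (BT.img (nat_lit 1) (nat_lit 4) (BT.img (nat_lit 1) (nat_lit 0) (BT.dif (nat_lit 2) (nat_lit 0) (BT.img (nat_lit 1) (nat_lit 4) (BT.img (nat_lit 1) (nat_lit 0) (BT.dif (nat_lit 2) (nat_lit 0) (BT.img (nat_lit 1) (nat_lit 4) (BT.img (nat_lit 1) (nat_lit 0) (BT.dif (nat_lit 2) (nat_lit 0) (BT.img (nat_lit 1) (nat_lit 4) (BT.img (nat_lit 1) (nat_lit 0) (BT.dif (nat_lit 2) (nat_lit 0) (BT.img (nat_lit 1) (nat_lit 4) (BT.img (nat_lit 1) (nat_lit 0) (BT.dif (nat_lit 2) (nat_lit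 0) (BT.img (nat_lit 1) (nat_lit 4) (BT.img (nat_lit 1) (nat_lit 0) (BT.dif (nat_lit 2) (nat_lit 0) (BT.img (nat_lit 1) (nat_lit 1) (BT.img (nat_lit 1) (nat_lit 0) (BT.dif (nat_lit 2) (nat_lit 0) (BT.img (nat_lit 1) (nat_lit 0) (BT.and (nat_lit 29) (nat_lit 0) (BT.img (nat_lit 1) (nat_lit 0) (BT.and (nat_lit 31) (nat_lit 0) (BT.img (nat_lit 1) (nat_lit 0) (BT.and (nat_lit 36) (nat_lit 0) (BT.img (nat_lit 1) (nat_lit 0) (BT.and (nat_lit 40) (nat_lit 0) (BT.cnt (nat_lit 0)))))))))))))))))))))))))))))))))))))))))))))) (BT.dead (nat_lit 12) (BT.frm (nat_lit 0) (nat_lit 0) (nat_lit 0x10501040b) [nat_lit 0] (BT.pln (nat_lit 0) (nat_lit 1) (BT.img (nat_lit 1) (nat_lit 2) (BT.img (nat_lit 1) (nat_lit 0) (BT.img (nat_lit 1) (nat_lit 0) (BT.and (nat_lit 3) (nat_lit 0) (BT.cnt (nat_lit 0)))))))) (BT.dead (nat_lit 14) (BT.frm (nat_lit 0) (nat_lit 0) (nat_lit 0x1030119) [nat_lit 0] (BT.pln (nat_lit 0) (nat_lit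 1) (BT.img (nat_lit 1) (nat_lit 2) (BT.img (nat_lit 1) (nat_lit 0) (BT.img (nat_lit 1) (nat_lit 0) (BT.and (nat_lit 3) (nat_lit 0) (BT.cnt (nat_lit 0)))))))) (BT.dead (nat_lit 4) (BT.frm (nat_lit 0) (nat_lit 0) (nat_lit 0x105010c) [nat_lit 0] (BT.pln (nat_lit 0) (nat_lit 1) (BT.img (nat_lit 1) (nat_lit 2) (BT.and (nat_lit 1) (nat_lit 0) (BT.cnt (nat_lit 0)))))) (BT.dead (nat_lit 3) (BT.frm (nat_lit 0) (nat_lit 0) (nat_lit 0x10b0103) [nat_lit 0] (BT.pln (nat_lit 0) (nat_lit 1) (BT.img (nat_lit 1) (nat_lit 2) (BT.and (nat_lit 1) (nat_lit 0) (BT.cnt (nat_lit 0)))))) BT.nil)))))))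

theorem vt_nc34_33_cnt : Cnt 120 (grp 120 vG) [v_g460] [v_g450] 0 0 0 0 0 :=
  BT.sound vt_nc34_33_cnt_P Known.nil (t := vt_nc34_33_cnt_t) (d := 0) (by decide +kernel)

theorem vt_nc34_33 : ¬ CjIn (grp 120 vG) (Net.toPerm 120 v_g460) (Net.toPerm 120 v_g450) :=
  not_cjIn vt_nc34_33_cnt

noncomputable def vt_nc36_35_cnt_L : List ℕ := [1, 4, vT_s1_O, 0, 0, 2, 13, vT_s2_O, 0, 0]

theorem vt_nc36_35_cnt_P : Prob 120 7 (grp 120 vG) vt_nc36_35_cnt_EG [v_g465] [v_g463] vt_c35_K vt_nc36_35_cnt_L 0 0 :=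
  Sym.prob v_hn v_hk vt_c35_sym vt_nc36_35_cnt_EG_ok (grp_cons_le v_b_vT (grp_cons_le v_p0_vT (grp_cons_le v_p1_vT (grp_cons_le v_g7_vT (grp_cons_le v_g3_vT (grp_cons_le v_g4_vT (grp_cons_le v_g10_vT (grp_cons_le v_g16_vT (grp_cons_le v_g11_vT (grp_cons_le v_g12_vT (grp_cons_le v_g13_vT (grp_cons_le v_g22_vT (grp_cons_le v_g21_vT (grp_cons_le v_g26_vT (grp_cons_le v_g19_vT (grp_cons_le v_g20_vT (grp_cons_le v_g23_vT (grp_cons_le v_g30_vT (grp_cons_le v_g31_vT (grp_cons_le v_g32_vT (grp_cons_le v_g37_vT (grp_cons_le v_g38_vT (grp_cons_le v_g29_vT (grp_cons_le v_u_vT (grp_nil_le _))))))))))))))))))))))))) (Frames.cons vT_s1_F (Frames.cons vT_s2_F Frames.nil)) (okE_cons.2 ⟨v_g465_ok, okE_nil _⟩) _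

noncomputable def vt_nc36_35_cnt_t : BT := (BT.fix (nat_lit 0x101010101) (BT.br (nat_lit 0) (nat_lit 0) [nat_lit 1] (BT.dead (nat_lit 9) (BT.img (nat_lit 1) (nat_lit 0) (BT.frm (nat_lit 1) (nat_lit 2059) (nat_lit 0x8080107010a) [nat_lit 0, nat_lit 1] (BT.pln (nat_lit 0) (nat_lit 6) (BT.img (nat_lit 1) (nat_lit 2) (BT.img (nat_lit 1) (nat_lit 0) (BT.and (nat_lit 2) (nat_lit 0) (BT.cnt (nat_lit 0)))))))) (BT.dead (nat_lit 39) (BT.img (nat_lit 1) (nat_lit 0) (BT.frm (nat_lit 1) (nat_lit 2059) (nat_lit 0x7190107) [nat_lit 0, nat_lit 1] (BT.pln (nat_lit 0) (nat_lit 6) (BT.img (nat_lit 1) (nat_lit 2) (BT.img (nat_lit 1) (nat_lit 0) (BT.and (nat_lit 2) (nat_lit 0) (BT.cnt (nat_lit 0)))))))) (BT.dead (nat_lit 45) (BT.frm (nat_lit 0) (nat_lit 0) (nat_lit 0x10b010a) [nat_lit 0] (BT.pln (nat_lit 0) (nat_lit 1) (BT.img (nat_lit 1) (nat_lit 2) (BT.and (nat_lit 1) (nat_lit 0) (BT.cnt (nat_lit 0)))))) (BT.dead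 (nat_lit 0) (BT.frm (nat_lit 0) (nat_lit 0) (nat_lit 0) [nat_lit 0] (BT.pln (nat_lit 0) (nat_lit 1) (BT.img (nat_lit 1) (nat_lit 2) (BT.and (nat_lit 1) (nat_lit 0) (BT.cnt (nat_lit 0)))))) BT.nil))))))

theorem vt_nc36_35_cnt : Cnt 120 (grp 120 vG) [v_g465] [v_g463] 0 0 0 0 0 :=
  BT.sound vt_nc36_35_cnt_P Known.nil (t := vt_nc36_35_cnt_t) (d := 0) (by decide +kernel)

theorem vt_nc36_35 : ¬ CjIn (grp 120 vG) (Net.toPerm 120 v_g465) (Net.toPerm 120 v_g463) :=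
  not_cjIn vt_nc36_35_cnt

noncomputable def vt_nc39_38_cnt_L : List ℕ := [1, 4, vT_s1_O, 0, 0, 3, 9, vT_s44_O, 0, 0]

theorem vt_nc39_38_cnt_P : Prob 120 7 (grp 120 vG) vt_nc39_38_cnt_EG [v_g484] [v_g477] vt_c38_K vt_nc39_38_cnt_L 0 0 :=
  Sym.prob v_hn v_hk vt_c38_sym vt_nc39_38_cnt_EG_ok (grp_cons_le v_b_vT (grp_cons_le v_p0_vT (grp_cons_le v_p1_vT (grp_cons_le v_g7_vT (grp_cons_le v_g3_vT (grp_cons_le v_g4_vT (grp_cons_le v_g10_vT (grp_cons_le v_g16_vT (grp_cons_le v_g11_vT (grp_cons_le v_g12_vT (grp_cons_le v_g13_vT (grp_cons_le v_g22_vT (grp_cons_le v_g21_vT (grp_cons_le v_g26_vT (grp_cons_le v_g19_vT (grp_cons_le v_g20_vT (grp_cons_le v_g23_vT (grp_cons_le v_g30_vT (grp_cons_le v_g31_vT (grp_cons_le v_g32_vT (grp_cons_le v_g37_vT (grp_cons_le v_g38_vT (grp_cons_le v_g29_vT (grp_cons_le v_u_vT (grp_cons_le v_g168_vT (grp_cons_le v_g169_vT (grp_cons_le v_g92_vT (grp_cons_le v_g170_vT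 (grp_cons_le v_g100_vT (grp_cons_le v_g117_vT (grp_cons_le v_g171_vT (grp_nil_le _)))))))))))))))))))))))))))))))) (Frames.cons vT_s1_F (Frames.cons vT_s44_F Frames.nil)) (okE_cons.2 ⟨v_g484_ok, okE_nil _⟩) _

noncomputable def vt_nc39_38_cnt_t : BT := (BT.fix (nat_lit 0x1010101) (BT.fix (nat_lit 257) (BT.dif (nat_lit 1) (nat_lit 0) (BT.br (nat_lit 0) (nat_lit 3) [nat_lit 1] (BT.dead (nat_lit 3) (BT.frm (nat_lit 0) (nat_lit 0x10b0103) (nat_lit 0x10b0103) [nat_lit 0] (BT.pln (nat_lit 0) (nat_lit 1) (BT.fix (nat_lit 0x10101010101) (BT.dif (nat_lit 1) (nat_lit 0) (BT.dif (nat_lit 0) (nat_lit 7) (BT.pln (nat_lit 4) (nat_lit 2) (BT.dif (nat_lit 0) (nat_lit 3) (BT.img (nat_lit 1) (nat_lit 0) (BT.dif (nat_lit 3) (nat_lit 0) (BT.br (nat_lit 0) (nat_lit 53) [nat_lit 3] (BT.dead (nat_lit 53) (BT.img (nat_lit 1) (nat_lit 10) (BT.frm (nat_lit 1) (nat_lit 0x3135080e010b0103) (nat_lit 0x3135080e010b0103)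 [nat_lit 1, nat_lit 0, nat_lit 11] (BT.pln (nat_lit 0) (nat_lit 4) (BT.img (nat_lit 1) (nat_lit 3) (BT.and (nat_lit 1) (nat_lit 0) (BT.cnt (nat_lit 0))))))) BT.nil))))))))))) BT.nil)))))

theorem vt_nc39_38_cnt : Cnt 120 (grp 120 vG) [v_g484] [v_g477] 0 0 0 0 0 :=
  BT.sound vt_nc39_38_cnt_P Known.nil (t := vt_nc39_38_cnt_t) (d := 0) (by decide +kernel)

theorem vt_nc39_38 : ¬ CjIn (grp 120 vG) (Net.toPerm 120 v_g484) (Net.toPerm 120 v_g477) :=
  not_cjIn vt_nc39_38_cnt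

noncomputable def vt_nc41_40_cnt_L : List ℕ := [1, 4, vT_s1_O, 0, 0, 2, 13, vT_s2_O, 0, 0]

theorem vt_nc41_40_cnt_P : Prob 120 7 (grp 120 vG) vt_nc41_40_cnt_EG [v_g488] [v_g486] vt_c40_K vt_nc41_40_cnt_L 0 0 :=
  Sym.prob v_hn v_hk vt_c40_sym vt_nc41_40_cnt_EG_ok (grp_cons_le v_b_vT (grp_cons_le v_p0_vT (grp_cons_le v_p1_vT (grp_cons_le v_g7_vT (grp_cons_le v_g3_vT (grp_cons_le v_g4_vT (grp_cons_le v_g10_vT (grp_cons_le v_g16_vT (grp_cons_le v_g11_vT (grp_cons_le v_g12_vT (grp_cons_le v_g13_vT (grp_cons_le v_g22_vT (grp_cons_le v_g21_vT (grp_cons_le v_g26_vT (grp_cons_le v_g19_vT (grp_cons_le v_g20_vT (grp_cons_le v_g23_vT (grp_cons_le v_g30_vT (grp_cons_le v_g31_vT (grp_cons_le v_g32_vT (grp_cons_le v_g37_vT (grp_cons_le v_g38_vT (grp_cons_le v_g29_vT (grp_cons_le v_u_vT (grp_nil_le _))))))))))))))))))))))))) (Frames.cons vT_s1_F (Frames.cons vT_s2_F Frames.nil)) (okE_cons.2 ⟨v_g488_ok,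 okE_nil _⟩) _

noncomputable def vt_nc41_40_cnt_t : BT := (BT.br (nat_lit 2) (nat_lit 0) [nat_lit 1] (BT.dead (nat_lit 1) (BT.img (nat_lit 1) (nat_lit 0) (BT.frm (nat_lit 1) (nat_lit 0) (nat_lit 0x70c0105010309) [nat_lit 0, nat_lit 1] (BT.pln (nat_lit 0) (nat_lit 6) (BT.img (nat_lit 1) (nat_lit 2) (BT.img (nat_lit 1) (nat_lit 0) (BT.img (nat_lit 1) (nat_lit 0) (BT.img (nat_lit 1) (nat_lit 0) (BT.img (nat_lit 1) (nat_lit 0) (BT.img (nat_lit 1) (nat_lit 0) (BT.img (nat_lit 1) (nat_lit 0) (BT.and (nat_lit 7) (nat_lit 0) (BT.cnt (nat_lit 0))))))))))))) (BT.dead (nat_lit 13) (BT.img (nat_lit 1) (nat_lit 0) (BT.frm (nat_lit 1) (nat_lit 0) (nat_lit 0x70901050108) [nat_lit 0, nat_lit 1] (BT.pln (nat_lit 0) (nat_lit 6) (BT.img (nat_lit 1) (nat_lit 2) (BT.img (nat_lit 1) (nat_lit 0) (BT.img (nat_lit 1) (nat_lit 0) (BT.img (nat_lit 1) (nat_lit 0) (BT.img (nat_lit 1) (nat_lit 0) (BT.img (nat_lit 1) (nat_lit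 0) (BT.img (nat_lit 1) (nat_lit 0) (BT.and (nat_lit 7) (nat_lit 0) (BT.cnt (nat_lit 0))))))))))))) (BT.dead (nat_lit 3) (BT.frm (nat_lit 0) (nat_lit 0) (nat_lit 0x10b0103) [nat_lit 0] (BT.pln (nat_lit 0) (nat_lit 1) (BT.img (nat_lit 1) (nat_lit 2) (BT.and (nat_lit 1) (nat_lit 0) (BT.cnt (nat_lit 0)))))) (BT.dead (nat_lit 11) (BT.frm (nat_lit 0) (nat_lit 0) (nat_lit 66329) [nat_lit 0] (BT.pln (nat_lit 0) (nat_lit 1) (BT.img (nat_lit 1) (nat_lit 2) (BT.img (nat_lit 1) (nat_lit 0) (BT.img (nat_lit 1) (nat_lit 0) (BT.img (nat_lit 1) (nat_lit 0) (BT.and (nat_lit 4) (nat_lit 0) (BT.cnt (nat_lit 0))))))))) (BT.dead (nat_lit 7) (BT.frm (nat_lit 0) (nat_lit 0) (nat_lit 66328) [nat_lit 0] (BT.pln (nat_lit 0) (nat_lit 1) (BT.img (nat_lit 1) (nat_lit 2) (BT.img (nat_lit 1) (nat_lit 0) (BT.and (nat_lit 2) (nat_lit 0) (BT.cnt (nat_lit 0))))))) (BT.dead (nat_lit 2) (BT.frm (nat_lit 0) (nat_lit 0) (nat_lit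 66571) [nat_lit 0] (BT.pln (nat_lit 0) (nat_lit 1) (BT.img (nat_lit 1) (nat_lit 2) (BT.img (nat_lit 1) (nat_lit 0) (BT.and (nat_lit 2) (nat_lit 0) (BT.cnt (nat_lit 0))))))) (BT.dead (nat_lit 6) (BT.frm (nat_lit 0) (nat_lit 0) (nat_lit 259) [nat_lit 0] (BT.pln (nat_lit 0) (nat_lit 1) (BT.img (nat_lit 1) (nat_lit 2) (BT.img (nat_lit 1) (nat_lit 0) (BT.img (nat_lit 1) (nat_lit 0) (BT.img (nat_lit 1) (nat_lit 0) (BT.and (nat_lit 4) (nat_lit 0) (BT.cnt (nat_lit 0))))))))) (BT.dead (nat_lit 0) (BT.frm (nat_lit 0) (nat_lit 0) (nat_lit 0) [nat_lit 0] (BT.pln (nat_lit 0) (nat_lit 1) (BT.img (nat_lit 1) (nat_lit 2) (BT.and (nat_lit 1) (nat_lit 0) (BT.cnt (nat_lit 0)))))) BT.nil)))))))))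

theorem vt_nc41_40_cnt : Cnt 120 (grp 120 vG) [v_g488] [v_g486] 0 0 0 0 0 :=
  BT.sound vt_nc41_40_cnt_P Known.nil (t := vt_nc41_40_cnt_t) (d := 0) (by decide +kernel)

theorem vt_nc41_40 : ¬ CjIn (grp 120 vG) (Net.toPerm 120 v_g488) (Net.toPerm 120 v_g486) :=
  not_cjIn vt_nc41_40_cnt

theorem vt_exc : Exc 120 (grp 120 vG) vt_xs [41040, 39038, 36035, 34033, 31030, 24023, 21020, 19018, 12011] :=
  (Exc.cons 41 40 (by decide) vt_nc41_40 (Exc.cons 39 38 (by decide) vt_nc39_38 (Exc.cons 36 35 (by decide) vt_nc36_35 (Exc.cons 34 33 (by decide) vt_nc34_33 (Exc.cons 31 30 (by decide) vt_nc31_30 (Exc.cons 24 23 (by decide) vt_nc24_23 (Exc.cons 21 20 (by decide) vt_nc21_20 (Exc.cons 19 18 (by decide) vt_nc19_18 (Exc.cons 12 11 (by decide) vt_nc12_11 Exc.nil)))))))))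

theorem vt : Table 120 (grp 120 vG) vt_xs vt_cs vt_os :=
  Reps.table (D := 2) v_hn v_hk vt_reps vt_exc vo_card (by decide +kernel)

theorem v_le492 : grp 120 vQ ≤ grp 120 vo_E0 :=
  grp_le_of_memB v_hn v_hk vo_E0_ok vQ_ok (ws := [nat_lit 47, nat_lit 0x2917190f, nat_lit 0x2f291721080b, nat_lit 0x23210f080b, nat_lit 0x2d231f0f01080b01, nat_lit 0x2f2d29231b01080b01, nat_lit 0x2f292319, nat_lit 0x2d2923170f080b01080b01]) (by decide +kernel)

theorem vQ_le : grp 120 vQ ≤ grp 120 vG :=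
  (v_le492.trans vT_s0.le)

noncomputable def vQw : List (List ℕ) := [[nat_lit 1, nat_lit 0xf0d090301, nat_lit 0xd070501, nat_lit 1281, nat_lit 0xf0d0b090703, nat_lit 591619, nat_lit 1793, nat_lit 591621], [nat_lit 1, nat_lit 985863, nat_lit 0xb090705, nat_lit 985859, nat_lit 591619, nat_lit 15, nat_lit 0xf0d090301, nat_lit 11], [nat_lit 0xd0b09070501, nat_lit 0xd0b0901, nat_lit 854275, nat_lit 854273, nat_lit 3851, nat_lit 1795, nat_lit 0xf0d090501, nat_lit 591619]]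

noncomputable def vAw : List ℕ := [nat_lit 0, nat_lit 0x2f2d290f070a, nat_lit 0x190f080c01030801, nat_lit 0x2d23170d0909010c0104, nat_lit 0x17070c0104010501, nat_lit 0, nat_lit 0, nat_lit 0x2f2d19070e010b01, nat_lit 0x29231713090e01050104, nat_lit 0x2f2d231713090d0103010801, nat_lit 0, nat_lit 0, nat_lit 0, nat_lit 0x2d2923170a010303, nat_lit 0x290f0b010313, nat_lit 0, nat_lit 0, nat_lit 0, nat_lit 0, nat_lit 0x2f2d2317210f090d010507, nat_lit 0, nat_lit 0, nat_lit 0, nat_lit 0, nat_lit 0]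

noncomputable def vNw : List ℕ := [nat_lit 0, nat_lit 0, nat_lit 0x251d0d0319011a0b2401230c01040e1e26, nat_lit 0x312f1b2313011424011c3032, nat_lit 0, nat_lit 0, nat_lit 0, nat_lit 0x3125230f0909030603070d010e01080405040a0a10242632, nat_lit 0x25230f0b0e030703051d20011f1e212201212201060408040d0c102426, nat_lit 0, nat_lit 0, nat_lit 0, nat_lit 0, nat_lit 0, nat_lit 0, nat_lit 0, nat_lit 0, nat_lit 0x2b19230b0e03090501060105010601050106010a040d0c241a2c, nat_lit 0x312f2b19230f0b1003050305092d012e230124170118012d012e230124170118012d012e230124170118012d012e230124170118012d012e230124170118010a060406040f0c10241a2c3032, nat_lit 0x312b2523110a030503050a1e011d1c011b0b010c011e011d1c011b0b010c011e011d1c011b0b010c011e011d1c011b0b010c011e011d1c011b0b010c010906040604091224262c32, nat_lit 0x2f251b11030513063101320525012601063101320525012601063101320525012601140604121c2630, nat_lit 0x312b25230f03062d012e0513011406012d012e0513011406012d012e05130114060105041024262c32,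 nat_lit 0, nat_lit 0, nat_lit 0, nat_lit 0, nat_lit 0, nat_lit 0, nat_lit 0, nat_lit 0, nat_lit 0, nat_lit 0, nat_lit 0, nat_lit 0, nat_lit 0, nat_lit 0, nat_lit 0, nat_lit 0, nat_lit 0, nat_lit 0, nat_lit 0x312f2b1b0a0c030c03060d010e1a1a011919010d010e1a1a011919010d010e1a1a0119190105040b040b091c2c3032, nat_lit 0x312b21110306270e1601150d010e1601150d010e1601150d0128050412222c32]

end Cfsg.Agent.H68.HN
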