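import Mathlib
import Cfsg.Agent.H46.J1Defs
import Cfsg.Agent.H87.Transfer

/-! The transfer in the branch `4³ · L₃(2)`. -/

set_option autoImplicit false
open scoped Pointwise
open Subgroup

namespace Cfsg.Agent.H68.S94
open Cfsg.Agent.H8 Cfsg.Agent.H46.S94

universe u

local notation "C[" A "]" => Subgroup.centralizer (SetLike.coe A)
local notation "N[" A "]" => Subgroup.normalizer (SetLike.coe A)

section
variable {G : Type u} [Group G]

theorem relIndex_dvd_index_right [Finite G] (H F : Subgroup G) [F.Normal] :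
    H.relIndex F ∣ H.index := by
  have e1 : H.relIndex F * F.index = F.relIndex H * H.index := by
    rw [← inf_relIndex_right H F, relIndex_mul_index inf_le_right, ← inf_relIndex_left H F,
      relIndex_mul_index inf_le_left]
  obtain ⟨k, hk⟩ := relIndex_dvd_index_of_normal F H
  refine ⟨k, ?_⟩
  have h0 : F.relIndex H ≠ 0 := (F.subgroupOf H).index_ne_zero_of_finite
  apply Nat.eq_of_mul_eq_mul_left (Nat.pos_of_ne_zero h0)
  rw [← e1, hk]; ring

theorem mem_St {T : Subgroup G} {t : G} (tt : t * t = 1) (tN : t ∈ N[T]) {x : G}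
    (hx : x ∈ St1 T t) : x ∈ T ∨ x * t ∈ T := by
  have ti : t⁻¹ = t := inv_eq_of_mul_eq_one_right tt
  let K : Subgroup G :=
    { carrier := {x | x ∈ T ∨ x * t ∈ T}
      one_mem' := Or.inl T.one_mem
      mul_mem' := by
        rintro a b (ha | ha) (hb | hb)
        · exact Or.inl (T.mul_mem ha hb)
        · exact Or.inr (by rw [mul_assoc]; exact T.mul_mem ha hb)
        · refine Or.inr ?_
          have := T.mul_mem ha ((mem_normalizer_iff.1 tN b).1 hb)
          rwa [ti, show a * t * (t * b * t) = a * (t * t) * b * t by group, tt, mul_one] at this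
        · refine Or.inl ?_
          have := T.mul_mem ha ((mem_normalizer_iff.1 tN _).1 hb)
          rwa [show a * t * (t * (b * t) * t⁻¹) = a * (t * t) * b by group, tt, mul_one] at this
      inv_mem' := by
        rintro a (ha | ha)
        · exact Or.inl (T.inv_mem ha)
        · refine Or.inr ?_
          have := (mem_normalizer_iff.1 tN _).1 (T.inv_mem ha)
          rwa [show t * (a * t)⁻¹ * t⁻¹ = a⁻¹ * t⁻¹ by group, ti] at this }
  exact (show St1 T t ≤ K from sup_le (fun y hy => Or.inl hy)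
    (zpowers_le.2 (Or.inr (by show t * t ∈ T; rw [tt]; exact T.one_mem)))) hx

theorem mem_sup_of_comm {S O : Subgroup G} (h : ∀ s ∈ S, ∀ o ∈ O, s * o = o * s) {x : G}
    (hx : x ∈ S ⊔ O) : ∃ s ∈ S, ∃ o ∈ O, x = s * o := by
  let K : Subgroup G :=
    { carrier := {x | ∃ s ∈ S, ∃ o ∈ O, x = s * o}
      one_mem' := ⟨1, S.one_mem, 1, O.one_mem, by simp⟩
      mul_mem' := by
        rintro _ _ ⟨a, ha, o, ho, rfl⟩ ⟨b, hb, p, hp, rfl⟩
        refine ⟨a * b, S.mul_mem ha hb, o * p, O.mul_mem ho hp, ?_⟩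
        rw [show a * o * (b * p) = a * (o * b) * p by group, ← h b hb o ho]; group
      inv_mem' := by
        rintro _ ⟨a, ha, o, ho, rfl⟩
        exact ⟨a⁻¹, S.inv_mem ha, o⁻¹, O.inv_mem ho, by
          rw [mul_inv_rev, h _ (S.inv_mem ha) _ (O.inv_mem ho)]⟩ }
  exact (show S ⊔ O ≤ K from sup_le (fun y hy => ⟨y, hy, 1, O.one_mem, by simp⟩)
    fun y hy => ⟨1, S.one_mem, y, hy, by simp⟩) hx

theorem le_of_index_two [Finite G] {F K : Subgroup G} (as : AS F) [K.Normal] (hK : K.index = 2) :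
    F ≤ K := by
  have := as.simple
  rcases (inferInstance : (K.subgroupOf F).Normal).eq_bot_or_eq_top with e | e
  · exfalso
    apply as.nc
    refine ⟨⟨fun a b => ?_⟩⟩
    have h1 : a * b * a⁻¹ * b⁻¹ ∈ K.subgroupOf F := by
      rw [mem_subgroupOf]
      have hc : IsMulCommutative (G ⧸ K) := by
        have : Fact (Nat.Prime 2) := ⟨Nat.prime_two⟩
        have : IsCyclic (G ⧸ K) := isCyclic_of_prime_card (p := 2) hK
        infer_instance
      rw [← QuotientGroup.eq_one_iff]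
      simp only [coe_mul, coe_inv, QuotientGroup.mk_mul, QuotientGroup.mk_inv]
      rw [hc.is_comm.comm (a.1 : G ⧸ K) b.1]; group
    rw [e, mem_bot] at h1
    calc a * b = a * b * a⁻¹ * b⁻¹ * (b * a) := by group
      _ = b * a := by rw [h1, one_mul]
  · exact subgroupOf_eq_top.1 e

theorem exists_chi [Finite G] (det : DETStmt.{u}) {H T : Subgroup G} {t : G} (ab : Ab T)
    (h8 : Nat.card {x : T // x * x = 1} = 8) (sq : ∀ v : T, v * v = 1 → ∃ x, x * x = v)
    (HN : H ≤ N[T]) (tH : t ∈ H) (inv : ∀ x ∈ T, t * x * t⁻¹ = x⁻¹) :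
    ∃ χ : H →* (ZMod 4)ˣ, χ ⟨t, tH⟩ = -1 ∧ ∀ x : H, (x : G) ∈ T → χ x = 1 := by
  letI : CommGroup T := { (inferInstance : Group T) with
    mul_comm := fun a b => Subtype.ext (ab a a.2 b b.2) }
  obtain ⟨δ, hδ⟩ := det T h8 sq
  refine ⟨δ.comp (T.normalizerMonoidHom.comp (inclusion HN)), ?_, fun x hx => ?_⟩
  · rw [← hδ, MonoidHom.comp_apply]
    congr 1
    ext y
    exact inv y y.2
  · rw [MonoidHom.comp_apply, ← map_one δ]
    congr 1
    ext y
    show (x : G) * y * (x : G)⁻¹ = y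
    rw [ab x hx y y.2]; group

end

section
variable {Γ : Type} [Group Γ] {G : Type u} [Group G] {φ : Γ →* G} {F : Subgroup G} {t : G}
  {O T : Subgroup G} {z σ ρ : Γ} {V L : Subgroup Γ}

theorem fpf_V (jf : J1F z σ ρ V L) {v : Γ} (hv : v ∈ V) (e : σ * v = v * σ) : v = 1 := by
  by_contra v1
  obtain ⟨i, hi⟩ := jf.tr v hv v1
  have hz : Commute σ z := by
    have h1 : Commute σ (σ ^ i * z * (σ ^ i)⁻¹) := by rw [hi]; exact e
    have h2 : Commute σ ((σ ^ i)⁻¹ * (σ ^ i * z * (σ ^ i)⁻¹) * σ ^ i) :=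
      ((((Commute.refl σ).pow_right i).inv_right).mul_right h1).mul_right
        ((Commute.refl σ).pow_right i)
    rwa [show (σ ^ i)⁻¹ * (σ ^ i * z * (σ ^ i)⁻¹) * σ ^ i = z by group] at h2
  have hle : V ≤ zpowers z := fun w hw => by
    by_cases w1 : w = 1
    · rw [w1]; exact one_mem _
    · obtain ⟨j, hj⟩ := jf.tr w hw w1
      rw [← hj, (hz.pow_left j).eq, mul_inv_cancel_right]
      exact mem_zpowers z
  have := jf.base.fin
  have h2 := card_le_of_le hle
  have : Fact (Nat.Prime 2) := ⟨Nat.prime_two⟩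
  rw [jf.cV, Nat.card_zpowers, orderOf_eq_prime (p := 2) (by rw [sq, jf.el z jf.zV]) jf.z1] at h2
  omega

theorem fpf_T [Finite G] (c : C1 φ F t O z σ ρ V L) (tf : TF t (φ σ) (φ ρ) O (V.map φ) T)
    (ls : LS t (V.map φ) T) {x : G} (hx : x ∈ T) (e : φ σ * x = x * φ σ) : x = 1 := by
  obtain ⟨n, hn⟩ := tf.two ⟨x, hx⟩
  have hn' : x ^ 2 ^ n = 1 := by simpa using congrArg Subtype.val hn
  clear hn
  induction n with
  | zero => simpa using hn'
  | succ n ih =>
    apply ih
    have h2 : x ^ 2 ^ n * x ^ 2 ^ n = 1 := by rw [← pow_add, ← two_mul, ← pow_succ', hn']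
    obtain ⟨v, hv, ev⟩ := ls.om _ (T.pow_mem hx _) h2
    have h3 : φ σ * φ v = φ v * φ σ := by
      rw [ev]; exact ((show Commute (φ σ) x from e).pow_right _).eq
    rw [← ev, fpf_V c.jf hv (c.cx.inj (by simpa using h3)), map_one]

theorem T_le_F [Finite G] (c : C1 φ F t O z σ ρ V L) (tf : TF t (φ σ) (φ ρ) O (V.map φ) T)
    (ls : LS t (V.map φ) T) : T ≤ F := by
  have hn := c.as.normal
  let f : T → T := fun x => ⟨φ σ * x * (φ σ)⁻¹ * (x : G)⁻¹,
    T.mul_mem ((mem_normalizer_iff.1 tf.sN _).1 x.2) (T.inv_mem x.2)⟩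
  have hf : Function.Injective f := fun x y e => by
    have e1 : φ σ * x * (φ σ)⁻¹ * (x : G)⁻¹ = φ σ * y * (φ σ)⁻¹ * (y : G)⁻¹ := congrArg Subtype.val e
    have e2 : (y : G)⁻¹ * x = 1 := by
      refine fpf_T c tf ls (T.mul_mem (T.inv_mem y.2) x.2) ?_
      calc φ σ * ((y : G)⁻¹ * x)
          = (φ σ * y * (φ σ)⁻¹)⁻¹ * (φ σ * x * (φ σ)⁻¹ * (x : G)⁻¹) * x * φ σ := by group
        _ = _ := by rw [e1]; group
    exact Subtype.ext (by rw [← mul_inv_cancel_left (y : G) x, e2, mul_one])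
  intro x hx
  obtain ⟨y, hy⟩ := Finite.surjective_of_injective hf ⟨x, hx⟩
  have e : φ σ * y * (φ σ)⁻¹ * (y : G)⁻¹ = x := congrArg Subtype.val hy
  have sF : φ σ ∈ F := c.AF ⟨σ, rfl⟩
  rw [← e, show φ σ * y * (φ σ)⁻¹ * (y : G)⁻¹ = φ σ * (y * (φ σ)⁻¹ * (y : G)⁻¹) by group]
  exact F.mul_mem sF (hn.conj_mem _ (F.inv_mem sF) _)

end

theorem jl3 (det : DETStmt.{u}) (gl : GLStmt.{u}) : JL3Stmt.{u} := by
  intro Γ _ G _ _ φ F t O T z σ ρ V L c tf ls hk nT nO hgl hfus hodd
  have : Fact (Nat.Prime 2) := ⟨Nat.prime_two⟩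
  have hn := c.as.normal
  have tt := c.cx.tt
  have ti : t⁻¹ = t := inv_eq_of_mul_eq_one_right tt
  have el : ∀ v ∈ V.map φ, v * v = 1 := by
    rintro _ ⟨v, hv, rfl⟩; rw [← map_mul, c.jf.el v hv, map_one]
  have c8 : Nat.card (V.map φ) = 8 := by rw [card_map_of_injective c.cx.inj, c.jf.cV]
  have TN : T ≤ N[St1 T t] := le_sup_left.trans le_normalizer
  have tN : t ∈ N[St1 T t] := le_normalizer (mem_sup_right (mem_zpowers t))
  have TF' := T_le_F c tf ls
  have tF : t ∉ F := by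
    obtain ⟨χ, h1, h2⟩ := exists_chi det tf.ab (by
      rw [← c8]
      exact Nat.card_congr ⟨fun x => ⟨x.1.1, ls.om _ x.1.2 (congrArg Subtype.val x.2)⟩,
        fun v => ⟨⟨v.1, tf.VT v.2⟩, Subtype.ext (el _ v.2)⟩, fun _ => rfl, fun _ => rfl⟩)
      (fun v hv => by
        obtain ⟨x, hx, e⟩ := ls.sq v (ls.om _ v.2 (congrArg Subtype.val hv))
        exact ⟨⟨x, hx⟩, Subtype.ext e⟩) nT tN fun x hx => by rw [ti]; exact ls.inv x hx
    have hm : ∀ x : N[St1 T t], (x : G) ∈ χ.ker.map (N[St1 T t]).subtype ↔ χ x = 1 := fun x => by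
      constructor
      · rintro ⟨y, hy, e⟩
        obtain rfl : y = x := Subtype.ext e
        exact hy
      · exact fun h => ⟨x, h, rfl⟩
    obtain ⟨K, Kn, Ki, tK⟩ := H87.thompson_transfer_involution (H := N[St1 T t])
      (M := χ.ker.map (N[St1 T t]).subtype) hodd (by
        rw [relIndex, subgroupOf, comap_map_eq_self_of_injective (subtype_injective _),
          index_ker, MonoidHom.range_eq_top.2, card_top]
        · rw [Nat.card_eq_fintype_card]; rfl
        · intro w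
          have : w = 1 ∨ w = -1 := by revert w; decide
          rcases this with rfl | rfl
          · exact ⟨1, map_one _⟩
          · exact ⟨_, h1⟩) (x := t) (by rw [sq, tt]) fun g hg => by
        have hg' : g * t * g⁻¹ ∈ N[St1 T t] := map_subtype_le _ hg
        obtain ⟨x, hx, e⟩ := hfus g hg'
        have h3 := (hm ⟨_, hg'⟩).1 hg
        have h4 : (⟨_, hg'⟩ : N[St1 T t]) = ⟨x, TN hx⟩ * ⟨t, tN⟩ := Subtype.ext e
        rw [h4, map_mul, h1, h2 _ hx, one_mul] at h3
        exact absurd h3 (by decide)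
    exact fun h => tK (le_of_index_two c.as Ki h)
  have SO : ∀ s ∈ St1 T t, ∀ o ∈ O, s * o = o * s := fun s hs o ho =>
    (mem_centralizer_iff.1 ((show St1 T t ≤ C[O] from sup_le tf.OC (zpowers_le.2
      (mem_centralizer_iff.2 fun o ho => c.cx.Ot o ho))) hs) o ho).symm
  have ker' : ∀ x ∈ N[St1 T t] ⊓ F ⊓ C[V.map φ], ∃ y ∈ T, ∃ o ∈ O, x = y * o := by
    rintro x ⟨⟨x1, x2⟩, x3⟩
    obtain ⟨s, hs, o, ho, rfl⟩ := mem_sup_of_comm SO (hk ⟨x1, x3⟩)
    rcases mem_St tt tf.tN hs with h | h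
    · exact ⟨s, h, o, ho, rfl⟩
    · exfalso
      have h1 : t * o ∈ F := by
        have := F.mul_mem (F.inv_mem (TF' h)) x2
        rwa [show (s * t)⁻¹ * (s * o) = t⁻¹ * o by group, ti] at this
      obtain ⟨k, hk⟩ := c.cx.odd_ord ho
      have h2 := F.pow_mem h1 (orderOf o)
      rw [(show Commute t o from (c.cx.Ot o ho).symm).mul_pow, pow_orderOf_eq_one, mul_one, hk,
        pow_succ, pow_mul, sq, tt, one_pow, one_mul] at h2
      exact tF h2
  have odd' : Odd ((N[St1 T t] ⊓ F).relIndex F) := by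
    rw [inf_relIndex_right]
    exact hodd.of_dvd_nat (relIndex_dvd_index_right _ F)
  refine ⟨tF, TF', nT, nO, ?_, ?_, odd', ?_⟩
  · refine ((gl G _ _ el c8 hgl.1).2 hgl).2.1 _ inf_le_left ?_ fun h => ?_
    · exact (le_inf le_normalizer le_normalizer_of_normal).trans inf_normalizer_le_normalizer_inf
    · have h1 : φ σ ∈ N[St1 T t] ⊓ F := by
        refine mem_inf.2 ⟨?_, c.AF ⟨σ, rfl⟩⟩
        rw [mem_normalizer_iff_conj_smul_eq, smul_sup, mem_normalizer_iff_conj_smul_eq.1 tf.sN,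
          conj_smul_eq_of_mem_centralizer]
        rintro _ ⟨k, rfl⟩
        exact ((show Commute (φ σ) t from c.cx.AC σ).zpow_right k).symm.eq
      have h2 := mem_centralizer_iff.1 (h h1) (φ z) ⟨z, c.jf.zV, rfl⟩
      exact c.jf.z1 (fpf_V c.jf c.jf.zV (c.cx.inj (by simpa using h2.symm)))
  · intro x hx
    obtain ⟨y, hy, o, ho, rfl⟩ := ker' x hx
    refine mul_mem (mem_sup_left hy) (mem_sup_right ⟨ho, ?_⟩)
    have := F.mul_mem (F.inv_mem (TF' hy)) hx.1.2
    rwa [inv_mul_cancel_left] at this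
  · obtain ⟨S, hS, TS⟩ := exists_isSylowIn_ge tf.two (le_inf TN TF')
    have h1 := hS.trans_of_not_dvd inf_le_right (by
      rw [← even_iff_two_dvd, Nat.not_even_iff_odd]; exact odd')
    have h2 : IsSylowIn 2 S (F ⊓ N[V.map φ]) :=
      h1.mono (le_inf h1.le (hS.le.trans (inf_le_left.trans hgl.1))) inf_le_left
    have h3 := h2.inf_of_le_normalizer (N := C[V.map φ])
      (inf_le_right.trans (normalizer_le_normalizer_centralizer _))
    have e1 : F ⊓ N[V.map φ] ⊓ C[V.map φ] = F ⊓ C[V.map φ] := by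
      rw [inf_assoc, inf_of_le_right (centralizer_le_normalizer _)]
    have e2 : S ⊓ C[V.map φ] = T := by
      refine le_antisymm (fun x hx => ?_) (le_inf TS fun x hx =>
        mem_centralizer_iff.2 fun v hv => tf.ab v (tf.VT hv) x hx)
      obtain ⟨y, hy, o, ho, rfl⟩ := ker' x ⟨hS.le hx.1, hx.2⟩
      have h4 : o ∈ S := by
        have := S.mul_mem (S.inv_mem (TS hy)) hx.1
        rwa [inv_mul_cancel_left] at this
      obtain ⟨n, hn⟩ := hS.isPGroup ⟨o, h4⟩
      rw [c.cx.o_one ho (n := n) (by simpa using congrArg Subtype.val hn), mul_one]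
      exact hy
    rwa [e1, e2] at h3

end Cfsg.Agent.H68.S94
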