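import Mathlib
import Cfsg.Agent.H43.Cent
import Cfsg.Agent.H55.EjB
import Cfsg.Agent.H46.J2M

set_option autoImplicit false
set_option maxRecDepth 200000
set_option linter.style.longLine false

namespace Cfsg.Agent.H68.J2Jf

open Cfsg.Agent.H43 Cfsg.Agent.H17
open scoped Pointwise

theorem f_hn : NOk 100 := by decide

theorem f_hk : 100 ≤ 2 ^ 7 := by decide

noncomputable def e1 : Net := (Net.cons (nat_lit 1) (nat_lit 0x414000540500510504104514) (Net.cons (nat_lit 2) (nat_lit 0x2002003003111013201303100) (Net.cons (nat_lit 4) (nat_lit 0xa06000e0303070903030902) (Net.cons (nat_lit 8) (nat_lit 0x2e005f002300490025000c) (Net.cons (nat_lit 16) (nat_lit 0x88000000891700000004) (Net.cons (nat_lit 32) (nat_lit 0x16af8f80) (Net.cons (nat_lit 64) (nat_lit 0x33fff9fa0) (Net.cons (nat_lit 32) (nat_lit 0xc000000008f8db7f4) (Net.cons (nat_lit 16) (nat_lit 0xd6a0000037a300005ead) (Net.cons (nat_lit 8)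 (nat_lit 0x2a005f00eb0035006d003f) (Net.cons (nat_lit 4) (nat_lit 0x105030f0b0b070a0f0f0a0d) (Net.cons (nat_lit 2) (nat_lit 0x2001003123212023102303200) (Net.cons (nat_lit 1) (nat_lit 0x541554150145045051451041) Net.nil)))))))))))))

theorem e1_ok : Net.ok 100 e1 = true := by decide +kernel

noncomputable def EE : List Net := [H46.J2M.k_g1, e1]

theorem EE_ok : okE 100 EE = true := (okE_cons.2 ⟨H46.J2M.k_g1_ok, (okE_cons.2 ⟨e1_ok, (okE_nil 100)⟩)⟩)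

noncomputable def f_g1 : Net := (Net.cons (nat_lit 1) (nat_lit 0x5001110411415555040404100) (Net.cons (nat_lit 2) (nat_lit 0x2113323211120202020110020) (Net.cons (nat_lit 4) (nat_lit 0x907020e0d000b040d07000c) (Net.cons (nat_lit 8) (nat_lit 0xaf00cc000c004c00e40005) (Net.cons (nat_lit 16) (nat_lit 0x221a000047d60000000b) (Net.cons (nat_lit 32) (nat_lit 0x500000000d0a03e50) (Net.cons (nat_lit 64) (nat_lit 0x9dfed3e56) (Net.cons (nat_lit 32) (nat_lit 0x20000000074bccff3) (Net.cons (nat_lit 16) (nat_lit 0xf02400004bbc0000b956) (Net.cons (nat_lit 8) (nat_lit 0x7c0082004600c7000b003d) (Net.cons (nat_lit 4) (nat_lit 0x20c0e0b0a0f0703060d0c01) (Net.cons (nat_lit 2) (nat_lit 0x2001300000012012301320323) (Net.cons (nat_lit 1) (nat_lit 0x540451504101540551041505) Net.nil)))))))))))))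

theorem f_g1_ok : Net.ok 100 f_g1 = true := by decide +kernel

noncomputable def f_g2 : Net := (Net.cons (nat_lit 1) (nat_lit 0x444410145515005004151400) (Net.cons (nat_lit 2) (nat_lit 0x2302301002232301100020010) (Net.cons (nat_lit 4) (nat_lit 0xb0d04080c0b060405060400) (Net.cons (nat_lit 8) (nat_lit 0x2800050001000600010000) (Net.cons (nat_lit 16) (nat_lit 0x56710000040000000001) (Net.cons (nat_lit 32) (nat_lit 0x400000000298556f0) (Net.cons (nat_lit 64) (nat_lit 0x7298556f1) (Net.cons (nat_lit 32) (nat_lit 0x400000000ad8556f0) (Net.cons (nat_lit 16) (nat_lit 0xd6f5000024ac00004343) (Net.cons (nat_lit 8) (nat_lit 0x180015007100360013001e) (Net.cons (nat_lit 4) (nat_lit 0xb0d040e0c0b0e04050e0400) (Net.cons (nat_lit 2) (nat_lit 0x2302301002232301100022010) (Net.cons (nat_lit 1) (nat_lit 0x444410145515005004151400) Net.nil)))))))))))))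

theorem f_g2_ok : Net.ok 100 f_g2 = true := by decide +kernel

noncomputable def f_g3 : Net := (Net.cons (nat_lit 1) (nat_lit 0x4504510450451011141400010) (Net.cons (nat_lit 2) (nat_lit 0x2202101121231132220200000) (Net.cons (nat_lit 4) (nat_lit 0xb09080e0308090008000200) (Net.cons (nat_lit 8) (nat_lit 0xcd00a400ca00e1001f000a) (Net.cons (nat_lit 16) (nat_lit 0x210000044410000000a) (Net.cons (nat_lit 32) (nat_lit 0xa00000000089100a0) (Net.cons (nat_lit 64) (nat_lit 0x118953bba) (Net.cons (nat_lit 32) (nat_lit 0xe00000000a7f2d8a0) (Net.cons (nat_lit 16) (nat_lit 0xaed900004cc90000188a) (Net.cons (nat_lit 8) (nat_lit 0xcd00a500ee00e1003b000a) (Net.cons (nat_lit 4) (nat_lit 0xf0b090e03080c0208040304) (Net.cons (nat_lit 2) (nat_lit 0x2312101131231223321300000) (Net.cons (nat_lit 1) (nat_lit 0x4514500410451511141440110) Net.nil)))))))))))))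

theorem f_g3_ok : Net.ok 100 f_g3 = true := by decide +kernel

noncomputable def f_g4 : Net := (Net.cons (nat_lit 1) (nat_lit 0x5004154100511544040005000) (Net.cons (nat_lit 2) (nat_lit 0x1323112222003102102220100) (Net.cons (nat_lit 4) (nat_lit 0xe06080e05020b0b03010508) (Net.cons (nat_lit 8) (nat_lit 0x5800060063000700ad0001) (Net.cons (nat_lit 16) (nat_lit 0x110c00008e4e00000001) (Net.cons (nat_lit 32) (nat_lit 0xa00000000cb6c5400) (Net.cons (nat_lit 64) (nat_lit 0x1effc7cba) (Net.cons (nat_lit 32) (nat_lit 0xa00000000ee57c2d4) (Net.cons (nat_lit 16) (nat_lit 0x249e00009b4e000004b1) (Net.cons (nat_lit 8) (nat_lit 0x68002200420037001d0031) (Net.cons (nat_lit 4) (nat_lit 0xf06090604030b020b000408) (Net.cons (nat_lit 2) (nat_lit 0x1323113322003112102230100) (Net.cons (nat_lit 1) (nat_lit 0x5004154100511544441105000) Net.nil)))))))))))))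

theorem f_g4_ok : Net.ok 100 f_g4 = true := by decide +kernel

noncomputable def Ce_K : List Net := [f_g1, f_g2, f_g3, f_g4]

theorem Ce_K_ok : okE 100 Ce_K = true := (okE_cons.2 ⟨f_g1_ok, (okE_cons.2 ⟨f_g2_ok, (okE_cons.2 ⟨f_g3_ok, (okE_cons.2 ⟨f_g4_ok, (okE_nil 100)⟩)⟩)⟩)⟩)

noncomputable def f_V6 : List Net := [EvJ2.p_g1, EvJ2.p_g2, EvJ2.p_g5, EvJ2.p_g6, H47.J2P.h_g45, H47.J2P.h_a0, H47.J2P.h_a0, EvJ2.p_g11, H47.J2P.h_a0, H47.J2P.h_g53, H47.J2P.h_a0, H47.J2P.h_a0]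

theorem f_V6_ok : okE 100 f_V6 = true := (okE_cons.2 ⟨EvJ2.p_g1_ok, (okE_cons.2 ⟨EvJ2.p_g2_ok, (okE_cons.2 ⟨EvJ2.p_g5_ok, (okE_cons.2 ⟨EvJ2.p_g6_ok, (okE_cons.2 ⟨H47.J2P.h_g45_ok, (okE_cons.2 ⟨H47.J2P.h_a0_ok, (okE_cons.2 ⟨H47.J2P.h_a0_ok, (okE_cons.2 ⟨EvJ2.p_g11_ok, (okE_cons.2 ⟨H47.J2P.h_a0_ok, (okE_cons.2 ⟨H47.J2P.h_g53_ok, (okE_cons.2 ⟨H47.J2P.h_a0_ok, (okE_cons.2 ⟨H47.J2P.h_a0_ok, (okE_nil 100)⟩)⟩)⟩)⟩)⟩)⟩)⟩)⟩)⟩)⟩)⟩)⟩)

noncomputable def f_g7 : Net := (Net.cons (nat_lit 1) (nat_lit 0x5500100101544004110105400) (Net.cons (nat_lit 2) (nat_lit 0x3303002103303033002312130) (Net.cons (nat_lit 4) (nat_lit 0x203090500020c0207040d02) (Net.cons (nat_lit 8) (nat_lit 0x400670098001200890000) (Net.cons (nat_lit 16) (nat_lit 0x6e0c0000b11600000005) (Net.cons (nat_lit 32) (nat_lit 0x200000000d3232010) (Net.cons (nat_lit 64) (nat_lit 0xcd7fb2d17) (Net.cons (nat_lit 32) (nat_lit 0x500000000faffbe16)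 (Net.cons (nat_lit 16) (nat_lit 0x1d420000843000009895) (Net.cons (nat_lit 8) (nat_lit 0x65005900d4000200ec00b4) (Net.cons (nat_lit 4) (nat_lit 0xf010a0b0d0403050f01040e) (Net.cons (nat_lit 2) (nat_lit 0x2013322223121233332213112) (Net.cons (nat_lit 1) (nat_lit 0x1055110514040415511140450) Net.nil)))))))))))))

theorem f_g7_ok : Net.ok 100 f_g7 = true := by decide +kernel

noncomputable def f_g8 : Net := (Net.cons (nat_lit 1) (nat_lit 0x4114155045410541150100150) (Net.cons (nat_lit 2) (nat_lit 0x302223023300330300323000) (Net.cons (nat_lit 4) (nat_lit 0x50f0d010d070a0105020c09) (Net.cons (nat_lit 8) (nat_lit 0xe000be005e008500e50009) (Net.cons (nat_lit 16) (nat_lit 0x108a0000288200000007) (Net.cons (nat_lit 32) (nat_lit 0xb0000000070228850) (Net.cons (nat_lit 64) (nat_lit 0x1f7fabe5e) (Net.cons (nat_lit 32) (nat_lit 0xc00000000c8f5b95e) (Net.cons (nat_lit 16) (nat_lit 0x8e58000083df0000ef0f)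 (Net.cons (nat_lit 8) (nat_lit 0x50002400c2008c00fd0000) (Net.cons (nat_lit 4) (nat_lit 0x30f0e0408070d02090f010d) (Net.cons (nat_lit 2) (nat_lit 0x1002321120113210012200110) (Net.cons (nat_lit 1) (nat_lit 0x5004005511504100154450450) Net.nil)))))))))))))

theorem f_g8_ok : Net.ok 100 f_g8 = true := by decide +kernel

noncomputable def f_g9 : Net := (Net.cons (nat_lit 1) (nat_lit 0x5105015045105044011500110) (Net.cons (nat_lit 2) (nat_lit 0x2022300323221213201210300) (Net.cons (nat_lit 4) (nat_lit 0x10008010d0a02030f040f00) (Net.cons (nat_lit 8) (nat_lit 0x10005400aa002100050000) (Net.cons (nat_lit 16) (nat_lit 0xd4b20000042e00000009) (Net.cons (nat_lit 32) (nat_lit 0x10000000000082030) (Net.cons (nat_lit 64) (nat_lit 0xf4aa2831) (Net.cons (nat_lit 32) (nat_lit 0xf00000000210cd5fa) (Net.cons (nat_lit 16) (nat_lit 0xf6b20000844d00002019) (Net.cons (nat_lit 8) (nat_lit 0x3500d400d800c100850040)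 (Net.cons (nat_lit 4) (nat_lit 0x10008010d0804030f040f0a) (Net.cons (nat_lit 2) (nat_lit 0x2023310323223011201210122) (Net.cons (nat_lit 1) (nat_lit 0x5505015045545454011500150) Net.nil)))))))))))))

theorem f_g9_ok : Net.ok 100 f_g9 = true := by decide +kernel

noncomputable def f_g10 : Net := (Net.cons (nat_lit 1) (nat_lit 0x4405415151451115044105110) (Net.cons (nat_lit 2) (nat_lit 0x1001102221022010202212200) (Net.cons (nat_lit 4) (nat_lit 0xf040f010e06030a0c040001) (Net.cons (nat_lit 8) (nat_lit 0x25001c00bc0060008c0000) (Net.cons (nat_lit 16) (nat_lit 0x760e000042ca0000000c) (Net.cons (nat_lit 32) (nat_lit 0x800000000682215e0) (Net.cons (nat_lit 64) (nat_lit 0xceb6a15e3) (Net.cons (nat_lit 32) (nat_lit 0x500000000acdf32e8) (Net.cons (nat_lit 16) (nat_lit 0x28070000e87100008a0f) (Net.cons (nat_lit 8) (nat_lit 0xe3003e006c003900cf0006) (Net.cons (nat_lit 4) (nat_lit 0xa080f050205060c04050407)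 (Net.cons (nat_lit 2) (nat_lit 0x1310330110201122201221132) (Net.cons (nat_lit 1) (nat_lit 0x51511051441040444101500) Net.nil)))))))))))))

theorem f_g10_ok : Net.ok 100 f_g10 = true := by decide +kernel

noncomputable def f_V11 : List Net := [f_g7, f_g8, f_g9, f_g10, f_g4]

theorem f_V11_ok : okE 100 f_V11 = true := (okE_cons.2 ⟨f_g7_ok, (okE_cons.2 ⟨f_g8_ok, (okE_cons.2 ⟨f_g9_ok, (okE_cons.2 ⟨f_g10_ok, (okE_cons.2 ⟨f_g4_ok, (okE_nil 100)⟩)⟩)⟩)⟩)⟩)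

noncomputable def f_V13 : List Net := [f_g8, f_g9, f_g10, f_g4]

theorem f_V13_ok : okE 100 f_V13 = true := (okE_cons.2 ⟨f_g8_ok, (okE_cons.2 ⟨f_g9_ok, (okE_cons.2 ⟨f_g10_ok, (okE_cons.2 ⟨f_g4_ok, (okE_nil 100)⟩)⟩)⟩)⟩)

noncomputable def f_V14 : List Net := [f_g9, f_g10, f_g4]

theorem f_V14_ok : okE 100 f_V14 = true := (okE_cons.2 ⟨f_g9_ok, (okE_cons.2 ⟨f_g10_ok, (okE_cons.2 ⟨f_g4_ok, (okE_nil 100)⟩)⟩)⟩)

noncomputable def f_V15 : List Net := [f_g10, f_g4]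

theorem f_V15_ok : okE 100 f_V15 = true := (okE_cons.2 ⟨f_g10_ok, (okE_cons.2 ⟨f_g4_ok, (okE_nil 100)⟩)⟩)

noncomputable def f_V16 : List Net := [f_g4]

theorem f_V16_ok : okE 100 f_V16 = true := (okE_cons.2 ⟨f_g4_ok, (okE_nil 100)⟩)

noncomputable def f_V17 : List Net := []

theorem f_V17_ok : okE 100 f_V17 = true := (okE_nil 100)

noncomputable def Ce_cnt_EG : List Net := [MpJ2.a, H47.J2P.h_g1, H47.J2P.h_a19, H47.J2P.h_a27, H47.J2P.h_g7, H47.J2P.h_a0, H47.J2P.h_g4, H47.J2P.h_a8, H47.J2P.h_g14, H47.J2P.h_g10, H47.J2P.h_g11, H47.J2P.h_g21, H47.J2P.h_g22, H47.J2P.h_g17, H47.J2P.h_g18, EvJ2.p_g1, EvJ2.p_g2, EvJ2.p_g5, EvJ2.p_g6, H47.J2P.h_g45, EvJ2.p_g11, H47.J2P.h_g53, f_g7, f_g8, f_g9, f_g10, f_g4]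

theorem Ce_cnt_EG_ok : okE 100 Ce_cnt_EG = true := (okE_cons.2 ⟨MpJ2.a_ok, (okE_cons.2 ⟨H47.J2P.h_g1_ok, (okE_cons.2 ⟨H47.J2P.h_a19_ok, (okE_cons.2 ⟨H47.J2P.h_a27_ok, (okE_cons.2 ⟨H47.J2P.h_g7_ok, (okE_cons.2 ⟨H47.J2P.h_a0_ok, (okE_cons.2 ⟨H47.J2P.h_g4_ok, (okE_cons.2 ⟨H47.J2P.h_a8_ok, (okE_cons.2 ⟨H47.J2P.h_g14_ok, (okE_cons.2 ⟨H47.J2P.h_g10_ok, (okE_cons.2 ⟨H47.J2P.h_g11_ok, (okE_cons.2 ⟨H47.J2P.h_g21_ok, (okE_cons.2 ⟨H47.J2P.h_g22_ok, (okE_cons.2 ⟨H47.J2P.h_g17_ok, (okE_cons.2 ⟨H47.J2P.h_g18_ok, (okE_cons.2 ⟨EvJ2.p_g1_ok, (okE_cons.2 ⟨EvJ2.p_g2_ok, (okE_cons.2 ⟨EvJ2.p_g5_ok, (okE_cons.2 ⟨EvJ2.p_g6_ok, (okE_cons.2 ⟨H47.J2P.h_g45_ok, (okE_cons.2 ⟨EvJ2.p_g11_ok, (okE_cons.2 ⟨H47.J2P.h_g53_ok, (okE_cons.2 ⟨f_g7_ok, (okE_cons.2 ⟨f_g8_ok, (okE_cons.2 ⟨f_g9_ok, (okE_cons.2 ⟨f_g10_ok, (okE_cons.2 ⟨f_g4_ok, (okE_nil 100)⟩)⟩)⟩)⟩)⟩)⟩)⟩)⟩)⟩)⟩)⟩)⟩)⟩)⟩)⟩)⟩)⟩)⟩)⟩)⟩)⟩)⟩)⟩)⟩)⟩)⟩)⟩)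

noncomputable def CEX : List Net := [H46.J2M.k_g1, e1]

theorem CEX_ok : okE 100 CEX = true := (okE_cons.2 ⟨H46.J2M.k_g1_ok, (okE_cons.2 ⟨e1_ok, (okE_nil 100)⟩)⟩)

noncomputable def f_g18 : Net := (Net.cons (nat_lit 1) (nat_lit 0x5011401501400000504014004) (Net.cons (nat_lit 2) (nat_lit 0x1320101131330202010201000) (Net.cons (nat_lit 4) (nat_lit 0x3090f0d050c020908080b0c) (Net.cons (nat_lit 8) (nat_lit 0xe1003500fa001a00670003) (Net.cons (nat_lit 16) (nat_lit 0xbf00000002e0000000d) (Net.cons (nat_lit 32) (nat_lit 0x30000000031da1f40) (Net.cons (nat_lit 64) (nat_lit 0x375fabfcc) (Net.cons (nat_lit 32) (nat_lit 0xc0000000083582aaf) (Net.cons (nat_lit 16) (nat_lit 0xbb8a0000568d000034a0) (Net.cons (nat_lit 8) (nat_lit 0x9e00bf00be00ec00f7006f) (Net.cons (nat_lit 4) (nat_lit 0x20303040101090301090a0f) (Net.cons (nat_lit 2) (nat_lit 0x233012213322231100202302) (Net.cons (nat_lit 1) (nat_lit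 0x5054510540404045050455050) Net.nil)))))))))))))

theorem f_g18_ok : Net.ok 100 f_g18 = true := by decide +kernel

noncomputable def f_g19 : Net := (Net.cons (nat_lit 1) (nat_lit 0x1404405115100510004454510) (Net.cons (nat_lit 2) (nat_lit 0x3210331113230210023020100) (Net.cons (nat_lit 4) (nat_lit 0x10a0b00000d000f01080909) (Net.cons (nat_lit 8) (nat_lit 0xc300e20027000400a30005) (Net.cons (nat_lit 16) (nat_lit 0x8080000d8840000000c) (Net.cons (nat_lit 32) (nat_lit 0x9000000002a463290) (Net.cons (nat_lit 64) (nat_lit 0x47ff63ad9) (Net.cons (nat_lit 32) (nat_lit 0xe9c60407) (Net.cons (nat_lit 16) (nat_lit 0x46c00000a97f0000fb86) (Net.cons (nat_lit 8) (nat_lit 0xa3004200a3003000a900e0) (Net.cons (nat_lit 4) (nat_lit 0xf0e0f0b0e04060c08040d00) (Net.cons (nat_lit 2) (nat_lit 0x3330332021031301102201100) (Net.cons (nat_lit 1) (nat_lit 0x5111540050451545004154445) Net.nil)))))))))))))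

theorem f_g19_ok : Net.ok 100 f_g19 = true := by decide +kernel

noncomputable def f_g20 : Net := (Net.cons (nat_lit 1) (nat_lit 0x5501154454551045510101100) (Net.cons (nat_lit 2) (nat_lit 0x100013133210021200002000) (Net.cons (nat_lit 4) (nat_lit 0x9080206010e060608020608) (Net.cons (nat_lit 8) (nat_lit 0x520047006300dd002b0000) (Net.cons (nat_lit 16) (nat_lit 0xf5c6000087ce00000002) (Net.cons (nat_lit 32) (nat_lit 0xb00000000364a1000) (Net.cons (nat_lit 64) (nat_lit 0x1ffee522a) (Net.cons (nat_lit 32) (nat_lit 0xb000000003c40cff4) (Net.cons (nat_lit 16) (nat_lit 0xe7c600007ce600002202) (Net.cons (nat_lit 8) (nat_lit 0x5b0067008f00f500230080) (Net.cons (nat_lit 4) (nat_lit 0xb0800060502060c08020f0e) (Net.cons (nat_lit 2) (nat_lit 0x111013133311021300003100) (Net.cons (nat_lit 1) (nat_lit 0x5501154455551045510101104) Net.nil)))))))))))))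

theorem f_g20_ok : Net.ok 100 f_g20 = true := by decide +kernel

noncomputable def CE : List Net := [f_g18, f_g19, f_g20, f_g4]

theorem CE_ok : okE 100 CE = true := (okE_cons.2 ⟨f_g18_ok, (okE_cons.2 ⟨f_g19_ok, (okE_cons.2 ⟨f_g20_ok, (okE_cons.2 ⟨f_g4_ok, (okE_nil 100)⟩)⟩)⟩)⟩)

noncomputable def CE_cnt_EG : List Net := [MpJ2.a, H47.J2P.h_g1, H47.J2P.h_a19, H47.J2P.h_a27, H47.J2P.h_g7, H47.J2P.h_a0, H47.J2P.h_g4, H47.J2P.h_a8, H47.J2P.h_g14, H47.J2P.h_g10, H47.J2P.h_g11, H47.J2P.h_g21, H47.J2P.h_g22, H47.J2P.h_g17, H47.J2P.h_g18, EvJ2.p_g1, EvJ2.p_g2, EvJ2.p_g5, EvJ2.p_g6, H47.J2P.h_g45, EvJ2.p_g11, H47.J2P.h_g53, f_g7, f_g8, f_g9, f_g10, f_g4]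

theorem CE_cnt_EG_ok : okE 100 CE_cnt_EG = true := (okE_cons.2 ⟨MpJ2.a_ok, (okE_cons.2 ⟨H47.J2P.h_g1_ok, (okE_cons.2 ⟨H47.J2P.h_a19_ok, (okE_cons.2 ⟨H47.J2P.h_a27_ok, (okE_cons.2 ⟨H47.J2P.h_g7_ok, (okE_cons.2 ⟨H47.J2P.h_a0_ok, (okE_cons.2 ⟨H47.J2P.h_g4_ok, (okE_cons.2 ⟨H47.J2P.h_a8_ok, (okE_cons.2 ⟨H47.J2P.h_g14_ok, (okE_cons.2 ⟨H47.J2P.h_g10_ok, (okE_cons.2 ⟨H47.J2P.h_g11_ok, (okE_cons.2 ⟨H47.J2P.h_g21_ok, (okE_cons.2 ⟨H47.J2P.h_g22_ok, (okE_cons.2 ⟨H47.J2P.h_g17_ok, (okE_cons.2 ⟨H47.J2P.h_g18_ok, (okE_cons.2 ⟨EvJ2.p_g1_ok, (okE_cons.2 ⟨EvJ2.p_g2_ok, (okE_cons.2 ⟨EvJ2.p_g5_ok, (okE_cons.2 ⟨EvJ2.p_g6_ok, (okE_cons.2 ⟨H47.J2P.h_g45_ok, (okE_cons.2 ⟨EvJ2.p_g11_ok, (okE_cons.2 ⟨H47.J2P.h_g53_ok, (okE_cons.2 ⟨f_g7_ok, (okE_cons.2 ⟨f_g8_ok, (okE_cons.2 ⟨f_g9_ok, (okE_cons.2 ⟨f_g10_ok, (okE_cons.2 ⟨f_g4_ok, (okE_nil 100)⟩)⟩)⟩)⟩)⟩)⟩)⟩)⟩)⟩)⟩)⟩)⟩)⟩)⟩)⟩)⟩)⟩)⟩)⟩)⟩)⟩)⟩)⟩)⟩)⟩)⟩)⟩)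

noncomputable def CEH : List Net := [H46.J2M.k_g1, e1, EvJ2.p_g18, H46.J2M.k_g7]

theorem CEH_ok : okE 100 CEH = true := (okE_cons.2 ⟨H46.J2M.k_g1_ok, (okE_cons.2 ⟨e1_ok, (okE_cons.2 ⟨EvJ2.p_g18_ok, (okE_cons.2 ⟨H46.J2M.k_g7_ok, (okE_nil 100)⟩)⟩)⟩)⟩)

noncomputable def CWX : List Net := [H46.J2M.k_g1, EvJ2.p_g18, EvJ2.p_g190]

theorem CWX_ok : okE 100 CWX = true := (okE_cons.2 ⟨H46.J2M.k_g1_ok, (okE_cons.2 ⟨EvJ2.p_g18_ok, (okE_cons.2 ⟨EvJ2.p_g190_ok, (okE_nil 100)⟩)⟩)⟩)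

noncomputable def f_g22 : Net := (Net.cons (nat_lit 1) (nat_lit 0x4500115054000045105100000) (Net.cons (nat_lit 2) (nat_lit 0x1100022020332000210112100) (Net.cons (nat_lit 4) (nat_lit 0x708040e01080d0d09000a01) (Net.cons (nat_lit 8) (nat_lit 0x39001c008d009e00410000) (Net.cons (nat_lit 16) (nat_lit 0x623e0000921f00000000) (Net.cons (nat_lit 32) (nat_lit 0x81f1920) (Net.cons (nat_lit 64) (nat_lit 0x16a3f1971) (Net.cons (nat_lit 32) (nat_lit 0xe00000000988f1f3c) (Net.cons (nat_lit 16) (nat_lit 0xeeae00001a8f00000110) (Net.cons (nat_lit 8) (nat_lit 0xb9009c006d005e00c100a0) (Net.cons (nat_lit 4) (nat_lit 0x708060e01080d0d0f000a01) (Net.cons (nat_lit 2) (nat_lit 0x1100022020332000210112320) (Net.cons (nat_lit 1) (nat_lit 0x4500115054100045105100004) Net.nil)))))))))))))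

theorem f_g22_ok : Net.ok 100 f_g22 = true := by decide +kernel

noncomputable def f_g23 : Net := (Net.cons (nat_lit 1) (nat_lit 0x1050455105400510050511050) (Net.cons (nat_lit 2) (nat_lit 0x203233230032010023130100) (Net.cons (nat_lit 4) (nat_lit 0xe0c0600070a01000909020a) (Net.cons (nat_lit 8) (nat_lit 0xc00a9008d008000cc0000) (Net.cons (nat_lit 16) (nat_lit 0x420b000012400000000f) (Net.cons (nat_lit 32) (nat_lit 0xc0021a60) (Net.cons (nat_lit 64) (nat_lit 0xfffffde6f) (Net.cons (nat_lit 32) (nat_lit 0xd000000004601196e) (Net.cons (nat_lit 16) (nat_lit 0xc00f00001c940000428f) (Net.cons (nat_lit 8) (nat_lit 0x54006800cf0044002d00fc) (Net.cons (nat_lit 4) (nat_lit 0x50e0b0c020e06000603050d) (Net.cons (nat_lit 2) (nat_lit 0x123323110211020012330200) (Net.cons (nat_lit 1) (nat_lit 0x4505104440415044505044505) Net.nil)))))))))))))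

theorem f_g23_ok : Net.ok 100 f_g23 = true := by decide +kernel

noncomputable def CW : List Net := [f_g22, f_g23, H46.J2M.k_g1, EvJ2.p_g18]

theorem CW_ok : okE 100 CW = true := (okE_cons.2 ⟨f_g22_ok, (okE_cons.2 ⟨f_g23_ok, (okE_cons.2 ⟨H46.J2M.k_g1_ok, (okE_cons.2 ⟨EvJ2.p_g18_ok, (okE_nil 100)⟩)⟩)⟩)⟩)

noncomputable def f_g25 : Net := (Net.cons (nat_lit 1) (nat_lit 0x4510410004544044401505010) (Net.cons (nat_lit 2) (nat_lit 0x1102312222300032121100000) (Net.cons (nat_lit 4) (nat_lit 0x70a0e000e02000202060600) (Net.cons (nat_lit 8) (nat_lit 0x7a004d004b00ef00420000) (Net.cons (nat_lit 16) (nat_lit 0xc00c00000a0c00000002) (Net.cons (nat_lit 32) (nat_lit 0x218febb0) (Net.cons (nat_lit 64) (nat_lit 0xb29bfebba) (Net.cons (nat_lit 32) (nat_lit 0x60000000083efeff2) (Net.cons (nat_lit 16) (nat_lit 0xe54c00001b2c0000490e) (Net.cons (nat_lit 8) (nat_lit 0x52006d006f00cf006a009a) (Net.cons (nat_lit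 4) (nat_lit 0x70a0f000e02000202060600) (Net.cons (nat_lit 2) (nat_lit 0x1102312222300032121100000) (Net.cons (nat_lit 1) (nat_lit 0x4510410004544044401545410) Net.nil)))))))))))))

theorem f_g25_ok : Net.ok 100 f_g25 = true := by decide +kernel

noncomputable def f_g26 : Net := (Net.cons (nat_lit 1) (nat_lit 0x1401141055540004054501004) (Net.cons (nat_lit 2) (nat_lit 0x1030013031301011210213110) (Net.cons (nat_lit 4) (nat_lit 0x6040c030a090c0007090c02) (Net.cons (nat_lit 8) (nat_lit 0xb300ef0037001e004c000a) (Net.cons (nat_lit 16) (nat_lit 0x46d40000940200000005) (Net.cons (nat_lit 32) (nat_lit 0x10000000001803620) (Net.cons (nat_lit 64) (nat_lit 0xcc598366d) (Net.cons (nat_lit 32) (nat_lit 0xf000000006c90a126) (Net.cons (nat_lit 16) (nat_lit 0xae30000bc160000f5cf) (Net.cons (nat_lit 8) (nat_lit 0x3100ec00b0003c004d00f2) (Net.cons (nat_lit 4) (nat_lit 0xf000700020b030e06050c0c) (Net.cons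 (nat_lit 2) (nat_lit 0x3331011100220230110330030) (Net.cons (nat_lit 1) (nat_lit 0x1055541010451415110415540) Net.nil)))))))))))))

theorem f_g26_ok : Net.ok 100 f_g26 = true := by decide +kernel

noncomputable def f_V27 : List Net := [f_g2, f_g25, f_g26, f_g4]

theorem f_V27_ok : okE 100 f_V27 = true := (okE_cons.2 ⟨f_g2_ok, (okE_cons.2 ⟨f_g25_ok, (okE_cons.2 ⟨f_g26_ok, (okE_cons.2 ⟨f_g4_ok, (okE_nil 100)⟩)⟩)⟩)⟩)

noncomputable def f_V29 : List Net := [f_g25, f_g26, f_g4]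

theorem f_V29_ok : okE 100 f_V29 = true := (okE_cons.2 ⟨f_g25_ok, (okE_cons.2 ⟨f_g26_ok, (okE_cons.2 ⟨f_g4_ok, (okE_nil 100)⟩)⟩)⟩)

noncomputable def f_V30 : List Net := [f_g26, f_g4]

theorem f_V30_ok : okE 100 f_V30 = true := (okE_cons.2 ⟨f_g26_ok, (okE_cons.2 ⟨f_g4_ok, (okE_nil 100)⟩)⟩)

noncomputable def f_V31 : List Net := [f_g4]

theorem f_V31_ok : okE 100 f_V31 = true := (okE_cons.2 ⟨f_g4_ok, (okE_nil 100)⟩)

noncomputable def f_V32 : List Net := []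

theorem f_V32_ok : okE 100 f_V32 = true := (okE_nil 100)

noncomputable def CW_cnt_EG : List Net := [f_g7, f_g8, f_g9, f_g10, f_g4, EvJ2.p_g1, EvJ2.p_g2, EvJ2.p_g5, EvJ2.p_g6, H47.J2P.h_g45, H47.J2P.h_a0, EvJ2.p_g11, H47.J2P.h_g53, MpJ2.a, H47.J2P.h_g1, H47.J2P.h_a19, H47.J2P.h_a27, H47.J2P.h_g7, H47.J2P.h_g4, H47.J2P.h_a8, H47.J2P.h_g14, H47.J2P.h_g10, H47.J2P.h_g11, H47.J2P.h_g21, H47.J2P.h_g22, H47.J2P.h_g17, H47.J2P.h_g18, f_g25, f_g26, f_g2]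

theorem CW_cnt_EG_ok : okE 100 CW_cnt_EG = true := (okE_cons.2 ⟨f_g7_ok, (okE_cons.2 ⟨f_g8_ok, (okE_cons.2 ⟨f_g9_ok, (okE_cons.2 ⟨f_g10_ok, (okE_cons.2 ⟨f_g4_ok, (okE_cons.2 ⟨EvJ2.p_g1_ok, (okE_cons.2 ⟨EvJ2.p_g2_ok, (okE_cons.2 ⟨EvJ2.p_g5_ok, (okE_cons.2 ⟨EvJ2.p_g6_ok, (okE_cons.2 ⟨H47.J2P.h_g45_ok, (okE_cons.2 ⟨H47.J2P.h_a0_ok, (okE_cons.2 ⟨EvJ2.p_g11_ok, (okE_cons.2 ⟨H47.J2P.h_g53_ok, (okE_cons.2 ⟨MpJ2.a_ok, (okE_cons.2 ⟨H47.J2P.h_g1_ok, (okE_cons.2 ⟨H47.J2P.h_a19_ok, (okE_cons.2 ⟨H47.J2P.h_a27_ok, (okE_cons.2 ⟨H47.J2P.h_g7_ok, (okE_cons.2 ⟨H47.J2P.h_g4_ok, (okE_cons.2 ⟨H47.J2P.h_a8_ok, (okE_cons.2 ⟨H47.J2P.h_g14_ok, (okE_cons.2 ⟨H47.J2P.h_g10_ok, (okE_cons.2 ⟨H47.J2P.h_g11_ok, (okE_cons.2 ⟨H47.J2P.h_g21_ok, (okE_cons.2 ⟨H47.J2P.h_g22_ok, (okE_cons.2 ⟨H47.J2P.h_g17_ok, (okE_cons.2 ⟨H47.J2P.h_g18_ok, (okE_cons.2 ⟨f_g25_ok, (okE_cons.2 ⟨f_g26_ok, (okE_cons.2 ⟨f_g2_ok, (okE_nil 100)⟩)⟩)⟩)⟩)⟩)⟩)⟩)⟩)⟩)⟩)⟩)⟩)⟩)⟩)⟩)⟩)⟩)⟩)⟩)⟩)⟩)⟩)⟩)⟩)⟩)⟩)⟩)⟩)⟩)⟩)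

noncomputable def CWH : List Net := [H46.J2M.k_g1, e1, EvJ2.p_g18, EvJ2.p_g190]

theorem CWH_ok : okE 100 CWH = true := (okE_cons.2 ⟨H46.J2M.k_g1_ok, (okE_cons.2 ⟨e1_ok, (okE_cons.2 ⟨EvJ2.p_g18_ok, (okE_cons.2 ⟨EvJ2.p_g190_ok, (okE_nil 100)⟩)⟩)⟩)⟩)

noncomputable def CLX : List Net := [EvJ2.p_g18, H46.J2M.k_g7]

theorem CLX_ok : okE 100 CLX = true := (okE_cons.2 ⟨EvJ2.p_g18_ok, (okE_cons.2 ⟨H46.J2M.k_g7_ok, (okE_nil 100)⟩)⟩)

noncomputable def f_g33 : Net := (Net.cons (nat_lit 1) (nat_lit 0x4001144454414444504014404) (Net.cons (nat_lit 2) (nat_lit 0x3211313220010023301313130) (Net.cons (nat_lit 4) (nat_lit 0x70000000e0b0109020d0400) (Net.cons (nat_lit 8) (nat_lit 0x20000000a000be000c0000) (Net.cons (nat_lit 16) (nat_lit 0x752e0000a82600000005) (Net.cons (nat_lit 32) (nat_lit 0x10000000012c14620) (Net.cons (nat_lit 64) (nat_lit 0x492c16727) (Net.cons (nat_lit 32) (nat_lit 0xd000000003bea86b9)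 (Net.cons (nat_lit 16) (nat_lit 0x772e0000eb260000b092) (Net.cons (nat_lit 8) (nat_lit 0xf40028008100f300ec0084) (Net.cons (nat_lit 4) (nat_lit 0x204040c0e0f0f0d090f0508) (Net.cons (nat_lit 2) (nat_lit 0x2202012132100123122113023) (Net.cons (nat_lit 1) (nat_lit 0x5005404144014015545000015) Net.nil)))))))))))))

theorem f_g33_ok : Net.ok 100 f_g33 = true := by decide +kernel

noncomputable def f_g34 : Net := (Net.cons (nat_lit 1) (nat_lit 0x1044541054000541044144100) (Net.cons (nat_lit 2) (nat_lit 0x1303200223212030010331020) (Net.cons (nat_lit 4) (nat_lit 0x20304060f0d040c000f0102) (Net.cons (nat_lit 8) (nat_lit 0x7500f20007000e004b000a) (Net.cons (nat_lit 16) (nat_lit 0xc5c10000284c00000009) (Net.cons (nat_lit 32) (nat_lit 0xd52622c0) (Net.cons (nat_lit 64) (nat_lit 0x8f53632e9) (Net.cons (nat_lit 32) (nat_lit 0xf00000000cc3151b2) (Net.cons (nat_lit 16) (nat_lit 0xd7e00000482e00004828)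 (Net.cons (nat_lit 8) (nat_lit 0xcc00b300fa004c00c9004b) (Net.cons (nat_lit 4) (nat_lit 0x90904090c0d040e000d0204) (Net.cons (nat_lit 2) (nat_lit 0x3103003011132001010303121) (Net.cons (nat_lit 1) (nat_lit 0x4444545000140451104110101) Net.nil)))))))))))))

theorem f_g34_ok : Net.ok 100 f_g34 = true := by decide +kernel

noncomputable def CL : List Net := [f_g33, f_g34]

theorem CL_ok : okE 100 CL = true := (okE_cons.2 ⟨f_g33_ok, (okE_cons.2 ⟨f_g34_ok, (okE_nil 100)⟩)⟩)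

noncomputable def f_g36 : Net := (Net.cons (nat_lit 1) (nat_lit 0x4115051400150040504000000) (Net.cons (nat_lit 2) (nat_lit 0x2112112201210020100023010) (Net.cons (nat_lit 4) (nat_lit 0x2040e0b0508060007040800) (Net.cons (nat_lit 8) (nat_lit 0xff00cd0068000400010000) (Net.cons (nat_lit 16) (nat_lit 0x5a300000c90a00000000) (Net.cons (nat_lit 32) (nat_lit 0x5bc520f0) (Net.cons (nat_lit 64) (nat_lit 0xa5bc56bf0) (Net.cons (nat_lit 32) (nat_lit 0x4000000005ee5a5f0) (Net.cons (nat_lit 16) (nat_lit 0x7bda00008c8e00003500) (Net.cons (nat_lit 8) (nat_lit 0xdf00ad0028000400490000) (Net.cons (nat_lit 4) (nat_lit 0x3040e0b050c02000704080c) (Net.cons (nat_lit 2) (nat_lit 0x2003112211231221320023020) (Net.cons (nat_lit 1) (nat_lit 0x4505055500150015504000054) Net.nil)))))))))))))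

theorem f_g36_ok : Net.ok 100 f_g36 = true := by decide +kernel

noncomputable def f_g37 : Net := (Net.cons (nat_lit 1) (nat_lit 0x1100111001040444440001010) (Net.cons (nat_lit 2) (nat_lit 0x200001101000000002112010) (Net.cons (nat_lit 4) (nat_lit 0x4000e0404000d0007080100) (Net.cons (nat_lit 8) (nat_lit 0x4b0004000b000000e40004) (Net.cons (nat_lit 16) (nat_lit 0xb4200009b0900000004) (Net.cons (nat_lit 32) (nat_lit 0x90000000040f60b00) (Net.cons (nat_lit 64) (nat_lit 0x940f60b00) (Net.cons (nat_lit 32) (nat_lit 0x40000000064f29000) (Net.cons (nat_lit 16) (nat_lit 0x900d0000b6090000e004) (Net.cons (nat_lit 8) (nat_lit 0xa003500d20000009c0004) (Net.cons (nat_lit 4) (nat_lit 0x90f060f0d060d00070f0104) (Net.cons (nat_lit 2) (nat_lit 0x330203132030111111330130) (Net.cons (nat_lit 1) (nat_lit 0x5144151411050105050554454) Net.nil)))))))))))))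

theorem f_g37_ok : Net.ok 100 f_g37 = true := by decide +kernel

noncomputable def f_V38 : List Net := [f_g36, f_g37]

theorem f_V38_ok : okE 100 f_V38 = true := (okE_cons.2 ⟨f_g36_ok, (okE_cons.2 ⟨f_g37_ok, (okE_nil 100)⟩)⟩)

noncomputable def f_V40 : List Net := [f_g37]

theorem f_V40_ok : okE 100 f_V40 = true := (okE_cons.2 ⟨f_g37_ok, (okE_nil 100)⟩)

noncomputable def f_V41 : List Net := []

theorem f_V41_ok : okE 100 f_V41 = true := (okE_nil 100)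

noncomputable def CL_cnt_EG : List Net := [f_g36, f_g37, f_g7, f_g8, f_g9, f_g10, f_g4, EvJ2.p_g1, EvJ2.p_g2, EvJ2.p_g5, EvJ2.p_g6, H47.J2P.h_g45, H47.J2P.h_a0, EvJ2.p_g11, H47.J2P.h_g53, MpJ2.a, H47.J2P.h_g1, H47.J2P.h_a19, H47.J2P.h_a27, H47.J2P.h_g7, H47.J2P.h_g4, H47.J2P.h_a8, H47.J2P.h_g14, H47.J2P.h_g10, H47.J2P.h_g11, H47.J2P.h_g21, H47.J2P.h_g22, H47.J2P.h_g17, H47.J2P.h_g18]

theorem CL_cnt_EG_ok : okE 100 CL_cnt_EG = true := (okE_cons.2 ⟨f_g36_ok, (okE_cons.2 ⟨f_g37_ok, (okE_cons.2 ⟨f_g7_ok, (okE_cons.2 ⟨f_g8_ok, (okE_cons.2 ⟨f_g9_ok, (okE_cons.2 ⟨f_g10_ok, (okE_cons.2 ⟨f_g4_ok, (okE_cons.2 ⟨EvJ2.p_g1_ok, (okE_cons.2 ⟨EvJ2.p_g2_ok, (okE_cons.2 ⟨EvJ2.p_g5_ok, (okE_cons.2 ⟨EvJ2.p_g6_ok, (okE_cons.2 ⟨H47.J2P.h_g45_ok, (okE_cons.2 ⟨H47.J2P.h_a0_ok, (okE_cons.2 ⟨EvJ2.p_g11_ok, (okE_cons.2 ⟨H47.J2P.h_g53_ok, (okE_cons.2 ⟨MpJ2.a_ok, (okE_cons.2 ⟨H47.J2P.h_g1_ok, (okE_cons.2 ⟨H47.J2P.h_a19_ok,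 (okE_cons.2 ⟨H47.J2P.h_a27_ok, (okE_cons.2 ⟨H47.J2P.h_g7_ok, (okE_cons.2 ⟨H47.J2P.h_g4_ok, (okE_cons.2 ⟨H47.J2P.h_a8_ok, (okE_cons.2 ⟨H47.J2P.h_g14_ok, (okE_cons.2 ⟨H47.J2P.h_g10_ok, (okE_cons.2 ⟨H47.J2P.h_g11_ok, (okE_cons.2 ⟨H47.J2P.h_g21_ok, (okE_cons.2 ⟨H47.J2P.h_g22_ok, (okE_cons.2 ⟨H47.J2P.h_g17_ok, (okE_cons.2 ⟨H47.J2P.h_g18_ok, (okE_nil 100)⟩)⟩)⟩)⟩)⟩)⟩)⟩)⟩)⟩)⟩)⟩)⟩)⟩)⟩)⟩)⟩)⟩)⟩)⟩)⟩)⟩)⟩)⟩)⟩)⟩)⟩)⟩)⟩)⟩)

noncomputable def CLH : List Net := [H46.J2M.k_g1, e1, H46.J2M.k_g2]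

theorem CLH_ok : okE 100 CLH = true := (okE_cons.2 ⟨H46.J2M.k_g1_ok, (okE_cons.2 ⟨e1_ok, (okE_cons.2 ⟨H46.J2M.k_g2_ok, (okE_nil 100)⟩)⟩)⟩)

noncomputable def CZX : List Net := [H46.J2M.k_g1, H46.J2M.k_g2, H46.J2M.k_g4, H46.J2M.k_g5]

theorem CZX_ok : okE 100 CZX = true := (okE_cons.2 ⟨H46.J2M.k_g1_ok, (okE_cons.2 ⟨H46.J2M.k_g2_ok, (okE_cons.2 ⟨H46.J2M.k_g4_ok, (okE_cons.2 ⟨H46.J2M.k_g5_ok, (okE_nil 100)⟩)⟩)⟩)⟩)

noncomputable def CZ : List Net := [EvJ2.p_g190, EvJ2.p_g18]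

theorem CZ_ok : okE 100 CZ = true := (okE_cons.2 ⟨EvJ2.p_g190_ok, (okE_cons.2 ⟨EvJ2.p_g18_ok, (okE_nil 100)⟩)⟩)

noncomputable def f_V43 : List Net := [f_g20, f_g4]

theorem f_V43_ok : okE 100 f_V43 = true := (okE_cons.2 ⟨f_g20_ok, (okE_cons.2 ⟨f_g4_ok, (okE_nil 100)⟩)⟩)

noncomputable def f_V45 : List Net := [f_g4]

theorem f_V45_ok : okE 100 f_V45 = true := (okE_cons.2 ⟨f_g4_ok, (okE_nil 100)⟩)

noncomputable def f_V46 : List Net := []

theorem f_V46_ok : okE 100 f_V46 = true := (okE_nil 100)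

noncomputable def CZ_cnt_EG : List Net := [f_g7, f_g8, f_g9, f_g10, f_g4, EvJ2.p_g1, EvJ2.p_g2, EvJ2.p_g5, EvJ2.p_g6, H47.J2P.h_g45, H47.J2P.h_a0, EvJ2.p_g11, H47.J2P.h_g53, MpJ2.a, H47.J2P.h_g1, H47.J2P.h_a19, H47.J2P.h_a27, H47.J2P.h_g7, H47.J2P.h_g4, H47.J2P.h_a8, H47.J2P.h_g14, H47.J2P.h_g10, H47.J2P.h_g11, H47.J2P.h_g21, H47.J2P.h_g22, H47.J2P.h_g17, H47.J2P.h_g18, f_g20, f_g2, f_g25, f_g26]

theorem CZ_cnt_EG_ok : okE 100 CZ_cnt_EG = true := (okE_cons.2 ⟨f_g7_ok, (okE_cons.2 ⟨f_g8_ok, (okE_cons.2 ⟨f_g9_ok, (okE_cons.2 ⟨f_g10_ok, (okE_cons.2 ⟨f_g4_ok, (okE_cons.2 ⟨EvJ2.p_g1_ok, (okE_cons.2 ⟨EvJ2.p_g2_ok, (okE_cons.2 ⟨EvJ2.p_g5_ok, (okE_cons.2 ⟨EvJ2.p_g6_ok, (okE_cons.2 ⟨H47.J2P.h_g45_ok, (okE_cons.2 ⟨H47.J2P.h_a0_ok, (okE_cons.2 ⟨EvJ2.p_g11_ok, (okE_cons.2 ⟨H47.J2P.h_g53_ok, (okE_cons.2 ⟨MpJ2.a_ok, (okE_cons.2 ⟨H47.J2P.h_g1_ok, (okE_cons.2 ⟨H47.J2P.h_a19_ok, (okE_cons.2 ⟨H47.J2P.h_a27_ok,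 (okE_cons.2 ⟨H47.J2P.h_g7_ok, (okE_cons.2 ⟨H47.J2P.h_g4_ok, (okE_cons.2 ⟨H47.J2P.h_a8_ok, (okE_cons.2 ⟨H47.J2P.h_g14_ok, (okE_cons.2 ⟨H47.J2P.h_g10_ok, (okE_cons.2 ⟨H47.J2P.h_g11_ok, (okE_cons.2 ⟨H47.J2P.h_g21_ok, (okE_cons.2 ⟨H47.J2P.h_g22_ok, (okE_cons.2 ⟨H47.J2P.h_g17_ok, (okE_cons.2 ⟨H47.J2P.h_g18_ok, (okE_cons.2 ⟨f_g20_ok, (okE_cons.2 ⟨f_g2_ok, (okE_cons.2 ⟨f_g25_ok, (okE_cons.2 ⟨f_g26_ok, (okE_nil 100)⟩)⟩)⟩)⟩)⟩)⟩)⟩)⟩)⟩)⟩)⟩)⟩)⟩)⟩)⟩)⟩)⟩)⟩)⟩)⟩)⟩)⟩)⟩)⟩)⟩)⟩)⟩)⟩)⟩)⟩)⟩)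

noncomputable def CZH : List Net := [EvJ2.p_g18, EvJ2.p_g190]

theorem CZH_ok : okE 100 CZH = true := (okE_cons.2 ⟨EvJ2.p_g18_ok, (okE_cons.2 ⟨EvJ2.p_g190_ok, (okE_nil 100)⟩)⟩)

noncomputable def f_g47 : Net := (Net.cons (nat_lit 1) (nat_lit 0x4051511040545055041050054) (Net.cons (nat_lit 2) (nat_lit 0x321220323103202002330020) (Net.cons (nat_lit 4) (nat_lit 0x60c0e0900090e050d000900) (Net.cons (nat_lit 8) (nat_lit 0x5e00b000b100a000100008) (Net.cons (nat_lit 16) (nat_lit 0x40ad00006f5000000002) (Net.cons (nat_lit 32) (nat_lit 0xf0000000088800200) (Net.cons (nat_lit 64) (nat_lit 0x19eb4da0e) (Net.cons (nat_lit 32) (nat_lit 0x100000000a870c5a1) (Net.cons (nat_lit 16) (nat_lit 0xe71b0000a7880000e97f) (Net.cons (nat_lit 8) (nat_lit 0xc900ab00d7009e00db000b) (Net.cons (nat_lit 4) (nat_lit 0x70d09080007010600060801) (Net.cons (nat_lit 2) (nat_lit 0x3222123223120013211303003) (Net.cons (nat_lit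 1) (nat_lit 0x4055454405505415540101154) Net.nil)))))))))))))

theorem f_g47_ok : Net.ok 100 f_g47 = true := by decide +kernel

noncomputable def f_g48 : Net := (Net.cons (nat_lit 1) (nat_lit 0x5401151541151100450011110) (Net.cons (nat_lit 2) (nat_lit 0x3102302033131333030010120) (Net.cons (nat_lit 4) (nat_lit 0x1070d0d0e0e010d020a0c04) (Net.cons (nat_lit 8) (nat_lit 0x3d0048002b0045005b0000) (Net.cons (nat_lit 16) (nat_lit 0x4508000000e200000001) (Net.cons (nat_lit 32) (nat_lit 0xca2130) (Net.cons (nat_lit 64) (nat_lit 0x9e9caaff0) (Net.cons (nat_lit 32) (nat_lit 0x600000000214f6094) (Net.cons (nat_lit 16) (nat_lit 0xf489000037660000a03f) (Net.cons (nat_lit 8) (nat_lit 0xbd0068004b0045007b00a0) (Net.cons (nat_lit 4) (nat_lit 0x1070d0d0e0e090d060a0c04) (Net.cons (nat_lit 2) (nat_lit 0x3112302033131333030010120) (Net.cons (nat_lit 1) (nat_lit 0x5400151541155100450051510) Net.nil)))))))))))))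

theorem f_g48_ok : Net.ok 100 f_g48 = true := by decide +kernel

noncomputable def EL : List Net := [EvJ2.p_g18, H46.J2M.k_g7]

theorem EL_ok : okE 100 EL = true := (okE_cons.2 ⟨EvJ2.p_g18_ok, (okE_cons.2 ⟨H46.J2M.k_g7_ok, (okE_nil 100)⟩)⟩)

noncomputable def f_g49 : Net := (Net.cons (nat_lit 1) (nat_lit 0x410454044100001445451010) (Net.cons (nat_lit 2) (nat_lit 0x2123312211121011120011100) (Net.cons (nat_lit 4) (nat_lit 0x90800040d06020600020c0e) (Net.cons (nat_lit 8) (nat_lit 0x33000900d000ce00300002) (Net.cons (nat_lit 16) (nat_lit 0xdd560000882400000001) (Net.cons (nat_lit 32) (nat_lit 0x4000000005018b0a0) (Net.cons (nat_lit 64) (nat_lit 0x85fdbf2e4) (Net.cons (nat_lit 32) (nat_lit 0x30000000082f8f8a4) (Net.cons (nat_lit 16) (nat_lit 0x403b00000fe500004bfc) (Net.cons (nat_lit 8) (nat_lit 0xa400ca003c001300f100d4) (Net.cons (nat_lit 4) (nat_lit 0x50e0d070f0d0c04030c0107) (Net.cons (nat_lit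 2) (nat_lit 0x3131102022320220311232321) (Net.cons (nat_lit 1) (nat_lit 0x5140041115004414504101400) Net.nil)))))))))))))

theorem f_g49_ok : Net.ok 100 f_g49 = true := by decide +kernel

noncomputable def f_V50 : List Net := [f_g49]

theorem f_V50_ok : okE 100 f_V50 = true := (okE_cons.2 ⟨f_g49_ok, (okE_nil 100)⟩)

noncomputable def f_g52 : Net := (Net.cons (nat_lit 1) (nat_lit 0x5114500010154101404000410) (Net.cons (nat_lit 2) (nat_lit 0x2232222020300001010302010) (Net.cons (nat_lit 4) (nat_lit 0xb0b01000202090905000100) (Net.cons (nat_lit 8) (nat_lit 0xcb00a600ec006400000001) (Net.cons (nat_lit 16) (nat_lit 0x2200004c8a00000004) (Net.cons (nat_lit 32) (nat_lit 0xc0000000054000800) (Net.cons (nat_lit 64) (nat_lit 0xb7e9dbe27) (Net.cons (nat_lit 32) (nat_lit 0xd00000000492055d1) (Net.cons (nat_lit 16) (nat_lit 0x162a0000708e00003c04) (Net.cons (nat_lit 8) (nat_lit 0xe500ae00e400e600080005)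 (Net.cons (nat_lit 4) (nat_lit 0x90903020202090907000302) (Net.cons (nat_lit 2) (nat_lit 0x2232232020300021210302010) (Net.cons (nat_lit 1) (nat_lit 0x5114500010154101404000410) Net.nil)))))))))))))

theorem f_g52_ok : Net.ok 100 f_g52 = true := by decide +kernel

noncomputable def f_g53 : Net := (Net.cons (nat_lit 1) (nat_lit 0x1145511055044141500110454) (Net.cons (nat_lit 2) (nat_lit 0x222210321313233302310300) (Net.cons (nat_lit 4) (nat_lit 0xb07080201020a0408040d01) (Net.cons (nat_lit 8) (nat_lit 0x1400b400060023000c0001) (Net.cons (nat_lit 16) (nat_lit 0x5e04000050480000000a) (Net.cons (nat_lit 32) (nat_lit 0x90000000002819800) (Net.cons (nat_lit 64) (nat_lit 0x3d6a99fb8) (Net.cons (nat_lit 32) (nat_lit 0xe00000000739b0440) (Net.cons (nat_lit 16) (nat_lit 0x2749000059e40000f528) (Net.cons (nat_lit 8) (nat_lit 0x57004b00b900f4007500d3) (Net.cons (nat_lit 4) (nat_lit 0x3070101050d040d0d030f0b)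 (Net.cons (nat_lit 2) (nat_lit 0x30130120123003013310310) (Net.cons (nat_lit 1) (nat_lit 0x510505504104441050155555) Net.nil)))))))))))))

theorem f_g53_ok : Net.ok 100 f_g53 = true := by decide +kernel

noncomputable def f_V54 : List Net := [f_g52, f_g53]

theorem f_V54_ok : okE 100 f_V54 = true := (okE_cons.2 ⟨f_g52_ok, (okE_cons.2 ⟨f_g53_ok, (okE_nil 100)⟩)⟩)

noncomputable def f_g56 : Net := (Net.cons (nat_lit 1) (nat_lit 0x5045050051451114505400000) (Net.cons (nat_lit 2) (nat_lit 0x30030010213003023320320) (Net.cons (nat_lit 4) (nat_lit 0x30a02020a0e080c0e020e07) (Net.cons (nat_lit 8) (nat_lit 0x5b00670086000a00490003) (Net.cons (nat_lit 16) (nat_lit 0x3a60000cc0200000005) (Net.cons (nat_lit 32) (nat_lit 0x500000000490402a0) (Net.cons (nat_lit 64) (nat_lit 0x359666ff4) (Net.cons (nat_lit 32) (nat_lit 0xe0000000061338440) (Net.cons (nat_lit 16) (nat_lit 0x955a00009a0c000019a5) (Net.cons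 (nat_lit 8) (nat_lit 0xc8008a00f900e300ff00e2) (Net.cons (nat_lit 4) (nat_lit 0x70b04030301050804090f02) (Net.cons (nat_lit 2) (nat_lit 0x311120312323133321320300) (Net.cons (nat_lit 1) (nat_lit 0x4410044500511414055445101) Net.nil)))))))))))))

theorem f_g56_ok : Net.ok 100 f_g56 = true := by decide +kernel

noncomputable def f_V57 : List Net := [f_g56]

theorem f_V57_ok : okE 100 f_V57 = true := (okE_cons.2 ⟨f_g56_ok, (okE_nil 100)⟩)

noncomputable def f_V59 : List Net := [f_g52, f_g52]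

theorem f_V59_ok : okE 100 f_V59 = true := (okE_cons.2 ⟨f_g52_ok, (okE_cons.2 ⟨f_g52_ok, (okE_nil 100)⟩)⟩)

noncomputable def f_V61 : List Net := [f_g52]

theorem f_V61_ok : okE 100 f_V61 = true := (okE_cons.2 ⟨f_g52_ok, (okE_nil 100)⟩)

noncomputable def Lo_E3 : List Net := []

theorem Lo_E3_ok : okE 100 Lo_E3 = true := (okE_nil 100)

noncomputable def Lo_G2 : List Net := [f_g52]

theorem Lo_G2_ok : okE 100 Lo_G2 = true := (okE_cons.2 ⟨f_g52_ok, (okE_nil 100)⟩)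

noncomputable def Lo_E2 : List Net := [f_g52]

theorem Lo_E2_ok : okE 100 Lo_E2 = true := (okE_cons.2 ⟨f_g52_ok, (okE_nil 100)⟩)

noncomputable def Lo_G1 : List Net := [f_g56, f_g52]

theorem Lo_G1_ok : okE 100 Lo_G1 = true := (okE_cons.2 ⟨f_g56_ok, (okE_cons.2 ⟨f_g52_ok, (okE_nil 100)⟩)⟩)

noncomputable def Lo_E1 : List Net := [f_g56, f_g53, f_g52]

theorem Lo_E1_ok : okE 100 Lo_E1 = true := (okE_cons.2 ⟨f_g56_ok, (okE_cons.2 ⟨f_g53_ok, (okE_cons.2 ⟨f_g52_ok, (okE_nil 100)⟩)⟩)⟩)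

noncomputable def Lo_G0 : List Net := [f_g49, f_g56, f_g53, f_g52]

theorem Lo_G0_ok : okE 100 Lo_G0 = true := (okE_cons.2 ⟨f_g49_ok, (okE_cons.2 ⟨f_g56_ok, (okE_cons.2 ⟨f_g53_ok, (okE_cons.2 ⟨f_g52_ok, (okE_nil 100)⟩)⟩)⟩)⟩)

noncomputable def Lo_E0 : List Net := [f_g49, EvJ2.p_g18, H46.J2M.k_g7, f_g56, f_g53, f_g52]

theorem Lo_E0_ok : okE 100 Lo_E0 = true := (okE_cons.2 ⟨f_g49_ok, (okE_cons.2 ⟨EvJ2.p_g18_ok, (okE_cons.2 ⟨H46.J2M.k_g7_ok, (okE_cons.2 ⟨f_g56_ok, (okE_cons.2 ⟨f_g53_ok, (okE_cons.2 ⟨f_g52_ok, (okE_nil 100)⟩)⟩)⟩)⟩)⟩)⟩)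

theorem a_hn : NOk 5 := by decide

theorem a_hk : 5 ≤ 2 ^ 3 := by decide

noncomputable def a_g1 : Net := (Net.cons (nat_lit 2) (nat_lit 1) (Net.cons (nat_lit 4) (nat_lit 1) (Net.cons (nat_lit 2) (nat_lit 1) (Net.cons (nat_lit 1) (nat_lit 1) Net.nil))))

theorem a_g1_ok : Net.ok 5 a_g1 = true := by decide +kernel

noncomputable def a_g2 : Net := (Net.cons (nat_lit 2) (nat_lit 1) (Net.cons (nat_lit 4) (nat_lit 1) (Net.cons (nat_lit 1) (nat_lit 5) Net.nil)))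

theorem a_g2_ok : Net.ok 5 a_g2 = true := by decide +kernel

noncomputable def A5_E : List Net := [a_g1, a_g2]

theorem A5_E_ok : okE 5 A5_E = true := (okE_cons.2 ⟨a_g1_ok, (okE_cons.2 ⟨a_g2_ok, (okE_nil 5)⟩)⟩)

noncomputable def a_g3 : Net := (Net.cons (nat_lit 1) (nat_lit 1) (Net.cons (nat_lit 4) (nat_lit 1) (Net.cons (nat_lit 1) (nat_lit 5) Net.nil)))

theorem a_g3_ok : Net.ok 5 a_g3 = true := by decide +kernel

noncomputable def a_g4 : Net := (Net.cons (nat_lit 1) (nat_lit 5) (Net.cons (nat_lit 2) (nat_lit 1) (Net.cons (nat_lit 4) (nat_lit 1) (Net.cons (nat_lit 1) (nat_lit 5) Net.nil))))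

theorem a_g4_ok : Net.ok 5 a_g4 = true := by decide +kernel

noncomputable def a_V5 : List Net := [a_g3, a_g4]

theorem a_V5_ok : okE 5 a_V5 = true := (okE_cons.2 ⟨a_g3_ok, (okE_cons.2 ⟨a_g4_ok, (okE_nil 5)⟩)⟩)

noncomputable def a_g7 : Net := (Net.cons (nat_lit 1) (nat_lit 4) (Net.cons (nat_lit 2) (nat_lit 1) (Net.cons (nat_lit 4) (nat_lit 1) (Net.cons (nat_lit 2) (nat_lit 1) Net.nil))))

theorem a_g7_ok : Net.ok 5 a_g7 = true := by decide +kernel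

noncomputable def a_g8 : Net := (Net.cons (nat_lit 2) (nat_lit 1) (Net.cons (nat_lit 4) (nat_lit 1) (Net.cons (nat_lit 2) (nat_lit 1) (Net.cons (nat_lit 1) (nat_lit 4) Net.nil))))

theorem a_g8_ok : Net.ok 5 a_g8 = true := by decide +kernel

noncomputable def a_V9 : List Net := [a_g7, a_g8]

theorem a_V9_ok : okE 5 a_V9 = true := (okE_cons.2 ⟨a_g7_ok, (okE_cons.2 ⟨a_g8_ok, (okE_nil 5)⟩)⟩)

noncomputable def A5_lb_E : List Net := [a_g1, a_g2, a_g3, a_g4, a_g7, a_g8]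

theorem A5_lb_E_ok : okE 5 A5_lb_E = true := (okE_cons.2 ⟨a_g1_ok, (okE_cons.2 ⟨a_g2_ok, (okE_cons.2 ⟨a_g3_ok, (okE_cons.2 ⟨a_g4_ok, (okE_cons.2 ⟨a_g7_ok, (okE_cons.2 ⟨a_g8_ok, (okE_nil 5)⟩)⟩)⟩)⟩)⟩)⟩)

theorem T_s0 : Stab 100 (grp 100 EvJ2.EG) [] EvJ2.lb_E 1209600 :=
  Stab.root' EvJ2.lb_E_ok EvJ2.eq_lb EvJ2.card_N

theorem f_le5 : grp 100 Ce_K ≤ grp 100 EvJ2.lb_E :=
  grp_le_of_memB f_hn f_hk EvJ2.lb_E_ok Ce_K_ok (ws := [nat_lit 0x332d272923251f1f01011b, nat_lit 0x3331272522, nat_lit 0x312d2726291f2320, nat_lit 0x2d2723292026]) (by decide +kernel)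

theorem Ce_le : grp 100 Ce_K ≤ (grp 100 EvJ2.EG) :=
  (f_le5.trans T_s0.le)

theorem Ce_mem : Net.toPerm 100 H46.J2M.k_g1 ∈ (grp 100 EvJ2.EG) :=
  Ce_le (mem_grp_of_memB f_hn f_hk Ce_K_ok H46.J2M.k_g1_ok (w := (nat_lit 0x3010301)) (by decide +kernel))

theorem Ce_sym : Sym 100 (grp 100 EvJ2.EG) [H46.J2M.k_g1] Ce_K 0 :=
  Sym.of_lab f_hn f_hk (okE_cons.2 ⟨H46.J2M.k_g1_ok, okE_nil _⟩) Ce_K_ok Ce_le (kT := 0) (by decide +kernel)

theorem T_s1 : Stab 100 (grp 100 EvJ2.EG) [nat_lit 0] f_V6 12096 :=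
  Stab.step (k := 7) (L := (lab 100 7)) f_hn T_s0 f_V6_ok (grp_mono (List.subset_append_right [MpJ2.a, H47.J2P.h_g1, H47.J2P.h_a19, H47.J2P.h_a27, H47.J2P.h_g7, H47.J2P.h_a0, H47.J2P.h_g4, H47.J2P.h_a8, H47.J2P.h_g14, H47.J2P.h_g10, H47.J2P.h_g11, H47.J2P.h_g21, H47.J2P.h_g22, H47.J2P.h_g17, H47.J2P.h_g18] _)) (c := (Ch.cons (nat_lit 2) [nat_lit 1, nat_lit 3] (Ch.cons (nat_lit 3) [nat_lit 5, nat_lit 7] (Ch.cons (nat_lit 15) [nat_lit 9, nat_lit 11] (Ch.cons (nat_lit 1) [nat_lit 13, nat_lit 15] (Ch.cons (nat_lit 4) [nat_lit 17, nat_lit 19] (Ch.cons (nat_lit 8) [nat_lit 21, nat_lit 23] Ch.nil))))))) (by decide +kernel)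

theorem f_le12 : grp 100 f_V11 ≤ grp 100 f_V6 :=
  grp_le_of_memB f_hn f_hk f_V6_ok f_V11_ok (ws := [nat_lit 0x15130f08080203, nat_lit 0x15130f05020b, nat_lit 0x150f0805, nat_lit 0x1513090705010408, nat_lit 0xf09050b0208]) (by decide +kernel)

theorem T_s2 : Stab 100 (grp 100 EvJ2.EG) [nat_lit 73, nat_lit 0] f_V11 192 :=
  Stab.step (k := 7) (L := (lab 100 7)) f_hn T_s1 f_V11_ok f_le12 (c := (Ch.cons (nat_lit 84) [nat_lit 1] (Ch.cons (nat_lit 31) [nat_lit 3] (Ch.cons (nat_lit 29) [nat_lit 5] (Ch.cons (nat_lit 71) [nat_lit 7] (Ch.cons (nat_lit 74) [nat_lit 9] Ch.nil)))))) (by decide +kernel)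

theorem T_s3 : Stab 100 (grp 100 EvJ2.EG) [nat_lit 84, nat_lit 73, nat_lit 0] f_V13 32 :=
  Stab.step (k := 7) (L := (lab 100 7)) f_hn T_s2 f_V13_ok (grp_mono (List.subset_append_right [f_g7] _)) (c := (Ch.cons (nat_lit 31) [nat_lit 1] (Ch.cons (nat_lit 29) [nat_lit 3] (Ch.cons (nat_lit 71) [nat_lit 5] (Ch.cons (nat_lit 74) [nat_lit 7] Ch.nil))))) (by decide +kernel)

theorem T_s4 : Stab 100 (grp 100 EvJ2.EG) [nat_lit 31, nat_lit 84, nat_lit 73, nat_lit 0] f_V14 8 :=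
  Stab.step (k := 7) (L := (lab 100 7)) f_hn T_s3 f_V14_ok (grp_mono (List.subset_append_right [f_g8] _)) (c := (Ch.cons (nat_lit 29) [nat_lit 1] (Ch.cons (nat_lit 71) [nat_lit 3] (Ch.cons (nat_lit 74) [nat_lit 5] Ch.nil)))) (by decide +kernel)

theorem T_s5 : Stab 100 (grp 100 EvJ2.EG) [nat_lit 29, nat_lit 31, nat_lit 84, nat_lit 73, nat_lit 0] f_V15 4 :=
  Stab.step (k := 7) (L := (lab 100 7)) f_hn T_s4 f_V15_ok (grp_mono (List.subset_append_right [f_g9] _)) (c := (Ch.cons (nat_lit 71) [nat_lit 1] (Ch.cons (nat_lit 74) [nat_lit 3] Ch.nil))) (by decide +kernel)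

theorem T_s6 : Stab 100 (grp 100 EvJ2.EG) [nat_lit 71, nat_lit 29, nat_lit 31, nat_lit 84, nat_lit 73, nat_lit 0] f_V16 2 :=
  Stab.step (k := 7) (L := (lab 100 7)) f_hn T_s5 f_V16_ok (grp_mono (List.subset_append_right [f_g10] _)) (c := (Ch.cons (nat_lit 74) [nat_lit 1] Ch.nil)) (by decide +kernel)

theorem T_s7 : Stab 100 (grp 100 EvJ2.EG) [nat_lit 74, nat_lit 71, nat_lit 29, nat_lit 31, nat_lit 84, nat_lit 73, nat_lit 0] f_V17 1 :=
  Stab.step (k := 7) (L := (lab 100 7)) f_hn T_s6 f_V17_ok (grp_mono (List.subset_append_right [f_g4] _)) (c := Ch.nil) (by decide +kernel)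

theorem MpJ2.a_T : Net.toPerm 100 MpJ2.a ∈ (grp 100 EvJ2.EG) :=
  T_s0.le (toPerm_mem_grp (E := EvJ2.lb_E) (List.Mem.head _))

theorem H47.J2P.h_g1_T : Net.toPerm 100 H47.J2P.h_g1 ∈ (grp 100 EvJ2.EG) :=
  T_s0.le (toPerm_mem_grp (E := EvJ2.lb_E) (List.Mem.tail _ (List.Mem.head _)))

theorem H47.J2P.h_a19_T : Net.toPerm 100 H47.J2P.h_a19 ∈ (grp 100 EvJ2.EG) :=
  T_s0.le (toPerm_mem_grp (E := EvJ2.lb_E) (List.Mem.tail _ (List.Mem.tail _ (List.Mem.head _))))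

theorem H47.J2P.h_a27_T : Net.toPerm 100 H47.J2P.h_a27 ∈ (grp 100 EvJ2.EG) :=
  T_s0.le (toPerm_mem_grp (E := EvJ2.lb_E) (List.Mem.tail _ (List.Mem.tail _ (List.Mem.tail _ (List.Mem.head _)))))

theorem H47.J2P.h_g7_T : Net.toPerm 100 H47.J2P.h_g7 ∈ (grp 100 EvJ2.EG) :=
  T_s0.le (toPerm_mem_grp (E := EvJ2.lb_E) (List.Mem.tail _ (List.Mem.tail _ (List.Mem.tail _ (List.Mem.tail _ (List.Mem.head _))))))

theorem H47.J2P.h_a0_T : Net.toPerm 100 H47.J2P.h_a0 ∈ (grp 100 EvJ2.EG) :=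
  T_s0.le (toPerm_mem_grp (E := EvJ2.lb_E) (List.Mem.tail _ (List.Mem.tail _ (List.Mem.tail _ (List.Mem.tail _ (List.Mem.tail _ (List.Mem.head _)))))))

theorem H47.J2P.h_g4_T : Net.toPerm 100 H47.J2P.h_g4 ∈ (grp 100 EvJ2.EG) :=
  T_s0.le (toPerm_mem_grp (E := EvJ2.lb_E) (List.Mem.tail _ (List.Mem.tail _ (List.Mem.tail _ (List.Mem.tail _ (List.Mem.tail _ (List.Mem.tail _ (List.Mem.head _))))))))

theorem H47.J2P.h_a8_T : Net.toPerm 100 H47.J2P.h_a8 ∈ (grp 100 EvJ2.EG) :=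
  T_s0.le (toPerm_mem_grp (E := EvJ2.lb_E) (List.Mem.tail _ (List.Mem.tail _ (List.Mem.tail _ (List.Mem.tail _ (List.Mem.tail _ (List.Mem.tail _ (List.Mem.tail _ (List.Mem.head _)))))))))

theorem H47.J2P.h_g14_T : Net.toPerm 100 H47.J2P.h_g14 ∈ (grp 100 EvJ2.EG) :=
  T_s0.le (toPerm_mem_grp (E := EvJ2.lb_E) (List.Mem.tail _ (List.Mem.tail _ (List.Mem.tail _ (List.Mem.tail _ (List.Mem.tail _ (List.Mem.tail _ (List.Mem.tail _ (List.Mem.tail _ (List.Mem.head _))))))))))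

theorem H47.J2P.h_g10_T : Net.toPerm 100 H47.J2P.h_g10 ∈ (grp 100 EvJ2.EG) :=
  T_s0.le (toPerm_mem_grp (E := EvJ2.lb_E) (List.Mem.tail _ (List.Mem.tail _ (List.Mem.tail _ (List.Mem.tail _ (List.Mem.tail _ (List.Mem.tail _ (List.Mem.tail _ (List.Mem.tail _ (List.Mem.tail _ (List.Mem.head _)))))))))))

theorem H47.J2P.h_g11_T : Net.toPerm 100 H47.J2P.h_g11 ∈ (grp 100 EvJ2.EG) :=
  T_s0.le (toPerm_mem_grp (E := EvJ2.lb_E) (List.Mem.tail _ (List.Mem.tail _ (List.Mem.tail _ (List.Mem.tail _ (List.Mem.tail _ (List.Mem.tail _ (List.Mem.tail _ (List.Mem.tail _ (List.Mem.tail _ (List.Mem.tail _ (List.Mem.head _))))))))))))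

theorem H47.J2P.h_g21_T : Net.toPerm 100 H47.J2P.h_g21 ∈ (grp 100 EvJ2.EG) :=
  T_s0.le (toPerm_mem_grp (E := EvJ2.lb_E) (List.Mem.tail _ (List.Mem.tail _ (List.Mem.tail _ (List.Mem.tail _ (List.Mem.tail _ (List.Mem.tail _ (List.Mem.tail _ (List.Mem.tail _ (List.Mem.tail _ (List.Mem.tail _ (List.Mem.tail _ (List.Mem.head _)))))))))))))

theorem H47.J2P.h_g22_T : Net.toPerm 100 H47.J2P.h_g22 ∈ (grp 100 EvJ2.EG) :=
  T_s0.le (toPerm_mem_grp (E := EvJ2.lb_E) (List.Mem.tail _ (List.Mem.tail _ (List.Mem.tail _ (List.Mem.tail _ (List.Mem.tail _ (List.Mem.tail _ (List.Mem.tail _ (List.Mem.tail _ (List.Mem.tail _ (List.Mem.tail _ (List.Mem.tail _ (List.Mem.tail _ (List.Mem.head _))))))))))))))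

theorem H47.J2P.h_g17_T : Net.toPerm 100 H47.J2P.h_g17 ∈ (grp 100 EvJ2.EG) :=
  T_s0.le (toPerm_mem_grp (E := EvJ2.lb_E) (List.Mem.tail _ (List.Mem.tail _ (List.Mem.tail _ (List.Mem.tail _ (List.Mem.tail _ (List.Mem.tail _ (List.Mem.tail _ (List.Mem.tail _ (List.Mem.tail _ (List.Mem.tail _ (List.Mem.tail _ (List.Mem.tail _ (List.Mem.tail _ (List.Mem.head _)))))))))))))))

theorem H47.J2P.h_g18_T : Net.toPerm 100 H47.J2P.h_g18 ∈ (grp 100 EvJ2.EG) :=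
  T_s0.le (toPerm_mem_grp (E := EvJ2.lb_E) (List.Mem.tail _ (List.Mem.tail _ (List.Mem.tail _ (List.Mem.tail _ (List.Mem.tail _ (List.Mem.tail _ (List.Mem.tail _ (List.Mem.tail _ (List.Mem.tail _ (List.Mem.tail _ (List.Mem.tail _ (List.Mem.tail _ (List.Mem.tail _ (List.Mem.tail _ (List.Mem.head _))))))))))))))))

theorem EvJ2.p_g1_T : Net.toPerm 100 EvJ2.p_g1 ∈ (grp 100 EvJ2.EG) :=
  T_s0.le (toPerm_mem_grp (E := EvJ2.lb_E) (List.Mem.tail _ (List.Mem.tail _ (List.Mem.tail _ (List.Mem.tail _ (List.Mem.tail _ (List.Mem.tail _ (List.Mem.tail _ (List.Mem.tail _ (List.Mem.tail _ (List.Mem.tail _ (List.Mem.tail _ (List.Mem.tail _ (List.Mem.tail _ (List.Mem.tail _ (List.Mem.tail _ (List.Mem.head _)))))))))))))))))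

theorem EvJ2.p_g2_T : Net.toPerm 100 EvJ2.p_g2 ∈ (grp 100 EvJ2.EG) :=
  T_s0.le (toPerm_mem_grp (E := EvJ2.lb_E) (List.Mem.tail _ (List.Mem.tail _ (List.Mem.tail _ (List.Mem.tail _ (List.Mem.tail _ (List.Mem.tail _ (List.Mem.tail _ (List.Mem.tail _ (List.Mem.tail _ (List.Mem.tail _ (List.Mem.tail _ (List.Mem.tail _ (List.Mem.tail _ (List.Mem.tail _ (List.Mem.tail _ (List.Mem.tail _ (List.Mem.head _))))))))))))))))))

theorem EvJ2.p_g5_T : Net.toPerm 100 EvJ2.p_g5 ∈ (grp 100 EvJ2.EG) :=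
  T_s0.le (toPerm_mem_grp (E := EvJ2.lb_E) (List.Mem.tail _ (List.Mem.tail _ (List.Mem.tail _ (List.Mem.tail _ (List.Mem.tail _ (List.Mem.tail _ (List.Mem.tail _ (List.Mem.tail _ (List.Mem.tail _ (List.Mem.tail _ (List.Mem.tail _ (List.Mem.tail _ (List.Mem.tail _ (List.Mem.tail _ (List.Mem.tail _ (List.Mem.tail _ (List.Mem.tail _ (List.Mem.head _)))))))))))))))))))

theorem EvJ2.p_g6_T : Net.toPerm 100 EvJ2.p_g6 ∈ (grp 100 EvJ2.EG) :=
  T_s0.le (toPerm_mem_grp (E := EvJ2.lb_E) (List.Mem.tail _ (List.Mem.tail _ (List.Mem.tail _ (List.Mem.tail _ (List.Mem.tail _ (List.Mem.tail _ (List.Mem.tail _ (List.Mem.tail _ (List.Mem.tail _ (List.Mem.tail _ (List.Mem.tail _ (List.Mem.tail _ (List.Mem.tail _ (List.Mem.tail _ (List.Mem.tail _ (List.Mem.tail _ (List.Mem.tail _ (List.Mem.tail _ (List.Mem.head _))))))))))))))))))))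

theorem H47.J2P.h_g45_T : Net.toPerm 100 H47.J2P.h_g45 ∈ (grp 100 EvJ2.EG) :=
  T_s0.le (toPerm_mem_grp (E := EvJ2.lb_E) (List.Mem.tail _ (List.Mem.tail _ (List.Mem.tail _ (List.Mem.tail _ (List.Mem.tail _ (List.Mem.tail _ (List.Mem.tail _ (List.Mem.tail _ (List.Mem.tail _ (List.Mem.tail _ (List.Mem.tail _ (List.Mem.tail _ (List.Mem.tail _ (List.Mem.tail _ (List.Mem.tail _ (List.Mem.tail _ (List.Mem.tail _ (List.Mem.tail _ (List.Mem.tail _ (List.Mem.head _)))))))))))))))))))))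

theorem EvJ2.p_g11_T : Net.toPerm 100 EvJ2.p_g11 ∈ (grp 100 EvJ2.EG) :=
  T_s0.le (toPerm_mem_grp (E := EvJ2.lb_E) (List.Mem.tail _ (List.Mem.tail _ (List.Mem.tail _ (List.Mem.tail _ (List.Mem.tail _ (List.Mem.tail _ (List.Mem.tail _ (List.Mem.tail _ (List.Mem.tail _ (List.Mem.tail _ (List.Mem.tail _ (List.Mem.tail _ (List.Mem.tail _ (List.Mem.tail _ (List.Mem.tail _ (List.Mem.tail _ (List.Mem.tail _ (List.Mem.tail _ (List.Mem.tail _ (List.Mem.tail _ (List.Mem.tail _ (List.Mem.tail _ (List.Mem.head _))))))))))))))))))))))))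

theorem H47.J2P.h_g53_T : Net.toPerm 100 H47.J2P.h_g53 ∈ (grp 100 EvJ2.EG) :=
  T_s0.le (toPerm_mem_grp (E := EvJ2.lb_E) (List.Mem.tail _ (List.Mem.tail _ (List.Mem.tail _ (List.Mem.tail _ (List.Mem.tail _ (List.Mem.tail _ (List.Mem.tail _ (List.Mem.tail _ (List.Mem.tail _ (List.Mem.tail _ (List.Mem.tail _ (List.Mem.tail _ (List.Mem.tail _ (List.Mem.tail _ (List.Mem.tail _ (List.Mem.tail _ (List.Mem.tail _ (List.Mem.tail _ (List.Mem.tail _ (List.Mem.tail _ (List.Mem.tail _ (List.Mem.tail _ (List.Mem.tail _ (List.Mem.tail _ (List.Mem.head _))))))))))))))))))))))))))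

theorem f_g7_T : Net.toPerm 100 f_g7 ∈ (grp 100 EvJ2.EG) :=
  T_s2.le (toPerm_mem_grp (E := f_V11) (List.Mem.head _))

theorem f_g8_T : Net.toPerm 100 f_g8 ∈ (grp 100 EvJ2.EG) :=
  T_s2.le (toPerm_mem_grp (E := f_V11) (List.Mem.tail _ (List.Mem.head _)))

theorem f_g9_T : Net.toPerm 100 f_g9 ∈ (grp 100 EvJ2.EG) :=
  T_s2.le (toPerm_mem_grp (E := f_V11) (List.Mem.tail _ (List.Mem.tail _ (List.Mem.head _))))

theorem f_g10_T : Net.toPerm 100 f_g10 ∈ (grp 100 EvJ2.EG) :=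
  T_s2.le (toPerm_mem_grp (E := f_V11) (List.Mem.tail _ (List.Mem.tail _ (List.Mem.tail _ (List.Mem.head _)))))

theorem f_g4_T : Net.toPerm 100 f_g4 ∈ (grp 100 EvJ2.EG) :=
  T_s2.le (toPerm_mem_grp (E := f_V11) (List.Mem.tail _ (List.Mem.tail _ (List.Mem.tail _ (List.Mem.tail _ (List.Mem.head _))))))

noncomputable def T_s7_O : ℕ := (nat_lit 0x3333266666ccccd99999333321f07c1f03e0f83e0f83e0f83ee63398c67319ce63398c673184db24d926c93649b64db26d920000000000000000000000001000000200000000000000000000010000000000000000000000000000000000000080000000000000000000000002000000000000008000000000000000000000004000000000000000000)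

theorem T_s7_F : Frame 100 (grp 100 EvJ2.EG) 7 11 T_s7_O 1 1 :=
  IsBase.frame T_s7.isBase (by decide +kernel)

noncomputable def T_s6_O : ℕ := (nat_lit 0x2000000000000000000000000020000000000000000000000000004000000000000000000000000000040000000000000000000000001000000000000000000000000004000000000000000000000000100000000000000000000000008000000000000000000000000010000000000000000000000000000010000000000000000000000000400000000000000000000000004000000000000000000000000020000000000000000000000000010000100800000000000000000000004004000000000000000000008000000800000000000000001000000040000000000000000000200000040000000000000040000000000400000000000080000000000008000000000000000800000000400000000000000002000000020000000000000000002000000800000000000020000000000040000000000000000800000001000000000000400000000000080000000000800000000000004000000000000000002000000200000000000000000002000010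0000000000000000000000202000000000000000100000000040000000000000000000800000800000000000000000000004020000000000000080000000000800000000000000000000000120000000000000000000008001000000000000000000100000080000000000100000000000004000000000004000000000000100000000000000000000100008000000000000200000000000400000000000000200000000020000000100000000000000001000000004000000000000000080000000000010000000000004000000000000010000000000200400000000000000000000008000000000008000000000000400000010000000000000000020000800000000000000000001000020000000000000000000080000000000002000000000004000000000000000000000000100000020000000000000000000001000000000000000000000000000000000000008000000000000000000000000200000000000000800000000000000000)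

theorem T_s6_F : Frame 100 (grp 100 EvJ2.EG) 6 59 T_s6_O 0 1 :=
  Stab.frame f_hn T_s6 (by decide +kernel)

noncomputable def T_s5_O : ℕ := (nat_lit 0x200000000000000000000000000000000001000000000000000000000000000000010000000020000001000000000000000000000008004000000000000000000000040001000000000000000040000000000000400000000000000000800000004000000000000000000000000020100808000000800080000000000000440040000000080000000000400000020004002000000000001008000020000100000000000000001000000202400000000000000200008080008000000000020000004000040200000000200000800000400008000000000800000000400001200000000000900000001000004000001000004040000000000100000000000002020000000006000000010000000000080010100000000600000002000000008000000000001000100000080400000000000001000010000820040000100000000000000000a0000a000000000000000000018000000000080200000000004400000000000000000000000010000002000000000000000000000100000000000000000000000000000000000000800000000000000000000000020000000)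

theorem T_s5_F : Frame 100 (grp 100 EvJ2.EG) 5 33 T_s5_O 0 1 :=
  Stab.frame f_hn T_s5 (by decide +kernel)

noncomputable def T_s4_O : ℕ := (nat_lit 0x10000000000000000000000000000000100000002000000000000000020000000000000020000808000800000002004000100000000040000000020000080000040000800000000000080048000000040000001000004040000000000100000000000002020000000006000000006000000020000000080000000000010001000000804000000000040001000000020100000a0000000000000000000180000000000802000000000044000020010004002064200000080800090080008100000400000044104000000008800101000001008000021000110000820040008100000004000012000a00000000000000000000000001000000200000000000000000000010000000000000000000000000000000000000080000000)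

theorem T_s4_F : Frame 100 (grp 100 EvJ2.EG) 4 23 T_s4_O 0 1 :=
  Stab.frame f_hn T_s4 (by decide +kernel)

noncomputable def T_s3_O : ℕ := (nat_lit 0x1000000020000000001000000a00000000020000080000040000800000000000080048000000040000001000004040000000000100000000000001000100000080400000a00000000000000000001802004000500010000040201008080069208008a90008040800001028010025002174200820040008100028224000012060e4000000000000000000000000100000020000000000000000000001000000000000000000000)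

theorem T_s3_F : Frame 100 (grp 100 EvJ2.EG) 3 14 T_s3_O 0 1 :=
  Stab.frame f_hn T_s3 (by decide +kernel)

noncomputable def T_s2_O : ℕ := (nat_lit 0x20010000001000000b0000000020040085048100000442010081a006968c008ad0008850800400a8100038225000012864fc00000000000000000000000010000002000000000000000000)

theorem T_s2_F : Frame 100 (grp 100 EvJ2.EG) 2 6 T_s2_O 0 1 :=
  Stab.frame f_hn T_s2 (by decide +kernel)

noncomputable def T_s1_O : ℕ := (nat_lit 0x420ac10853ca35000056a65fc0000000000000000000000001)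

theorem T_s1_F : Frame 100 (grp 100 EvJ2.EG) 1 2 T_s1_O 0 1 :=
  Stab.frame f_hn T_s1 (by decide +kernel)

noncomputable def Ce_cnt_L : List ℕ := [1, 2, T_s1_O, 0, 0, 2, 6, T_s2_O, 0, 0, 3, 14, T_s3_O, 0, 0, 4, 23, T_s4_O, 0, 0, 5, 33, T_s5_O, 0, 0, 6, 59, T_s6_O, 0, 0, 7, 11, T_s7_O, 1, 0]

theorem Ce_cnt_P : Prob 100 7 (grp 100 EvJ2.EG) Ce_cnt_EG [H46.J2M.k_g1] [H46.J2M.k_g1] Ce_K Ce_cnt_L 0 0 :=
  Sym.prob f_hn f_hk Ce_sym Ce_cnt_EG_ok (grp_cons_le MpJ2.a_T (grp_cons_le H47.J2P.h_g1_T (grp_cons_le H47.J2P.h_a19_T (grp_cons_le H47.J2P.h_a27_T (grp_cons_le H47.J2P.h_g7_T (grp_cons_le H47.J2P.h_a0_T (grp_cons_le H47.J2P.h_g4_T (grp_cons_le H47.J2P.h_a8_T (grp_cons_le H47.J2P.h_g14_T (grp_cons_le H47.J2P.h_g10_T (grp_cons_le H47.J2P.h_g11_T (grp_cons_le H47.J2P.h_g21_T (grp_cons_le H47.J2P.h_g22_T (grp_cons_le H47.J2P.h_g17_T (grp_cons_le H47.J2P.h_g18_T (grp_cons_le EvJ2.p_g1_T (grp_cons_le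 EvJ2.p_g2_T (grp_cons_le EvJ2.p_g5_T (grp_cons_le EvJ2.p_g6_T (grp_cons_le H47.J2P.h_g45_T (grp_cons_le EvJ2.p_g11_T (grp_cons_le H47.J2P.h_g53_T (grp_cons_le f_g7_T (grp_cons_le f_g8_T (grp_cons_le f_g9_T (grp_cons_le f_g10_T (grp_cons_le f_g4_T (grp_nil_le _)))))))))))))))))))))))))))) (Frames.cons T_s1_F (Frames.cons T_s2_F (Frames.cons T_s3_F (Frames.cons T_s4_F (Frames.cons T_s5_F (Frames.cons T_s6_F (Frames.cons T_s7_F Frames.nil))))))) (okE_cons.2 ⟨H46.J2M.k_g1_ok, okE_nil _⟩) _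

noncomputable def Ce_cnt_t : BT := (BT.br (nat_lit 2) (nat_lit 0) [nat_lit 1, nat_lit 5] (BT.dead (nat_lit 3) (BT.frm (nat_lit 0) (nat_lit 0) (nat_lit 522) [nat_lit 0] (BT.pln (nat_lit 0) (nat_lit 1) (BT.img (nat_lit 1) (nat_lit 2) (BT.and (nat_lit 1) (nat_lit 0) (BT.cnt (nat_lit 0)))))) (BT.kid (nat_lit 0) (nat_lit 8) (BT.img (nat_lit 1) (nat_lit 0) (BT.frm (nat_lit 1) (nat_lit 0) (nat_lit 0) [nat_lit 0, nat_lit 1] (BT.pln (nat_lit 0) (nat_lit 5) (BT.br (nat_lit 0) (nat_lit 84) [nat_lit 3, nat_lit 5] (BT.dead (nat_lit 31) (BT.dif (nat_lit 1) (nat_lit 0) (BT.img (nat_lit 1) (nat_lit 1) (BT.frm (nat_lit 3) (nat_lit 0) (nat_lit 0x2f2f2e) [nat_lit 0, nat_lit 2, nat_lit 5, nat_lit 6] (BT.pln (nat_lit 0) (nat_lit 20) (BT.and (nat_lit 3) (nat_lit 0) (BT.br (nat_lit 0) (nat_lit 29) [nat_lit 5] (BT.dead (nat_lit 29) (BT.frm (nat_lit 2) (nat_lit 0) (nat_lit 46) [nat_lit 6, nat_lit 9, nat_lit 10]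 (BT.pln (nat_lit 0) (nat_lit 10) (BT.frm (nat_lit 4) (nat_lit 0) (nat_lit 0x2f2f2e) [nat_lit 2, nat_lit 6, nat_lit 8, nat_lit 11, nat_lit 12] (BT.pln (nat_lit 0) (nat_lit 25) (BT.dif (nat_lit 2) (nat_lit 0) (BT.br (nat_lit 0) (nat_lit 71) [] (BT.dead (nat_lit 93) (BT.frm (nat_lit 5) (nat_lit 0) (nat_lit 0x332f2f2e) [nat_lit 0, nat_lit 6, nat_lit 10, nat_lit 12, nat_lit 15, nat_lit 16] (BT.pln (nat_lit 0) (nat_lit 48) (BT.img (nat_lit 1) (nat_lit 2) (BT.and (nat_lit 1) (nat_lit 0) (BT.cnt (nat_lit 0)))))) (BT.dead (nat_lit 64) (BT.frm (nat_lit 5) (nat_lit 0) (nat_lit 0x2f2f2e) [nat_lit 0, nat_lit 6, nat_lit 10, nat_lit 12, nat_lit 15, nat_lit 16] (BT.pln (nat_lit 0) (nat_lit 48) (BT.img (nat_lit 1) (nat_lit 2) (BT.and (nat_lit 1) (nat_lit 0) (BT.cnt (nat_lit 0)))))) BT.nil)))))))) BT.nil))))))) (BT.dead (nat_lit 29) (BT.frm (nat_lit 2) (nat_lit 0) (nat_lit 11567) [nat_lit 0, nat_lit 3, nat_lit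 4] (BT.pln (nat_lit 0) (nat_lit 12) (BT.img (nat_lit 1) (nat_lit 2) (BT.and (nat_lit 1) (nat_lit 0) (BT.cnt (nat_lit 0)))))) (BT.kid (nat_lit 84) (nat_lit 4) (BT.dif (nat_lit 1) (nat_lit 0) (BT.img (nat_lit 1) (nat_lit 1) (BT.frm (nat_lit 3) (nat_lit 0) (nat_lit 0) [nat_lit 0, nat_lit 2, nat_lit 5, nat_lit 6] (BT.pln (nat_lit 0) (nat_lit 20) (BT.and (nat_lit 3) (nat_lit 0) (BT.br (nat_lit 0) (nat_lit 29) [nat_lit 5] (BT.kid (nat_lit 29) (nat_lit 2) (BT.frm (nat_lit 2) (nat_lit 0) (nat_lit 0) [nat_lit 6, nat_lit 9, nat_lit 10] (BT.pln (nat_lit 0) (nat_lit 10) (BT.frm (nat_lit 4) (nat_lit 0) (nat_lit 0) [nat_lit 2, nat_lit 6, nat_lit 8, nat_lit 11, nat_lit 12] (BT.pln (nat_lit 0) (nat_lit 25) (BT.dif (nat_lit 2) (nat_lit 0) (BT.br (nat_lit 0) (nat_lit 71) [] (BT.dead (nat_lit 58) (BT.frm (nat_lit 5) (nat_lit 0) (nat_lit 51) [nat_lit 0, nat_lit 6, nat_lit 10, nat_lit 12, nat_lit 15, nat_lit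 16] (BT.pln (nat_lit 0) (nat_lit 43) (BT.br (nat_lit 0) (nat_lit 74) [nat_lit 7] (BT.dead (nat_lit 90) (BT.frm (nat_lit 6) (nat_lit 0) (nat_lit 13619) [nat_lit 0, nat_lit 3, nat_lit 9, nat_lit 13, nat_lit 15, nat_lit 18, nat_lit 19] (BT.pln (nat_lit 0) (nat_lit 9) (BT.img (nat_lit 1) (nat_lit 2) (BT.and (nat_lit 1) (nat_lit 0) (BT.cnt (nat_lit 0)))))) BT.nil)))) (BT.kid (nat_lit 71) (nat_lit 2) (BT.frm (nat_lit 5) (nat_lit 0) (nat_lit 0) [nat_lit 0, nat_lit 6, nat_lit 10, nat_lit 12, nat_lit 15, nat_lit 16] (BT.pln (nat_lit 0) (nat_lit 43) (BT.br (nat_lit 0) (nat_lit 74) [nat_lit 7] (BT.kid (nat_lit 74) (nat_lit 1) (BT.one (nat_lit 6) (nat_lit 0) (nat_lit 0) [nat_lit 0, nat_lit 3, nat_lit 9, nat_lit 13, nat_lit 15, nat_lit 18, nat_lit 19]) BT.nil)))) BT.nil)))))))) BT.nil))))))) BT.nil))))))) BT.nil)))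

theorem Ce_cnt : Cnt 100 (grp 100 EvJ2.EG) [H46.J2M.k_g1] [H46.J2M.k_g1] 0 0 0 0 480 :=
  BT.sound Ce_cnt_P Known.nil (t := Ce_cnt_t) (d := 0) (by decide +kernel)

theorem Ce_ge : 480 ≤ Nat.card (grp 100 Ce_K) :=
  Ch.le_card_grp (k := 7) (L := (lab 100 7)) f_hn Ce_K_ok (c := (Ch.cons (nat_lit 0) [nat_lit 1] (Ch.cons (nat_lit 84) [nat_lit 3] (Ch.cons (nat_lit 29) [nat_lit 5] (Ch.cons (nat_lit 74) [nat_lit 7] Ch.nil))))) (by decide +kernel)

theorem Ce_eq : (grp 100 EvJ2.EG) ⊓ Subgroup.centralizer {Net.toPerm 100 H46.J2M.k_g1} = grp 100 Ce_K :=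
  cent_eq Ce_sym Ce_cnt Ce_ge

theorem Ce_card : Nat.card ↥((grp 100 EvJ2.EG) ⊓ Subgroup.centralizer {Net.toPerm 100 H46.J2M.k_g1}) = 480 :=
  card_cent Ce_sym Ce_cnt Ce_ge

theorem Ce_n : grp 100 Ce_K ≤ Subgroup.normalizer (grp 100 EE : Set (Equiv.Perm (Fin 100))) :=
  EvG.le_norm f_hn f_hk Ce_K_ok EE_ok EE_ok le_rfl (W := [[nat_lit 1, nat_lit 259], [nat_lit 1, nat_lit 3], [nat_lit 1, nat_lit 259], [nat_lit 1, nat_lit 3]]) (by decide +kernel)

theorem f_le21 : grp 100 CE ≤ grp 100 EvJ2.lb_E :=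
  grp_le_of_memB f_hn f_hk EvJ2.lb_E_ok CE_ok (ws := [nat_lit 0x26232225010f, nat_lit 0x312d27261f23200127, nat_lit 0x33312d272923291f2e25, nat_lit 0x2d2723292026]) (by decide +kernel)

theorem CE_le : grp 100 CE ≤ (grp 100 EvJ2.EG) :=
  (f_le21.trans T_s0.le)

theorem CE_sym : Sym 100 (grp 100 EvJ2.EG) CEX CE 0 :=
  Sym.of_lab f_hn f_hk CEX_ok CE_ok CE_le (kT := 0) (by decide +kernel)

noncomputable def CE_cnt_L : List ℕ := [1, 2, T_s1_O, 0, 0, 3, 14, T_s3_O, 0, 0, 4, 23, T_s4_O, 0, 0, 6, 59, T_s6_O, 0, 0, 7, 11, T_s7_O, 1, 0]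

theorem CE_cnt_P : Prob 100 7 (grp 100 EvJ2.EG) CE_cnt_EG CEX CEX CE CE_cnt_L 0 0 :=
  Sym.prob f_hn f_hk CE_sym CE_cnt_EG_ok (grp_cons_le MpJ2.a_T (grp_cons_le H47.J2P.h_g1_T (grp_cons_le H47.J2P.h_a19_T (grp_cons_le H47.J2P.h_a27_T (grp_cons_le H47.J2P.h_g7_T (grp_cons_le H47.J2P.h_a0_T (grp_cons_le H47.J2P.h_g4_T (grp_cons_le H47.J2P.h_a8_T (grp_cons_le H47.J2P.h_g14_T (grp_cons_le H47.J2P.h_g10_T (grp_cons_le H47.J2P.h_g11_T (grp_cons_le H47.J2P.h_g21_T (grp_cons_le H47.J2P.h_g22_T (grp_cons_le H47.J2P.h_g17_T (grp_cons_le H47.J2P.h_g18_T (grp_cons_le EvJ2.p_g1_T (grp_cons_le EvJ2.p_g2_T (grp_cons_le EvJ2.p_g5_T (grp_cons_le EvJ2.p_g6_T (grp_cons_le H47.J2P.h_g45_T (grp_cons_le EvJ2.p_g11_T (grp_cons_le H47.J2P.h_g53_T (grp_cons_le f_g7_T (grp_cons_le f_g8_T (grp_cons_le f_g9_T (grp_cons_le f_g10_T (grp_cons_le f_g4_T (grp_nil_le _)))))))))))))))))))))))))))) (Frames.cons T_s1_F (Frames.cons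 T_s3_F (Frames.cons T_s4_F (Frames.cons T_s6_F (Frames.cons T_s7_F Frames.nil))))) CEX_ok _

noncomputable def CE_cnt_t : BT := (BT.br (nat_lit 2) (nat_lit 0) [nat_lit 1, nat_lit 3] (BT.dead (nat_lit 3) (BT.frm (nat_lit 0) (nat_lit 0) (nat_lit 522) [nat_lit 0] (BT.pln (nat_lit 0) (nat_lit 1) (BT.img (nat_lit 1) (nat_lit 2) (BT.and (nat_lit 1) (nat_lit 0) (BT.cnt (nat_lit 0)))))) (BT.kid (nat_lit 0) (nat_lit 4) (BT.img (nat_lit 3) (nat_lit 0) (BT.img (nat_lit 1) (nat_lit 1) (BT.frm (nat_lit 1) (nat_lit 11567) (nat_lit 11567) [nat_lit 1, nat_lit 0, nat_lit 2] (BT.pln (nat_lit 0) (nat_lit 12) (BT.br (nat_lit 0) (nat_lit 28) [nat_lit 5] (BT.dead (nat_lit 31) (BT.frm (nat_lit 2) (nat_lit 0x2f2f2d2f) (nat_lit 0x2f2d2f) [nat_lit 0, nat_lit 4, nat_lit 3, nat_lit 5] (BT.pln (nat_lit 0) (nat_lit 13) (BT.img (nat_lit 3) (nat_lit 0) (BT.pln (nat_lit 2) (nat_lit 5) (BT.dif (nat_lit 1) (nat_lit 0) (BT.img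 (nat_lit 1) (nat_lit 0) (BT.pln (nat_lit 5) (nat_lit 6) (BT.and (nat_lit 1) (nat_lit 0) (BT.cnt (nat_lit 0)))))))))) (BT.kid (nat_lit 28) (nat_lit 2) (BT.img (nat_lit 3) (nat_lit 0) (BT.img (nat_lit 1) (nat_lit 0) (BT.img (nat_lit 1) (nat_lit 2) (BT.frm (nat_lit 3) (nat_lit 0x312f2f2d2f) (nat_lit 0x312f2f2d2f) [nat_lit 1, nat_lit 0, nat_lit 3, nat_lit 7, nat_lit 6, nat_lit 8] (BT.pln (nat_lit 0) (nat_lit 43) (BT.br (nat_lit 0) (nat_lit 30) [nat_lit 7] (BT.kid (nat_lit 30) (nat_lit 1) (BT.one (nat_lit 4) (nat_lit 0x35312f2f2d2f) (nat_lit 0x35312f2f2d2f) [nat_lit 0, nat_lit 4, nat_lit 3, nat_lit 6, nat_lit 10, nat_lit 9, nat_lit 11]) BT.nil))))))) BT.nil))))))) BT.nil)))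

theorem CE_cnt : Cnt 100 (grp 100 EvJ2.EG) CEX CEX 0 0 0 0 240 :=
  BT.sound CE_cnt_P Known.nil (t := CE_cnt_t) (d := 0) (by decide +kernel)

theorem CE_ge : 240 ≤ Nat.card (grp 100 CE) :=
  Ch.le_card_grp (k := 7) (L := (lab 100 7)) f_hn CE_ok (c := (Ch.cons (nat_lit 0) [nat_lit 1, nat_lit 3] (Ch.cons (nat_lit 28) [nat_lit 5] (Ch.cons (nat_lit 30) [nat_lit 7] Ch.nil)))) (by decide +kernel)

theorem CE_eq : (grp 100 EvJ2.EG) ⊓ Subgroup.centralizer (grp 100 CEX : Set (Equiv.Perm (Fin 100))) = grp 100 CE :=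
  cent_grp_eq CE_sym CE_cnt CE_ge

theorem CE_card : Nat.card (grp 100 CE) = 240 :=
  (CE_sym.mem_iff CE_cnt CE_ge).1

theorem CE_H : grp 100 CE ≤ grp 100 CEH :=
  grp_le_of_memB f_hn f_hk CEH_ok CE_ok (ws := [nat_lit 0x5070501, nat_lit 329731, nat_lit 0x7050805070508, nat_lit 525575]) (by decide +kernel)

theorem f_le24 : grp 100 CW ≤ grp 100 EvJ2.lb_E :=
  grp_le_of_memB f_hn f_hk EvJ2.lb_E_ok CW_ok (ws := [nat_lit 0x2726231f1f23051b, nat_lit 0x312d272925202e012705, nat_lit 0x23291f290518, nat_lit 0x332d27292629050f]) (by decide +kernel)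

theorem CW_le : grp 100 CW ≤ (grp 100 EvJ2.EG) :=
  (f_le24.trans T_s0.le)

theorem CW_sym : Sym 100 (grp 100 EvJ2.EG) CWX CW 0 :=
  Sym.of_lab f_hn f_hk CWX_ok CW_ok CW_le (kT := 0) (by decide +kernel)

theorem f_le28 : grp 100 f_V27 ≤ grp 100 f_V11 :=
  grp_le_of_memB f_hn f_hk f_V11_ok f_V27_ok (ws := [nat_lit 459009, nat_lit 460035, nat_lit 0x9070303, nat_lit 9]) (by decide +kernel)

theorem T_s8 : Stab 100 (grp 100 EvJ2.EG) [nat_lit 55, nat_lit 73, nat_lit 0] f_V27 16 :=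
  Stab.step (k := 7) (L := (lab 100 7)) f_hn T_s2 f_V27_ok f_le28 (c := (Ch.cons (nat_lit 84) [nat_lit 1] (Ch.cons (nat_lit 58) [nat_lit 3] (Ch.cons (nat_lit 26) [nat_lit 5] (Ch.cons (nat_lit 39) [nat_lit 7] Ch.nil))))) (by decide +kernel)

theorem T_s9 : Stab 100 (grp 100 EvJ2.EG) [nat_lit 84, nat_lit 55, nat_lit 73, nat_lit 0] f_V29 8 :=
  Stab.step (k := 7) (L := (lab 100 7)) f_hn T_s8 f_V29_ok (grp_mono (List.subset_append_right [f_g2] _)) (c := (Ch.cons (nat_lit 58) [nat_lit 1] (Ch.cons (nat_lit 26) [nat_lit 3] (Ch.cons (nat_lit 39) [nat_lit 5] Ch.nil)))) (by decide +kernel)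

theorem T_s10 : Stab 100 (grp 100 EvJ2.EG) [nat_lit 58, nat_lit 84, nat_lit 55, nat_lit 73, nat_lit 0] f_V30 4 :=
  Stab.step (k := 7) (L := (lab 100 7)) f_hn T_s9 f_V30_ok (grp_mono (List.subset_append_right [f_g25] _)) (c := (Ch.cons (nat_lit 26) [nat_lit 1] (Ch.cons (nat_lit 39) [nat_lit 3] Ch.nil))) (by decide +kernel)

theorem T_s11 : Stab 100 (grp 100 EvJ2.EG) [nat_lit 26, nat_lit 58, nat_lit 84, nat_lit 55, nat_lit 73, nat_lit 0] f_V31 2 :=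
  Stab.step (k := 7) (L := (lab 100 7)) f_hn T_s10 f_V31_ok (grp_mono (List.subset_append_right [f_g26] _)) (c := (Ch.cons (nat_lit 39) [nat_lit 1] Ch.nil)) (by decide +kernel)

theorem T_s12 : Stab 100 (grp 100 EvJ2.EG) [nat_lit 39, nat_lit 26, nat_lit 58, nat_lit 84, nat_lit 55, nat_lit 73, nat_lit 0] f_V32 1 :=
  Stab.step (k := 7) (L := (lab 100 7)) f_hn T_s11 f_V32_ok (grp_mono (List.subset_append_right [f_g4] _)) (c := Ch.nil) (by decide +kernel)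

theorem f_g25_T : Net.toPerm 100 f_g25 ∈ (grp 100 EvJ2.EG) :=
  T_s9.le (toPerm_mem_grp (E := f_V29) (List.Mem.head _))

theorem f_g26_T : Net.toPerm 100 f_g26 ∈ (grp 100 EvJ2.EG) :=
  T_s9.le (toPerm_mem_grp (E := f_V29) (List.Mem.tail _ (List.Mem.head _)))

theorem f_g2_T : Net.toPerm 100 f_g2 ∈ (grp 100 EvJ2.EG) :=
  T_s8.le (toPerm_mem_grp (E := f_V27) (List.Mem.head _))

noncomputable def T_s12_O : ℕ := (nat_lit 0x3333266666ccccd99999333321f07c1f03e0f83e0f83e0f83ee63398c67319ce63398c673184db24d926c93649b64db26d920000000000000000000000001000000200000000000000000000000000000800000000000000001000000000000000000000000000000040000000000000000000000000000000040000000000000000000008000000000)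

theorem T_s12_F : Frame 100 (grp 100 EvJ2.EG) 7 11 T_s12_O 1 1 :=
  IsBase.frame T_s12.isBase (by decide +kernel)

noncomputable def T_s11_O : ℕ := (nat_lit 0x200000000000000000000000002000000000000000000000000000400000000000000000000000000080000000000000000000000000400000000000000000000000010000000000000000000000000010000000000000000000000000010000000000000000000000000000080000000000000000000000002000000000000000000000000100000000000000000000000000400000000000000000000000002000000000000000000000000001000010080000000000000000000000400400000000000000000000800000080000000000000000100000004000000000000000000020000004000000000000004000000000040000000000008000000000000800000000000000080000000040000000000000000200000002000000000000000000200000080000000000002000000000004000000000000000080000000100000000000040000000000008000000000080000000000000400000000000000000200000020000000000000000000200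00100000000000000000000000202000000000000000100000000040000000000000000000800000800000000000000000000004020000000000000080000000000800000000000000000000000120000000000000000000008001000000000000000000100000080000000000100000000000004000000000004000000000000100000000000000000000100008000000000000200000000000400000000000000200000000020000000100000000000000001000000004000000000000000080000000000010000000000004000000000000010000000000200400000000000000000000008000000000008000000000000400000010000000000000000020000800000000000000000001000020000000000000000000080000000000002000000000004000000000000000000000000100000020000000000000000000000000000080000000000000000100000000000000000000000000000004000000000000000000000000000000004000000)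

theorem T_s11_F : Frame 100 (grp 100 EvJ2.EG) 6 59 T_s11_O 0 1 :=
  Stab.frame f_hn T_s11 (by decide +kernel)

noncomputable def T_s10_O : ℕ := (nat_lit 0x80000000000000000000000000000000000100000000000000000000000000400000020000001000000000000000000000000400010000000000000000000000100000080000000200000000000000002000000000004000000000000040000000000000000000000000020100040400400000400000000000000000202000002800000000008000008000000810000000000004000002000000a0000000000000000000200021200000000001008010000000004000000000200000800000400008000000800000000000004800100000008000100800000000004000001000004040000000000100000000000000000000502008000000004000000800000800080000000000010001000000804000000200000050000000000200400000000000000000120008000000000008200000000020400000810000000400000000020000a000000000000000000018000000000200200000000400400000000000000000000000010000002000000000000000000000000000008000000000000000010000000000000000000000000000000400000000000000)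

theorem T_s10_F : Frame 100 (grp 100 EvJ2.EG) 5 33 T_s10_O 0 1 :=
  Stab.frame f_hn T_s10 (by decide +kernel)

noncomputable def T_s8_O : ℕ := (nat_lit 0x40000000000008004000000000000000001000000000000010000000020000005000100000000000020000000001000000a000000000004000000000000040201008000028200000a900000000000120000484000040000810000008004100800800000804080008002000000500048001002000000810000820400000002060000a00000100010000008041840000000020020000012040841000100000000000502009002000000000000000000000000100000020000000000000000000000000000080000000000000)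

theorem T_s8_F : Frame 100 (grp 100 EvJ2.EG) 3 17 T_s8_O 0 1 :=
  Stab.frame f_hn T_s8 (by decide +kernel)

noncomputable def CW_cnt_L : List ℕ := [3, 17, T_s8_O, 0, 0, 5, 33, T_s10_O, 0, 0, 6, 59, T_s11_O, 0, 0, 7, 11, T_s12_O, 1, 0]

theorem CW_cnt_P : Prob 100 7 (grp 100 EvJ2.EG) CW_cnt_EG CWX CWX CW CW_cnt_L 0 0 :=
  Sym.prob f_hn f_hk CW_sym CW_cnt_EG_ok (grp_cons_le f_g7_T (grp_cons_le f_g8_T (grp_cons_le f_g9_T (grp_cons_le f_g10_T (grp_cons_le f_g4_T (grp_cons_le EvJ2.p_g1_T (grp_cons_le EvJ2.p_g2_T (grp_cons_le EvJ2.p_g5_T (grp_cons_le EvJ2.p_g6_T (grp_cons_le H47.J2P.h_g45_T (grp_cons_le H47.J2P.h_a0_T (grp_cons_le EvJ2.p_g11_T (grp_cons_le H47.J2P.h_g53_T (grp_cons_le MpJ2.a_T (grp_cons_le H47.J2P.h_g1_T (grp_cons_le H47.J2P.h_a19_T (grp_cons_le H47.J2P.h_a27_T (grp_cons_le H47.J2P.h_g7_T (grp_cons_le H47.J2P.h_g4_T (grp_cons_le H47.J2P.h_a8_T (grp_cons_le H47.J2P.h_g14_T (grp_cons_le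 H47.J2P.h_g10_T (grp_cons_le H47.J2P.h_g11_T (grp_cons_le H47.J2P.h_g21_T (grp_cons_le H47.J2P.h_g22_T (grp_cons_le H47.J2P.h_g17_T (grp_cons_le H47.J2P.h_g18_T (grp_cons_le f_g25_T (grp_cons_le f_g26_T (grp_cons_le f_g2_T (grp_nil_le _))))))))))))))))))))))))))))))) (Frames.cons T_s8_F (Frames.cons T_s10_F (Frames.cons T_s11_F (Frames.cons T_s12_F Frames.nil)))) CWX_ok _

noncomputable def CW_cnt_t : BT := (BT.fix (nat_lit 3) (BT.fix (nat_lit 5) (BT.dif (nat_lit 1) (nat_lit 0) (BT.br (nat_lit 0) (nat_lit 11) [nat_lit 1, nat_lit 3, nat_lit 5] (BT.kid (nat_lit 11) (nat_lit 2) (BT.and (nat_lit 3) (nat_lit 2) (BT.img (nat_lit 1) (nat_lit 1) (BT.img (nat_lit 5) (nat_lit 2) (BT.frm (nat_lit 0) (nat_lit 0x203050b0e1b0d1b) (nat_lit 0x203050b0e1b0d1b) [nat_lit 1, nat_lit 0, nat_lit 3] (BT.pln (nat_lit 0) (nat_lit 14) (BT.and (nat_lit 4) (nat_lit 0) (BT.br (nat_lit 0) (nat_lit 81) [] (BT.dead (nat_lit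 50) (BT.pln (nat_lit 3) (nat_lit 15) (BT.and (nat_lit 7) (nat_lit 0) (BT.br (nat_lit 0) (nat_lit 16) [] (BT.dead (nat_lit 14) (BT.frm (nat_lit 1) (nat_lit 0x203050b0e1b0d1b) (nat_lit 0x373b0203050b0e1b0d1b) [nat_lit 0, nat_lit 3, nat_lit 8, nat_lit 7, nat_lit 10] (BT.pln (nat_lit 0) (nat_lit 25) (BT.and (nat_lit 13) (nat_lit 0) (BT.br (nat_lit 0) (nat_lit 40) [] (BT.dead (nat_lit 9) (BT.frm (nat_lit 2) (nat_lit 0x203050b0e1b0d1b) (nat_lit 0x39373b0203050b0e1b0d1b) [nat_lit 0, nat_lit 4, nat_lit 7, nat_lit 12, nat_lit 11, nat_lit 14] (BT.pln (nat_lit 0) (nat_lit 45) (BT.img (nat_lit 1) (nat_lit 2) (BT.and (nat_lit 1) (nat_lit 0) (BT.cnt (nat_lit 0)))))) (BT.dead (nat_lit 7) (BT.frm (nat_lit 2) (nat_lit 0x203050b0e1b0d1b) (nat_lit 0x373b0203050b0e1b0d1b) [nat_lit 0, nat_lit 4, nat_lit 7, nat_lit 12, nat_lit 11, nat_lit 14] (BT.pln (nat_lit 0) (nat_lit 45) (BT.img (nat_lit 1) (nat_lit 2) (BT.and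 (nat_lit 1) (nat_lit 0) (BT.cnt (nat_lit 0)))))) BT.nil)))))) (BT.dead (nat_lit 16) (BT.frm (nat_lit 1) (nat_lit 0x203050b0e1b0d1b) (nat_lit 0x3b0203050b0e1b0d1b) [nat_lit 0, nat_lit 3, nat_lit 8, nat_lit 7, nat_lit 10] (BT.pln (nat_lit 0) (nat_lit 18) (BT.and (nat_lit 0) (nat_lit 14) (BT.cnt (nat_lit 0))))) BT.nil))))) (BT.kid (nat_lit 81) (nat_lit 2) (BT.pln (nat_lit 3) (nat_lit 15) (BT.and (nat_lit 7) (nat_lit 0) (BT.br (nat_lit 0) (nat_lit 16) [] (BT.dead (nat_lit 14) (BT.frm (nat_lit 1) (nat_lit 0x203050b0e1b0d1b) (nat_lit 0x370203050b0e1b0d1b) [nat_lit 0, nat_lit 3, nat_lit 8, nat_lit 7, nat_lit 10] (BT.pln (nat_lit 0) (nat_lit 18) (BT.and (nat_lit 0) (nat_lit 14) (BT.cnt (nat_lit 0))))) (BT.kid (nat_lit 16) (nat_lit 2) (BT.frm (nat_lit 1) (nat_lit 0x203050b0e1b0d1b) (nat_lit 0x203050b0e1b0d1b) [nat_lit 0, nat_lit 3, nat_lit 8, nat_lit 7, nat_lit 10] (BT.pln (nat_lit 0) (nat_lit 25)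 (BT.and (nat_lit 13) (nat_lit 0) (BT.br (nat_lit 0) (nat_lit 40) [] (BT.dead (nat_lit 88) (BT.frm (nat_lit 2) (nat_lit 0x203050b0e1b0d1b) (nat_lit 0x390203050b0e1b0d1b) [nat_lit 0, nat_lit 4, nat_lit 7, nat_lit 12, nat_lit 11, nat_lit 14] (BT.pln (nat_lit 0) (nat_lit 32) (BT.br (nat_lit 0) (nat_lit 31) [nat_lit 7] (BT.dead (nat_lit 17) (BT.frm (nat_lit 3) (nat_lit 0x90203050b0e1b0d1b) (nat_lit 0x9390203050b0e1b0d1b) [nat_lit 0, nat_lit 3, nat_lit 7, nat_lit 10, nat_lit 15, nat_lit 14, nat_lit 17] (BT.pln (nat_lit 0) (nat_lit 7) (BT.img (nat_lit 1) (nat_lit 2) (BT.and (nat_lit 1) (nat_lit 0) (BT.cnt (nat_lit 0)))))) BT.nil)))) (BT.kid (nat_lit 40) (nat_lit 2) (BT.frm (nat_lit 2) (nat_lit 0x203050b0e1b0d1b) (nat_lit 0x203050b0e1b0d1b) [nat_lit 0, nat_lit 4, nat_lit 7, nat_lit 12, nat_lit 11, nat_lit 14] (BT.pln (nat_lit 0) (nat_lit 32) (BT.br (nat_lit 0) (nat_lit 31) [nat_lit 7] (BT.kid (nat_lit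 31) (nat_lit 1) (BT.one (nat_lit 3) (nat_lit 0x90203050b0e1b0d1b) (nat_lit 0x90203050b0e1b0d1b) [nat_lit 0, nat_lit 3, nat_lit 7, nat_lit 10, nat_lit 15, nat_lit 14, nat_lit 17]) BT.nil)))) BT.nil)))))) BT.nil))))) BT.nil))))))))) BT.nil)))))

theorem CW_cnt : Cnt 100 (grp 100 EvJ2.EG) CWX CWX 0 0 0 0 16 :=
  BT.sound CW_cnt_P Known.nil (t := CW_cnt_t) (d := 0) (by decide +kernel)

theorem CW_ge : 16 ≤ Nat.card (grp 100 CW) :=
  Ch.le_card_grp (k := 7) (L := (lab 100 7)) f_hn CW_ok (c := (Ch.cons (nat_lit 11) [nat_lit 1, nat_lit 3, nat_lit 5] (Ch.cons (nat_lit 31) [nat_lit 7] Ch.nil))) (by decide +kernel)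

theorem CW_eq : (grp 100 EvJ2.EG) ⊓ Subgroup.centralizer (grp 100 CWX : Set (Equiv.Perm (Fin 100))) = grp 100 CW :=
  cent_grp_eq CW_sym CW_cnt CW_ge

theorem CW_card : Nat.card (grp 100 CW) = 16 :=
  (CW_sym.mem_iff CW_cnt CW_ge).1

theorem CW_H : grp 100 CW ≤ grp 100 CWH :=
  grp_le_of_memB f_hn f_hk CWH_ok CW_ok (ws := [nat_lit 1797, nat_lit 459521, nat_lit 1, nat_lit 5]) (by decide +kernel)

theorem f_le35 : grp 100 CL ≤ grp 100 EvJ2.lb_E :=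
  grp_le_of_memB f_hn f_hk EvJ2.lb_E_ok CL_ok (ws := [nat_lit 0x1f222601, nat_lit 0x26291f1f230127]) (by decide +kernel)

theorem CL_le : grp 100 CL ≤ (grp 100 EvJ2.EG) :=
  (f_le35.trans T_s0.le)

theorem CL_sym : Sym 100 (grp 100 EvJ2.EG) CLX CL 0 :=
  Sym.of_lab f_hn f_hk CLX_ok CL_ok CL_le (kT := 0) (by decide +kernel)

theorem f_le39 : grp 100 f_V38 ≤ grp 100 f_V11 :=
  grp_le_of_memB f_hn f_hk f_V11_ok f_V38_ok (ws := [nat_lit 1284, nat_lit 328449]) (by decide +kernel)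

theorem T_s13 : Stab 100 (grp 100 EvJ2.EG) [nat_lit 96, nat_lit 73, nat_lit 0] f_V38 6 :=
  Stab.step (k := 7) (L := (lab 100 7)) f_hn T_s2 f_V38_ok f_le39 (c := (Ch.cons (nat_lit 38) [nat_lit 1] (Ch.cons (nat_lit 11) [nat_lit 3] Ch.nil))) (by decide +kernel)

theorem T_s14 : Stab 100 (grp 100 EvJ2.EG) [nat_lit 38, nat_lit 96, nat_lit 73, nat_lit 0] f_V40 3 :=
  Stab.step (k := 7) (L := (lab 100 7)) f_hn T_s13 f_V40_ok (grp_mono (List.subset_append_right [f_g36] _)) (c := (Ch.cons (nat_lit 11) [nat_lit 1] Ch.nil)) (by decide +kernel)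

theorem T_s15 : Stab 100 (grp 100 EvJ2.EG) [nat_lit 11, nat_lit 38, nat_lit 96, nat_lit 73, nat_lit 0] f_V41 1 :=
  Stab.step (k := 7) (L := (lab 100 7)) f_hn T_s14 f_V41_ok (grp_mono (List.subset_append_right [f_g37] _)) (c := Ch.nil) (by decide +kernel)

theorem f_g36_T : Net.toPerm 100 f_g36 ∈ (grp 100 EvJ2.EG) :=
  T_s13.le (toPerm_mem_grp (E := f_V38) (List.Mem.head _))

theorem f_g37_T : Net.toPerm 100 f_g37 ∈ (grp 100 EvJ2.EG) :=
  T_s13.le (toPerm_mem_grp (E := f_V38) (List.Mem.tail _ (List.Mem.head _)))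

noncomputable def T_s15_O : ℕ := (nat_lit 0x3333266666ccccd99999333321f07c1f03e0f83e0f83e0f83ee63398c67319ce63398c673184db24d926c93649b64db26d9200000000000000000000000010000002000000000000000000100000000000000000000000000000000000000040000000000000000000000000000000800)

theorem T_s15_F : Frame 100 (grp 100 EvJ2.EG) 5 9 T_s15_O 1 1 :=
  IsBase.frame T_s15.isBase (by decide +kernel)

noncomputable def T_s14_O : ℕ := (nat_lit 0x8000000000000000000000000000000100000000000000000000000000000002000000000000000000000000002000000000000000000000000040000000000000000000000000000000281000400000000000000000000410004000000000000000000008002040000000000000000000200082000000000000000004008000000800000000000000020000004040000000000000000400000202000000000000002001000000100000000000000000000108000800000000000000040800000040000000000000002010000002000000000000000000081000100000000000000000000000000d000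0000000000000000000000b0000000000000000000000000d0000000000000000000000000b000000000000000020001000002000000000000000000000008840000000000000000000000442000000000000080002000000100000000000000000000002108000000000000000000000108400000000000010004000000020000000200000010000000001000000000000400080000000080000008000000200000000004000000100000040000000000200000040000008000000000010000000000000000000000000d00000000000000000000000001000000200000000000000000010000000000000000000000000000000000000004000000000)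

theorem T_s14_F : Frame 100 (grp 100 EvJ2.EG) 4 39 T_s14_O 0 1 :=
  Stab.frame f_hn T_s14 (by decide +kernel)

noncomputable def CL_cnt_L : List ℕ := [4, 39, T_s14_O, 0, 0, 5, 9, T_s15_O, 1, 0]

theorem CL_cnt_P : Prob 100 7 (grp 100 EvJ2.EG) CL_cnt_EG CLX CLX CL CL_cnt_L 0 0 :=
  Sym.prob f_hn f_hk CL_sym CL_cnt_EG_ok (grp_cons_le f_g36_T (grp_cons_le f_g37_T (grp_cons_le f_g7_T (grp_cons_le f_g8_T (grp_cons_le f_g9_T (grp_cons_le f_g10_T (grp_cons_le f_g4_T (grp_cons_le EvJ2.p_g1_T (grp_cons_le EvJ2.p_g2_T (grp_cons_le EvJ2.p_g5_T (grp_cons_le EvJ2.p_g6_T (grp_cons_le H47.J2P.h_g45_T (grp_cons_le H47.J2P.h_a0_T (grp_cons_le EvJ2.p_g11_T (grp_cons_le H47.J2P.h_g53_T (grp_cons_le MpJ2.a_T (grp_cons_le H47.J2P.h_g1_T (grp_cons_le H47.J2P.h_a19_T (grp_cons_le H47.J2P.h_a27_T (grp_cons_le H47.J2P.h_g7_T (grp_cons_le H47.J2P.h_g4_T (grp_cons_le H47.J2P.h_a8_T (grp_cons_le H47.J2P.h_g14_T (grp_cons_le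 H47.J2P.h_g10_T (grp_cons_le H47.J2P.h_g11_T (grp_cons_le H47.J2P.h_g21_T (grp_cons_le H47.J2P.h_g22_T (grp_cons_le H47.J2P.h_g17_T (grp_cons_le H47.J2P.h_g18_T (grp_nil_le _)))))))))))))))))))))))))))))) (Frames.cons T_s14_F (Frames.cons T_s15_F Frames.nil)) CLX_ok _

noncomputable def CL_cnt_t : BT := (BT.fix (nat_lit 1) (BT.img (nat_lit 3) (nat_lit 0) (BT.img (nat_lit 1) (nat_lit 0) (BT.img (nat_lit 3) (nat_lit 1) (BT.dif (nat_lit 1) (nat_lit 0) (BT.and (nat_lit 4) (nat_lit 1) (BT.img (nat_lit 3) (nat_lit 0) (BT.img (nat_lit 1) (nat_lit 0) (BT.dif (nat_lit 3) (nat_lit 0) (BT.br (nat_lit 0) (nat_lit 51) [nat_lit 1, nat_lit 3] (BT.kid (nat_lit 51) (nat_lit 3) (BT.img (nat_lit 3) (nat_lit 0) (BT.img (nat_lit 1) (nat_lit 0) (BT.img (nat_lit 1) (nat_lit 2) (BT.frm (nat_lit 0) (nat_lit 0x1050811151f21) (nat_lit 0x1050811151f21) [nat_lit 1, nat_lit 2, nat_lit 0, nat_lit 3] (BT.pln (nat_lit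 0) (nat_lit 8) (BT.br (nat_lit 0) (nat_lit 94) [nat_lit 3] (BT.kid (nat_lit 94) (nat_lit 1) (BT.one (nat_lit 1) (nat_lit 0x1050811151f21) (nat_lit 0x1050811151f21) [nat_lit 0, nat_lit 4, nat_lit 5, nat_lit 3, nat_lit 6]) BT.nil))))))) BT.nil)))))))))))

theorem CL_cnt : Cnt 100 (grp 100 EvJ2.EG) CLX CLX 0 0 0 0 12 :=
  BT.sound CL_cnt_P Known.nil (t := CL_cnt_t) (d := 0) (by decide +kernel)

theorem CL_ge : 12 ≤ Nat.card (grp 100 CL) :=
  Ch.le_card_grp (k := 7) (L := (lab 100 7)) f_hn CL_ok (c := (Ch.cons (nat_lit 51) [nat_lit 1] (Ch.cons (nat_lit 94) [nat_lit 3] Ch.nil))) (by decide +kernel)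

theorem CL_eq : (grp 100 EvJ2.EG) ⊓ Subgroup.centralizer (grp 100 CLX : Set (Equiv.Perm (Fin 100))) = grp 100 CL :=
  cent_grp_eq CL_sym CL_cnt CL_ge

theorem CL_card : Nat.card (grp 100 CL) = 12 :=
  (CL_sym.mem_iff CL_cnt CL_ge).1

theorem CL_H : grp 100 CL ≤ grp 100 CLH :=
  grp_le_of_memB f_hn f_hk CLH_ok CL_ok (ws := [nat_lit 1281, nat_lit 1539]) (by decide +kernel)

theorem f_le42 : grp 100 CZ ≤ grp 100 EvJ2.lb_E :=
  grp_le_of_memB f_hn f_hk EvJ2.lb_E_ok CZ_ok (ws := [nat_lit 0x220721, nat_lit 0x332d27292629050f]) (by decide +kernel)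

theorem CZ_le : grp 100 CZ ≤ (grp 100 EvJ2.EG) :=
  (f_le42.trans T_s0.le)

theorem CZ_sym : Sym 100 (grp 100 EvJ2.EG) CZX CZ 0 :=
  Sym.of_lab f_hn f_hk CZX_ok CZ_ok CZ_le (kT := 0) (by decide +kernel)

theorem f_le44 : grp 100 f_V43 ≤ grp 100 f_V27 :=
  grp_le_of_memB f_hn f_hk f_V27_ok f_V43_ok (ws := [nat_lit 1793, nat_lit 7]) (by decide +kernel)

theorem T_s16 : Stab 100 (grp 100 EvJ2.EG) [nat_lit 82, nat_lit 55, nat_lit 73, nat_lit 0] f_V43 4 :=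
  Stab.step (k := 7) (L := (lab 100 7)) f_hn T_s8 f_V43_ok f_le44 (c := (Ch.cons (nat_lit 8) [nat_lit 1] (Ch.cons (nat_lit 1) [nat_lit 3] Ch.nil))) (by decide +kernel)

theorem T_s17 : Stab 100 (grp 100 EvJ2.EG) [nat_lit 8, nat_lit 82, nat_lit 55, nat_lit 73, nat_lit 0] f_V45 2 :=
  Stab.step (k := 7) (L := (lab 100 7)) f_hn T_s16 f_V45_ok (grp_mono (List.subset_append_right [f_g20] _)) (c := (Ch.cons (nat_lit 1) [nat_lit 1] Ch.nil)) (by decide +kernel)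

theorem T_s18 : Stab 100 (grp 100 EvJ2.EG) [nat_lit 1, nat_lit 8, nat_lit 82, nat_lit 55, nat_lit 73, nat_lit 0] f_V46 1 :=
  Stab.step (k := 7) (L := (lab 100 7)) f_hn T_s17 f_V46_ok (grp_mono (List.subset_append_right [f_g4] _)) (c := Ch.nil) (by decide +kernel)

theorem f_g20_T : Net.toPerm 100 f_g20 ∈ (grp 100 EvJ2.EG) :=
  T_s16.le (toPerm_mem_grp (E := f_V43) (List.Mem.head _))

noncomputable def T_s18_O : ℕ := (nat_lit 0x3333266666ccccd99999333321f07c1f03e0f83e0f83e0f83ee63398c67319ce63398c673184db24d926c93649b64db26d92000000000000000000000000100000020000000000000000000000000000080000000000000000040000000000000000000000000000000000000000001000000000000000000000000002)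

theorem T_s18_F : Frame 100 (grp 100 EvJ2.EG) 6 10 T_s18_O 1 1 :=
  IsBase.frame T_s18.isBase (by decide +kernel)

noncomputable def CZ_cnt_L : List ℕ := [3, 17, T_s8_O, 0, 0, 6, 10, T_s18_O, 1, 0]

theorem CZ_cnt_P : Prob 100 7 (grp 100 EvJ2.EG) CZ_cnt_EG CZX CZX CZ CZ_cnt_L 0 0 :=
  Sym.prob f_hn f_hk CZ_sym CZ_cnt_EG_ok (grp_cons_le f_g7_T (grp_cons_le f_g8_T (grp_cons_le f_g9_T (grp_cons_le f_g10_T (grp_cons_le f_g4_T (grp_cons_le EvJ2.p_g1_T (grp_cons_le EvJ2.p_g2_T (grp_cons_le EvJ2.p_g5_T (grp_cons_le EvJ2.p_g6_T (grp_cons_le H47.J2P.h_g45_T (grp_cons_le H47.J2P.h_a0_T (grp_cons_le EvJ2.p_g11_T (grp_cons_le H47.J2P.h_g53_T (grp_cons_le MpJ2.a_T (grp_cons_le H47.J2P.h_g1_T (grp_cons_le H47.J2P.h_a19_T (grp_cons_le H47.J2P.h_a27_T (grp_cons_le H47.J2P.h_g7_T (grp_cons_le H47.J2P.h_g4_T (grp_cons_le H47.J2P.h_a8_T (grp_cons_le H47.J2P.h_g14_T (grp_cons_le H47.J2P.h_g10_T (grp_cons_le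 H47.J2P.h_g11_T (grp_cons_le H47.J2P.h_g21_T (grp_cons_le H47.J2P.h_g22_T (grp_cons_le H47.J2P.h_g17_T (grp_cons_le H47.J2P.h_g18_T (grp_cons_le f_g20_T (grp_cons_le f_g2_T (grp_cons_le f_g25_T (grp_cons_le f_g26_T (grp_nil_le _)))))))))))))))))))))))))))))))) (Frames.cons T_s8_F (Frames.cons T_s18_F Frames.nil)) CZX_ok _

noncomputable def CZ_cnt_t : BT := (BT.fix (nat_lit 3) (BT.img (nat_lit 1) (nat_lit 0) (BT.img (nat_lit 5) (nat_lit 1) (BT.and (nat_lit 1) (nat_lit 0) (BT.br (nat_lit 0) (nat_lit 5) [nat_lit 1] (BT.kid (nat_lit 5) (nat_lit 2) (BT.img (nat_lit 1) (nat_lit 0) (BT.dif (nat_lit 2) (nat_lit 1) (BT.frm (nat_lit 0) (nat_lit 0x211111b2a) (nat_lit 0x211111b2a) [nat_lit 1, nat_lit 0, nat_lit 2] (BT.pln (nat_lit 0) (nat_lit 3) (BT.and (nat_lit 7) (nat_lit 0) (BT.br (nat_lit 0) (nat_lit 83) [nat_lit 3] (BT.kid (nat_lit 83) (nat_lit 1) (BT.img (nat_lit 7) (nat_lit 6) (BT.img (nat_lit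 3) (nat_lit 7) (BT.one (nat_lit 1) (nat_lit 0x3d0211111b2a) (nat_lit 0x3d0211111b2a) [nat_lit 2, nat_lit 1, nat_lit 0, nat_lit 7, nat_lit 6, nat_lit 8]))) BT.nil))))))) BT.nil))))))

theorem CZ_cnt : Cnt 100 (grp 100 EvJ2.EG) CZX CZX 0 0 0 0 4 :=
  BT.sound CZ_cnt_P Known.nil (t := CZ_cnt_t) (d := 0) (by decide +kernel)

theorem CZ_ge : 4 ≤ Nat.card (grp 100 CZ) :=
  Ch.le_card_grp (k := 7) (L := (lab 100 7)) f_hn CZ_ok (c := (Ch.cons (nat_lit 5) [nat_lit 1] (Ch.cons (nat_lit 83) [nat_lit 3] Ch.nil))) (by decide +kernel)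

theorem CZ_eq : (grp 100 EvJ2.EG) ⊓ Subgroup.centralizer (grp 100 CZX : Set (Equiv.Perm (Fin 100))) = grp 100 CZ :=
  cent_grp_eq CZ_sym CZ_cnt CZ_ge

theorem CZ_card : Nat.card (grp 100 CZ) = 4 :=
  (CZ_sym.mem_iff CZ_cnt CZ_ge).1

theorem CZ_H : grp 100 CZ ≤ grp 100 CZH :=
  grp_le_of_memB f_hn f_hk CZH_ok CZ_ok (ws := [nat_lit 3, nat_lit 1]) (by decide +kernel)

theorem xu_G : Net.toPerm 100 f_g47 ∈ (grp 100 H47.J2P.h_E0) :=
  (le_refl (grp 100 H47.J2P.h_E0)) (mem_grp_of_memB f_hn f_hk H47.J2P.h_E0_ok f_g47_ok (w := (nat_lit 0x181a0f020214)) (by decide +kernel))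

theorem x_N : Net.toPerm 100 f_g48 ∈ (grp 100 EvJ2.EG) :=
  T_s0.le (mem_grp_of_memB f_hn f_hk EvJ2.lb_E_ok f_g48_ok (w := (nat_lit 0x332d272329251f232001)) (by decide +kernel))

theorem x_G : (Net.toPerm 100 f_g48) ∉ (grp 100 H47.J2P.h_E0) :=
  H55.Ej.nmem_of (EvG.mul_net f_hn f_hk (by decide +kernel)) xu_G EvJ2.u_G

theorem Ce_dvd : Nat.card ↥((grp 100 H47.J2P.h_E0) ⊓ Subgroup.centralizer {(Net.toPerm 100 H46.J2M.k_g1)}) ∣ 240 :=
  EvG.two_mul_dvd' EvJ2.amb x_N (EvG.comm_net f_hn f_hk (by decide +kernel)) (EvG.sq_net f_hn f_hk (by decide +kernel)) x_G Ce_card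

theorem f_le51 : grp 100 f_V50 ≤ grp 100 EL :=
  grp_le_of_memB f_hn f_hk EL_ok f_V50_ok (ws := [nat_lit 771]) (by decide +kernel)

theorem f_le55 : grp 100 f_V54 ≤ grp 100 EL :=
  grp_le_of_memB f_hn f_hk EL_ok f_V54_ok (ws := [nat_lit 0x30203030303, nat_lit 0x2040203020303]) (by decide +kernel)

theorem f_le58 : grp 100 f_V57 ≤ grp 100 f_V54 :=
  grp_le_of_memB f_hn f_hk f_V54_ok f_V57_ok (ws := [nat_lit 4]) (by decide +kernel)

theorem f_le60 : grp 100 f_V59 ≤ grp 100 f_V54 :=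
  grp_le_of_memB f_hn f_hk f_V54_ok f_V59_ok (ws := [nat_lit 0x2040204040204, nat_lit 196867]) (by decide +kernel)

theorem f_le62 : grp 100 f_V61 ≤ grp 100 f_V59 :=
  grp_le_of_memB f_hn f_hk f_V59_ok f_V61_ok (ws := [nat_lit 1]) (by decide +kernel)

theorem Lo_card3 : Nat.card (grp 100 Lo_E3) = 1 :=
  card_grp_nil 100

theorem Lo_leO3 : grp 100 Lo_E3 ≤ grp 100 EL :=
  grp_nil_le _

theorem Lo_2_fix : grp 100 Lo_E3 ≤ MulAction.stabilizer (Equiv.Perm (Fin 100)) (⟨18, by decide⟩ : Fin 100) :=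
  grp_le_stab Lo_E3_ok (by decide : 18 < 100) (by decide +kernel)

noncomputable def Lo_2_ts : List ℕ := [nat_lit 0, nat_lit 1]

noncomputable def Lo_2_ds : List ℕ := [nat_lit 18, nat_lit 99]

theorem Lo_2_dist : Dist 100 Lo_E3 Lo_G2 (⟨18, by decide⟩ : Fin 100) Lo_2_ts Lo_2_ds :=
  dist_of_distB (k := 1) f_hn Lo_E3_ok Lo_G2_ok (by decide : 18 < 100) (by decide +kernel)

noncomputable def Lo_2_sl0 : SL := (SL.cons (nat_lit 1) (nat_lit 99) Ch.nil [] SL.nil)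

theorem Lo_2_sc0 : SCs 100 Lo_E3 Lo_G2 (⟨18, by decide⟩ : Fin 100) (SL.words Lo_2_sl0) :=
  scs_of_ok f_hn (det_lab f_hk ⊤) Lo_E3_ok Lo_G2_ok le_top le_top (by decide : 18 < 100) Lo_2_fix Lo_card3.le (by decide +kernel)

noncomputable def Lo_2_l : List ℕ := (appL (SL.words Lo_2_sl0) [])

theorem Lo_2_scs : SCs 100 Lo_E3 Lo_G2 (⟨18, by decide⟩ : Fin 100) Lo_2_l :=
  (SCs.append Lo_2_sc0 SCs.nil)

noncomputable def Lo_2_rl0_0 : RL := (RL.cons (nat_lit 0) (nat_lit 18) (nat_lit 0) (nat_lit 0) (nat_lit 1) (nat_lit 0) (RL.cons (nat_lit 1) (nat_lit 99) (nat_lit 0) (nat_lit 0) (nat_lit 0) (nat_lit 0) RL.nil))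

theorem Lo_2_good0_0 : GoodSet 100 Lo_E3 Lo_G2 (⟨18, by decide⟩ : Fin 100) Lo_2_ts (nat_lit 1) (RL.pts Lo_2_rl0_0) :=
  goodSet_of_ok f_hn (det_lab f_hk ⊤) Lo_E3_ok Lo_G2_ok le_top le_top (by decide : 18 < 100) (sepAt_lab f_hk _) (by decide +kernel)

theorem Lo_2_step0 : Step 100 Lo_E3 Lo_G2 Lo_2_ts (2 * 0 + 1) :=
  step_of_cover Lo_E3_ok Lo_2_dist (by decide +kernel) Lo_2_scs (by decide +kernel) Lo_2_good0_0 (kw := [])
    (conj_mem_of_scs Lo_E3_ok Lo_G2_ok (by decide : 18 < 100) Lo_2_scs (c := 0) (d := 99) (by decide +kernel)) (by decide +kernel)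

theorem Lo_2_lev : grp 100 Lo_G2 ⊓ MulAction.stabilizer (Equiv.Perm (Fin 100)) (⟨18, by decide⟩ : Fin 100) = grp 100 Lo_E3 :=
  sims_level (gs := f_V61) rfl (by decide) Lo_2_fix Lo_2_dist (forall_lt_one Lo_2_step0)

theorem Lo_2_cardG : Nat.card (grp 100 Lo_G2) = 2 :=
  card_of_level f_hn Lo_G2_ok (by decide : 18 < 100) Lo_2_lev Lo_card3 (m := 2) (by decide +kernel)

theorem f_le63 : grp 100 Lo_E2 ≤ grp 100 Lo_G2 :=
  grp_le_of_memB f_hn f_hk Lo_G2_ok Lo_E2_ok (ws := [nat_lit 1]) (by decide +kernel)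

theorem f_le64 : grp 100 Lo_G2 ≤ grp 100 Lo_E2 :=
  grp_le_of_memB f_hn f_hk Lo_E2_ok Lo_G2_ok (ws := [nat_lit 1]) (by decide +kernel)

theorem Lo_2_eq : grp 100 Lo_E2 = grp 100 Lo_G2 :=
  le_antisymm f_le63 f_le64

theorem Lo_card2 : Nat.card (grp 100 Lo_E2) = 2 :=
  by rw [Lo_2_eq]; exact Lo_2_cardG

theorem Lo_stab2 : grp 100 Lo_E2 ⊓ MulAction.stabilizer (Equiv.Perm (Fin 100)) (⟨18, by decide⟩ : Fin 100) = grp 100 Lo_E3 :=
  by rw [Lo_2_eq]; exact Lo_2_lev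

theorem Lo_leO2 : grp 100 Lo_E2 ≤ grp 100 EL :=
  Lo_2_eq.le.trans (grp_cons_le ((f_le60.trans (f_le55.trans (le_refl (grp 100 EL)))) (f_le62 (toPerm_mem_grp (E := f_V61) (by simp [f_V61])))) Lo_leO3)

theorem Lo_1_fix : grp 100 Lo_E2 ≤ MulAction.stabilizer (Equiv.Perm (Fin 100)) (⟨31, by decide⟩ : Fin 100) :=
  grp_le_stab Lo_E2_ok (by decide : 31 < 100) (by decide +kernel)

noncomputable def Lo_1_ts : List ℕ := [nat_lit 0, nat_lit 1]

noncomputable def Lo_1_ds : List ℕ := [nat_lit 31, nat_lit 18]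

theorem Lo_1_dist : Dist 100 Lo_E2 Lo_G1 (⟨31, by decide⟩ : Fin 100) Lo_1_ts Lo_1_ds :=
  dist_of_distB (k := 1) f_hn Lo_E2_ok Lo_G1_ok (by decide : 31 < 100) (by decide +kernel)

noncomputable def Lo_1_sl0 : SL := (SL.cons (nat_lit 1) (nat_lit 18) Ch.nil [] SL.nil)

theorem Lo_1_sc0 : SCs 100 Lo_E2 Lo_G1 (⟨31, by decide⟩ : Fin 100) (SL.words Lo_1_sl0) :=
  scs_of_ok f_hn (det_lab f_hk ⊤) Lo_E2_ok Lo_G1_ok le_top le_top (by decide : 31 < 100) Lo_1_fix Lo_card2.le (by decide +kernel)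

noncomputable def Lo_1_l : List ℕ := (appL (SL.words Lo_1_sl0) [])

theorem Lo_1_scs : SCs 100 Lo_E2 Lo_G1 (⟨31, by decide⟩ : Fin 100) Lo_1_l :=
  (SCs.append Lo_1_sc0 SCs.nil)

noncomputable def Lo_1_rl0_0 : RL := (RL.cons (nat_lit 0) (nat_lit 31) (nat_lit 0) (nat_lit 1) (nat_lit 1) (nat_lit 1) (RL.cons (nat_lit 1) (nat_lit 18) (nat_lit 0) (nat_lit 0) (nat_lit 0) (nat_lit 0) (RL.cons (nat_lit 1) (nat_lit 99) (nat_lit 1) (nat_lit 0) (nat_lit 1) (nat_lit 1) RL.nil)))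

theorem Lo_1_good0_0 : GoodSet 100 Lo_E2 Lo_G1 (⟨31, by decide⟩ : Fin 100) Lo_1_ts (nat_lit 1) (RL.pts Lo_1_rl0_0) :=
  goodSet_of_ok f_hn (det_lab f_hk ⊤) Lo_E2_ok Lo_G1_ok le_top le_top (by decide : 31 < 100) (sepAt_lab f_hk _) (by decide +kernel)

theorem Lo_1_step0 : Step 100 Lo_E2 Lo_G1 Lo_1_ts (2 * 0 + 1) :=
  step_of_cover Lo_E2_ok Lo_1_dist (by decide +kernel) Lo_1_scs (by decide +kernel) Lo_1_good0_0 (kw := [])
    (conj_mem_of_scs Lo_E2_ok Lo_G1_ok (by decide : 31 < 100) Lo_1_scs (c := 0) (d := 18) (by decide +kernel)) (by decide +kernel)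

theorem Lo_1_lev : grp 100 Lo_G1 ⊓ MulAction.stabilizer (Equiv.Perm (Fin 100)) (⟨31, by decide⟩ : Fin 100) = grp 100 Lo_E2 :=
  sims_level (gs := f_V57) rfl (by decide) Lo_1_fix Lo_1_dist (forall_lt_one Lo_1_step0)

theorem Lo_1_cardG : Nat.card (grp 100 Lo_G1) = 6 :=
  card_of_level f_hn Lo_G1_ok (by decide : 31 < 100) Lo_1_lev Lo_card2 (m := 3) (by decide +kernel)

theorem f_le65 : grp 100 Lo_E1 ≤ grp 100 Lo_G1 :=
  grp_le_of_memB f_hn f_hk Lo_G1_ok Lo_E1_ok (ws := [nat_lit 1, nat_lit 2, nat_lit 3]) (by decide +kernel)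

theorem f_le66 : grp 100 Lo_G1 ≤ grp 100 Lo_E1 :=
  grp_le_of_memB f_hn f_hk Lo_E1_ok Lo_G1_ok (ws := [nat_lit 1, nat_lit 5]) (by decide +kernel)

theorem Lo_1_eq : grp 100 Lo_E1 = grp 100 Lo_G1 :=
  le_antisymm f_le65 f_le66

theorem Lo_card1 : Nat.card (grp 100 Lo_E1) = 6 :=
  by rw [Lo_1_eq]; exact Lo_1_cardG

theorem Lo_stab1 : grp 100 Lo_E1 ⊓ MulAction.stabilizer (Equiv.Perm (Fin 100)) (⟨31, by decide⟩ : Fin 100) = grp 100 Lo_E2 :=
  by rw [Lo_1_eq]; exact Lo_1_lev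

theorem Lo_leO1 : grp 100 Lo_E1 ≤ grp 100 EL :=
  Lo_1_eq.le.trans (grp_cons_le ((f_le55.trans (le_refl (grp 100 EL))) (f_le58 (toPerm_mem_grp (E := f_V57) (by simp [f_V57])))) Lo_leO2)

theorem Lo_0_fix : grp 100 Lo_E1 ≤ MulAction.stabilizer (Equiv.Perm (Fin 100)) (⟨3, by decide⟩ : Fin 100) :=
  grp_le_stab Lo_E1_ok (by decide : 3 < 100) (by decide +kernel)

noncomputable def Lo_0_ts : List ℕ := [nat_lit 0, nat_lit 1, nat_lit 257]

noncomputable def Lo_0_ds : List ℕ := [nat_lit 3, nat_lit 31, nat_lit 56]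

theorem Lo_0_dist : Dist 100 Lo_E1 Lo_G0 (⟨3, by decide⟩ : Fin 100) Lo_0_ts Lo_0_ds :=
  dist_of_distB (k := 2) f_hn Lo_E1_ok Lo_G0_ok (by decide : 3 < 100) (by decide +kernel)

noncomputable def Lo_0_sl0 : SL := (SL.cons (nat_lit 1) (nat_lit 31) (Ch.cons (nat_lit 18) [nat_lit 5] Ch.nil) [nat_lit 1282] (SL.cons (nat_lit 257) (nat_lit 56) Ch.nil [] SL.nil))

theorem Lo_0_sc0 : SCs 100 Lo_E1 Lo_G0 (⟨3, by decide⟩ : Fin 100) (SL.words Lo_0_sl0) :=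
  scs_of_ok f_hn (det_lab f_hk ⊤) Lo_E1_ok Lo_G0_ok le_top le_top (by decide : 3 < 100) Lo_0_fix Lo_card1.le (by decide +kernel)

noncomputable def Lo_0_l : List ℕ := (appL (SL.words Lo_0_sl0) [])

theorem Lo_0_scs : SCs 100 Lo_E1 Lo_G0 (⟨3, by decide⟩ : Fin 100) Lo_0_l :=
  (SCs.append Lo_0_sc0 SCs.nil)

noncomputable def Lo_0_rl0_0 : RL := (RL.cons (nat_lit 0) (nat_lit 3) (nat_lit 0) (nat_lit 1) (nat_lit 1) (nat_lit 1) (RL.cons (nat_lit 1) (nat_lit 31) (nat_lit 0) (nat_lit 0) (nat_lit 0) (nat_lit 0) (RL.cons (nat_lit 1) (nat_lit 18) (nat_lit 1) (nat_lit 517) (nat_lit 2) (nat_lit 1282) (RL.cons (nat_lit 2) (nat_lit 56) (nat_lit 0) (nat_lit 0) (nat_lit 1) (nat_lit 0) (RL.cons (nat_lit 2) (nat_lit 72) (nat_lit 1) (nat_lit 2) (nat_lit 2) (nat_lit 5) (RL.cons (nat_lit 2) (nat_lit 47) (nat_lit 2) (nat_lit 261) (nat_lit 2) (nat_lit 1281) RL.nil))))))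

theorem Lo_0_good0_0 : GoodSet 100 Lo_E1 Lo_G0 (⟨3, by decide⟩ : Fin 100) Lo_0_ts (nat_lit 1) (RL.pts Lo_0_rl0_0) :=
  goodSet_of_ok f_hn (det_lab f_hk ⊤) Lo_E1_ok Lo_G0_ok le_top le_top (by decide : 3 < 100) (sepAt_lab f_hk _) (by decide +kernel)

theorem Lo_0_step0 : Step 100 Lo_E1 Lo_G0 Lo_0_ts (2 * 0 + 1) :=
  step_of_cover Lo_E1_ok Lo_0_dist (by decide +kernel) Lo_0_scs (by decide +kernel) Lo_0_good0_0 (kw := [nat_lit 5])
    (conj_mem_of_scs Lo_E1_ok Lo_G0_ok (by decide : 3 < 100) Lo_0_scs (c := 0) (d := 31) (by decide +kernel)) (by decide +kernel)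

theorem Lo_0_lev : grp 100 Lo_G0 ⊓ MulAction.stabilizer (Equiv.Perm (Fin 100)) (⟨3, by decide⟩ : Fin 100) = grp 100 Lo_E1 :=
  sims_level (gs := f_V50) rfl (by decide) Lo_0_fix Lo_0_dist (forall_lt_one Lo_0_step0)

theorem Lo_0_cardG : Nat.card (grp 100 Lo_G0) = 60 :=
  card_of_level f_hn Lo_G0_ok (by decide : 3 < 100) Lo_0_lev Lo_card1 (m := 10) (by decide +kernel)

theorem f_le67 : grp 100 Lo_E0 ≤ grp 100 Lo_G0 :=
  grp_le_of_memB f_hn f_hk Lo_G0_ok Lo_E0_ok (ws := [nat_lit 1, nat_lit 0x704010103, nat_lit 514, nat_lit 3, nat_lit 5, nat_lit 7]) (by decide +kernel)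

theorem f_le68 : grp 100 Lo_G0 ≤ grp 100 Lo_E0 :=
  grp_le_of_memB f_hn f_hk Lo_E0_ok Lo_G0_ok (ws := [nat_lit 1, nat_lit 7, nat_lit 9, nat_lit 11]) (by decide +kernel)

theorem Lo_0_eq : grp 100 Lo_E0 = grp 100 Lo_G0 :=
  le_antisymm f_le67 f_le68

theorem Lo_card0 : Nat.card (grp 100 Lo_E0) = 60 :=
  by rw [Lo_0_eq]; exact Lo_0_cardG

theorem Lo_stab0 : grp 100 Lo_E0 ⊓ MulAction.stabilizer (Equiv.Perm (Fin 100)) (⟨3, by decide⟩ : Fin 100) = grp 100 Lo_E1 :=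
  by rw [Lo_0_eq]; exact Lo_0_lev

theorem Lo_leO0 : grp 100 Lo_E0 ≤ grp 100 EL :=
  Lo_0_eq.le.trans (grp_cons_le ((le_refl (grp 100 EL)) (f_le51 (toPerm_mem_grp (E := f_V50) (by simp [f_V50])))) Lo_leO1)

theorem f_le69 : grp 100 EL ≤ grp 100 Lo_E0 :=
  grp_le_of_memB f_hn f_hk Lo_E0_ok EL_ok (ws := [nat_lit 3, nat_lit 5]) (by decide +kernel)

theorem Lo_eq : grp 100 EL = grp 100 Lo_E0 :=
  le_antisymm f_le69 Lo_leO0

theorem Lo_card : Nat.card (grp 100 EL) = 60 :=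
  by rw [Lo_eq]; exact Lo_card0

noncomputable def Lo_ch : Ch := (Ch.cons (nat_lit 3) [nat_lit 1, nat_lit 3, nat_lit 5] (Ch.cons (nat_lit 31) [nat_lit 7, nat_lit 9] (Ch.cons (nat_lit 18) [nat_lit 11] Ch.nil)))

theorem Lo_exact : Ch.Exact 100 Lo_E0 Lo_ch (grp 100 Lo_E0) :=
  Ch.exact (k := 7) (L := (lab 100 7)) f_hn Lo_E0_ok (by decide +kernel) (wgrp_le_grp _ _ _) Lo_card0.le

theorem a_le6 : grp 5 a_V5 ≤ grp 5 A5_E :=
  grp_le_of_memB a_hn a_hk A5_E_ok a_V5_ok (ws := [nat_lit 0x301040404040404, nat_lit 0x401030104]) (by decide +kernel)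

theorem a_le10 : grp 5 a_V9 ≤ grp 5 a_V5 :=
  grp_le_of_memB a_hn a_hk a_V5_ok a_V9_ok (ws := [nat_lit 0x1010401, nat_lit 259]) (by decide +kernel)

theorem A5_lb_le : grp 5 A5_lb_E ≤ grp 5 A5_E :=
  (grp_cons_le ((le_refl (grp 5 A5_E)) (toPerm_mem_grp (E := A5_E) (by simp [A5_E]))) (grp_cons_le ((le_refl (grp 5 A5_E)) (toPerm_mem_grp (E := A5_E) (by simp [A5_E]))) (grp_cons_le ((a_le6.trans (le_refl (grp 5 A5_E))) (toPerm_mem_grp (E := a_V5) (by simp [a_V5]))) (grp_cons_le ((a_le6.trans (le_refl (grp 5 A5_E))) (toPerm_mem_grp (E := a_V5) (by simp [a_V5]))) (grp_cons_le ((a_le10.trans (a_le6.trans (le_refl (grp 5 A5_E)))) (toPerm_mem_grp (E := a_V9) (by simp [a_V9]))) (grp_cons_le ((a_le10.trans (a_le6.trans (le_refl (grp 5 A5_E)))) (toPerm_mem_grp (E := a_V9) (by simp [a_V9]))) (grp_nil_le _)))))))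

noncomputable def A5_lb_ch : Ch := (Ch.cons (nat_lit 0) [nat_lit 1, nat_lit 3] (Ch.cons (nat_lit 1) [nat_lit 5, nat_lit 7] (Ch.cons (nat_lit 2) [nat_lit 9, nat_lit 11] Ch.nil)))

theorem A5_lb_chk : Ch.chk 5 3 (lab 5 3) A5_lb_E A5_lb_ch 60 = true :=
  by decide +kernel

theorem A5_lb_ge : 60 ≤ Nat.card (grp 5 A5_E) :=
  (Ch.le_card_grp a_hn A5_lb_E_ok A5_lb_chk).trans (Subgroup.card_le_of_le A5_lb_le)

noncomputable def A5_M : List ℕ := [(nat_lit 0), (nat_lit 0), (nat_lit 16), (nat_lit 0), (nat_lit 0), (nat_lit 0), (nat_lit 0), (nat_lit 0), (nat_lit 0), (nat_lit 0), (nat_lit 0), (nat_lit 0), (nat_lit 0), (nat_lit 0), (nat_lit 8), (nat_lit 0), (nat_lit 0), (nat_lit 0), (nat_lit 0), (nat_lit 0), (nat_lit 0), (nat_lit 0), (nat_lit 0), (nat_lit 0), (nat_lit 0), (nat_lit 0), (nat_lit 4), (nat_lit 0), (nat_lit 0), (nat_lit 4), (nat_lit 0), (nat_lit 0), (nat_lit 0), (nat_lit 0), (nat_lit 0),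 (nat_lit 0), (nat_lit 16), (nat_lit 0), (nat_lit 0), (nat_lit 0), (nat_lit 0), (nat_lit 0), (nat_lit 16), (nat_lit 0), (nat_lit 0), (nat_lit 0), (nat_lit 0), (nat_lit 0), (nat_lit 0), (nat_lit 2), (nat_lit 0), (nat_lit 0), (nat_lit 0), (nat_lit 0), (nat_lit 0), (nat_lit 4), (nat_lit 0), (nat_lit 2), (nat_lit 0), (nat_lit 0), (nat_lit 0), (nat_lit 1), (nat_lit 1), (nat_lit 0), (nat_lit 0), (nat_lit 0), (nat_lit 0), (nat_lit 0), (nat_lit 0), (nat_lit 0), (nat_lit 0), (nat_lit 0), (nat_lit 0), (nat_lit 0), (nat_lit 1), (nat_lit 0), (nat_lit 0), (nat_lit 0), (nat_lit 0), (nat_lit 0), (nat_lit 0), (nat_lit 0), (nat_lit 0), (nat_lit 0), (nat_lit 0), (nat_lit 0), (nat_lit 8), (nat_lit 0), (nat_lit 0), (nat_lit 2), (nat_lit 0), (nat_lit 0), (nat_lit 8), (nat_lit 0), (nat_lit 0), (nat_lit 0), (nat_lit 0), (nat_lit 0), (nat_lit 0), (nat_lit 0)]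

theorem A5_inj : Function.Injective (cols 100 5 (nthN A5_M)) :=
  cols_injective (by decide +kernel)

theorem A5_acts : List.Forall₂ (fun o o' => Acts (cols 100 5 (nthN A5_M)) (Net.toPerm 100 o) (Net.toPerm 5 o')) EL A5_E :=
  (List.Forall₂.cons (inc_of_incB EvJ2.p_g18_ok a_g1_ok (allN_iff.1 (by decide +kernel))).acts_cols (List.Forall₂.cons (inc_of_incB H46.J2M.k_g7_ok a_g2_ok (allN_iff.1 (by decide +kernel))).acts_cols List.Forall₂.nil))

theorem A5 : Nonempty (grp 100 EL ≃* alternatingGroup (Fin 5)) :=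
  by
  obtain ⟨ρ, -, h⟩ := exists_hom_grp A5_inj A5_acts
  exact EvG.equiv_alt (by norm_num) ρ (by rw [Lo_card]; decide) (by rw [h, Lo_card]; exact A5_lb_ge)

theorem sig_L : (Net.toPerm 100 H46.J2M.k_g3) ∈ grp 100 EL :=
  mem_grp_of_memB f_hn f_hk EL_ok H46.J2M.k_g3_ok (w := (nat_lit 0x3010404)) (by decide +kernel)

theorem y_L : (Net.toPerm 100 EvJ2.p_g190) ∈ grp 100 EL :=
  mem_grp_of_memB f_hn f_hk EL_ok EvJ2.p_g190_ok (w := (nat_lit 0x303010404010303)) (by decide +kernel)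

theorem sig_ord : orderOf (Net.toPerm 100 H46.J2M.k_g3) = 3 :=
  orderOf_net f_hn f_hk H46.J2M.k_g3_ok (by decide) (ps := [3]) (by set_option linter.unusedSimpArgs false in simp [Nat.primeFactorsList_ofNat]) (by decide +kernel)

theorem tau_ord : orderOf (Net.toPerm 100 H46.J2M.k_g2) = 3 :=
  orderOf_net f_hn f_hk H46.J2M.k_g2_ok (by decide) (ps := [3]) (by set_option linter.unusedSimpArgs false in simp [Nat.primeFactorsList_ofNat]) (by decide +kernel)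

end Cfsg.Agent.H68.J2Jf
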