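import Cfsg.Agent.H68.HRD2

set_option autoImplicit false
set_option maxRecDepth 1000000
set_option linter.all false
set_option Elab.async false

namespace Cfsg.Agent.H68.HN

open Cfsg.Agent.H68.DCE

theorem mS_eX0 : eX0 ∈ cl gS :=
  mem_cl_of [6106772, 37393968] (by decide +kernel)

noncomputable def p_k2WT : BT :=
 (BT.node (nat_lit 22) (BT.node (nat_lit 11) (BT.node (nat_lit 5) (BT.node (nat_lit 2) (BT.node (nat_lit 1) (BT.leaf (nat_lit 0))
 (BT.leaf (nat_lit 0x16090b070000000000000205140c000000000000000000000000000000000000000000000000000000000000000000000000000000000000000000000000000000000000000000000000000000000000000000000000000000000000000000000000000000000000000000000000000000000000000000000000000000000000000000000000)))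
 (BT.node (nat_lit 3) (BT.leaf (nat_lit 0x8160a080000000000009013695b0000000000000000000000000000000000000000))
 (BT.node (nat_lit 4) (BT.leaf (nat_lit 0))
 (BT.leaf (nat_lit 0x9c0f515a000000000000001194740000000000003f63741e000000000000410f585700000000000000000000000000000000000000000000000000000000000000000000000000000000000000000000000000000000000000)))))
 (BT.node (nat_lit 8) (BT.node (nat_lit 6) (BT.leaf (nat_lit 0))
 (BT.node (nat_lit 7) (BT.leaf (nat_lit 0))
 (BT.leaf (nat_lit 0))))
 (BT.node (nat_lit 9) (BT.leaf (nat_lit 0))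
 (BT.node (nat_lit 10) (BT.leaf (nat_lit 0))
 (BT.leaf (nat_lit 0))))))
 (BT.node (nat_lit 16) (BT.node (nat_lit 13) (BT.node (nat_lit 12) (BT.leaf (nat_lit 0))
 (BT.leaf (nat_lit 0)))
 (BT.node (nat_lit 14) (BT.leaf (nat_lit 0))
 (BT.node (nat_lit 15) (BT.leaf (nat_lit 0))
 (BT.leaf (nat_lit 0)))))
 (BT.node (nat_lit 19) (BT.node (nat_lit 17) (BT.leaf (nat_lit 0))
 (BT.node (nat_lit 18) (BT.leaf (nat_lit 0))
 (BT.leaf (nat_lit 0))))
 (BT.node (nat_lit 20) (BT.leaf (nat_lit 0))
 (BT.node (nat_lit 21) (BT.leaf (nat_lit 0))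
 (BT.leaf (nat_lit 0)))))))
 (BT.node (nat_lit 33) (BT.node (nat_lit 27) (BT.node (nat_lit 24) (BT.node (nat_lit 23) (BT.leaf (nat_lit 0))
 (BT.leaf (nat_lit 0)))
 (BT.node (nat_lit 25) (BT.leaf (nat_lit 0))
 (BT.node (nat_lit 26) (BT.leaf (nat_lit 0))
 (BT.leaf (nat_lit 0)))))
 (BT.node (nat_lit 30) (BT.node (nat_lit 28) (BT.leaf (nat_lit 0x5b0c18000000000000000000000000000000005b0c1803000000000000000000000000000000000000000000000000000000000000000000000000000000000000000000000000000000000000000000000000000000000000000000000000000000000000000000000000000000000000000000000000000000000000000000))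
 (BT.node (nat_lit 29) (BT.leaf (nat_lit 0))
 (BT.leaf (nat_lit 0))))
 (BT.node (nat_lit 31) (BT.leaf (nat_lit 0))
 (BT.node (nat_lit 32) (BT.leaf (nat_lit 0))
 (BT.leaf (nat_lit 0))))))
 (BT.node (nat_lit 39) (BT.node (nat_lit 36) (BT.node (nat_lit 34) (BT.leaf (nat_lit 0x308745790000000000005e3d6d050000000000000000000000000000000000000000000000000000000000000000000000000000000000000000000000000000000000000000000000000000000000000000000000000000000000000000000000000000000000000000000000000000000000000000000000000000000000000000000000000000000000000000000000000000000000000000))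
 (BT.node (nat_lit 35) (BT.leaf (nat_lit 0))
 (BT.leaf (nat_lit 0))))
 (BT.node (nat_lit 37) (BT.leaf (nat_lit 0))
 (BT.node (nat_lit 38) (BT.leaf (nat_lit 0))
 (BT.leaf (nat_lit 0)))))
 (BT.node (nat_lit 42) (BT.node (nat_lit 40) (BT.leaf (nat_lit 0x4845111c0000000000008d7c572a00000000000000000000000000000000000000000000000000000000000000000000000000000000000000000000000000000000000000000000000000000000000000000000000000000000000000000000000000000000000000000000000000000000000000000000000000000000000000))
 (BT.node (nat_lit 41) (BT.leaf (nat_lit 0x9131305003e9c2d59001301380800000000000000000000000000000000000000000000000000000000000000000000000000000000000000000000000000000000000000000000000000000000000000000000000000000000000000000000000000000000000000000000000000000000000000000000000000000000000000000000000000000000000000000000000000000000000000000000000000))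
 (BT.leaf (nat_lit 0))))
 (BT.node (nat_lit 43) (BT.leaf (nat_lit 0))
 (BT.node (nat_lit 44) (BT.leaf (nat_lit 0x671509270000000000007e91910a00000000000000000000000000000000000000000000000000000000000000000000000000000000000000000000000000000000000000000000000000000000000000000000000000000000000000000000000000000000000000000000000000000000))
 (BT.leaf (nat_lit 0))))))))

noncomputable def p_k2W : ℕ → ℕ := look p_k2WT (nat_lit 5) (nat_lit 31) (nat_lit 40) (nat_lit 0xffffffffff)

theorem p_k2_chk : AllOn (Fm.at (.imp (.eq [0, 0] []) (.or (.eq [0, 3] [3, 0]) (.and (.eq [255, 2522225159] [2522225159, 255]) (.eq [255, 0] [1346860183, 255])))) X0 (p_k2W)) 0 1440 := allOn_of_allR (m := 1440) (by decide +kernel) rfl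

theorem p_k2 {a : K} (ha : a ∈ Subgroup.centralizer {eR}) : ∃ b : K, (a * a = 1) → ((a * eZ = eZ * a) ∨ ((b * eR = eR * b) ∧ (b * a = eK2 * b))) := by
  obtain ⟨i, -, h⟩ := X0_en.pass (by decide +kernel) p_k2_chk ha
  exact ⟨_, h⟩

theorem p_4_chk : AllOn (Fm.at (.imp (.or (.eq [0, 3] [3, 0]) (.or (.eq [0, 3, 118098183] [3, 118098183, 0]) (.eq [0, 1346860183] [1346860183, 0]))) (.imp (.eq [0, 0, 0, 0] []) (.eq [0, 0] []))) X0 (fun _ => 0)) 0 1440 := allOn_of_allR (m := 1440) (by decide +kernel) rfl

theorem p_4 {a : K} (ha : a ∈ Subgroup.centralizer {eR}) : ((a * eZ = eZ * a) ∨ ((a * (eZ * eT) = eZ * (eT * a)) ∨ (a * eK2 = eK2 * a))) → ((a * (a * (a * a)) = 1) → (a * a = 1)) := by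
  obtain ⟨i, -, h⟩ := X0_en.pass (by decide +kernel) p_4_chk ha
  exact (val_zero ▸ h :)

def cE : Fin 16 → Fin 16 := ![0, 1, 2, 2, 4, 5, 6, 6, 4, 5, 6, 6, 4, 5, 6, 6]

def wC : List (List ℕ) := [[], [], [], [1346860183], [], [], [], [1346860183], [2056, 2056], [2056, 2056], [2056, 2056], [2056, 1346860183], [2056], [2056], [2056], [1346860183, 2056]]

theorem wC_chk : ∀ i : Fin 16, eqK (nthL wC i ++ [2522225159]) (2522225159 :: nthL wC i) = true ∧
    eqK (nthL wC i ++ nthL wE i) (nthL wE (cE i) ++ nthL wC i) = true := by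
  decide +kernel

def πW1 : Fin 16 → Fin 16 := ![0, 1, 2, 3, 8, 9, 10, 11, 12, 13, 14, 15, 4, 5, 6, 7]

theorem πW1_chk : ∀ i : Fin 16, eqK (2056 :: nthL wE i) (nthL wE (πW1 i) ++ [2056]) = true := by
  decide +kernel

def πK2 : Fin 16 → Fin 16 := ![0, 1, 3, 2, 4, 5, 7, 6, 12, 13, 15, 14, 8, 9, 11, 10]

theorem πK2_chk : ∀ i : Fin 16, eqK (1346860183 :: nthL wE i) (nthL wE (πK2 i) ++ [1346860183]) = true := by
  decide +kernel

theorem wE_r : ∀ i : Fin 16, eqK (2522225159 :: nthL wE i) (nthL wE i ++ [2522225159]) = true := by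
  decide +kernel

theorem wE_r1 : ∀ i : Fin 16, eqK (118033174 :: nthL wE i) (nthL wE i ++ [118033174]) = true := by
  decide +kernel

end Cfsg.Agent.H68.HN
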