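import Cfsg.Agent.H44.K5Defs

set_option autoImplicit false

namespace Cfsg.Agent.H68.K5Herm

open Matrix Cfsg.Agent.H44.K5

theorem ent {n : ℕ} (B W : Matrix (Fin (n + 1)) (Fin (n + 1)) ℤ) :
    (Wᵀ * B * W) 0 0 = (fun i => W i 0) ⬝ᵥ B *ᵥ (fun i => W i 0) := by
  rw [Matrix.mul_assoc]; rfl

theorem quad {n : ℕ} (B : Matrix (Fin (n + 1)) (Fin (n + 1)) ℤ) (hB : Bᵀ = B) (k : ℤ) (v : Fin n → ℤ) :
    B 0 0 * ((Fin.cons k v : Fin (n + 1) → ℤ) ⬝ᵥ B *ᵥ (Fin.cons k v : Fin (n + 1) → ℤ)) =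
      (B 0 0 * k + ∑ i, B 0 i.succ * v i) ^ 2 +
      v ⬝ᵥ (Matrix.of fun i j : Fin n => B 0 0 * B i.succ j.succ - B 0 i.succ * B 0 j.succ) *ᵥ v := by
  have s : ∀ i : Fin n, B i.succ 0 = B 0 i.succ := fun i => congrFun (congrFun hB 0) i.succ
  have e1 : v ⬝ᵥ (Matrix.of fun i j : Fin n => B 0 0 * B i.succ j.succ - B 0 i.succ * B 0 j.succ) *ᵥ v =
      B 0 0 * (∑ i, v i * ∑ j, B i.succ j.succ * v j) - (∑ i, B 0 i.succ * v i) ^ 2 := by
    rw [sq, Finset.sum_mul_sum]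
    simp only [dotProduct, mulVec, of_apply, Finset.mul_sum, ← Finset.sum_sub_distrib]
    exact Finset.sum_congr rfl fun i _ => Finset.sum_congr rfl fun j _ => by ring
  have e2 : ∑ i, v i * (B 0 i.succ * k + ∑ j, B i.succ j.succ * v j) =
      k * (∑ i, B 0 i.succ * v i) + ∑ i, v i * ∑ j, B i.succ j.succ * v j := by
    rw [Finset.mul_sum, ← Finset.sum_add_distrib]
    exact Finset.sum_congr rfl fun i _ => by ring
  rw [e1]
  simp only [dotProduct, mulVec, Fin.sum_univ_succ, Fin.cons_zero, Fin.cons_succ, s]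
  rw [e2]; ring

theorem herm : HermStmt := by
  intro n
  induction n with
  | zero => intro A _ _; exact ⟨1, by simp, by simp⟩
  | succ n ih =>
  intro A hA hp
  classical
  have col : ∀ W : Matrix (Fin (n + 2)) (Fin (n + 2)) ℤ, IsUnit W.det → (fun i => W i 0) ≠ 0 :=
    fun W hW h => hW.ne_zero (det_eq_zero_of_column_eq_zero 0 fun i => congrFun h i)
  have ex : ∃ a : ℕ, ∃ U : Matrix (Fin (n + 2)) (Fin (n + 2)) ℤ, IsUnit U.det ∧ (Uᵀ * A * U) 0 0 = a :=
    ⟨_, 1, by simp, (Int.toNat_of_nonneg (by rw [ent]; exact (hp _ (col 1 (by simp))).le)).symm⟩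
  obtain ⟨U, hU, ha⟩ := Nat.find_spec ex
  refine ⟨U, hU, ?_⟩
  set B := Uᵀ * A * U with hBdef
  have hB : Bᵀ = B := by rw [hBdef, transpose_mul, transpose_mul, transpose_transpose, hA, Matrix.mul_assoc]
  have dB : B.det = A.det := by
    rw [hBdef, det_mul, det_mul, det_transpose]
    rcases Int.isUnit_iff.1 hU with h | h <;> rw [h] <;> ring
  have pB : ∀ x, x ≠ 0 → 0 < x ⬝ᵥ B *ᵥ x := fun x hx => by
    have := hp (U *ᵥ x) fun h => hx (eq_zero_of_mulVec_eq_zero hU.ne_zero h)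
    rwa [hBdef, ← mulVec_mulVec, ← mulVec_mulVec, dotProduct_mulVec, vecMul_transpose]
  have a0 : 0 < B 0 0 := by rw [hBdef, ent]; exact hp _ (col U hU)
  have mn : ∀ W : Matrix (Fin (n + 2)) (Fin (n + 2)) ℤ, IsUnit W.det → B 0 0 ≤ (Wᵀ * B * W) 0 0 := by
    intro W hW
    have u : IsUnit (U * W).det := by rw [det_mul]; exact hU.mul hW
    have e : Wᵀ * B * W = (U * W)ᵀ * A * (U * W) := by
      rw [hBdef, transpose_mul]; simp only [Matrix.mul_assoc]
    have p0 : 0 ≤ ((U * W)ᵀ * A * (U * W)) 0 0 := by rw [ent]; exact (hp _ (col _ u)).le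
    have := Nat.find_min' ex ⟨U * W, u, (Int.toNat_of_nonneg p0).symm⟩
    rw [e, ha]; omega
  let S : Matrix (Fin (n + 1)) (Fin (n + 1)) ℤ :=
    Matrix.of fun i j => B 0 0 * B i.succ j.succ - B 0 i.succ * B 0 j.succ
  have sy : ∀ i j, B i j = B j i := fun i j => congrFun (congrFun hB j) i
  have hS : Sᵀ = S := by ext i j; simp only [S, transpose_apply, of_apply, sy j.succ i.succ]; ring
  have pS : ∀ x, x ≠ 0 → 0 < x ⬝ᵥ S *ᵥ x := fun x hx => by
    have q := quad B hB (-∑ i, B 0 i.succ * x i) (B 0 0 • x)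
    have p1 := pB (Fin.cons (-∑ i, B 0 i.succ * x i) (B 0 0 • x)) fun h => hx (funext fun i => by
      have := congrFun h i.succ
      simpa [a0.ne'] using this)
    have z : B 0 0 * (-∑ i, B 0 i.succ * x i) + ∑ i, B 0 i.succ * (B 0 0 • x) i = 0 := by
      rw [mul_neg, Finset.mul_sum, neg_add_eq_zero]
      exact Finset.sum_congr rfl fun i _ => by simp only [Pi.smul_apply, smul_eq_mul]; ring
    rw [z, mulVec_smul, dotProduct_smul, smul_dotProduct, smul_eq_mul, smul_eq_mul] at q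
    have := mul_pos a0 p1
    rw [q] at this
    by_contra hn
    have := mul_nonpos_of_nonneg_of_nonpos a0.le (mul_nonpos_of_nonneg_of_nonpos a0.le (not_lt.1 hn))
    nlinarith
  have dS : S.det = B 0 0 ^ n * B.det := by
    let L : Matrix (Fin (n + 2)) (Fin (n + 2)) ℤ := Matrix.of (Fin.cons (Fin.cons 1 0)
      fun i => Fin.cons (-B 0 i.succ) fun j => if i = j then B 0 0 else 0)
    have dL : L.det = B 0 0 ^ (n + 1) := by
      rw [det_succ_row_zero, Fin.sum_univ_succ]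
      have : L.submatrix Fin.succ (Fin.succAbove 0) = diagonal fun _ => B 0 0 := by
        ext i j; simp [L, diagonal_apply]
      rw [this]; simp [L]
    have r : ∀ i j, (L * B) (Fin.succ i) j = B 0 0 * B i.succ j - B 0 i.succ * B 0 j := fun i j => by
      rw [mul_apply, Fin.sum_univ_succ]; simp [L]; ring
    have d2 : (L * B).det = B 0 0 * S.det := by
      rw [det_succ_column_zero, Fin.sum_univ_succ]
      have : (L * B).submatrix (Fin.succAbove 0) Fin.succ = S := by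
        ext i j; simp only [submatrix_apply, Fin.succAbove_zero, r, S, of_apply]
      have h0 : (L * B) 0 0 = B 0 0 := by rw [mul_apply, Fin.sum_univ_succ]; simp [L]
      rw [this, h0, Finset.sum_eq_zero fun i _ => by rw [r, sy i.succ 0]; ring]
      simp
    apply mul_left_cancel₀ a0.ne'
    rw [← d2, det_mul, dL]; ring
  obtain ⟨V, hV, hs⟩ := ih S hS pS
  set β := ∑ i, B 0 (Fin.succ i) * V i 0 with hβ
  obtain ⟨k, hk⟩ : ∃ k : ℤ, 4 * (B 0 0 * k + β) ^ 2 ≤ B 0 0 ^ 2 := by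
    refine ⟨-((2 * β + B 0 0) / (2 * B 0 0)), ?_⟩
    have h1 := Int.emod_nonneg (2 * β + B 0 0) (by omega : 2 * B 0 0 ≠ 0)
    have h2 := Int.emod_lt_of_pos (2 * β + B 0 0) (by omega : 0 < 2 * B 0 0)
    have h3 := Int.mul_ediv_add_emod (2 * β + B 0 0) (2 * B 0 0)
    nlinarith
  let W' : Matrix (Fin (n + 2)) (Fin (n + 2)) ℤ := Matrix.of (Fin.cons (Fin.cons 1 fun _ => k)
    fun i => Fin.cons 0 (V i))
  have dW : W'.det = V.det := by
    rw [det_succ_column_zero, Fin.sum_univ_succ]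
    have : W'.submatrix (Fin.succAbove 0) Fin.succ = V := by ext i j; simp [W']
    rw [this]; simp [W']
  have uW : IsUnit (W'.submatrix id (Equiv.swap 0 (Fin.succ 0))).det := by
    rw [det_permute', dW]; exact (Units.isUnit _).mul hV
  have m := mn _ uW
  have c : (fun i => W'.submatrix id (Equiv.swap 0 (Fin.succ 0)) i 0) =
      (Fin.cons k fun i => V i 0 : Fin (n + 2) → ℤ) := by
    funext i
    rw [submatrix_apply, Equiv.swap_apply_left]
    refine Fin.cases ?_ (fun i => ?_) i <;> rfl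
  rw [ent, c] at m
  have q := quad B hB k fun i => V i 0
  rw [ent] at hs
  change _ = _ + _ ⬝ᵥ S *ᵥ _ at q
  set s := (fun i => V i 0) ⬝ᵥ S *ᵥ (fun i => V i 0)
  have key : 3 * B 0 0 ^ 2 ≤ 4 * s := by nlinarith [mul_le_mul_of_nonneg_left m a0.le]
  have pw := pow_le_pow_left₀ (by positivity) key (n + 1)
  have e : (n + 1) * (n + 1 + 1) / 2 = n * (n + 1) / 2 + (n + 1) := by
    rw [show (n + 1) * (n + 1 + 1) = n * (n + 1) + 2 * (n + 1) by ring, Nat.add_mul_div_left _ _ two_pos]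
  rw [e, ← dB]
  rw [dS] at hs
  refine le_of_mul_le_mul_left ?_ (pow_pos a0 n)
  calc _ = (3 * B 0 0 ^ 2) ^ (n + 1) * 3 ^ (n * (n + 1) / 2) := by ring
    _ ≤ (4 * s) ^ (n + 1) * 3 ^ (n * (n + 1) / 2) := by gcongr
    _ = 4 ^ (n + 1) * (s ^ (n + 1) * 3 ^ (n * (n + 1) / 2)) := by ring
    _ ≤ 4 ^ (n + 1) * (4 ^ (n * (n + 1) / 2) * (B 0 0 ^ n * B.det)) := by gcongr
    _ = _ := by ring

end Cfsg.Agent.H68.K5Herm
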