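import Cfsg.Agent.H68.KinvM
import Cfsg.Agent.H97.YtMain

/-! Centralisers of involutions in the Monster. -/

set_option autoImplicit false

namespace Cfsg.Agent.H68.KI

open Cfsg.Agent.H75.KI

theorem sporInv_M : SporInv Spor.Monster := sporInv_griess.congr H97.Yt.mEquiv.some.symm

end Cfsg.Agent.H68.KI
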