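import Cfsg.Agent.H48.M2Defs

/-! The third triality statement on the centralizer of an ark. -/

set_option autoImplicit false

namespace Cfsg.Agent.H68.M2Tr3

open Cfsg Subgroup Cfsg.Agent.H48 Cfsg.Agent.H48.Rec Cfsg.Agent.H49 Cfsg.Agent.H95.Par
open Cfsg.Agent.H97.Gr (DD ZZ)
open Cfsg.Agent.H97.Yt (M)
open Cfsg.Agent.H48.M2

theorem dmul {G : Type*} [Group G] {A : Subgroup G} {p p₀ p' p₀' : G} (h : p₀⁻¹ * p ∈ A)
    (h' : p₀'⁻¹ * p' ∈ A) (c : p₀' ∈ centralizer (A : Set G)) : (p₀ * p₀')⁻¹ * (p * p') ∈ A := by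
  have e := inv_mem c _ h
  rw [show (p₀ * p₀')⁻¹ * (p * p') = p₀'⁻¹ * (p₀⁻¹ * p) * p' by group, ← e, mul_assoc]
  exact mul_mem h h'

theorem dsq {G : Type*} [Group G] {A : Subgroup G} (el : ∀ x ∈ A, x * x = 1) {p p₀ : G}
    (h : p₀⁻¹ * p ∈ A) (c : p₀ ∈ centralizer (A : Set G)) (s : p * p = 1) : p₀ * p₀ = 1 := by
  have e := c _ h
  have e2 := el _ h
  obtain ⟨a, rfl⟩ : ∃ a, p = p₀ * a := ⟨p₀⁻¹ * p, by group⟩
  rw [inv_mul_cancel_left] at e e2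
  rw [← s, mul_assoc, ← mul_assoc a, e, mul_assoc, e2, mul_one]

theorem tr3_of (gm : GmStmt) (us : UsmStmt) (pf : PfStmt) : Tr3Stmt := by
  intro A w p p' p'' hA hw hz s s' s'' cm out le
  obtain ⟨α, β, γ, t, q1, q3, T, m⟩ := gm A hA w hw hz
  obtain ⟨x, hx, a, b, q, u⟩ := us A w α β γ t q1 q3 hA hw hz T m p s
  obtain ⟨x', hx', a', b', q', u'⟩ := us A w α β γ t q1 q3 hA hw hz T m p' s'
  obtain ⟨x'', hx'', a'', b'', -, u''⟩ := us A w α β γ t q1 q3 hA hw hz T m p'' s''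
  have key : ∀ {y y₀ : M}, y₀ ∈ Qz w ⊓ CP A → y₀⁻¹ * y ∈ A → (β y₀ = 0 ↔ y ∈ A) := fun h k =>
    (m.b_ker _ h).trans ⟨fun e => by simpa using mul_mem e k, fun e => by
      simpa using mul_mem e (inv_mem k)⟩
  have two : ∀ v : V8, v + v = 0 := fun v => CharTwo.add_self_eq_zero v
  have d := dmul a a' hx'.2
  have j := mul_mem hx hx'
  have sq : p * p' * (p * p') = 1 := by
    rw [mul_assoc, ← mul_assoc p', ← cm, mul_assoc, s'.sq, mul_one, s.sq]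
  rcases T.l3 _ _ (β x'') b b' (fun e => out ((key j d).1 ((m.b_add _ hx _ hx').trans e))) q q'
    (m.b_add _ hx _ hx' ▸ (m.b_q _ j).2 (dsq (pf A hA).el d j.2 sq)) (fun n hn => by
      obtain ⟨c, hc, rfl⟩ := m.a_sur n
      exact ((u'' c).1 (le ⟨(u c).2 ⟨hc, hn.1⟩, (u' c).2 ⟨hc, hn.2⟩⟩)).2) with e | e | e | e
  · exact absurd e b''
  · exact .inl ((key (mul_mem hx hx'') (dmul a a'' hx''.2)).1 (by rw [m.b_add _ hx _ hx'', e, two]))
  · exact .inr (.inl ((key (mul_mem hx' hx'') (dmul a' a'' hx''.2)).1 (by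
      rw [m.b_add _ hx' _ hx'', e, two])))
  · exact .inr (.inr ((key (mul_mem j hx'') (dmul d a'' hx''.2)).1 (by
      rw [m.b_add _ j _ hx'', e, m.b_add _ hx _ hx', two])))

end Cfsg.Agent.H68.M2Tr3
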