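import Mathlib
import Cfsg.Agent.H89.OlDefs

/-! Groups of order at most 32 with commutator subgroup of order two and centre of order at least four. -/

set_option autoImplicit false
open scoped commutatorElement

namespace Cfsg.Agent.H68.Ol

open Subgroup Cfsg.Agent.H18 Cfsg.Agent.H26.K64 Cfsg.Agent.H89.Ol

universe u

variable {G : Type u} [Group G] {P : Subgroup G} {z : G}

/-- the commutator subgroup is `{1, z}` -/
structure TZ (P : Subgroup G) (z : G) : Prop where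
  mem : z ∈ P
  ne : z ≠ 1
  zz : z * z = 1
  cen : ∀ a ∈ P, a * z = z * a
  com : ∀ a ∈ P, ∀ b ∈ P, a * b = b * a ∨ a * b = z * (b * a)
  ex : ∃ a ∈ P, ∃ b ∈ P, a * b ≠ b * a

theorem exists_tz (h : Nat.card (⁅P, P⁆ : Subgroup G) = 2) : ∃ z, TZ P z := by
  obtain ⟨z, hz, hu⟩ := (Nat.card_eq_two_iff' (1 : (⁅P, P⁆ : Subgroup G))).1 h
  have le : ⁅P, P⁆ ≤ P := commutator_le_self P
  have z1 : (z : G) ≠ 1 := fun e => hz (Subtype.ext e)
  have key : ∀ c ∈ ⁅P, P⁆, c = 1 ∨ c = z := fun c hc => by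
    by_cases e : c = 1
    · exact Or.inl e
    · exact Or.inr (congrArg Subtype.val (hu ⟨c, hc⟩ fun e' => e (congrArg Subtype.val e')))
  refine ⟨z, le z.2, z1, ?_, fun a ha => ?_, fun a ha b hb => ?_, ?_⟩
  · rcases key _ (mul_mem z.2 z.2) with e | e
    · exact e
    · exact absurd (mul_left_cancel (e.trans (mul_one _).symm)) z1
  · have hc := commutator_mem_commutator ha (le z.2)
    rcases key _ (mul_mem hc z.2) with e | e
    · exfalso
      apply z1
      rw [commutatorElement_def] at e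
      calc (z : G) = a⁻¹ * (a * z * a⁻¹ * (z : G)⁻¹ * z) * a := by group
        _ = 1 := by rw [e]; group
    · rw [commutatorElement_def] at e
      calc a * z = a * z * a⁻¹ * (z : G)⁻¹ * z * a := by group
        _ = z * a := by rw [e]
  · rcases key _ (commutator_mem_commutator ha hb) with e | e
    · exact Or.inl (commutatorElement_eq_one_iff_mul_comm.1 e)
    · right
      rw [← e, commutatorElement_def]; group
  · by_contra hn
    push Not at hn
    have : ⁅P, P⁆ ≤ ⊥ := commutator_le.2 fun a ha b hb =>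
      mem_bot.2 (commutatorElement_eq_one_iff_mul_comm.2 (hn a ha b hb))
    exact z1 (mem_bot.1 (this z.2))

theorem mem_Z {x : G} : x ∈ P ⊓ Cz P ↔ x ∈ P ∧ ∀ q ∈ P, q * x = x * q := by
  rw [mem_inf, mem_Cz]

theorem lt_of {H K : Subgroup G} {x : G} (h : H ≤ K) (h1 : x ∈ K) (h2 : x ∉ H) : H < K :=
  lt_of_le_of_ne h fun e => h2 (e ▸ h1)

theorem mem_Nz_of [Finite G] {H : Subgroup G} {g : G} (h : ∀ x ∈ H, g * x * g⁻¹ ∈ H) : g ∈ Nz H :=
  mem_normalizer_fintype (S := (H : Set G)) h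

namespace TZ
variable (h : TZ P z)
include h

theorem zZ : z ∈ P ⊓ Cz P := mem_Z.2 ⟨h.mem, h.cen⟩

theorem mul_comm_of {a b u : G} (ha : a ∈ P) (hb : b ∈ P) (hu : u ∈ P) (h1 : a * u ≠ u * a)
    (h2 : b * u ≠ u * b) : a * b * u = u * (a * b) := by
  have e1 := (h.com a ha u hu).resolve_left h1
  have e2 := (h.com b hb u hu).resolve_left h2
  calc a * b * u = a * (b * u) := by group
    _ = a * z * (u * b) := by rw [e2]; group
    _ = z * (a * u) * b := by rw [h.cen a ha]; group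
    _ = z * z * (u * (a * b)) := by rw [e1]; group
    _ = _ := by rw [h.zz, one_mul]

theorem sqZ {a : G} (ha : a ∈ P) : a * a ∈ P ⊓ Cz P := by
  refine mem_Z.2 ⟨mul_mem ha ha, fun q hq => ?_⟩
  by_cases e : a * q = q * a
  · calc q * (a * a) = a * q * a := by rw [e]; group
      _ = a * a * q := by rw [mul_assoc, ← e]; group
  · exact (h.mul_comm_of ha ha hq e e).symm

theorem cj {a b : G} (ha : a ∈ P) (hb : b ∈ P) : a⁻¹ * (b * a * b⁻¹) = 1 ∨ a⁻¹ * (b * a * b⁻¹) = z := by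
  rcases h.com b hb a ha with e | e
  · left; rw [e]; group
  · right; rw [e, ← h.cen _ (mul_mem ha hb), mul_assoc (a * b), h.cen _ (inv_mem hb) |>.symm]
    group

theorem cenK [Finite G] (h32 : Nat.card P ≤ 32) (h4 : 4 ≤ Nat.card (P ⊓ Cz P : Subgroup G))
    {u v k : G} (hu : u ∈ P) (hv : v ∈ P) (hk : k ∈ P) (e : u * v ≠ v * u) (ku : k * u = u * k)
    (kv : k * v = v * k) : k ∈ P ⊓ Cz P := by
  by_contra hZ
  have h1 : ∃ g ∈ P, g * k ≠ k * g := by
    by_contra hn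
    push Not at hn
    exact hZ (mem_Z.2 ⟨hk, hn⟩)
  obtain ⟨g, hg, gk⟩ := h1
  have fix : ∀ {w a b : G}, w * a ≠ a * w → b * a = a * b → w * b * a ≠ a * (w * b) := by
    intro w a b h1 h2 h3
    apply h1
    calc w * a = w * b * a * b⁻¹ := by rw [mul_assoc w b, h2]; group
      _ = a * w := by rw [h3]; group
  have s1 : ∃ g ∈ P, g * k ≠ k * g ∧ g * u = u * g := by
    by_cases e1 : g * u = u * g
    · exact ⟨g, hg, gk, e1⟩
    · exact ⟨g * v, mul_mem hg hv, fix gk kv.symm, h.mul_comm_of hg hv hu e1 (Ne.symm e)⟩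
  obtain ⟨g, hg, gk, gu⟩ := s1
  have s2 : ∃ g ∈ P, g * k ≠ k * g ∧ g * u = u * g ∧ g * v = v * g := by
    by_cases e1 : g * v = v * g
    · exact ⟨g, hg, gk, gu, e1⟩
    · refine ⟨g * u, mul_mem hg hu, fix gk ku.symm, ?_, h.mul_comm_of hg hu hv e1 e⟩
      rw [← mul_assoc, ← gu]
  obtain ⟨g, hg, gk, gu, gv⟩ := s2
  have c := fun (a x : G) => mem_centralizer_singleton_iff (g := a) (k := x)
  have l0 : P ⊓ Cz P ≤ P ⊓ centralizer {u} ⊓ centralizer {v} ⊓ centralizer {k} ⊓ centralizer {g} :=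
    fun x hx => by
      obtain ⟨x1, x2⟩ := mem_Z.1 hx
      exact ⟨⟨⟨⟨x1, (c _ _).2 (x2 u hu).symm⟩, (c _ _).2 (x2 v hv).symm⟩, (c _ _).2 (x2 k hk).symm⟩,
        (c _ _).2 (x2 g hg).symm⟩
  have l1 : P ⊓ centralizer {u} ⊓ centralizer {v} ⊓ centralizer {k} ⊓ centralizer {g} <
      P ⊓ centralizer {u} ⊓ centralizer {v} ⊓ centralizer {k} :=
    lt_of (x := k) inf_le_left
      ⟨⟨⟨hk, (c _ _).2 ku⟩, (c _ _).2 kv⟩, (c _ _).2 rfl⟩ fun hx => gk ((c _ _).1 hx.2).symm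
  have l2 : P ⊓ centralizer {u} ⊓ centralizer {v} ⊓ centralizer {k} <
      P ⊓ centralizer {u} ⊓ centralizer {v} :=
    lt_of (x := g) inf_le_left
      ⟨⟨hg, (c _ _).2 gu⟩, (c _ _).2 gv⟩ fun hx => gk ((c _ _).1 hx.2)
  have l3 : P ⊓ centralizer {u} ⊓ centralizer {v} < P ⊓ centralizer {u} :=
    lt_of (x := u) inf_le_left ⟨hu, (c _ _).2 rfl⟩ fun hx => e ((c _ _).1 hx.2)
  have l4 : P ⊓ centralizer {u} < P :=
    lt_of (x := v) inf_le_left hv fun hx => e ((c _ _).1 hx.2).symm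
  have := card_le_of_le l0
  have := card_le_half l1
  have := card_le_half l2
  have := card_le_half l3
  have := card_le_half l4
  omega

omit h in
theorem exists_nc {u : G} (hu : u ∈ P) (hZ : u ∉ P ⊓ Cz P) : ∃ v ∈ P, v * u ≠ u * v := by
  by_contra hn
  push Not at hn
  exact hZ (mem_Z.2 ⟨hu, hn⟩)

theorem cenU [Finite G] (h32 : Nat.card P ≤ 32) (h4 : 4 ≤ Nat.card (P ⊓ Cz P : Subgroup G))
    {u g : G} (hu : u ∈ P) (hZ : u ∉ P ⊓ Cz P) (hg : g ∈ P) (e : g * u = u * g) :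
    g ∈ P ⊓ Cz P ∨ g * u ∈ P ⊓ Cz P := by
  obtain ⟨v, hv, uv⟩ := exists_nc hu hZ
  by_cases e1 : g * v = v * g
  · exact Or.inl (h.cenK h32 h4 hu hv hg (Ne.symm uv) e e1)
  · refine Or.inr (h.cenK h32 h4 hu hv (mul_mem hg hu) (Ne.symm uv) ?_
      (h.mul_comm_of hg hu hv e1 (Ne.symm uv)))
    rw [← mul_assoc, ← e]

theorem cp [Finite G] {u : G} (hu : u ∈ P) (hZ : u ∉ P ⊓ Cz P) : CP P u * 2 = Nat.card P := by
  obtain ⟨v, hv, uv⟩ := exists_nc hu hZ
  have m : ∀ x, x ∈ P ⊓ Cz (zpowers u) ↔ x ∈ P ∧ x * u = u * x := fun x => by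
    rw [mem_inf, mem_Cz]
    refine and_congr_right fun _ => ⟨fun k => (k u (mem_zpowers u)).symm, fun k => ?_⟩
    rintro _ ⟨i, rfl⟩
    exact ((show Commute x u from k).zpow_right i).symm.eq
  have h2 : (P ⊓ Cz (zpowers u)).relIndex P = 2 := by
    rw [relIndex_eq_two_iff]
    refine ⟨v, hv, fun b hb => ?_⟩
    by_cases e : b * u = u * b
    · refine Or.inr ⟨(m _).2 ⟨hb, e⟩, fun k => uv ?_⟩
      have k2 := ((m _).1 k).2
      calc v * u = b⁻¹ * (b * v * u) := by group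
        _ = b⁻¹ * (u * b) * v := by rw [k2]; group
        _ = u * v := by rw [← e]; group
    · exact Or.inl ⟨(m _).2 ⟨mul_mem hb hv, h.mul_comm_of hb hv hu e uv⟩, fun k => e ((m _).1 k).2⟩
  rw [← h2, relIndex, ← card_mul_index ((P ⊓ Cz (zpowers u)).subgroupOf P),
    Nat.card_congr (subgroupOfEquivOfLe inf_le_left).toEquiv]

end TZ

theorem gb2 (ch : CHStmt.{u}) : GB2Stmt.{u} := by
  intro G _ _ P hP h32 h2 h4
  obtain ⟨z, h⟩ := exists_tz h2
  let X : Set G := {u | u ∈ P ∧ u ∉ P ⊓ Cz P ∧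
    ((¬ ∃ c ∈ P ⊓ Cz P, u * u = c * c) ∨ ∃ c ∈ P ⊓ Cz P, z = c * c)}
  have ex : ∃ u ∈ X, u * u ≠ 1 := by
    obtain ⟨a, ha, b, hb, ab⟩ := h.ex
    have aZ : a ∉ P ⊓ Cz P := fun k => ab ((mem_Z.1 k).2 b hb).symm
    have bZ : b ∉ P ⊓ Cz P := fun k => ab ((mem_Z.1 k).2 a ha)
    have abZ : a * b ∉ P ⊓ Cz P := fun k => ab (by
      have := (mem_Z.1 k).2 a ha
      rw [mul_assoc] at this
      exact mul_left_cancel this)
    by_cases hz : ∃ c ∈ P ⊓ Cz P, z = c * c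
    · by_cases e : a * a = 1
      · obtain ⟨c, hc, ec⟩ := hz
        refine ⟨a * c, ⟨mul_mem ha hc.1, fun k => aZ ?_, Or.inr ⟨c, hc, ec⟩⟩, fun k => h.ne ?_⟩
        · have := mul_mem k (inv_mem hc)
          rwa [mul_inv_cancel_right] at this
        · rw [ec, ← k, mul_assoc a c, ← mul_assoc c a, ← (mem_Z.1 hc).2 a ha, ← mul_assoc,
            ← mul_assoc, e, one_mul]
      · exact ⟨a, ⟨ha, aZ, Or.inr hz⟩, e⟩
    · have k : ∀ w ∈ P, w ∉ P ⊓ Cz P → (¬ ∃ c ∈ P ⊓ Cz P, w * w = c * c) → ∃ u ∈ X, u * u ≠ 1 :=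
        fun w hw wZ k => ⟨w, ⟨hw, wZ, Or.inl k⟩, fun e => k ⟨1, one_mem _, by rw [e, one_mul]⟩⟩
      by_contra hn
      obtain ⟨c1, m1, e1⟩ := not_not.1 fun k' => hn (k a ha aZ k')
      obtain ⟨c2, m2, e2⟩ := not_not.1 fun k' => hn (k b hb bZ k')
      obtain ⟨c3, m3, e3⟩ := not_not.1 fun k' => hn (k _ (mul_mem ha hb) abZ k')
      refine hz ⟨c3 * (c1 * c2)⁻¹, mul_mem m3 (inv_mem (mul_mem m1 m2)), ?_⟩
      have e4 := (h.com b hb a ha).resolve_left (Ne.symm ab)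
      have e5 : c3 * c3 = z * (c1 * c2 * (c1 * c2)) := by
        calc c3 * c3 = a * (b * a) * b := by rw [← e3]; group
          _ = a * z * (a * (b * b)) := by rw [e4]; group
          _ = z * (a * a * (b * b)) := by rw [h.cen a ha]; group
          _ = z * (c1 * (c1 * c2) * c2) := by rw [e1, e2]; group
          _ = z * (c1 * (c2 * c1) * c2) := by rw [(mem_Z.1 m2).2 c1 m1.1]
          _ = _ := by group
      have e6 := (mem_Z.1 m3).2 _ (inv_mem (mul_mem m1.1 m2.1))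
      calc z = c3 * c3 * (c1 * c2)⁻¹ * (c1 * c2)⁻¹ := by rw [e5]; group
        _ = c3 * ((c1 * c2)⁻¹ * c3) * (c1 * c2)⁻¹ := by rw [e6]; group
        _ = _ := by group
  obtain ⟨u, hu, uu⟩ := ex
  have cu := h.cp hu.1 hu.2.1
  refine ⟨X, u, hu.1, hu, fun v hv hX => ?_, ?_, by rw [h2, cu], fun Q N es => ?_⟩
  · have := h.cp hv hX.2.1
    omega
  · obtain ⟨n, hn⟩ := hP ⟨u, hu.1⟩
    have hn' : u ^ 2 ^ n = 1 := by simpa using congrArg Subtype.val hn
    obtain ⟨k, -, hk⟩ := (Nat.dvd_prime_pow Nat.prime_two).1 (orderOf_dvd_of_pow_eq_one hn')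
    have : 4 ≤ orderOf u := by
      have e := pow_orderOf_eq_one u
      rw [hk] at e ⊢
      match k, e with
      | 0, e => exact absurd (by rw [show u = 1 by simpa using e, one_mul]) uu
      | 1, e => exact absurd (by simpa [sq] using e) uu
      | k + 2, _ =>
        have := Nat.two_pow_pos k
        exact (by omega : 4 ≤ 2 ^ k * 4).trans_eq (by ring)
    omega
  · obtain ⟨n, hn, x, xQ, xX, nx⟩ := es.bad
    have nQ := es.nz hn
    have ZQ : P ⊓ Cz P ≤ Q := fun y hy => by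
      by_contra yQ
      have yC : y ∈ Cz Q := mem_Cz.2 fun q hq => (mem_Z.1 hy).2 q (es.le hq)
      refine nx (es.se n hn y ⟨hy.1, Cz_le_Nz Q yC⟩ yQ (mem_sup_right ?_) x xQ xX)
      have := (conj_mem_Cz (y := y) (inv_mem nQ)).2 yC
      rwa [inv_inv] at this
    have cQ : ∀ a ∈ Q, n * a * n⁻¹ ∈ Q := fun a ha => (mem_normalizer_iff.1 nQ a).1 ha
    have cQ' : ∀ a ∈ Q, n⁻¹ * a * n ∈ Q := fun a ha => by
      have := (mem_normalizer_iff.1 (inv_mem nQ) a).1 ha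
      rwa [inv_inv] at this
    by_cases PQ : P ≤ Q
    · have cZ : ∀ c ∈ P ⊓ Cz P, n⁻¹ * c * n ∈ P ⊓ Cz P := fun c hc =>
        mem_Z.2 ⟨es.le (cQ' c (PQ hc.1)), fun q hq => by
          have := (mem_Z.1 hc).2 _ (es.le (cQ q (PQ hq)))
          calc q * (n⁻¹ * c * n) = n⁻¹ * (n * q * n⁻¹ * c) * n := by group
            _ = _ := by rw [this]; group⟩
      refine nx ⟨es.le (cQ x xQ), fun k => xX.2.1 ?_, xX.2.2.imp_left fun k ⟨c, hc, e⟩ =>
        k ⟨_, cZ c hc, ?_⟩⟩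
      · have := cZ _ k
        rwa [show n⁻¹ * (n * x * n⁻¹) * n = x by group] at this
      · calc x * x = n⁻¹ * (n * x * n⁻¹ * (n * x * n⁻¹)) * n := by group
          _ = _ := by rw [e]; group
    · obtain ⟨y, hy, yQ⟩ := SetLike.not_le_iff_exists.1 PQ
      have CQ : ∀ g ∈ P, g * x = x * g → g ∈ Q := fun g hg e => by
        rcases h.cenU h32 h4 xX.1 xX.2.1 hg e with k | k
        · exact ZQ k
        · have := mul_mem (ZQ k) (inv_mem xQ)
          rwa [mul_inv_cancel_right] at this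
      have QC : ∀ g ∈ Q, g * x = x * g := fun g hg => by
        by_contra e
        apply yQ
        by_cases e1 : y * x = x * y
        · exact CQ y hy e1
        · have := mul_mem (CQ _ (mul_mem hy (es.le hg)) (h.mul_comm_of hy (es.le hg) xX.1 e1 e))
            (inv_mem hg)
          rwa [mul_inv_cancel_right] at this
      have zQ := ZQ h.zZ
      have yN : y ∈ Nz Q := mem_Nz_of fun a ha => by
        have e : y * a * y⁻¹ = a * (a⁻¹ * (y * a * y⁻¹)) := by group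
        rcases h.cj (es.le ha) hy with k | k <;> rw [e, k]
        · rwa [mul_one]
        · exact mul_mem ha zQ
      have z1Z : n * z * n⁻¹ ∈ P ⊓ Cz P := by
        by_contra k
        rcases h.cenU h32 h4 xX.1 xX.2.1 (es.le (cQ z zQ)) (QC _ (cQ z zQ)) with k1 | k1
        · exact k k1
        · have e1 : x * x = n * z * n⁻¹ * x * (n * z * n⁻¹ * x) := by
            calc x * x = n * (z * z) * n⁻¹ * (x * x) := by rw [h.zz]; group
              _ = n * z * n⁻¹ * (n * z * n⁻¹ * x) * x := by group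
              _ = n * z * n⁻¹ * (x * (n * z * n⁻¹)) * x := by rw [QC _ (cQ z zQ)]
              _ = _ := by group
          obtain ⟨c, hc, e⟩ := xX.2.2.resolve_left (not_not.2 ⟨_, k1, e1⟩)
          apply k
          have := h.sqZ (es.le (cQ c (ZQ hc)))
          rwa [show n * c * n⁻¹ * (n * c * n⁻¹) = n * (c * c) * n⁻¹ by group, ← e] at this
      have cy : ∀ a ∈ Q, a⁻¹ * (n * y * n⁻¹ * a * (n * y * n⁻¹)⁻¹) ∈ zpowers (n * z * n⁻¹) :=
        fun a ha => by
          have e : a⁻¹ * (n * y * n⁻¹ * a * (n * y * n⁻¹)⁻¹) =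
              n * ((n⁻¹ * a * n)⁻¹ * (y * (n⁻¹ * a * n) * y⁻¹)) * n⁻¹ := by group
          rcases h.cj (es.le (cQ' a ha)) hy with k | k <;> rw [e, k]
          · simp
          · exact mem_zpowers _
      have KL : zpowers (n * z * n⁻¹) ≤ P ⊓ Cz P := zpowers_le.2 z1Z
      refine nx (es.se n hn y ⟨hy, yN⟩ yQ (ch G P Q N (zpowers (n * z * n⁻¹)) (P ⊓ Cz P) X _ hP es
        KL ZQ (fun s hs => ⟨fun a ha => ?_, fun a ha => ?_, fun a ha => ?_⟩)
        (mul_mem (mul_mem hn (es.sN ⟨hy, yN⟩)) (inv_mem hn))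
        ⟨?_, fun a ha => cy a (ZQ ha), fun a ha => KL (cy a ha)⟩) x xQ xX)
      · rw [(mem_Z.1 (KL ha)).2 s hs.1, mul_inv_cancel_right]
      · rw [(mem_Z.1 ha).2 s hs.1, mul_inv_cancel_right, inv_mul_cancel]
        exact one_mem _
      · rcases h.cj (es.le ha) hs.1 with k | k <;> rw [k]
        · exact one_mem _
        · exact h.zZ
      · rintro _ ⟨i, rfl⟩
        have : Commute (n * y * n⁻¹) (n * z * n⁻¹) := by
          show n * y * n⁻¹ * (n * z * n⁻¹) = n * z * n⁻¹ * (n * y * n⁻¹)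
          calc n * y * n⁻¹ * (n * z * n⁻¹) = n * (y * z) * n⁻¹ := by group
            _ = _ := by rw [h.cen y hy]; group
        show n * y * n⁻¹ * (n * z * n⁻¹) ^ i * (n * y * n⁻¹)⁻¹ = (n * z * n⁻¹) ^ i
        rw [(this.zpow_right i).eq, mul_inv_cancel_right]

end Cfsg.Agent.H68.Ol
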