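import Cfsg.Agent.H56.SpDefs

set_option autoImplicit false
set_option linter.style.haveILetI false

namespace Cfsg.Agent.H68.SpP3

open Subgroup MulAction Cfsg.Agent.H11.Cy Cfsg.Agent.H56.Sp Matrix

section Mat
variable {F : Type} [Field F]

theorem scal (N : Matrix (Fin 2) (Fin 2) F)
    (h : ∀ s : SpecialLinearGroup (Fin 2) F, N * s.1 = s.1 * N) : N = N 0 0 • 1 := by
  have h1 := h ⟨!![1, 1; 0, 1], by simp [det_fin_two]⟩
  have h2 := h ⟨!![1, 0; 1, 1], by simp [det_fin_two]⟩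
  have a := congrFun (congrFun h1 0) 0
  have b := congrFun (congrFun h1 0) 1
  have c := congrFun (congrFun h2 0) 0
  simp [mul_apply, Fin.sum_univ_two] at a b c
  ext i j
  fin_cases i <;> fin_cases j <;> simp
  · exact c
  · exact a
  · linear_combination -b

theorem tr0 (M : Matrix (Fin 2) (Fin 2) F) (c : F) (h : M * M = c • 1) (hn : ∀ a : F, M ≠ a • 1) :
    M 1 1 = -M 0 0 := by
  by_contra ne
  have t : M 0 0 + M 1 1 ≠ 0 := fun e => ne (by linear_combination e)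
  have a := congrFun (congrFun h 0) 0
  have b := congrFun (congrFun h 0) 1
  have c' := congrFun (congrFun h 1) 0
  have d := congrFun (congrFun h 1) 1
  simp [mul_apply, Fin.sum_univ_two] at a b c' d
  apply hn (M 0 0)
  ext i j
  fin_cases i <;> fin_cases j <;> simp
  · exact mul_left_cancel₀ t (by linear_combination b)
  · exact mul_left_cancel₀ t (by linear_combination c')
  · exact mul_left_cancel₀ t (by linear_combination d - a)

theorem cen (M H : Matrix (Fin 2) (Fin 2) F) (hb : M 0 1 ≠ 0) (h : H * M = M * H) :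
    ∃ a b : F, H = a • 1 + b • M := by
  have a := congrFun (congrFun h 0) 0
  have b := congrFun (congrFun h 0) 1
  simp [mul_apply, Fin.sum_univ_two] at a b
  refine ⟨H 0 0 - H 0 1 / M 0 1 * M 0 0, H 0 1 / M 0 1, ?_⟩
  ext i j
  fin_cases i <;> fin_cases j <;> simp <;> field_simp
  · linear_combination -a
  · linear_combination -b

theorem cancel {M X Y : Matrix (Fin 2) (Fin 2) F} (hM : M.det ≠ 0) (h : X * M = Y * M) : X = Y := by
  have u : IsUnit M := (isUnit_iff_isUnit_det M).2 (Ne.isUnit hM)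
  exact u.mul_right_cancel h

theorem ratio {M N : Matrix (Fin 2) (Fin 2) F} (hM : M.det ≠ 0)
    (φ : SpecialLinearGroup (Fin 2) F → Matrix (Fin 2) (Fin 2) F)
    (h1 : ∀ s, M * s.1 = φ s * M) (h2 : ∀ s, N * s.1 = φ s * N) : ∃ c : F, N = c • M := by
  have u : IsUnit M.det := Ne.isUnit hM
  have k : ∀ s : SpecialLinearGroup (Fin 2) F, (M⁻¹ * N) * s.1 = s.1 * (M⁻¹ * N) := by
    intro s
    have e : M⁻¹ * φ s = s.1 * M⁻¹ := by
      calc M⁻¹ * φ s = M⁻¹ * (φ s * M) * M⁻¹ := by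
            rw [Matrix.mul_assoc, Matrix.mul_assoc, mul_nonsing_inv _ u, Matrix.mul_one]
        _ = s.1 * M⁻¹ := by rw [← h1, ← Matrix.mul_assoc, nonsing_inv_mul _ u, Matrix.one_mul]
    rw [Matrix.mul_assoc, h2, ← Matrix.mul_assoc, e, Matrix.mul_assoc]
  refine ⟨(M⁻¹ * N) 0 0, ?_⟩
  have := scal _ k
  calc N = M * (M⁻¹ * N) := by rw [← Matrix.mul_assoc, mul_nonsing_inv _ u, Matrix.one_mul]
    _ = _ := by rw [this]; simp

theorem univ [Fintype F] (h2 : Fintype.card F % 2 = 1) (d c : F) (hd : d ≠ 0) :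
    ∃ u b : F, u * u - d * b * b = c := by
  obtain ⟨u, b, h⟩ := FiniteField.exists_root_sum_quadratic (R := F)
    (f := Polynomial.X ^ 2) (g := Polynomial.C (-d) * Polynomial.X ^ 2 - Polynomial.C c)
    (Polynomial.degree_X_pow 2) (by
      rw [Polynomial.degree_sub_C] <;> rw [Polynomial.degree_C_mul_X_pow 2 (neg_ne_zero.2 hd)] <;> simp)
    h2
  exact ⟨u, b, by simp at h; linear_combination h⟩

theorem conj [Fintype F] (h2 : Fintype.card F % 2 = 1) (M N : Matrix (Fin 2) (Fin 2) F) (d : F)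
    (hd : d ≠ 0) (m : M 1 1 = -M 0 0) (n : N 1 1 = -N 0 0)
    (dm : d = M 0 0 * M 0 0 + M 0 1 * M 1 0) (dn : d = N 0 0 * N 0 0 + N 0 1 * N 1 0)
    (m0 : M 1 0 ≠ 0) (n0 : N 1 0 ≠ 0) :
    ∃ S : SpecialLinearGroup (Fin 2) F, S.1 * M = N * S.1 := by
  obtain ⟨u, b, h⟩ := univ h2 d (M 1 0 * N 1 0) hd
  obtain ⟨a, ha⟩ : ∃ a, N 1 0 * a = u + N 0 0 * b := ⟨(u + N 0 0 * b) / N 1 0, by field_simp⟩
  have hq : N 1 0 * a * a - 2 * N 0 0 * a * b - N 0 1 * b * b = M 1 0 := by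
    apply mul_left_cancel₀ n0
    linear_combination h + (N 1 0 * a + u - N 0 0 * b) * ha + b * b * dn
  refine ⟨⟨!![a, (-a * M 0 0 + N 0 0 * a + N 0 1 * b) / M 1 0;
    b, (-b * M 0 0 + N 1 0 * a - N 0 0 * b) / M 1 0], ?_⟩, ?_⟩
  · rw [det_fin_two_of]; field_simp; linear_combination hq
  · ext i j
    fin_cases i <;> fin_cases j <;> simp [mul_apply, Fin.sum_univ_two, m, n] <;> field_simp
    · ring
    · linear_combination a * dn - a * dm
    · ring
    · linear_combination b * dn - b * dm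

end Mat

section Grp
variable {G : Type} [Group G] {L : Subgroup G} {F : Type} [Field F]
  (e : L ≃* SpecialLinearGroup (Fin 2) F)

def Rep (g : G) (M : Matrix (Fin 2) (Fin 2) F) : Prop :=
  M.det ≠ 0 ∧ ∀ f f' : L, (f' : G) = g * f * g⁻¹ → M * (e f).1 = (e f').1 * M

variable {e}

theorem nm {g : G} (hg : g ∈ normalizer (L : Set G)) (f : L) : g * f * g⁻¹ ∈ L :=
  (mem_normalizer_iff.1 hg f).1 f.2

theorem rep_mul {g h : G} {M N : Matrix (Fin 2) (Fin 2) F} (hh : h ∈ normalizer (L : Set G))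
    (a : Rep e g M) (b : Rep e h N) : Rep e (g * h) (M * N) := by
  refine ⟨by rw [det_mul]; exact mul_ne_zero a.1 b.1, fun f f' hf => ?_⟩
  rw [Matrix.mul_assoc, b.2 f ⟨_, nm hh f⟩ rfl, ← Matrix.mul_assoc,
    a.2 ⟨_, nm hh f⟩ f' (by rw [hf]; group), Matrix.mul_assoc]

theorem rep_uq {g : G} {M N : Matrix (Fin 2) (Fin 2) F} (hg : g ∈ normalizer (L : Set G))
    (a : Rep e g M) (b : Rep e g N) : ∃ c : F, N = c • M := by
  refine ratio a.1 (fun s => (e ⟨_, nm hg (e.symm s)⟩).1) (fun s => ?_) (fun s => ?_)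
  · have := a.2 (e.symm s) ⟨_, nm hg (e.symm s)⟩ rfl
    rwa [e.apply_symm_apply] at this
  · have := b.2 (e.symm s) ⟨_, nm hg (e.symm s)⟩ rfl
    rwa [e.apply_symm_apply] at this

theorem rep_F (f : L) : Rep e f (e f).1 := by
  refine ⟨by rw [(e f).2]; exact one_ne_zero, fun a b hb => ?_⟩
  have : f * a = b * f := Subtype.ext (by simp [hb])
  have := congrArg (fun t => (e t).1) this
  simpa using this

theorem rep_cm {g : G} {M : Matrix (Fin 2) (Fin 2) F} (hg : g ∈ normalizer (L : Set G))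
    (a : Rep e g M) (t : L) : M * (e t).1 = (e t).1 * M ↔ g * t = t * g := by
  constructor
  · intro h
    have h1 := a.2 t ⟨_, nm hg t⟩ rfl
    have h2 := cancel a.1 (h.symm.trans h1)
    have h3 : t = ⟨_, nm hg t⟩ := e.injective (Subtype.ext h2)
    have h4 : (t : G) = g * t * g⁻¹ := congrArg Subtype.val h3
    calc g * t = g * t * g⁻¹ * g := by group
      _ = t * g := by rw [← h4]
  · intro h
    exact a.2 t t (by rw [h]; group)

theorem rep_K {g : G} {M : Matrix (Fin 2) (Fin 2) F} (hg : g ∈ normalizer (L : Set G))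
    (a : Rep e g M) : g ∈ centralizer (L : Set G) ↔ ∃ c : F, M = c • 1 := by
  constructor
  · intro h
    refine ⟨M 0 0, scal M fun s => ?_⟩
    have := (rep_cm hg a (e.symm s)).2 (h _ (e.symm s).2).symm
    rwa [e.apply_symm_apply] at this
  · rintro ⟨c, rfl⟩ t ht
    exact ((rep_cm hg a ⟨t, ht⟩).1 (by simp)).symm

theorem rep_FK {g : G} {M : Matrix (Fin 2) (Fin 2) F} (hg : g ∈ normalizer (L : Set G))
    (a : Rep e g M) :
    (∃ f ∈ L, ∃ k ∈ centralizer (L : Set G), g = f * k) ↔ IsSquare M.det := by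
  constructor
  · rintro ⟨f, hf, k, hk, rfl⟩
    have b : Rep e k 1 := ⟨by simp, fun s s' h => by
      have : s' = s := Subtype.ext (by rw [h, ← hk _ s.2]; group)
      simp [this]⟩
    have kn : k ∈ normalizer (L : Set G) := centralizer_le_normalizer _ hk
    obtain ⟨c, hc⟩ := rep_uq hg (rep_mul kn (rep_F ⟨f, hf⟩) b) a
    refine ⟨c, ?_⟩
    rw [hc, det_smul, Matrix.mul_one, (e ⟨f, hf⟩).2]
    simp [sq]
  · rintro ⟨c, hc⟩
    have c0 : c ≠ 0 := fun h => a.1 (by rw [hc, h, mul_zero])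
    let s : SpecialLinearGroup (Fin 2) F := ⟨c⁻¹ • M, by
      rw [det_smul, hc]; simp; field_simp⟩
    let f := e.symm s
    have hf : (e f).1 = c⁻¹ • M := congrArg Subtype.val (e.apply_symm_apply s)
    refine ⟨f, f.2, (f : G)⁻¹ * g, ?_, by group⟩
    have n : (f : G)⁻¹ * g ∈ normalizer (L : Set G) :=
      mul_mem (inv_mem (le_normalizer f.2)) hg
    have r := rep_mul hg (rep_F (e := e) f⁻¹) a
    refine (rep_K n r).2 ⟨c, ?_⟩
    have : M = c • (e f).1 := by rw [hf, smul_smul, mul_inv_cancel₀ c0, one_smul]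
    have k : (e f⁻¹).1 * (e f).1 = 1 := by
      have := congrArg Subtype.val (show e f⁻¹ * e f = 1 by simp)
      exact this
    rw [this, Matrix.mul_smul, k]

theorem rep_eq {g h : G} {M : Matrix (Fin 2) (Fin 2) F} (hg : g ∈ normalizer (L : Set G))
    (hh : h ∈ normalizer (L : Set G)) (a : Rep e g M) (b : Rep e h M) :
    g * h⁻¹ ∈ centralizer (L : Set G) := by
  intro s hs
  let t : L := ⟨_, nm (inv_mem hh) ⟨s, hs⟩⟩
  have h1 := a.2 t ⟨_, nm hg t⟩ rfl
  have h2 := b.2 t ⟨s, hs⟩ (by simp [t, mul_assoc])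
  have h3 : (⟨_, nm hg t⟩ : L) = ⟨s, hs⟩ := e.injective (Subtype.ext (cancel a.1 (h1.symm.trans h2)))
  have h4 : g * (h⁻¹ * s * h⁻¹⁻¹) * g⁻¹ = s := congrArg Subtype.val h3
  calc s * (g * h⁻¹) = g * (h⁻¹ * s * h⁻¹⁻¹) * g⁻¹ * (g * h⁻¹) := by rw [h4]
    _ = g * h⁻¹ * s := by group

end Grp

theorem p3 : P3Stmt := by
  intro G _ _ Ω _ _ p A h p2 ep x y hxy lf co q2
  obtain ⟨F, _, _, e, hF, hM⟩ := co
  have hR : ∀ g ∈ Nl A x y, ∃ M, Rep e g M := hM
  have odd : Fintype.card F % 2 = 1 := hF ▸ h.pp.eq_two_or_odd.resolve_left p2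
  have key : ∀ g, Hi A x y g → Fp A x y g → ∃ (M : Matrix (Fin 2) (Fin 2) F) (d : F), Rep e g M ∧
      M 1 1 = -M 0 0 ∧ d = M 0 0 * M 0 0 + M 0 1 * M 1 0 ∧ ¬ IsSquare d := by
    intro g hi fp
    obtain ⟨M, rM⟩ := hR g hi.1
    have ns : ∀ a : F, M ≠ a • 1 := fun a ha => hi.2.2 ((rep_K hi.1 rM).2 ⟨a, ha⟩)
    obtain ⟨d, hd⟩ := (rep_K (mul_mem hi.1 hi.1) (rep_mul hi.1 rM rM)).1 hi.2.1
    have t0 := tr0 M d hd ns
    have d0 : d = M 0 0 * M 0 0 + M 0 1 * M 1 0 := by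
      have := congrFun (congrFun hd 0) 0
      simp [mul_apply, Fin.sum_univ_two] at this
      exact this.symm
    have dd : M.det = -d := by rw [det_fin_two, t0, d0]; ring
    refine ⟨M, d, rM, t0, d0, ?_⟩
    rintro ⟨r, hr⟩
    have r0 : r ≠ 0 := fun h0 => rM.1 (by rw [dd, hr, h0]; simp)
    have k := (q2 g hi).1 fp
    have k2 : FK A x y g ↔ IsSquare M.det := rep_FK hi.1 rM
    have k3 : IsSquare M.det ↔ IsSquare (-1 : F) := by
      rw [dd, hr]
      constructor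
      · rintro ⟨s, hs⟩
        exact ⟨s / r, by field_simp; linear_combination hs⟩
      · rintro ⟨s, hs⟩
        exact ⟨s * r, by linear_combination (r * r) * hs⟩
    have k4 := FiniteField.isSquare_neg_one_iff (F := F)
    rw [hF] at k4
    tauto
  intro g g' hi hi' fp fp'
  obtain ⟨M, d, rM, m, dm, nd⟩ := key g hi fp
  obtain ⟨N, d', rN, n, dn, nd'⟩ := key g' hi' fp'
  have d0 : d ≠ 0 := fun h0 => nd ⟨0, by simp [h0]⟩
  have d0' : d' ≠ 0 := fun h0 => nd' ⟨0, by simp [h0]⟩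
  obtain ⟨r, hr⟩ : IsSquare (d * d') := by
    classical
    rw [← quadraticChar_one_iff_isSquare (mul_ne_zero d0 d0'), map_mul,
      quadraticChar_neg_one_iff_not_isSquare.2 nd, quadraticChar_neg_one_iff_not_isSquare.2 nd']
    norm_num
  have r0 : r ≠ 0 := fun h0 => mul_ne_zero d0 d0' (by rw [hr, h0, mul_zero])
  have c0 : r / d ≠ 0 := div_ne_zero r0 d0
  have m0 : M 1 0 ≠ 0 := fun h0 => nd ⟨M 0 0, by rw [dm, h0]; ring⟩
  have n0 : N 1 0 ≠ 0 := fun h0 => nd' ⟨N 0 0, by rw [dn, h0]; ring⟩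
  have rM' : Rep e g ((r / d) • M) := ⟨by
    rw [det_smul]; exact mul_ne_zero (pow_ne_zero _ c0) rM.1, fun f f' hf => by
    rw [Matrix.smul_mul, Matrix.mul_smul, rM.2 f f' hf]⟩
  obtain ⟨S, hS⟩ := conj odd ((r / d) • M) N d' d0' (by simp [m]) n (by
    simp only [Matrix.smul_apply, smul_eq_mul]
    field_simp
    linear_combination d * hr + r * r * dm) dn (by simpa using ⟨⟨r0, d0⟩, m0⟩) n0
  let f := e.symm S
  have hf : (e f).1 = S.1 := congrArg Subtype.val (e.apply_symm_apply S)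
  have fn : (f : G) ∈ Nl A x y := le_normalizer f.2
  have r1 := rep_mul hi.1 (rep_F (e := e) f) rM'
  have r2 := rep_mul fn rN (rep_F (e := e) f)
  rw [hf] at r1 r2
  rw [hS] at r1
  refine ⟨f, f.2, ?_⟩
  have := rep_eq (mul_mem fn hi.1) (mul_mem hi'.1 fn) r1 r2
  rwa [_root_.mul_inv_rev, ← mul_assoc] at this

end Cfsg.Agent.H68.SpP3
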